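import Cfsg.Agent.TitsThree.EndHyp
import Cfsg.Prelude.Def_LieTypeChar

/-!
# S1143 with the characteristic: the frame

`SolvedC Δ`: as `Top.Solved`, with `IsLieTypeChar p` as conclusion and the parameters of `Δ` powers of `p`.
-/

set_option autoImplicit false

namespace Cfsg.Agent.TitsThree.CharBase

open Cfsg.Agent.Tits.Core Cfsg.Agent.Tits.Core.Bldg Cfsg.Agent.Tits Cfsg.Agent.Tits.Exchange
open Cfsg.Agent.Tits.MouTrans Cfsg.Agent.Tits.MouOut
open Cfsg.Agent.Tits.MouDefs (rt Aut mem_Aut Chart Ext Comb)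
open Cfsg.Agent.TitsThree.NormalTrans Cfsg.Agent.TitsThree.Top
open Cfsg.Agent.LieRecognition
open Cfsg.Agent.LieRecognition.BNCox (cA cC cD cE cF)
open MulAction

universe u

/-! ### invariance of `IsLieTypeChar` -/

theorem ofEquiv {p : ℕ} {G K : Type*} [Group G] [Group K] (e : G ≃* K)
    (h : Cfsg.IsLieTypeChar p K) : Cfsg.IsLieTypeChar p G := by
  rcases h with h | h | h | h | h | h | h | h | h | h | h
  · obtain ⟨F, i1, i2, i3, n, h1, h2, ⟨f⟩⟩ := h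
    exact Or.inl ⟨F, i1, i2, i3, n, h1, h2, ⟨e.trans f⟩⟩
  · obtain ⟨F, i1, i2, i3, m, h1, h2, ⟨f⟩⟩ := h
    exact Or.inr (Or.inl ⟨F, i1, i2, i3, m, h1, h2, ⟨e.trans f⟩⟩)
  · obtain ⟨F, i1, i2, i3, n, q, h1, h2, h3, ⟨f⟩⟩ := h
    exact Or.inr (Or.inr (Or.inl ⟨F, i1, i2, i3, n, q, h1, h2, h3, ⟨e.trans f⟩⟩))
  · obtain ⟨F, i1, i2, i3, m, h1, h2, ⟨f⟩⟩ := h
    exact Or.inr (Or.inr (Or.inr (Or.inl ⟨F, i1, i2, i3, m, h1, h2, ⟨e.trans f⟩⟩)))
  · obtain ⟨F, i1, i2, i3, m, h1, ⟨f⟩⟩ := h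
    exact Or.inr (Or.inr (Or.inr (Or.inr (Or.inl ⟨F, i1, i2, i3, m, h1, ⟨e.trans f⟩⟩))))
  · obtain ⟨F, i1, i2, i3, m, a, b, h1, h2, ⟨f⟩⟩ := h
    exact Or.inr (Or.inr (Or.inr (Or.inr (Or.inr (Or.inl
      ⟨F, i1, i2, i3, m, a, b, h1, h2, ⟨e.trans f⟩⟩)))))
  · obtain ⟨F, i1, i2, i3, h⟩ := h
    refine Or.inr (Or.inr (Or.inr (Or.inr (Or.inr (Or.inr (Or.inl ⟨F, i1, i2, i3, ?_⟩))))))
    rcases h with ⟨h, ⟨f⟩⟩ | ⟨⟨f⟩⟩ | ⟨⟨f⟩⟩ | ⟨⟨f⟩⟩ | ⟨⟨f⟩⟩
    · exact Or.inl ⟨h, ⟨e.trans f⟩⟩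
    · exact Or.inr (Or.inl ⟨e.trans f⟩)
    · exact Or.inr (Or.inr (Or.inl ⟨e.trans f⟩))
    · exact Or.inr (Or.inr (Or.inr (Or.inl ⟨e.trans f⟩)))
    · exact Or.inr (Or.inr (Or.inr (Or.inr ⟨e.trans f⟩)))
  · obtain ⟨F, i1, i2, i3, q, hq, h⟩ := h
    refine Or.inr (Or.inr (Or.inr (Or.inr (Or.inr (Or.inr (Or.inr (Or.inl
      ⟨F, i1, i2, i3, q, hq, ?_⟩)))))))
    rcases h with ⟨h, ⟨f⟩⟩ | ⟨h, ⟨f⟩⟩
    · exact Or.inl ⟨h, ⟨e.trans f⟩⟩
    · exact Or.inr ⟨h, ⟨e.trans f⟩⟩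
  · obtain ⟨hp, F, i1, i2, m, h1, h2, ⟨f⟩⟩ := h
    exact Or.inr (Or.inr (Or.inr (Or.inr (Or.inr (Or.inr (Or.inr (Or.inr (Or.inl
      ⟨hp, F, i1, i2, m, h1, h2, ⟨e.trans f⟩⟩))))))))
  · obtain ⟨hp, F, i1, i2, m, h1, h2, ⟨f⟩⟩ := h
    exact Or.inr (Or.inr (Or.inr (Or.inr (Or.inr (Or.inr (Or.inr (Or.inr (Or.inr (Or.inl
      ⟨hp, F, i1, i2, m, h1, h2, ⟨e.trans f⟩⟩)))))))))
  · obtain ⟨hp, F, i1, i2, m, h1, h2, ⟨f⟩⟩ := h
    exact Or.inr (Or.inr (Or.inr (Or.inr (Or.inr (Or.inr (Or.inr (Or.inr (Or.inr (Or.inr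
      ⟨hp, F, i1, i2, m, h1, h2, ⟨e.trans f⟩⟩)))))))))

/-! ### `SolvedC` -/

variable {I : Type*} {M : CoxeterMatrix I} {W : Type*} [Group W] {cs : CoxeterSystem M W}
variable {C : Type*}

/-- As `Top.Solved`, with the characteristic. -/
structure SolvedC (Δ : Bldg cs C) : Prop where
  out : ∃ (p : ℕ) (_ : Fact p.Prime) (c d : C) (U : Subgroup (Aut Δ)),
    Δ.Opp c d ∧ U ≤ stabilizer (Aut Δ) c ∧
    (∀ a ∈ stabilizer (Aut Δ) c, ∀ u ∈ U, a * u * a⁻¹ ∈ U) ∧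
    IsPGroup p U ∧
    (∀ x, Δ.Opp c x → ∃ u ∈ U, u • d = x) ∧
    (∀ u ∈ U, u • d = d → u = 1) ∧
    (∀ x : C, ∃ n ∈ Subgroup.normalClosure (U : Set (Aut Δ)), n • c = x) ∧
    Group.IsSolvable ↥(stabilizer (Aut Δ) c ⊓ stabilizer (Aut Δ) d) ∧
    (Nat.card ↥(stabilizer (Aut Δ) c ⊓ stabilizer (Aut Δ) d ⊓
      Subgroup.normalClosure (U : Set (Aut Δ)))).Coprime p ∧
    (∀ i, ∃ a : ℕ, Δ.Param i (p ^ a)) ∧
    (IsSimpleGroup ↥(Subgroup.normalClosure (U : Set (Aut Δ))) →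
      Cfsg.IsLieTypeChar p ↥(Subgroup.normalClosure (U : Set (Aut Δ))))

/-- The conclusion: `G` is of Lie type in characteristic `p`, the parameters are powers of `p`. -/
def Concl (Δ : Bldg cs C) (G : Type*) [Group G] : Prop :=
  ∃ p : ℕ, p.Prime ∧ (∀ i, ∃ a : ℕ, Δ.Param i (p ^ a)) ∧ Cfsg.IsLieTypeChar p G

/-- **End of the proof**: a simple group acting strongly transitively on a solved building. -/
theorem concl_of_solvedC [Nonempty I] [Finite C] {Δ : Bldg cs C} (ht : Δ.Thick) (hS : SolvedC Δ)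
    {G : Type*} [Group G] [IsSimpleGroup G] [MulAction G C] (hG : Δ.StrongAct G) :
    Concl Δ G := by
  obtain ⟨p, hp, c, d, U, hcd, hUc, hUn, hUp, hUt, hUs, hN, hH, hcop, hpar, hK⟩ := hS.out
  have : Nonempty C := ⟨c⟩
  have hinj := toAut_injective hG
  let e : G ≃* (toAut hG).range := MonoidHom.ofInjective hinj
  have : IsSimpleGroup (toAut hG).range := e.symm.isSimpleGroup
  have hns : ¬ Group.IsSolvable (toAut hG).range := by
    intro hsol
    have h1 := (IsSimpleGroup.comm_iff_isSolvable (G := (toAut hG).range)).2 hsol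
    refine not_comm ht hG fun a b => e.injective ?_
    rw [map_mul, map_mul]
    exact h1 _ _
  have hmain := End.main (A := Aut Δ) (C := C) (c := c) (d := d) (O := {x | Δ.Opp c x}) (U := U)
    (p := p) ?_ hcd hUc hUn hUp hUt hUs hN hH hcop (toAut hG).range hns ?_ ?_
  · have hs : IsSimpleGroup ↥(Subgroup.normalClosure (U : Set (Aut Δ))) :=
      (MulEquiv.subgroupCongr hmain.1).symm.isSimpleGroup
    exact ⟨p, hp.out, hpar, ofEquiv e (ofEquiv (MulEquiv.subgroupCongr hmain.1) (hK hs))⟩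
  · intro a ha x hx
    change Δ.δ c (a • x) = _
    have h1 : Δ.δ (a • c) (a • x) = Δ.δ c x := δ_smul a c x
    rw [mem_stabilizer_iff.1 ha] at h1
    rw [h1]
    exact hx
  · intro x
    obtain ⟨g, hg, -⟩ := hG.trans c c x x (by rw [Δ.δ_self, Δ.δ_self])
    exact ⟨toAut hG g, ⟨g, rfl⟩, by rw [toAut_smul, hg]⟩
  · intro x hx
    obtain ⟨g, hg1, hg2⟩ := hG.trans c d c x (hcd.trans (Eq.symm hx))
    exact ⟨toAut hG g, ⟨g, rfl⟩, by rw [toAut_smul, hg1], by rw [toAut_smul, hg2]⟩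

/-- **The structure `SolvedC`** from the Moufang property. -/
theorem solvedC [Finite I] [Finite W] [Finite C] {Δ : Bldg cs C} {σ : W → C}
    (H : Sys Δ (Aut Δ) σ (UU Δ σ)) {p : ℕ} [Fact p.Prime]
    (hU : ∀ i, IsPGroup p (UU Δ σ (rt cs 1 i)))
    (hH : Group.IsSolvable ↥(stabilizer (Aut Δ) (σ 1) ⊓ stabilizer (Aut Δ) (σ (w0 cs))))
    (hcop : (Nat.card ↥(stabilizer (Aut Δ) (σ 1) ⊓ stabilizer (Aut Δ) (σ (w0 cs)) ⊓
      Gg cs (UU Δ σ))).Coprime p)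
    (hK : IsSimpleGroup ↥(Gg cs (UU Δ σ)) → Cfsg.IsLieTypeChar p ↥(Gg cs (UU Δ σ))) :
    SolvedC Δ := by
  have e := H.Gg_eq
  have : Finite (Aut Δ) := by
    refine Finite.of_injective (fun a : Aut Δ => (MulAction.toPerm a : Equiv.Perm C))
      fun a b hab => ?_
    have h1 : b⁻¹ * a = 1 := H.faith _ fun x => by
      rw [mul_smul, inv_smul_eq_iff]
      exact congrFun (congrArg DFunLike.coe hab) x
    exact (inv_mul_eq_one.1 h1).symm
  refine ⟨p, inferInstance, σ 1, σ (w0 cs), Up cs (UU Δ σ), H.opp, fun u hu => H.Up_fix hu,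
    fun a ha u hu => H.Up_normal ha hu, EndHyp.Up_isPGroup H hU, fun x hx => H.Up_trans _ x hx,
    fun u hu h => H.Up_free hu h, fun x => ?_, hH, ?_, ?_, ?_⟩
  · rw [← e]
    exact H.Gtrans x
  · rw [← e]
    exact hcop
  · intro i
    obtain ⟨a, ha⟩ := (hU i).exists_card_eq
    exact ⟨a, ha ▸ EndHyp.param H i⟩
  · rw [← e]
    exact hK

/-- Every finite thick building of type `M` is solved, with the characteristic. -/
def AllSolvedC {n : ℕ} (M : CoxeterMatrix (Fin n)) : Prop :=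
  ∀ (W C : Type u) [Group W] [Finite W] [Finite C] [Nonempty C] (cs : CoxeterSystem M W)
    (Δ : Bldg cs C), Δ.Thick → SolvedC Δ

/-- The conclusion in terms of the (B,N)-pair. -/
def BNConcl {G : Type*} [Group G] (P : Cfsg.BNPair G) : Prop :=
  ∃ p : ℕ, p.Prime ∧ Cfsg.IsLieTypeChar p G ∧
    ∀ s ∈ P.S, ∃ a : ℕ, (P.B.map (MulAut.conj s).toMonoidHom).relIndex P.B = p ^ a

/-- The parameter as an index. -/
theorem relIndex_of_param [Finite C] {Δ : Bldg cs C} {G : Type*} [Group G] [MulAction G C]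
    (hG : Δ.StrongAct G) {i : I} {q : ℕ} (h : Δ.Param i q) {x y : C}
    (hxy : Δ.δ x y = cs.simple i) :
    (stabilizer G y).relIndex (stabilizer G x) = q := by
  have h1 : Δ.Pan i x = insert x (orbit (stabilizer G x) y) := by
    ext z
    constructor
    · rintro (rfl | hz)
      · exact Set.mem_insert _ _
      · obtain ⟨g, hg1, hg2⟩ := hG.trans x y x z (hxy.trans hz.symm)
        exact Set.mem_insert_of_mem _ ⟨⟨g, hg1⟩, hg2⟩
    · rintro (rfl | ⟨⟨g, hg⟩, rfl⟩)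
      · exact Or.inl rfl
      · right
        change Δ.δ x (g • y) = _
        have h2 := hG.iso g x y
        rw [mem_stabilizer_iff.1 hg] at h2
        rw [h2, hxy]
  have h2 : x ∉ orbit (stabilizer G x) y := by
    rintro ⟨⟨g, hg⟩, h3⟩
    have h4 := hG.iso g x y
    have h5 : g • y = x := h3
    rw [mem_stabilizer_iff.1 hg, h5, Δ.δ_self, hxy] at h4
    exact Δ.ne_of_δ_simple hxy ((Δ.eq_one x y).1 (hxy.trans h4.symm))
  have h3 : (Δ.Pan i x).ncard = q + 1 := h x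
  rw [h1, Set.ncard_insert_of_notMem h2 (Set.toFinite _), ← MulAction.index_stabilizer] at h3
  have h4 : stabilizer (stabilizer G x) y = (stabilizer G y).subgroupOf (stabilizer G x) := by
    ext g; rfl
  rw [h4] at h3
  exact Nat.succ.inj h3

/-- From the building to the (B,N)-pair. -/
theorem bnConcl_of_concl {G : Type*} [Group G] [Finite G] (P : Cfsg.BNPair G) {I : Type*}
    {M : CoxeterMatrix I} {e : I ≃ P.S} [hN : ((P.B ⊓ P.N).subgroupOf P.N).Normal]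
    {cs : CoxeterSystem M (OfBN.WP P)} {Δ : Bldg cs (G ⧸ P.B)}
    (hcs : ∀ i, cs.simple i = QuotientGroup.mk (⟨(e i : G), P.subset (e i).2⟩ : P.N))
    (hδ : ∀ x y, Δ.δ x y = OfBN.dist P x y) (hG : Δ.StrongAct G) (h : Concl Δ G) : BNConcl P := by
  obtain ⟨p, hp, hpar, hK⟩ := h
  refine ⟨p, hp, hK, fun s hs => ?_⟩
  obtain ⟨i, hi⟩ := e.surjective ⟨s, hs⟩
  obtain ⟨a, ha⟩ := hpar i
  refine ⟨a, ?_⟩
  have hsi : (e i : G) = s := by rw [hi]
  have h1 : Δ.δ (QuotientGroup.mk 1) (QuotientGroup.mk s) = cs.simple i := by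
    rw [hδ, OfBN.dist_mk, inv_one, one_mul, hcs]
    refine OfBN.wt_of_mem P (n := ⟨(e i : G), P.subset (e i).2⟩) ?_
    rw [← hsi]
    exact DoubleCoset.mem_doubleCoset.mpr ⟨1, P.B.one_mem, 1, P.B.one_mem, by simp⟩
  have h2 := relIndex_of_param hG ha h1
  rw [← h2]
  congr 1
  · ext g
    rw [MulAction.mem_stabilizer_iff, MulAction.Quotient.smul_mk, eq_comm, QuotientGroup.eq,
      Subgroup.mem_map]
    constructor
    · rintro ⟨b, hb, rfl⟩
      simpa [mul_assoc] using hb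
    · intro hg
      exact ⟨_, hg, by simp [mul_assoc]⟩
  · ext g
    rw [MulAction.mem_stabilizer_iff, MulAction.Quotient.smul_mk, eq_comm, QuotientGroup.eq]
    simp

theorem bnConcl_of_allSolved {n : ℕ} (hn : 3 ≤ n) {M : CoxeterMatrix (Fin n)}
    (hM : AllSolvedC.{u} M) {G : Type u} [Group G] [Finite G] [IsSimpleGroup G]
    (P : Cfsg.BNPair G) {e : Fin n ≃ P.S} (h : BNType P M e) : BNConcl P := by
  obtain ⟨hNor, cs, Δ, hcs, hδ, ht, hSA⟩ := OfBN.exists_bldg P h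
  have : Nonempty (Fin n) := ⟨⟨0, by omega⟩⟩
  have hS : P.S.Nonempty := ⟨_, (e ⟨0, by omega⟩).2⟩
  have hcore := OfBN.normalCore_eq_bot P hS
  have hfin : Finite (OfBN.WP P) := inferInstance
  exact bnConcl_of_concl P hcs hδ (hSA hcore)
    (concl_of_solvedC ht (hM _ _ cs Δ ht) (hSA hcore))

/-- S1143 with the characteristic from the seven families. -/
theorem main_of (hA : ∀ n, 3 ≤ n → AllSolvedC.{u} (cA n)) (hC : ∀ n, 3 ≤ n → AllSolvedC.{u} (cC n))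
    (hD : ∀ n, 4 ≤ n → AllSolvedC.{u} (cD n)) (hE6 : AllSolvedC.{u} (cE 6))
    (hE7 : AllSolvedC.{u} (cE 7)) (hE8 : AllSolvedC.{u} (cE 8)) (hF : AllSolvedC.{u} cF)
    {G : Type u} [Group G] [Finite G] [IsSimpleGroup G]
    (P : Cfsg.BNPair G) (h3 : 3 ≤ P.rank) (hirr : P.Irreducible) : BNConcl P := by
  rcases BNCox.exists_type P hirr h3 with h | h | h | h | h | h | h
  · obtain ⟨n, v, hn, h⟩ := h
    exact bnConcl_of_allSolved hn (hA n hn) P h
  · obtain ⟨n, v, hn, h⟩ := h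
    exact bnConcl_of_allSolved hn (hC n hn) P h
  · obtain ⟨n, v, hn, h⟩ := h
    exact bnConcl_of_allSolved (by omega) (hD n hn) P h
  · obtain ⟨v, h⟩ := h
    exact bnConcl_of_allSolved (by omega) hE6 P h
  · obtain ⟨v, h⟩ := h
    exact bnConcl_of_allSolved (by omega) hE7 P h
  · obtain ⟨v, h⟩ := h
    exact bnConcl_of_allSolved (by omega) hE8 P h
  · obtain ⟨v, h⟩ := h
    exact bnConcl_of_allSolved (by omega) hF P h

/-! ### users' form -/

/-- the index `|B : B ∩ sBs⁻¹|` as the length of an orbit -/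
theorem relIndex_eq_orbit {G : Type*} [Group G] (B : Subgroup G) (s : G) :
    (B.map (MulAut.conj s).toMonoidHom).relIndex B =
      (MulAction.orbit B (QuotientGroup.mk s : G ⧸ B)).ncard := by
  rw [← MulAction.index_stabilizer]
  have h4 : MulAction.stabilizer B (QuotientGroup.mk s : G ⧸ B) =
      (B.map (MulAut.conj s).toMonoidHom).subgroupOf B := by
    ext ⟨g, hg⟩
    rw [MulAction.mem_stabilizer_iff, Subgroup.mem_subgroupOf, Subgroup.mem_map]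
    change (QuotientGroup.mk (g * s) : G ⧸ B) = QuotientGroup.mk s ↔ _
    rw [eq_comm, QuotientGroup.eq]
    constructor
    · intro h
      exact ⟨_, h, by simp [mul_assoc]⟩
    · rintro ⟨b, hb, hbg⟩
      have : s⁻¹ * (g * s) = b := by
        have h1 : s * b * s⁻¹ = g := hbg
        rw [← h1]; group
      rw [this]; exact hb
  rw [h4]
  rfl

/-- Thickness in terms of indices. -/
theorem relIndex_ne_one {G : Type*} [Group G] [Finite G] (P : Cfsg.BNPair G) {s : G}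
    (hs : s ∈ P.S) : (P.B.map (MulAut.conj s).toMonoidHom).relIndex P.B ≠ 1 := by
  intro h
  rw [Subgroup.relIndex_eq_one] at h
  apply P.conj_ne s hs
  have h1 : P.B.map (MulAut.conj s).toMonoidHom = P.B := by
    symm
    apply Subgroup.eq_of_le_of_card_ge h
    rw [Subgroup.card_map_of_injective (MulAut.conj s).injective]
  have hs2 := P.sq_mem s hs
  ext g
  constructor
  · rintro ⟨b, hb, rfl⟩
    have h2 : s * b * s⁻¹ ∈ P.B := by
      rw [← h1]; exact ⟨b, hb, rfl⟩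
    have h3 : s * b * s = s * b * s⁻¹ * (s * s) := by group
    change s * b * s ∈ P.B
    rw [h3]; exact mul_mem h2 hs2
  · intro hg
    have h2 : g * (s * s)⁻¹ ∈ P.B.map (MulAut.conj s).toMonoidHom := by
      rw [h1]; exact mul_mem hg (inv_mem hs2)
    obtain ⟨b, hb, hbg⟩ := h2
    refine ⟨b, hb, ?_⟩
    have h3 : s * b * s⁻¹ = g * (s * s)⁻¹ := hbg
    change s * b * s = g
    calc s * b * s = s * b * s⁻¹ * (s * s) := by group
      _ = g := by rw [h3]; group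

/-- If `B = U (B ∩ N)` with `U` a `p`-subgroup of `B`, the characteristic is `p`. -/
theorem char_of_split {G : Type*} [Group G] [Finite G] (P : Cfsg.BNPair G) (hS : P.S.Nonempty)
    (h : BNConcl P) {p : ℕ} (hp : p.Prime) (U : Subgroup G) (hU : IsPGroup p U)
    (hB : ∀ b ∈ P.B, ∃ u ∈ U, ∃ t ∈ P.B ⊓ P.N, b = u * t) (hUB : U ≤ P.B) :
    Cfsg.IsLieTypeChar p G := by
  obtain ⟨r, hr, hK, hpar⟩ := h
  obtain ⟨s, hs⟩ := hS
  obtain ⟨a, ha⟩ := hpar s hs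
  have : Fact p.Prime := ⟨hp⟩
  suffices hpr : p = r by rw [hpr]; exact hK
  have h1 : MulAction.orbit P.B (QuotientGroup.mk s : G ⧸ P.B) =
      MulAction.orbit U (QuotientGroup.mk s : G ⧸ P.B) := by
    ext y
    constructor
    · rintro ⟨⟨b, hb⟩, rfl⟩
      obtain ⟨u, hu, t, ht, rfl⟩ := hB b hb
      refine ⟨⟨u, hu⟩, ?_⟩
      change (QuotientGroup.mk (u * s) : G ⧸ P.B) = QuotientGroup.mk (u * t * s)
      rw [QuotientGroup.eq]
      have h2 := P.conj_mem s⁻¹ (inv_mem (P.subset hs)) t ht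
      have h3 : (u * s)⁻¹ * (u * t * s) = s⁻¹ * t * s⁻¹⁻¹ := by group
      rw [h3]; exact h2
    · rintro ⟨⟨u, hu⟩, rfl⟩
      exact ⟨⟨u, hUB hu⟩, rfl⟩
  have h2 := relIndex_eq_orbit P.B s
  rw [h1, ha] at h2
  obtain ⟨k, hk⟩ := hU.card_orbit (QuotientGroup.mk s : G ⧸ P.B)
  have h3 : r ^ a = p ^ k := by
    rw [h2, ← hk]; rfl
  have ha0 : a ≠ 0 := by
    rintro rfl
    exact relIndex_ne_one P hs (by rw [ha, pow_zero])
  have hk0 : k ≠ 0 := by
    rintro rfl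
    rw [pow_zero] at h3
    have := Nat.one_lt_pow ha0 hr.one_lt
    omega
  have h4 : p ∣ r ^ a := h3 ▸ dvd_pow_self p hk0
  exact (Nat.prime_dvd_prime_iff_eq hp hr).1 (hp.dvd_of_dvd_pow h4)

end Cfsg.Agent.TitsThree.CharBase
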