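import Mathlib
import Cfsg.Agent.AGraded.Steinberg

/-!
# The interface of the model groups of simply laced type

`SLData K F n adj`: root elements `xp i t`, `xm i t` (`i < n`, `t ∈ F`) of a group `K`, attached to the nodes of a simply
laced diagram with (oriented) edges `adj i j`: on an edge they are part of a Steinberg system of type `A₂`, on a
non-edge they commute; they generate `K`, and the `xp i t` together with the torus elements `h_i(t)` lie in a proper
subgroup.
-/

set_option autoImplicit false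

namespace Cfsg.Agent.TitsThree.KSideDefs

open Cfsg.Agent.AGraded
open scoped commutatorElement

variable {F : Type*} [Field F] {K : Type*} [Group K]

/-- `n(t) = x(t) y(-t⁻¹) x(t)` -/
def nn (x y : F → K) (t : F) : K := x t * y (-t⁻¹) * x t

/-- `h(t) = n(t) n(1)⁻¹` -/
def hh (x y : F → K) (t : F) : K := nn x y t * (nn x y 1)⁻¹

/-- Root elements of a group, attached to the nodes of a simply laced diagram. -/
structure SLData (K : Type*) [Group K] (F : Type*) [Field F] (n : ℕ) (adj : Fin n → Fin n → Prop) where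
  xp : Fin n → F → K
  xm : Fin n → F → K
  /-- on an edge: a Steinberg system of type `A₂` -/
  st3 : ∀ i j, adj i j → ∃ x : Fin 3 → Fin 3 → F → K, SteinRel x ∧
    x 0 1 = xp i ∧ x 1 0 = xm i ∧ x 1 2 = xp j ∧ x 2 1 = xm j
  /-- on a non-edge: everything commutes -/
  comm : ∀ i j, i ≠ j → ¬ adj i j → ¬ adj j i → ∀ s t,
    Commute (xp i s) (xp j t) ∧ Commute (xp i s) (xm j t) ∧ Commute (xm i s) (xp j t) ∧
      Commute (xm i s) (xm j t)
  gen : Subgroup.closure {g : K | ∃ i t, g = xp i t ∨ g = xm i t} = ⊤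
  Bor : Subgroup K
  Bor_ne : Bor ≠ ⊤
  xp_mem : ∀ i t, xp i t ∈ Bor
  hh_mem : ∀ i t, t ≠ 0 → hh (xp i) (xm i) t ∈ Bor

/-! ### Steinberg systems -/

/-- Restriction of a Steinberg system along an injection. -/
theorem SteinRel.comap {ι κ : Type*} [Fintype ι] [DecidableEq ι] [Fintype κ] [DecidableEq κ]
    {x : ι → ι → F → K} (h : SteinRel x) {f : κ → ι} (hf : Function.Injective f) :
    SteinRel fun a b => x (f a) (f b) where
  add i j hij := h.add _ _ (hf.ne hij)
  comm i j k l hij hkl hjk hil := h.comm _ _ _ _ (hf.ne hij) (hf.ne hkl) (hf.ne hjk) (hf.ne hil)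
  br i j k hij hjk hik := h.br _ _ _ (hf.ne hij) (hf.ne hjk) (hf.ne hik)

/-- The sign of the flip. -/
def sg3 (a b : Fin 3) (t : F) : F := if (a = 0 ∧ b = 2) ∨ (a = 2 ∧ b = 0) then -t else t

/-- The flip `0 ↔ 2` of a Steinberg system of type `A₂`. -/
theorem SteinRel.flip {x : Fin 3 → Fin 3 → F → K} (h : SteinRel x) :
    SteinRel fun a b t => x (Fin.rev b) (Fin.rev a) (sg3 a b t) where
  add i j hij a b := by
    have h1 : sg3 i j (a + b) = sg3 i j a + sg3 i j b := by
      unfold sg3; split_ifs <;> ring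
    simp only [h1]
    exact h.add _ _ (fun e => hij (Fin.rev_injective e).symm) _ _
  comm i j k l hij hkl hjk hil a b :=
    h.comm _ _ _ _ (fun e => hij (Fin.rev_injective e).symm) (fun e => hkl (Fin.rev_injective e).symm)
      (fun e => hil (Fin.rev_injective e)) (fun e => hjk (Fin.rev_injective e)) _ _
  br i j k hij hjk hik a b := by
    have h1 : sg3 i k (a * b) = - (sg3 j k b * sg3 i j a) := by
      fin_cases i <;> fin_cases j <;> fin_cases k <;> simp [sg3] at hij hjk hik ⊢ <;> ring
    have h2 : Fin.rev k ≠ Fin.rev i := fun e => hik (Fin.rev_injective e).symm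
    simp only [h1]
    rw [h.neg h2, ← h.br _ (Fin.rev j) _ (fun e => hjk (Fin.rev_injective e).symm)
      (fun e => hij (Fin.rev_injective e).symm) h2, commutatorElement_inv]

namespace SLData

variable {n : ℕ} {adj : Fin n → Fin n → Prop} (D : SLData K F n adj)

/-- The edge relation may be read in the other direction, too. -/
theorem st3' (i j : Fin n) (h : adj i j ∨ adj j i) : ∃ x : Fin 3 → Fin 3 → F → K, SteinRel x ∧
    x 0 1 = D.xp i ∧ x 1 0 = D.xm i ∧ x 1 2 = D.xp j ∧ x 2 1 = D.xm j := by
  rcases h with h | h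
  · exact D.st3 i j h
  · obtain ⟨x, hx, h1, h2, h3, h4⟩ := D.st3 j i h
    refine ⟨_, SteinRel.flip hx, ?_, ?_, ?_, ?_⟩
    · funext t; rw [← h3]; simp [sg3]
    · funext t; rw [← h4]; simp [sg3]
    · funext t; rw [← h1]; simp [sg3]
    · funext t; rw [← h2]; simp [sg3]

end SLData

end Cfsg.Agent.TitsThree.KSideDefs

namespace Cfsg.Agent.TitsThree

export KSideDefs (nn hh SLData sg3 SteinRel.flip SteinRel.comap)

end Cfsg.Agent.TitsThree
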