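import Cfsg.Agent.TitsThree.RankTwoRGD

/-!
# Root data of rank two in indexed form (S1143, layer 1)

`R2 m Y`: positive root groups `X 1, …, X m` (in the natural order, `X 1` and `X m` simple), the
opposites `XI'`, `XJ'` of the simple ones, reflections `nI`, `nJ`, torus `H`.  `R2.core : Core m Y` and the
resulting theorem `R2.eq_D`.
-/

set_option autoImplicit false

namespace Cfsg.Agent.TitsThree.RankTwoIdx

open Cfsg.Agent.TitsThree.RankTwoRGD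
open scoped commutatorElement

universe u

/-- Root datum of rank two with positive root groups `X 1, …, X m`. -/
structure R2 (m : ℕ) (Y : Type u) [Group Y] where
  X : ℕ → Subgroup Y
  (XI' XJ' H : Subgroup Y)
  (nI nJ : Y)
  one_le : 1 ≤ m
  comm : ∀ k l, 1 ≤ k → k < l → l ≤ m → ∀ x ∈ X k, ∀ y ∈ X l, ⁅x, y⁆ ∈ ⨆ r ∈ Set.Ioo k l, X r
  HX : ∀ h ∈ H, ∀ k, 1 ≤ k → k ≤ m → ∀ x ∈ X k, h * x * h⁻¹ ∈ X k
  nI_X : ∀ k, 2 ≤ k → k ≤ m → ∀ x ∈ X k, nI * x * nI⁻¹ ∈ X (m + 2 - k)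
  nJ_X : ∀ k, 1 ≤ k → k < m → ∀ x ∈ X k, nJ * x * nJ⁻¹ ∈ X (m - k)
  nI_pos : ∀ x ∈ X 1, nI * x * nI⁻¹ ∈ XI'
  nI_neg : ∀ x ∈ XI', nI * x * nI⁻¹ ∈ X 1
  nJ_pos : ∀ x ∈ X m, nJ * x * nJ⁻¹ ∈ XJ'
  nJ_neg : ∀ x ∈ XJ', nJ * x * nJ⁻¹ ∈ X m
  nI_sq : nI * nI ∈ H
  nJ_sq : nJ * nJ ∈ H
  nI_H : ∀ h ∈ H, nI * h * nI⁻¹ ∈ H
  nJ_H : ∀ h ∈ H, nJ * h * nJ⁻¹ ∈ H
  rank_oneI : ∀ a ∈ XI', a ≠ 1 → ∃ x ∈ X 1, ∃ h ∈ H, ∃ y ∈ X 1, a = x * nI * h * y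
  rank_oneJ : ∀ a ∈ XJ', a ≠ 1 → ∃ x ∈ X m, ∃ h ∈ H, ∃ y ∈ X m, a = x * nJ * h * y
  memI : nI ∈ X 1 ⊔ XI'
  memJ : nJ ∈ X m ⊔ XJ'
  braid : ∃ h ∈ H, alt nI nJ m = alt nJ nI m * h

namespace R2

variable {m : ℕ} {Y : Type u} [Group Y] (c : R2 m Y)

/-- The positive part. -/
def U : Subgroup Y := ⨆ k ∈ Set.Icc 1 m, c.X k

/-- The positive part without `X 1`. -/
def VI : Subgroup Y := ⨆ k ∈ Set.Icc 2 m, c.X k

/-- The positive part without `X m`. -/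
def VJ : Subgroup Y := ⨆ k ∈ Set.Ico 1 m, c.X k

theorem X_le {k : ℕ} (h1 : 1 ≤ k) (h2 : k ≤ m) : c.X k ≤ c.U :=
  le_iSup₂_of_le k ⟨h1, h2⟩ le_rfl

theorem X_le_VI {k : ℕ} (h1 : 2 ≤ k) (h2 : k ≤ m) : c.X k ≤ c.VI :=
  le_iSup₂_of_le k ⟨h1, h2⟩ le_rfl

theorem X_le_VJ {k : ℕ} (h1 : 1 ≤ k) (h2 : k < m) : c.X k ≤ c.VJ :=
  le_iSup₂_of_le k ⟨h1, h2⟩ le_rfl

theorem VI_le : c.VI ≤ c.U := iSup₂_le fun _ hk => c.X_le (le_trans (by norm_num) hk.1) hk.2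

theorem VJ_le : c.VJ ≤ c.U := iSup₂_le fun _ hk => c.X_le hk.1 hk.2.le

/-- A conjugation statement for a supremum follows from the one for the members. -/
theorem conj_iSup {S : Set ℕ} {P : Subgroup Y} {g : Y} {f : ℕ → Subgroup Y}
    (h : ∀ k ∈ S, ∀ x ∈ f k, g * x * g⁻¹ ∈ P) : ∀ x ∈ ⨆ k ∈ S, f k, g * x * g⁻¹ ∈ P := by
  have h1 : (⨆ k ∈ S, f k) ≤ P.comap (MulAut.conj g).toMonoidHom :=
    iSup₂_le fun k hk x hx => h k hk x hx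
  intro x hx
  exact h1 hx

theorem X1_VI : ∀ a ∈ c.X 1, ∀ v ∈ c.VI, a * v * a⁻¹ ∈ c.VI := by
  intro a ha
  apply conj_iSup
  intro k hk x hx
  have h1 := c.comm 1 k le_rfl (by have := hk.1; omega) hk.2 a ha x hx
  have h2 : ⁅a, x⁆ ∈ c.VI := by
    refine (iSup₂_le ?_ : (⨆ r ∈ Set.Ioo 1 k, c.X r) ≤ c.VI) h1
    intro r hr
    exact c.X_le_VI (by have := hr.1; omega) (hr.2.le.trans hk.2)
  have e : a * x * a⁻¹ = ⁅a, x⁆ * x := by rw [commutatorElement_def]; group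
  rw [e]
  exact mul_mem h2 (c.X_le_VI hk.1 hk.2 hx)

theorem Xm_VJ : ∀ a ∈ c.X m, ∀ v ∈ c.VJ, a * v * a⁻¹ ∈ c.VJ := by
  intro a ha
  apply conj_iSup
  intro k hk x hx
  have h1 := c.comm k m hk.1 hk.2 le_rfl x hx a ha
  have h2 : ⁅x, a⁆ ∈ c.VJ := by
    refine (iSup₂_le ?_ : (⨆ r ∈ Set.Ioo k m, c.X r) ≤ c.VJ) h1
    intro r hr
    exact c.X_le_VJ (by have := hr.1; have := hk.1; omega) hr.2
  have e : a * x * a⁻¹ = ⁅x, a⁆⁻¹ * x := by rw [commutatorElement_def]; group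
  rw [e]
  exact mul_mem (inv_mem h2) (c.X_le_VJ hk.1 hk.2 hx)

/-- `K = V A` when `A` normalises `V` -/
theorem decomp_aux {A V : Subgroup Y} (h : ∀ a ∈ A, ∀ v ∈ V, a * v * a⁻¹ ∈ V) {u : Y}
    (hu : u ∈ V ⊔ A) : ∃ v ∈ V, ∃ a ∈ A, u = v * a := by
  have hn : A ≤ Subgroup.normalizer (V : Set Y) := by
    intro a ha
    rw [Subgroup.mem_normalizer_iff]
    intro v
    refine ⟨fun hv => h a ha v hv, fun hv => ?_⟩
    have h1 := h a⁻¹ (A.inv_mem ha) _ hv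
    have e : a⁻¹ * (a * v * a⁻¹) * a⁻¹⁻¹ = v := by group
    rwa [e] at h1
  have h2 := Subgroup.coe_mul_of_right_le_normalizer_left V A hn
  have h3 : u ∈ (↑(V ⊔ A) : Set Y) := hu
  rw [h2, Set.mem_mul] at h3
  obtain ⟨v, hv, a, ha, e⟩ := h3
  exact ⟨v, hv, a, ha, e.symm⟩

theorem U_eq_I : c.U = c.VI ⊔ c.X 1 := by
  apply le_antisymm
  · refine iSup₂_le fun k hk => ?_
    rcases Nat.lt_or_ge 1 k with h | h
    · exact (c.X_le_VI h hk.2).trans le_sup_left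
    · obtain rfl : k = 1 := le_antisymm h hk.1
      exact le_sup_right
  · exact sup_le c.VI_le (c.X_le le_rfl c.one_le)

theorem U_eq_J : c.U = c.VJ ⊔ c.X m := by
  apply le_antisymm
  · refine iSup₂_le fun k hk => ?_
    rcases Nat.lt_or_ge k m with h | h
    · exact (c.X_le_VJ hk.1 h).trans le_sup_left
    · obtain rfl : k = m := le_antisymm hk.2 h
      exact le_sup_right
  · exact sup_le c.VJ_le (c.X_le c.one_le le_rfl)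

theorem HX_inv {h : Y} (hh : h ∈ c.H) {k : ℕ} (h1 : 1 ≤ k) (h2 : k ≤ m) {x : Y} (hx : x ∈ c.X k) :
    h⁻¹ * x * h ∈ c.X k := by
  have := c.HX h⁻¹ (c.H.inv_mem hh) k h1 h2 x hx
  rwa [inv_inv] at this

theorem nI_X_inv {k : ℕ} (h1 : 2 ≤ k) (h2 : k ≤ m) {x : Y} (hx : x ∈ c.X k) :
    c.nI⁻¹ * x * c.nI ∈ c.X (m + 2 - k) := by
  have h3 := c.nI_X k h1 h2 _ (c.HX_inv c.nI_sq (le_trans (by norm_num) h1) h2 hx)
  have e : c.nI * ((c.nI * c.nI)⁻¹ * x * (c.nI * c.nI)) * c.nI⁻¹ = c.nI⁻¹ * x * c.nI := by group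
  rwa [e] at h3

theorem nJ_X_inv {k : ℕ} (h1 : 1 ≤ k) (h2 : k < m) {x : Y} (hx : x ∈ c.X k) :
    c.nJ⁻¹ * x * c.nJ ∈ c.X (m - k) := by
  have h3 := c.nJ_X k h1 h2 _ (c.HX_inv c.nJ_sq h1 h2.le hx)
  have e : c.nJ * ((c.nJ * c.nJ)⁻¹ * x * (c.nJ * c.nJ)) * c.nJ⁻¹ = c.nJ⁻¹ * x * c.nJ := by group
  rwa [e] at h3

theorem pos_aux (k : ℕ) :
    (∀ r, 1 ≤ r → r + k ≤ m → ∀ a ∈ c.X r, (alt c.nJ c.nI k)⁻¹ * a * alt c.nJ c.nI k ∈ c.U) ∧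
    (∀ r, r ≤ m → k + 1 ≤ r → ∀ a ∈ c.X r, (alt c.nI c.nJ k)⁻¹ * a * alt c.nI c.nJ k ∈ c.U) := by
  induction k with
  | zero =>
    refine ⟨fun r h1 h2 a ha => ?_, fun r h1 h2 a ha => ?_⟩
    · simpa using c.X_le h1 h2 ha
    · simpa using c.X_le h2 h1 ha
  | succ k ih =>
    refine ⟨fun r h1 h2 a ha => ?_, fun r h1 h2 a ha => ?_⟩
    · have h3 := ih.2 (m - r) (by omega) (by omega) _ (c.nJ_X_inv h1 (by omega) ha)
      rw [alt_succ]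
      have e : (alt c.nI c.nJ k)⁻¹ * (c.nJ⁻¹ * a * c.nJ) * alt c.nI c.nJ k =
        (c.nJ * alt c.nI c.nJ k)⁻¹ * a * (c.nJ * alt c.nI c.nJ k) := by group
      rwa [e] at h3
    · have h3 := ih.1 (m + 2 - r) (by omega) (by omega) _ (c.nI_X_inv (by omega) h1 ha)
      rw [alt_succ]
      have e : (alt c.nJ c.nI k)⁻¹ * (c.nI⁻¹ * a * c.nI) * alt c.nJ c.nI k =
        (c.nI * alt c.nJ c.nI k)⁻¹ * a * (c.nI * alt c.nJ c.nI k) := by group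
      rwa [e] at h3

/-- The abstract root datum. -/
def core : Core m Y where
  U := c.U
  H := c.H
  AI := c.X 1
  AI' := c.XI'
  VI := c.VI
  AJ := c.X m
  AJ' := c.XJ'
  VJ := c.VJ
  nI := c.nI
  nJ := c.nJ
  sI :=
    { A_le := c.X_le le_rfl c.one_le
      V_le := c.VI_le
      decomp := fun u hu => by
        rw [c.U_eq_I] at hu
        exact decomp_aux c.X1_VI hu
      nV := conj_iSup fun k hk x hx =>
        c.X_le_VI (by have := hk.2; omega) (by have := hk.1; omega) (c.nI_X k hk.1 hk.2 x hx)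
      nA := c.nI_pos
      nA' := c.nI_neg
      HA := fun h hh a ha => c.HX h hh 1 le_rfl c.one_le a ha
      n_sq := c.nI_sq
      nH := c.nI_H
      rank_one := c.rank_oneI
      mem := c.memI }
  sJ :=
    { A_le := c.X_le c.one_le le_rfl
      V_le := c.VJ_le
      decomp := fun u hu => by
        rw [c.U_eq_J] at hu
        exact decomp_aux c.Xm_VJ hu
      nV := conj_iSup fun k hk x hx =>
        c.X_le_VJ (by have := hk.2; omega) (by have := hk.1; have := c.one_le; omega)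
          (c.nJ_X k hk.1 hk.2 x hx)
      nA := c.nJ_pos
      nA' := c.nJ_neg
      HA := fun h hh a ha => c.HX h hh m c.one_le le_rfl a ha
      n_sq := c.nJ_sq
      nH := c.nJ_H
      rank_one := c.rank_oneJ
      mem := c.memJ }
  HU := fun h hh => conj_iSup fun k hk x hx => c.X_le hk.1 hk.2 (c.HX h hh k hk.1 hk.2 x hx)
  posI := fun k hk a ha => (c.pos_aux k).1 1 le_rfl (by omega) a ha
  posJ := fun k hk a ha => (c.pos_aux k).2 m le_rfl hk a ha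
  braid := c.braid

/-- **Layer 1** in indexed form. -/
theorem eq_D {S : Subgroup Y} (hSG : S ≤ c.U ⊔ c.H ⊔ (c.XI' ⊔ c.XJ')) (hDS : c.U ⊔ c.H ≤ S)
    (hI : c.nI ∉ S) (hJ : c.nJ ∉ S) : S = c.U ⊔ c.H :=
  c.core.eq_D c.one_le hSG hDS hI hJ

/-- **Bruhat decomposition** in indexed form. -/
theorem bruhat {y : Y} (hy : y ∈ c.U ⊔ c.H ⊔ (c.XI' ⊔ c.XJ')) :
    ∃ b ∈ c.U ⊔ c.H, ∃ k ≤ m, ∃ b' ∈ c.U ⊔ c.H,
      y = b * alt c.nI c.nJ k * b' ∨ y = b * alt c.nJ c.nI k * b' := by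
  obtain ⟨b, hb, w, ⟨k, hk, h, hh, e⟩, b', hb', rfl⟩ := c.core.bruhat c.one_le hy
  have hh' : h ∈ c.U ⊔ c.H := (le_sup_right : c.H ≤ c.U ⊔ c.H) hh
  refine ⟨b, hb, k, hk, h * b', mul_mem hh' hb', ?_⟩
  rcases e with rfl | rfl
  · left; simp only [mul_assoc]; rfl
  · right; simp only [mul_assoc]; rfl

end R2

end Cfsg.Agent.TitsThree.RankTwoIdx
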