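import Cfsg.Agent.TitsThree.B2Pkg
import Cfsg.Agent.TitsThree.KSideDefs
import Cfsg.Agent.TitsThree.RankTwoIdx

/-!
# The relation package of type `B₂` gives a root datum of rank two (S1143, layer 1)

`b2_stab`: a subgroup of `⟨x, x', z₂, z₂'⟩` which contains the positive root elements and the tori but no `n_I`, `n_II` is
contained in the group generated by the positive root elements and the tori.
-/

set_option autoImplicit false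

namespace Cfsg.Agent.TitsThree.CoreB2

open Cfsg.Agent.TitsThree.B2Pkg Cfsg.Agent.TitsThree.RankTwoRGD Cfsg.Agent.TitsThree.RankTwoIdx
open scoped commutatorElement

universe u

variable {F : Type*} [Field F] {V : Type*} [AddCommGroup V] [Module F V] {D : PQDatum F V}
variable {Y : Type u} [Group Y] {m : B2Maps D Y}

/-- `n_I(t)` -/
abbrev nt (m : B2Maps D Y) (t : F) : Y := nn m.x m.x' t

/-- conjugation by `n_I(t)`, what is needed -/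
structure NIRel (m : B2Maps D Y) : Prop where
  x : ∀ t, t ≠ 0 → ∀ a, ∃ a', nt m t * m.x a * (nt m t)⁻¹ = m.x' a'
  x' : ∀ t, t ≠ 0 → ∀ a, ∃ a', nt m t * m.x' a * (nt m t)⁻¹ = m.x a'
  y : ∀ t, t ≠ 0 → ∀ b, ∃ b', nt m t * m.y b * (nt m t)⁻¹ = m.y b'
  z₁ : ∀ t, t ≠ 0 → ∀ p, nt m t * m.z₁ p * (nt m t)⁻¹ = m.z₂ (D.sc (-t⁻¹) p)
  z₂ : ∀ t, t ≠ 0 → ∀ p, nt m t * m.z₂ p * (nt m t)⁻¹ = m.z₁ (D.sc t p)
  z₁' : ∀ t, t ≠ 0 → ∀ p, nt m t * m.z₁' p * (nt m t)⁻¹ = m.z₂' (D.sc (-D.σ t) p)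
  z₂' : ∀ t, t ≠ 0 → ∀ p, nt m t * m.z₂' p * (nt m t)⁻¹ = m.z₁' (D.sc (D.σ t)⁻¹ p)

theorem sc_sc (a b : F) (p : D.T) : D.sc a (D.sc b p) = D.sc (a * b) p := by
  ext
  · simp only [PQDatum.sc_w, map_mul, smul_smul]
  · simp only [PQDatum.sc_c, map_mul]
    ring

theorem sc_one (p : D.T) : D.sc 1 p = p := by
  ext <;> simp

theorem sc_mul (a : F) (p q : D.T) : D.sc a (p * q) = D.sc a p * D.sc a q := by
  ext
  · simp
  · simp only [PQDatum.sc_c, PQDatum.T.mul_c, PQDatum.sc_w, D.smul_left, D.smul_right, D.σσ]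
    ring

theorem sc_inv (a : F) (p : D.T) : D.sc a p⁻¹ = (D.sc a p)⁻¹ := by
  rw [eq_inv_iff_mul_eq_one, ← sc_mul, inv_mul_cancel]
  ext <;> simp

section

variable (h : B2Rel m)
include h

theorem x_neg (a : F) : m.x (-a) = (m.x a)⁻¹ := by
  rw [eq_inv_iff_mul_eq_one, ← h.x_add, neg_add_cancel]
  have := h.x_add 0 0
  rw [add_zero] at this
  simpa using this

theorem x_zero : m.x 0 = 1 := by
  have := h.x_add 0 0
  rw [add_zero] at this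
  simpa using this

theorem x'_zero : m.x' 0 = 1 := by
  have := h.x'_add 0 0
  rw [add_zero] at this
  simpa using this

theorem y_zero : m.y 0 = 1 := by
  have := h.y_add 0 0
  rw [add_zero] at this
  simpa using this

theorem x'_neg (a : F) : m.x' (-a) = (m.x' a)⁻¹ := by
  rw [eq_inv_iff_mul_eq_one, ← h.x'_add, neg_add_cancel, x'_zero h]

theorem y_neg (a : F) : m.y (-a) = (m.y a)⁻¹ := by
  rw [eq_inv_iff_mul_eq_one, ← h.y_add, neg_add_cancel, y_zero h]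

theorem z₁_one : m.z₁ 1 = 1 := by
  have := h.z₁_mul 1 1
  rw [mul_one] at this
  simpa using this

theorem z₂_one : m.z₂ 1 = 1 := by
  have := h.z₂_mul 1 1
  rw [mul_one] at this
  simpa using this

theorem z₂'_one : m.z₂' 1 = 1 := by
  have := h.z₂'_mul 1 1
  rw [mul_one] at this
  simpa using this

theorem z₁_inv (p : D.T) : m.z₁ p⁻¹ = (m.z₁ p)⁻¹ := by
  rw [eq_inv_iff_mul_eq_one, ← h.z₁_mul, inv_mul_cancel, z₁_one h]

theorem z₂_inv (p : D.T) : m.z₂ p⁻¹ = (m.z₂ p)⁻¹ := by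
  rw [eq_inv_iff_mul_eq_one, ← h.z₂_mul, inv_mul_cancel, z₂_one h]

theorem z₂'_inv (p : D.T) : m.z₂' p⁻¹ = (m.z₂' p)⁻¹ := by
  rw [eq_inv_iff_mul_eq_one, ← h.z₂'_mul, inv_mul_cancel, z₂'_one h]

/-- the root groups -/
def Xg : Subgroup Y where
  carrier := Set.range m.x
  mul_mem' := by
    rintro _ _ ⟨a, rfl⟩ ⟨b, rfl⟩
    exact ⟨a + b, h.x_add a b⟩
  one_mem' := ⟨0, x_zero h⟩
  inv_mem' := by
    rintro _ ⟨a, rfl⟩
    exact ⟨-a, x_neg h a⟩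

/-- the root groups -/
def Xg' : Subgroup Y where
  carrier := Set.range m.x'
  mul_mem' := by
    rintro _ _ ⟨a, rfl⟩ ⟨b, rfl⟩
    exact ⟨a + b, h.x'_add a b⟩
  one_mem' := ⟨0, x'_zero h⟩
  inv_mem' := by
    rintro _ ⟨a, rfl⟩
    exact ⟨-a, x'_neg h a⟩

/-- the root groups -/
def Yg : Subgroup Y where
  carrier := Set.range m.y
  mul_mem' := by
    rintro _ _ ⟨a, rfl⟩ ⟨b, rfl⟩
    exact ⟨a + b, h.y_add a b⟩
  one_mem' := ⟨0, y_zero h⟩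
  inv_mem' := by
    rintro _ ⟨a, rfl⟩
    exact ⟨-a, y_neg h a⟩

/-- the root groups -/
def Z₁ : Subgroup Y where
  carrier := Set.range m.z₁
  mul_mem' := by
    rintro _ _ ⟨a, rfl⟩ ⟨b, rfl⟩
    exact ⟨a * b, h.z₁_mul a b⟩
  one_mem' := ⟨1, z₁_one h⟩
  inv_mem' := by
    rintro _ ⟨a, rfl⟩
    exact ⟨a⁻¹, z₁_inv h a⟩

/-- the root groups -/
def Z₂ : Subgroup Y where
  carrier := Set.range m.z₂
  mul_mem' := by
    rintro _ _ ⟨a, rfl⟩ ⟨b, rfl⟩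
    exact ⟨a * b, h.z₂_mul a b⟩
  one_mem' := ⟨1, z₂_one h⟩
  inv_mem' := by
    rintro _ ⟨a, rfl⟩
    exact ⟨a⁻¹, z₂_inv h a⟩

/-- the root groups -/
def Z₂' : Subgroup Y where
  carrier := Set.range m.z₂'
  mul_mem' := by
    rintro _ _ ⟨a, rfl⟩ ⟨b, rfl⟩
    exact ⟨a * b, h.z₂'_mul a b⟩
  one_mem' := ⟨1, z₂'_one h⟩
  inv_mem' := by
    rintro _ ⟨a, rfl⟩
    exact ⟨a⁻¹, z₂'_inv h a⟩

omit h in
theorem nt_one : nt m 1 = m.nI := by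
  simp [nt, nn, B2Maps.nI]

theorem nt_neg (t : F) : nt m (-t) = (nt m t)⁻¹ := by
  simp only [nt, nn, mul_inv_rev]
  rw [inv_neg, neg_neg, x_neg h, ← x'_neg h, neg_neg, mul_assoc]

theorem nII_inv (p : D.T) : (m.nII p)⁻¹ = m.nII p⁻¹ := by
  simp only [B2Maps.nII, mul_inv_rev]
  rw [← z₂'_inv h, ← z₂'_inv h, ← z₂_inv h, ← sc_inv, ← sc_inv, mul_assoc]
  have e1 : -(D.ε * p.c⁻¹) = -(D.σ (p⁻¹).c)⁻¹ := by
    rw [PQDatum.T.inv_c, map_mul, D.σσ, D.σε, mul_inv, inv_inv]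
  have e2 : -(D.σ p.c)⁻¹ = -(D.ε * (p⁻¹).c⁻¹) := by
    rw [PQDatum.T.inv_c, mul_inv, ← mul_assoc, mul_inv_cancel₀ D.ε_ne, one_mul]
  rw [← e1, ← e2]

omit h in
theorem inv_c_ne {p : D.T} (hp : p.c ≠ 0) : (p⁻¹).c ≠ 0 := by
  rw [PQDatum.T.inv_c]
  exact mul_ne_zero D.ε_ne (by simpa using hp)

/-- conjugation of `n_I(t)` by the type II torus -/
theorem hII_nt {p q : D.T} (hp : p.c ≠ 0) (hq : q.c ≠ 0) (t : F) :
    (m.nII p * (m.nII q)⁻¹) * nt m t * (m.nII p * (m.nII q)⁻¹)⁻¹ = nt m (p.c⁻¹ * q.c * t) := by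
  -- action on `x`
  have hx : ∀ a, (m.nII p * (m.nII q)⁻¹) * m.x a * (m.nII p * (m.nII q)⁻¹)⁻¹ = m.x (p.c⁻¹ * q.c * a) := by
    intro a
    have h1 := h.nII_y q hq (q.c * a)
    rw [← mul_assoc, inv_mul_cancel₀ hq, one_mul] at h1
    have h2 := h.nII_y p hp (q.c * a)
    rw [← mul_assoc] at h2
    rw [← h1, ← h2]
    group
  have hx' : ∀ a, (m.nII p * (m.nII q)⁻¹) * m.x' a * (m.nII p * (m.nII q)⁻¹)⁻¹ = m.x' (p.c * q.c⁻¹ * a) := by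
    intro a
    have h1 := h.nII_y' q hq (-(D.ε⁻¹ * (D.σ q.c)⁻¹ * D.σ a))
    have h2 := h.nII_y' p hp (-(D.ε⁻¹ * (D.σ q.c)⁻¹ * D.σ a))
    have e : D.σ (-(D.ε⁻¹ * (D.σ q.c)⁻¹ * D.σ a)) = -(D.ε * q.c⁻¹ * a) := by
      rw [map_neg, map_mul, map_mul, D.σσ, D.σε', map_inv₀, D.σσ]
    rw [e] at h1 h2
    have e1 : -(D.ε⁻¹ * q.c * -(D.ε * q.c⁻¹ * a)) = a := by
      have := D.ε_ne
      field_simp
    have e2 : -(D.ε⁻¹ * p.c * -(D.ε * q.c⁻¹ * a)) = p.c * q.c⁻¹ * a := by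
      have := D.ε_ne
      field_simp
    rw [e1] at h1
    rw [e2] at h2
    rw [← h2, ← h1]
    group
  simp only [nt, nn]
  set g := m.nII p * (m.nII q)⁻¹ with hg
  have e3 : g * (m.x t * m.x' (-t⁻¹) * m.x t) * g⁻¹ =
      (g * m.x t * g⁻¹) * (g * m.x' (-t⁻¹) * g⁻¹) * (g * m.x t * g⁻¹) := by group
  rw [e3, hx, hx']
  have e4 : p.c * q.c⁻¹ * -t⁻¹ = -(p.c⁻¹ * q.c * t)⁻¹ := by
    rw [mul_inv, mul_inv, inv_inv]
    ring
  rw [e4]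

variable (hn : NIRel m)
include hn

/-- conjugation of `n_II(p)` by the type I torus -/
theorem hI_nII {s t : F} (hs : s ≠ 0) (ht : t ≠ 0) (p : D.T) :
    (nt m s * (nt m t)⁻¹) * m.nII p * (nt m s * (nt m t)⁻¹)⁻¹ = m.nII (D.sc (s⁻¹ * t) p) := by
  have ht' : -t ≠ 0 := neg_ne_zero.2 ht
  have hz : ∀ q, (nt m s * (nt m t)⁻¹) * m.z₂ q * (nt m s * (nt m t)⁻¹)⁻¹ = m.z₂ (D.sc (s⁻¹ * t) q) := by
    intro q
    rw [← nt_neg h]
    have h1 := hn.z₂ (-t) ht' q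
    have h2 := hn.z₁ s hs (D.sc (-t) q)
    rw [sc_sc] at h2
    rw [show s⁻¹ * t = -s⁻¹ * -t by ring, ← h2, ← h1]
    group
  have hz' : ∀ q, (nt m s * (nt m t)⁻¹) * m.z₂' q * (nt m s * (nt m t)⁻¹)⁻¹ = m.z₂' (D.sc (D.σ (s * t⁻¹)) q) := by
    intro q
    rw [← nt_neg h]
    have h1 := hn.z₂' (-t) ht' q
    have h2 := hn.z₁' s hs (D.sc (D.σ (-t))⁻¹ q)
    rw [sc_sc] at h2
    rw [show D.σ (s * t⁻¹) = -D.σ s * (D.σ (-t))⁻¹ by
      rw [map_mul, map_neg, inv_neg, map_inv₀]; ring, ← h2, ← h1]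
    group
  simp only [B2Maps.nII]
  set g := nt m s * (nt m t)⁻¹ with hg
  have e3 : ∀ a b c : Y, g * (a * b * c) * g⁻¹ = (g * a * g⁻¹) * (g * b * g⁻¹) * (g * c * g⁻¹) := by
    intro a b c
    group
  rw [e3, hz, hz', hz', sc_sc, sc_sc, sc_sc, sc_sc]
  have hσs : D.σ s ≠ 0 := by simpa using hs
  have hσt : D.σ t ≠ 0 := by simpa using ht
  by_cases hp : p.c = 0
  · have e5 : D.σ (s * t⁻¹) * -(D.σ p.c)⁻¹ = -(D.σ (D.sc (s⁻¹ * t) p).c)⁻¹ * (s⁻¹ * t) := by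
      simp [hp]
    have e6 : D.σ (s * t⁻¹) * -(D.ε * p.c⁻¹) = -(D.ε * (D.sc (s⁻¹ * t) p).c⁻¹) * (s⁻¹ * t) := by
      simp [hp]
    rw [e5, e6]
  · have hσp : D.σ p.c ≠ 0 := by simpa using hp
    have e5 : D.σ (s * t⁻¹) * -(D.σ p.c)⁻¹ = -(D.σ (D.sc (s⁻¹ * t) p).c)⁻¹ * (s⁻¹ * t) := by
      rw [PQDatum.sc_c]
      simp only [map_mul, map_inv₀, D.σσ]
      field_simp
    have e6 : D.σ (s * t⁻¹) * -(D.ε * p.c⁻¹) = -(D.ε * (D.sc (s⁻¹ * t) p).c⁻¹) * (s⁻¹ * t) := by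
      rw [PQDatum.sc_c]
      simp only [map_mul, map_inv₀]
      field_simp
    rw [e5, e6]

end

/-- generators of the torus -/
def hgen (m : B2Maps D Y) : Set Y :=
  {g | ∃ s t, s ≠ 0 ∧ t ≠ 0 ∧ g = nt m s * (nt m t)⁻¹} ∪
    {g | ∃ p q : D.T, p.c ≠ 0 ∧ q.c ≠ 0 ∧ g = m.nII p * (m.nII q)⁻¹}

/-- the torus -/
def Hg (m : B2Maps D Y) : Subgroup Y := Subgroup.closure (hgen m)

theorem hI_mem {s t : F} (hs : s ≠ 0) (ht : t ≠ 0) : nt m s * (nt m t)⁻¹ ∈ Hg m :=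
  Subgroup.subset_closure (Or.inl ⟨s, t, hs, ht, rfl⟩)

theorem hII_mem {p q : D.T} (hp : p.c ≠ 0) (hq : q.c ≠ 0) : m.nII p * (m.nII q)⁻¹ ∈ Hg m :=
  Subgroup.subset_closure (Or.inr ⟨p, q, hp, hq, rfl⟩)

/-- to show that `H` normalises a set into a subgroup -/
theorem conj_H {P : Subgroup Y}
    (h1 : ∀ s t, s ≠ 0 → t ≠ 0 → ∀ x ∈ P, (nt m s * (nt m t)⁻¹) * x * (nt m s * (nt m t)⁻¹)⁻¹ ∈ P)
    (h2 : ∀ p q : D.T, p.c ≠ 0 → q.c ≠ 0 → ∀ x ∈ P,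
      (m.nII p * (m.nII q)⁻¹) * x * (m.nII p * (m.nII q)⁻¹)⁻¹ ∈ P) :
    ∀ g ∈ Hg m, ∀ x ∈ P, g * x * g⁻¹ ∈ P := by
  intro g hg
  refine Subgroup.closure_induction (p := fun g _ => ∀ x ∈ P, g * x * g⁻¹ ∈ P) ?_ ?_ ?_ ?_ hg
  · rintro g (⟨s, t, hs, ht, rfl⟩ | ⟨p, q, hp, hq, rfl⟩)
    · exact h1 s t hs ht
    · exact h2 p q hp hq
  · intro x hx
    simpa using hx
  · intro a b _ _ ha hb x hx
    have := ha _ (hb x hx)
    have e : a * (b * x * b⁻¹) * a⁻¹ = a * b * x * (a * b)⁻¹ := by group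
    rwa [e] at this
  · -- inverses: the inverse of a generator is a generator, so use induction over the inverse closure
    intro a ha _ x hx
    have hinv : ∀ g ∈ Subgroup.closure (hgen m), ∀ x ∈ P, g⁻¹ * x * g ∈ P := by
      intro g hg
      refine Subgroup.closure_induction_right (p := fun g _ => ∀ x ∈ P, g⁻¹ * x * g ∈ P) ?_ ?_ ?_ hg
      · intro x hx
        simpa using hx
      · intro a _ b hb ha x hx
        have e : (a * b)⁻¹ * x * (a * b) = b⁻¹ * (a⁻¹ * x * a) * b := by group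
        rw [e]
        have hx' := ha x hx
        rcases hb with ⟨s, t, hs, ht, rfl⟩ | ⟨p, q, hp, hq, rfl⟩
        · have := h1 t s ht hs _ hx'
          have e2 : (nt m s * (nt m t)⁻¹)⁻¹ = nt m t * (nt m s)⁻¹ := by group
          rw [e2]
          have e3 : nt m s * (nt m t)⁻¹ = (nt m t * (nt m s)⁻¹)⁻¹ := by group
          rw [e3]
          exact this
        · have := h2 q p hq hp _ hx'
          have e2 : (m.nII p * (m.nII q)⁻¹)⁻¹ = m.nII q * (m.nII p)⁻¹ := by group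
          rw [e2]
          have e3 : m.nII p * (m.nII q)⁻¹ = (m.nII q * (m.nII p)⁻¹)⁻¹ := by group
          rw [e3]
          exact this
      · intro a _ b hb ha x hx
        have e : (a * b⁻¹)⁻¹ * x * (a * b⁻¹) = b * (a⁻¹ * x * a) * b⁻¹ := by group
        rw [e]
        have hx' := ha x hx
        rcases hb with ⟨s, t, hs, ht, rfl⟩ | ⟨p, q, hp, hq, rfl⟩
        · exact h1 s t hs ht _ hx'
        · exact h2 p q hp hq _ hx'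
    have := hinv a ha x hx
    rwa [inv_inv]

section

variable (h : B2Rel m) (hn : NIRel m)
include h hn

theorem nt_X {t : F} (ht : t ≠ 0) {x : Y} (hx : x ∈ Xg h) : nt m t * x * (nt m t)⁻¹ ∈ Xg' h := by
  obtain ⟨a, rfl⟩ := hx
  obtain ⟨a', e⟩ := hn.x t ht a
  exact ⟨a', e.symm⟩

theorem nt_X' {t : F} (ht : t ≠ 0) {x : Y} (hx : x ∈ Xg' h) : nt m t * x * (nt m t)⁻¹ ∈ Xg h := by
  obtain ⟨a, rfl⟩ := hx
  obtain ⟨a', e⟩ := hn.x' t ht a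
  exact ⟨a', e.symm⟩

theorem nt_Y {t : F} (ht : t ≠ 0) {x : Y} (hx : x ∈ Yg h) : nt m t * x * (nt m t)⁻¹ ∈ Yg h := by
  obtain ⟨a, rfl⟩ := hx
  obtain ⟨a', e⟩ := hn.y t ht a
  exact ⟨a', e.symm⟩

theorem nt_Z₁ {t : F} (ht : t ≠ 0) {x : Y} (hx : x ∈ Z₁ h) : nt m t * x * (nt m t)⁻¹ ∈ Z₂ h := by
  obtain ⟨a, rfl⟩ := hx
  exact ⟨_, (hn.z₁ t ht a).symm⟩

theorem nt_Z₂ {t : F} (ht : t ≠ 0) {x : Y} (hx : x ∈ Z₂ h) : nt m t * x * (nt m t)⁻¹ ∈ Z₁ h := by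
  obtain ⟨a, rfl⟩ := hx
  exact ⟨_, (hn.z₂ t ht a).symm⟩

omit hn in
theorem nII_X {p : D.T} (hp : p.c ≠ 0) {x : Y} (hx : x ∈ Xg h) : m.nII p * x * (m.nII p)⁻¹ ∈ Yg h := by
  obtain ⟨a, rfl⟩ := hx
  exact ⟨_, (h.nII_x p hp a).symm⟩

omit hn in
theorem nII_Y {p : D.T} (hp : p.c ≠ 0) {x : Y} (hx : x ∈ Yg h) : m.nII p * x * (m.nII p)⁻¹ ∈ Xg h := by
  obtain ⟨a, rfl⟩ := hx
  exact ⟨_, (h.nII_y p hp a).symm⟩

omit hn in
theorem nII_Z₁ {p : D.T} (hp : p.c ≠ 0) {x : Y} (hx : x ∈ Z₁ h) : m.nII p * x * (m.nII p)⁻¹ ∈ Z₁ h := by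
  obtain ⟨a, rfl⟩ := hx
  exact ⟨_, (h.nII_z₁ p hp a).symm⟩

omit hn in
theorem nII_Z₂ {p : D.T} (hp : p.c ≠ 0) {x : Y} (hx : x ∈ Z₂ h) : m.nII p * x * (m.nII p)⁻¹ ∈ Z₂' h := by
  obtain ⟨a, rfl⟩ := hx
  exact ⟨_, (h.nII_z₂ p hp a).symm⟩

omit hn in
theorem nII_Z₂' {p : D.T} (hp : p.c ≠ 0) {x : Y} (hx : x ∈ Z₂' h) : m.nII p * x * (m.nII p)⁻¹ ∈ Z₂ h := by
  obtain ⟨a, rfl⟩ := hx
  exact ⟨_, (h.nII_z₂' p hp a).symm⟩

omit h hn in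
theorem two_step {P Q : Subgroup Y} {a b : Y} (hb : ∀ x ∈ P, b * x * b⁻¹ ∈ Q) (ha : ∀ x ∈ Q, a * x * a⁻¹ ∈ P) :
    ∀ x ∈ P, (a * b) * x * (a * b)⁻¹ ∈ P := by
  intro x hx
  have := ha _ (hb x hx)
  have e : a * (b * x * b⁻¹) * a⁻¹ = (a * b) * x * (a * b)⁻¹ := by group
  rwa [e] at this

theorem H_X : ∀ g ∈ Hg m, ∀ x ∈ Xg h, g * x * g⁻¹ ∈ Xg h := by
  apply conj_H
  · intro s t hs ht
    rw [← nt_neg h]
    exact two_step (fun x hx => nt_X h hn (neg_ne_zero.2 ht) hx) (fun x hx => nt_X' h hn hs hx)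
  · intro p q hp hq
    rw [nII_inv h]
    exact two_step (fun x hx => nII_X h (inv_c_ne hq) hx) (fun x hx => nII_Y h hp hx)

theorem H_Y : ∀ g ∈ Hg m, ∀ x ∈ Yg h, g * x * g⁻¹ ∈ Yg h := by
  apply conj_H
  · intro s t hs ht
    rw [← nt_neg h]
    exact two_step (fun x hx => nt_Y h hn (neg_ne_zero.2 ht) hx) (fun x hx => nt_Y h hn hs hx)
  · intro p q hp hq
    rw [nII_inv h]
    exact two_step (fun x hx => nII_Y h (inv_c_ne hq) hx) (fun x hx => nII_X h hp hx)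

theorem H_Z₁ : ∀ g ∈ Hg m, ∀ x ∈ Z₁ h, g * x * g⁻¹ ∈ Z₁ h := by
  apply conj_H
  · intro s t hs ht
    rw [← nt_neg h]
    exact two_step (fun x hx => nt_Z₁ h hn (neg_ne_zero.2 ht) hx) (fun x hx => nt_Z₂ h hn hs hx)
  · intro p q hp hq
    rw [nII_inv h]
    exact two_step (fun x hx => nII_Z₁ h (inv_c_ne hq) hx) (fun x hx => nII_Z₁ h hp hx)

theorem H_Z₂ : ∀ g ∈ Hg m, ∀ x ∈ Z₂ h, g * x * g⁻¹ ∈ Z₂ h := by
  apply conj_H
  · intro s t hs ht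
    rw [← nt_neg h]
    exact two_step (fun x hx => nt_Z₂ h hn (neg_ne_zero.2 ht) hx) (fun x hx => nt_Z₁ h hn hs hx)
  · intro p q hp hq
    rw [nII_inv h]
    exact two_step (fun x hx => nII_Z₂ h (inv_c_ne hq) hx) (fun x hx => nII_Z₂' h hp hx)

omit hn in
/-- `n_I(s) n_I(t) ∈ H` -/
theorem nt_mul_mem {s t : F} (hs : s ≠ 0) (ht : t ≠ 0) : nt m s * nt m t ∈ Hg m := by
  have := hI_mem (m := m) hs (neg_ne_zero.2 ht)
  rwa [nt_neg h, inv_inv] at this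

omit hn in
theorem nt_inv_mul_mem {s t : F} (hs : s ≠ 0) (ht : t ≠ 0) : (nt m s)⁻¹ * nt m t ∈ Hg m := by
  rw [← nt_neg h]
  exact nt_mul_mem h (neg_ne_zero.2 hs) ht

omit hn in
theorem nII_mul_mem {p q : D.T} (hp : p.c ≠ 0) (hq : q.c ≠ 0) : m.nII p * m.nII q ∈ Hg m := by
  have := hII_mem (m := m) hp (inv_c_ne hq)
  rwa [← nII_inv h, inv_inv] at this

omit hn in
theorem nII_inv_mul_mem {p q : D.T} (hp : p.c ≠ 0) (hq : q.c ≠ 0) : (m.nII p)⁻¹ * m.nII q ∈ Hg m := by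
  rw [nII_inv h]
  exact nII_mul_mem h (inv_c_ne hp) hq

omit hn in
/-- `H` is normalised by `n_I(1)` -/
theorem nI_H : ∀ g ∈ Hg m, nt m 1 * g * (nt m 1)⁻¹ ∈ Hg m := by
  intro g hg
  have key : Hg m ≤ (Hg m).comap (MulAut.conj (nt m 1)).toMonoidHom := by
    rw [Hg, Subgroup.closure_le]
    rintro g (⟨s, t, hs, ht, rfl⟩ | ⟨p, q, hp, hq, rfl⟩)
    · show nt m 1 * (nt m s * (nt m t)⁻¹) * (nt m 1)⁻¹ ∈ Hg m
      have e : nt m 1 * (nt m s * (nt m t)⁻¹) * (nt m 1)⁻¹ = (nt m 1 * nt m s) * (nt m 1 * nt m t)⁻¹ := by group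
      rw [e]
      exact mul_mem (nt_mul_mem h one_ne_zero hs) (inv_mem (nt_mul_mem h one_ne_zero ht))
    · show nt m 1 * (m.nII p * (m.nII q)⁻¹) * (nt m 1)⁻¹ ∈ Hg m
      have e : nt m 1 * (m.nII p * (m.nII q)⁻¹) * (nt m 1)⁻¹ =
        (nt m 1 * ((m.nII p * (m.nII q)⁻¹) * nt m 1 * (m.nII p * (m.nII q)⁻¹)⁻¹)⁻¹) * (m.nII p * (m.nII q)⁻¹) := by
        group
      rw [e, hII_nt h hp hq]
      exact mul_mem (hI_mem one_ne_zero (mul_ne_zero (mul_ne_zero (inv_ne_zero hp) hq) one_ne_zero)) (hII_mem hp hq)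
  exact key hg

/-- `H` is normalised by `n_II(p₀)` -/
theorem nII_H {r : D.T} (hr : r.c ≠ 0) : ∀ g ∈ Hg m, m.nII r * g * (m.nII r)⁻¹ ∈ Hg m := by
  intro g hg
  have key : Hg m ≤ (Hg m).comap (MulAut.conj (m.nII r)).toMonoidHom := by
    rw [Hg, Subgroup.closure_le]
    rintro g (⟨s, t, hs, ht, rfl⟩ | ⟨p, q, hp, hq, rfl⟩)
    · show m.nII r * (nt m s * (nt m t)⁻¹) * (m.nII r)⁻¹ ∈ Hg m
      have e : m.nII r * (nt m s * (nt m t)⁻¹) * (m.nII r)⁻¹ =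
        (m.nII r * ((nt m s * (nt m t)⁻¹) * m.nII r * (nt m s * (nt m t)⁻¹)⁻¹)⁻¹) * (nt m s * (nt m t)⁻¹) := by
        group
      rw [e, hI_nII h hn hs ht]
      refine mul_mem (hII_mem hr ?_) (hI_mem hs ht)
      rw [PQDatum.sc_c]
      have h1 : s⁻¹ * t ≠ 0 := mul_ne_zero (inv_ne_zero hs) ht
      exact mul_ne_zero (mul_ne_zero h1 (by simpa using h1)) hr
    · show m.nII r * (m.nII p * (m.nII q)⁻¹) * (m.nII r)⁻¹ ∈ Hg m
      have e : m.nII r * (m.nII p * (m.nII q)⁻¹) * (m.nII r)⁻¹ = (m.nII r * m.nII p) * (m.nII r * m.nII q)⁻¹ := by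
        group
      rw [e]
      exact mul_mem (nII_mul_mem h hr hp) (inv_mem (nII_mul_mem h hr hq))
  exact key hg

omit hn in
/-- the braid relation -/
theorem braid {r : D.T} (hr : r.c ≠ 0) :
    nt m 1 * (m.nII r * (nt m 1 * m.nII r)) = m.nII r * (nt m 1 * (m.nII r * nt m 1)) := by
  have hx : ∀ a, (m.nII r * m.nI * m.nII r) * m.x a * (m.nII r * m.nI * m.nII r)⁻¹ = m.x (D.σ a) := by
    intro a
    have h1 := h.nII_x r hr a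
    have h2 := h.nI_y (D.ε * D.σ r.c * a)
    have h3 := h.nII_y r hr (D.ε * D.σ (D.ε * D.σ r.c * a))
    have e : r.c⁻¹ * (D.ε * D.σ (D.ε * D.σ r.c * a)) = D.σ a := by
      rw [map_mul, map_mul, D.σσ, D.σε]
      have := D.ε_ne
      field_simp
    rw [e] at h3
    rw [← h3, ← h2, ← h1]
    group
  have hx' : ∀ a, (m.nII r * m.nI * m.nII r) * m.x' a * (m.nII r * m.nI * m.nII r)⁻¹ = m.x' (D.σ a) := by
    intro a
    have h1 := h.nII_x' r hr a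
    have h2 := h.nI_y' (-(r.c⁻¹ * D.σ a))
    have h3 := h.nII_y' r hr (D.ε⁻¹ * D.σ (-(r.c⁻¹ * D.σ a)))
    have e : -(D.ε⁻¹ * r.c * D.σ (D.ε⁻¹ * D.σ (-(r.c⁻¹ * D.σ a)))) = D.σ a := by
      rw [map_mul, D.σσ, D.σε']
      have := D.ε_ne
      field_simp
    rw [e] at h3
    rw [← h3, ← h2, ← h1]
    group
  have key : (m.nII r * m.nI * m.nII r) * m.nI * (m.nII r * m.nI * m.nII r)⁻¹ = m.nI := by
    set g := m.nII r * m.nI * m.nII r with hg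
    have e3 : g * m.nI * g⁻¹ = (g * m.x 1 * g⁻¹) * (g * m.x' (-1) * g⁻¹) * (g * m.x 1 * g⁻¹) := by
      simp only [B2Maps.nI]
      group
    rw [e3, hx, hx', map_one, map_neg, map_one]
    rfl
  rw [nt_one]
  have key2 : (m.nII r * m.nI * m.nII r) * m.nI = m.nI * (m.nII r * m.nI * m.nII r) := by
    rw [mul_inv_eq_iff_eq_mul] at key
    exact key
  calc m.nI * (m.nII r * (m.nI * m.nII r)) = m.nI * (m.nII r * m.nI * m.nII r) := by group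
    _ = (m.nII r * m.nI * m.nII r) * m.nI := key2.symm
    _ = m.nII r * (m.nI * (m.nII r * m.nI)) := by group

omit hn in
theorem rank_I (a : F) : m.x' a = m.x a⁻¹ * nt m (-a⁻¹) * m.x a⁻¹ := by
  simp only [nt, nn]
  rw [inv_neg, neg_neg, inv_inv, x_neg h]
  group

omit hn h in
theorem rank_II (p : D.T) :
    m.z₂ p = (m.z₂' (D.sc (-(D.σ p.c)⁻¹) p))⁻¹ * m.nII p * (m.z₂' (D.sc (-(D.ε * p.c⁻¹)) p))⁻¹ := by
  simp only [B2Maps.nII]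
  group

omit hn in
/-- a negative type II root element -/
theorem rank_II' {r : D.T} (hr : r.c ≠ 0) {q : D.T} (hq : m.z₂' q ≠ 1) :
    ∃ x ∈ Z₂ h, ∃ k ∈ Hg m, ∃ y ∈ Z₂ h, m.z₂' q = x * m.nII r * k * y := by
  -- `z₂' q = n z₂(p) n⁻¹` with `n = n_II(r)`
  have h1 : (m.nII r)⁻¹ * m.z₂' q * m.nII r ∈ Z₂ h := by
    have := nII_Z₂' h (inv_c_ne hr) (x := m.z₂' q) ⟨q, rfl⟩
    rwa [← nII_inv h, inv_inv] at this
  obtain ⟨p, hp⟩ := h1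
  have hpc : p.c ≠ 0 := by
    intro h0
    rw [PQDatum.T.c_eq_zero_iff] at h0
    rw [h0, z₂_one h] at hp
    apply hq
    have : m.z₂' q = m.nII r * ((m.nII r)⁻¹ * m.z₂' q * m.nII r) * (m.nII r)⁻¹ := by group
    rw [this, ← hp]
    group
  have h2 : m.z₂' q = m.nII r * m.z₂ p * (m.nII r)⁻¹ := by
    rw [hp]
    group
  refine ⟨m.nII r * (m.z₂' (D.sc (-(D.σ p.c)⁻¹) p))⁻¹ * (m.nII r)⁻¹, ?_, m.nII p * (m.nII r)⁻¹, hII_mem hpc hr,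
    m.nII r * (m.z₂' (D.sc (-(D.ε * p.c⁻¹)) p))⁻¹ * (m.nII r)⁻¹, ?_, ?_⟩
  · exact nII_Z₂' h hr (inv_mem ⟨_, rfl⟩)
  · exact nII_Z₂' h hr (inv_mem ⟨_, rfl⟩)
  · rw [h2]
    conv_lhs => rw [rank_II p]
    group

/-- the positive root groups in the natural order -/
def XX : ℕ → Subgroup Y
  | 1 => Xg h
  | 2 => Z₁ h
  | 3 => Yg h
  | _ => Z₂ h

omit hn in
theorem mem_between {k l r : ℕ} (hk : k < r) (hl : r < l) {x : Y} (hx : x ∈ XX h r) :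
    x ∈ ⨆ r ∈ Set.Ioo k l, XX h r :=
  (le_iSup₂_of_le (f := fun r (_ : r ∈ Set.Ioo k l) => XX h r) r ⟨hk, hl⟩ le_rfl) hx

/-- **The root datum of rank two.** -/
def r2 (r : D.T) (hr : r.c ≠ 0) : R2 4 Y where
  X := XX h
  XI' := Xg' h
  XJ' := Z₂' h
  H := Hg m
  nI := nt m 1
  nJ := m.nII r
  one_le := by norm_num
  comm := by
    intro k l hk hkl hl x hx y hy
    have hk' : k = 1 ∨ k = 2 ∨ k = 3 := by omega
    have hl' : l = 2 ∨ l = 3 ∨ l = 4 := by omega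
    rcases hk' with rfl | rfl | rfl <;> rcases hl' with rfl | rfl | rfl <;> try omega
    · obtain ⟨a, rfl⟩ := hx
      obtain ⟨b, rfl⟩ := hy
      rw [(h.x_z₁ a b).commutator_eq]
      exact one_mem _
    · obtain ⟨a, rfl⟩ := hx
      obtain ⟨b, rfl⟩ := hy
      rw [h.x_y a b]
      exact mem_between h (r := 2) (by norm_num) (by norm_num) ⟨_, rfl⟩
    · obtain ⟨a, rfl⟩ := hx
      obtain ⟨b, rfl⟩ := hy
      rw [h.x_z₂ a b]
      exact mul_mem (mem_between h (r := 2) (by norm_num) (by norm_num) ⟨_, rfl⟩)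
        (mem_between h (r := 3) (by norm_num) (by norm_num) ⟨_, rfl⟩)
    · obtain ⟨a, rfl⟩ := hx
      obtain ⟨b, rfl⟩ := hy
      rw [((h.y_z₁ b a).symm).commutator_eq]
      exact one_mem _
    · obtain ⟨a, rfl⟩ := hx
      obtain ⟨b, rfl⟩ := hy
      rw [h.z₁_z₂ a b]
      exact mem_between h (r := 3) (by norm_num) (by norm_num) ⟨_, rfl⟩
    · obtain ⟨a, rfl⟩ := hx
      obtain ⟨b, rfl⟩ := hy
      rw [(h.y_z₂ a b).commutator_eq]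
      exact one_mem _
  HX := by
    intro g hg k h1 h2 x hx
    have hk' : k = 1 ∨ k = 2 ∨ k = 3 ∨ k = 4 := by omega
    rcases hk' with rfl | rfl | rfl | rfl
    · exact H_X h hn g hg x hx
    · exact H_Z₁ h hn g hg x hx
    · exact H_Y h hn g hg x hx
    · exact H_Z₂ h hn g hg x hx
  nI_X := by
    intro k h1 h2 x hx
    have hk' : k = 2 ∨ k = 3 ∨ k = 4 := by omega
    rcases hk' with rfl | rfl | rfl
    · exact nt_Z₁ h hn one_ne_zero hx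
    · exact nt_Y h hn one_ne_zero hx
    · exact nt_Z₂ h hn one_ne_zero hx
  nJ_X := by
    intro k h1 h2 x hx
    have hk' : k = 1 ∨ k = 2 ∨ k = 3 := by omega
    rcases hk' with rfl | rfl | rfl
    · exact nII_X h hr hx
    · exact nII_Z₁ h hr hx
    · exact nII_Y h hr hx
  nI_pos := fun x hx => nt_X h hn one_ne_zero hx
  nI_neg := fun x hx => nt_X' h hn one_ne_zero hx
  nJ_pos := fun x hx => nII_Z₂ h hr hx
  nJ_neg := fun x hx => nII_Z₂' h hr hx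
  nI_sq := nt_mul_mem h one_ne_zero one_ne_zero
  nJ_sq := nII_mul_mem h hr hr
  nI_H := nI_H h
  nJ_H := nII_H h hn hr
  rank_oneI := by
    rintro _ ⟨a, rfl⟩ ha
    have ha0 : a ≠ 0 := by
      rintro rfl
      exact ha (x'_zero h)
    have ha1 : -a⁻¹ ≠ 0 := neg_ne_zero.2 (inv_ne_zero ha0)
    refine ⟨m.x a⁻¹, ⟨_, rfl⟩, (nt m 1)⁻¹ * nt m (-a⁻¹), nt_inv_mul_mem h one_ne_zero ha1, m.x a⁻¹, ⟨_, rfl⟩, ?_⟩
    rw [rank_I h a]
    group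
  rank_oneJ := by
    rintro _ ⟨q, rfl⟩ hq
    exact rank_II' h hr hq
  memI := by
    have h1 : Xg h ≤ Xg h ⊔ Xg' h := le_sup_left
    have h2 : Xg' h ≤ Xg h ⊔ Xg' h := le_sup_right
    exact mul_mem (mul_mem (h1 ⟨_, rfl⟩) (h2 ⟨_, rfl⟩)) (h1 ⟨_, rfl⟩)
  memJ := by
    have h1 : Z₂ h ≤ Z₂ h ⊔ Z₂' h := le_sup_left
    have h2 : Z₂' h ≤ Z₂ h ⊔ Z₂' h := le_sup_right
    exact mul_mem (mul_mem (h2 ⟨_, rfl⟩) (h1 ⟨_, rfl⟩)) (h2 ⟨_, rfl⟩)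
  braid := by
    refine ⟨1, one_mem _, ?_⟩
    rw [mul_one]
    simp only [alt_succ, alt_zero, mul_one]
    exact braid h hr

/-- the set of generators of the stabiliser -/
def stabSet (m : B2Maps D Y) : Set Y :=
  {g | (∃ a, g = m.x a) ∨ (∃ p, g = m.z₂ p) ∨ (∃ b, g = m.y b)} ∪ hgen m

omit h hn in
theorem z₁_mem {S : Subgroup Y} (h : B2Rel m) (hx : ∀ a, m.x a ∈ S) (hz : ∀ p, m.z₂ p ∈ S) (hy : ∀ b, m.y b ∈ S)
    (p : D.T) : m.z₁ p ∈ S := by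
  have h1 := h.x_z₂ 1 p
  rw [sc_one] at h1
  have h2 : m.z₁ p = ⁅m.x 1, m.z₂ p⁆ * (m.y (-(D.ε * 1 * D.σ p.c)))⁻¹ := by
    rw [h1]
    group
  rw [h2]
  refine mul_mem ?_ (inv_mem (hy _))
  rw [commutatorElement_def]
  exact mul_mem (mul_mem (mul_mem (hx _) (hz _)) (inv_mem (hx _))) (inv_mem (hz _))

theorem U_le {S : Subgroup Y} (r : D.T) (hr : r.c ≠ 0) (hx : ∀ a, m.x a ∈ S) (hz : ∀ p, m.z₂ p ∈ S)
    (hy : ∀ b, m.y b ∈ S) : (r2 h hn r hr).U ≤ S := by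
  refine iSup₂_le fun k hk => ?_
  obtain ⟨h1, h2⟩ := hk
  have hk' : k = 1 ∨ k = 2 ∨ k = 3 ∨ k = 4 := by omega
  rcases hk' with rfl | rfl | rfl | rfl
  · rintro _ ⟨a, rfl⟩
    exact hx a
  · rintro _ ⟨a, rfl⟩
    exact z₁_mem h hx hz hy a
  · rintro _ ⟨a, rfl⟩
    exact hy a
  · rintro _ ⟨a, rfl⟩
    exact hz a

/-- **Layer 1 for the `B₂` package**: the stabiliser of the base chamber is generated by the positive root elements and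
the tori. -/
theorem b2_stab (S : Subgroup Y)
    (hS : S ≤ Subgroup.closure {g | (∃ a, g = m.x a ∨ g = m.x' a) ∨ ∃ p, g = m.z₂ p ∨ g = m.z₂' p})
    (hx : ∀ a, m.x a ∈ S) (hz : ∀ p, m.z₂ p ∈ S) (hy : ∀ b, m.y b ∈ S)
    (hH1 : ∀ s t, s ≠ 0 → t ≠ 0 → nn m.x m.x' s * (nn m.x m.x' t)⁻¹ ∈ S)
    (hH2 : ∀ p q : D.T, p.c ≠ 0 → q.c ≠ 0 → m.nII p * (m.nII q)⁻¹ ∈ S)
    (hI : nn m.x m.x' 1 ∉ S) (hJ : ∀ p : D.T, p.c ≠ 0 → m.nII p ∉ S) (ex : ∃ p : D.T, p.c ≠ 0) :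
    S ≤ Subgroup.closure (stabSet m) := by
  obtain ⟨r, hr⟩ := ex
  have hHS : Hg m ≤ S := by
    rw [Hg, Subgroup.closure_le]
    rintro g (⟨s, t, hs, ht, rfl⟩ | ⟨p, q, hp, hq, rfl⟩)
    · exact hH1 s t hs ht
    · exact hH2 p q hp hq
  have hD : (r2 h hn r hr).U ⊔ (r2 h hn r hr).H ≤ S := sup_le (U_le h hn r hr hx hz hy) hHS
  have hG : S ≤ (r2 h hn r hr).U ⊔ (r2 h hn r hr).H ⊔ ((r2 h hn r hr).XI' ⊔ (r2 h hn r hr).XJ') := by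
    refine hS.trans ((Subgroup.closure_le _).2 ?_)
    rintro g (⟨a, rfl | rfl⟩ | ⟨p, rfl | rfl⟩)
    · exact (le_trans (le_trans ((r2 h hn r hr).X_le (k := 1) le_rfl (by norm_num)) le_sup_left) le_sup_left :
        (r2 h hn r hr).X 1 ≤ _) ⟨a, rfl⟩
    · exact (le_trans le_sup_left le_sup_right : (r2 h hn r hr).XI' ≤ _) ⟨a, rfl⟩
    · exact (le_trans (le_trans ((r2 h hn r hr).X_le (k := 4) (by norm_num) le_rfl) le_sup_left) le_sup_left :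
        (r2 h hn r hr).X 4 ≤ _) ⟨p, rfl⟩
    · exact (le_trans le_sup_right le_sup_right : (r2 h hn r hr).XJ' ≤ _) ⟨p, rfl⟩
  rw [(r2 h hn r hr).eq_D hG hD hI (hJ r hr)]
  refine sup_le ?_ ?_
  · exact U_le h hn r hr (fun a => Subgroup.subset_closure (Or.inl (Or.inl ⟨a, rfl⟩)))
      (fun p => Subgroup.subset_closure (Or.inl (Or.inr (Or.inl ⟨p, rfl⟩))))
      (fun b => Subgroup.subset_closure (Or.inl (Or.inr (Or.inr ⟨b, rfl⟩))))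
  · exact Subgroup.closure_mono (fun g hg => Or.inr hg)

end

end Cfsg.Agent.TitsThree.CoreB2
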