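import Cfsg.Agent.TitsThree.AssembleEdge
import Cfsg.Agent.TitsThree.CoreB2

/-!
# GU assembly: the double bond (S1143)

`nt_smul`, `nII_smul`: the elements `n_I(t)`, `n_II(p)` of `A × K` move `c` to the neighbours in the
apartment.  `stab`: the stabiliser of `c` in the rank two subgroup of the double bond is generated by
rank one stabilisers and the elements `y b`.  `genP_y`: the property `GenP` of `y b` with respect to a
node joined to the type I node only.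
-/

set_option autoImplicit false

namespace Cfsg.Agent.TitsThree.AssembleB2

open Cfsg.Agent.Tits.Core Cfsg.Agent.Tits.Core.Bldg Cfsg.Agent.AGraded
open Cfsg.Agent.TitsThree.Pack Cfsg.Agent.TitsThree.AssembleBase Cfsg.Agent.TitsThree.AssembleEdge
open Cfsg.Agent.TitsThree.B2Pkg Cfsg.Agent.TitsThree.CoreB2

variable {I : Type*} {M : CoxeterMatrix I} {W : Type*} [Group W] {cs : CoxeterSystem M W}
variable {C : Type*} {A K : Type*} [Group A] [Group K] [MulAction A C] {F : Type*} [Field F]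
variable {V : Type*} [AddCommGroup V] [Module F V] {D : PQDatum F V}
variable {Δ : Bldg cs C} {c : C} {i j : I} {ci cj : C} {a : B2Maps D A} {k : B2Maps D K}

section Conj

variable {Y : Type*} [Group Y] {m : B2Maps D Y} (h : B2Rel m) (hn : NIRel m)

include h hn in
theorem nt_conj_surj {t : F} (ht : t ≠ 0) (r : F) :
    ∃ s, nt m t * m.x s * (nt m t)⁻¹ = m.x' r := by
  obtain ⟨s, hs⟩ := hn.x' (-t) (neg_ne_zero.2 ht) r
  rw [CoreB2.nt_neg h, inv_inv] at hs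
  refine ⟨s, ?_⟩
  rw [← hs]; group

include h in
theorem nII_conj_surj {p : D.T} (hp : p.c ≠ 0) (r : D.T) :
    ∃ s, m.nII p * m.z₂ s * (m.nII p)⁻¹ = m.z₂' r := by
  have hp' : (p⁻¹).c ≠ 0 := CoreB2.inv_c_ne hp
  have h1 := h.nII_z₂' p⁻¹ hp' r
  rw [← CoreB2.nII_inv h, inv_inv] at h1
  refine ⟨D.sc (D.ε⁻¹ * p⁻¹.c) (D.refl p⁻¹ hp' r), ?_⟩
  rw [← h1]; group

end Conj

theorem nt_mem_Gam (t : F) : nt (a.prod k) t ∈ Gam a.x a.x' k.x k.x' := nn_mem t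

theorem nII_mem_Gam (p : D.T) : (a.prod k).nII p ∈ Gam a.z₂ a.z₂' k.z₂ k.z₂' :=
  mul_mem (mul_mem (Gam.neg _) (Gam.pos p)) (Gam.neg _)

section

variable (iso : ∀ (g : A) x y, Δ.δ (g • x) (g • y) = Δ.δ x y) (hth : Δ.Thick)
  (hi : NodeAct Δ c i ci a.x a.x') (hj : NodeAct Δ c j cj a.z₂ a.z₂')
  (h : B2Rel (a.prod k)) (hn : NIRel (a.prod k))

include iso hth h

include hi hn in
theorem nt_smul (t : F) (ht : t ≠ 0) : (nt (a.prod k) t).1 • c = ci := by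
  apply swap_smul hth hi (pan_Gam iso hi k.x k.x' _ (nt_mem_Gam t))
  intro r
  obtain ⟨s, hs⟩ := nt_conj_surj h hn ht r
  exact ⟨s, congrArg Prod.fst hs⟩

include hj in
theorem nII_smul (p : D.T) (hp : p.c ≠ 0) : ((a.prod k).nII p).1 • c = cj := by
  apply swap_smul hth hj (pan_Gam iso hj k.z₂ k.z₂' _ (nII_mem_Gam p))
  intro r
  obtain ⟨s, hs⟩ := nII_conj_surj h hp r
  exact ⟨s, congrArg Prod.fst hs⟩

include hi hj hn in
/-- **The stabiliser of `c` for the double bond.** -/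
theorem stab (y_fix : ∀ b, a.y b • c = c) (ex : ∃ p : D.T, p.c ≠ 0) {Bor : Subgroup K}
    (h1 : ∀ t, k.x t ∈ Bor) (h2 : ∀ p, k.z₂ p ∈ Bor) (h2' : ∀ b, k.y b ∈ Bor)
    (h3 : ∀ t, t ≠ 0 → hh k.x k.x' t ∈ Bor)
    (h4 : ∀ p q : D.T, p.c ≠ 0 → q.c ≠ 0 → k.nII p * (k.nII q)⁻¹ ∈ Bor)
    {g : A × K} (hg : g ∈ Gam a.x a.x' k.x k.x' ⊔ Gam a.z₂ a.z₂' k.z₂ k.z₂') (hgc : g.1 • c = c) :
    g.2 ∈ Bor ∧ g ∈ Subgroup.closure
      ({h : A × K | (h ∈ Gam a.x a.x' k.x k.x' ∨ h ∈ Gam a.z₂ a.z₂' k.z₂ k.z₂') ∧ h.1 • c = c} ∪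
        Set.range (a.prod k).y) := by
  have n1 := nt_smul iso hth hi h hn
  have n2 := nII_smul iso hth hj h
  set T : Subgroup (A × K) := (MulAction.stabilizer A c).comap (MonoidHom.fst A K) with hT
  have memT : ∀ g : A × K, g ∈ T ↔ g.1 • c = c := fun g => Iff.rfl
  have k1 : ∀ s t : F, s ≠ 0 → t ≠ 0 → nt (a.prod k) s * (nt (a.prod k) t)⁻¹ ∈ T := by
    intro s t hs ht
    rw [memT, Prod.fst_mul, Prod.fst_inv, mul_smul]
    have h6 : ∀ t, t ≠ 0 → (nt (a.prod k) t).1⁻¹ • c = ci := by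
      intro t ht
      have h7 := n1 (-t) (neg_ne_zero.2 ht)
      rw [CoreB2.nt_neg h, Prod.fst_inv] at h7
      exact h7
    rw [h6 t ht, ← h6 s hs, smul_inv_smul]
  have k2 : ∀ p q : D.T, p.c ≠ 0 → q.c ≠ 0 → (a.prod k).nII p * ((a.prod k).nII q)⁻¹ ∈ T := by
    intro p q hp hq
    rw [memT, Prod.fst_mul, Prod.fst_inv, mul_smul]
    have h6 : ∀ p : D.T, p.c ≠ 0 → ((a.prod k).nII p).1⁻¹ • c = cj := by
      intro p hp
      have h7 := n2 p⁻¹ (CoreB2.inv_c_ne hp)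
      rw [← CoreB2.nII_inv h, Prod.fst_inv] at h7
      exact h7
    rw [h6 q hq, ← h6 p hp, smul_inv_smul]
  set G1 := Gam a.x a.x' k.x k.x' with hG1
  set G2 := Gam a.z₂ a.z₂' k.z₂ k.z₂' with hG2
  have hle1 : G1 ≤ G1 ⊔ G2 := le_sup_left
  have hle2 : G2 ≤ G1 ⊔ G2 := le_sup_right
  have hy_mem : ∀ b, (a.prod k).y b ∈ G1 ⊔ G2 := by
    intro b
    obtain ⟨p, hp⟩ := ex
    have h7 := h.nII_y p hp b
    have e : (a.prod k).y b = ((a.prod k).nII p)⁻¹ * (a.prod k).x (p.c⁻¹ * b) * (a.prod k).nII p := by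
      rw [← h7]; group
    rw [e]
    exact mul_mem (mul_mem (inv_mem (hle2 (nII_mem_Gam p))) (hle1 (Gam.pos _))) (hle2 (nII_mem_Gam p))
  have key : (G1 ⊔ G2) ⊓ T ≤ Subgroup.closure (stabSet (a.prod k)) := by
    apply b2_stab h hn
    · refine le_trans inf_le_left (sup_le ?_ ?_)
      · refine (Subgroup.closure_le _).2 ?_
        rintro g (⟨t, rfl⟩ | ⟨t, rfl⟩)
        · exact Subgroup.subset_closure (Or.inl ⟨t, Or.inl rfl⟩)
        · exact Subgroup.subset_closure (Or.inl ⟨t, Or.inr rfl⟩)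
      · refine (Subgroup.closure_le _).2 ?_
        rintro g (⟨t, rfl⟩ | ⟨t, rfl⟩)
        · exact Subgroup.subset_closure (Or.inr ⟨t, Or.inl rfl⟩)
        · exact Subgroup.subset_closure (Or.inr ⟨t, Or.inr rfl⟩)
    · exact fun t => ⟨hle1 (Gam.pos t), hi.fix t⟩
    · exact fun t => ⟨hle2 (Gam.pos t), hj.fix t⟩
    · exact fun b => ⟨hy_mem b, y_fix b⟩
    · exact fun s t hs ht => ⟨hle1 (mul_mem (nt_mem_Gam s) (inv_mem (nt_mem_Gam t))), k1 s t hs ht⟩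
    · exact fun p q hp hq =>
        ⟨hle2 (mul_mem (nII_mem_Gam p) (inv_mem (nII_mem_Gam q))), k2 p q hp hq⟩
    · intro h'
      have h5 : (nt (a.prod k) 1).1 • c = c := h'.2
      rw [n1 1 one_ne_zero] at h5
      exact hi.ne h5
    · intro p hp h'
      have h5 : ((a.prod k).nII p).1 • c = c := h'.2
      rw [n2 p hp] at h5
      exact hj.ne h5
    · exact ex
  have hg' : g ∈ Subgroup.closure (stabSet (a.prod k)) := key ⟨hg, hgc⟩
  constructor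
  · have h5 : Subgroup.closure (stabSet (a.prod k)) ≤ Bor.comap (MonoidHom.snd A K) := by
      refine (Subgroup.closure_le _).2 ?_
      rintro h' ((⟨t, rfl⟩ | ⟨t, rfl⟩ | ⟨t, rfl⟩) | (⟨s, t, hs, ht, rfl⟩ | ⟨s, t, hs, ht, rfl⟩))
      · exact h1 t
      · exact h2 t
      · exact h2' t
      · have h6 := mul_mem (h3 s hs) (inv_mem (h3 t ht))
        have e : (nt (a.prod k) s * (nt (a.prod k) t)⁻¹).2 = hh k.x k.x' s * (hh k.x k.x' t)⁻¹ := by
          show nn k.x k.x' s * (nn k.x k.x' t)⁻¹ = _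
          unfold hh
          group
        show (nt (a.prod k) s * (nt (a.prod k) t)⁻¹).2 ∈ Bor
        rw [e]; exact h6
      · exact h4 s t hs ht
    exact h5 hg'
  · refine Subgroup.closure_le _ |>.2 ?_ hg'
    rintro h' ((⟨t, rfl⟩ | ⟨t, rfl⟩ | ⟨t, rfl⟩) | (⟨s, t, hs, ht, rfl⟩ | ⟨s, t, hs, ht, rfl⟩))
    · exact Subgroup.subset_closure (Or.inl ⟨Or.inl (Gam.pos t), hi.fix t⟩)
    · exact Subgroup.subset_closure (Or.inl ⟨Or.inr (Gam.pos t), hj.fix t⟩)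
    · exact Subgroup.subset_closure (Or.inr ⟨t, rfl⟩)
    · exact Subgroup.subset_closure (Or.inl
        ⟨Or.inl (mul_mem (nt_mem_Gam s) (inv_mem (nt_mem_Gam t))), k1 s t hs ht⟩)
    · exact Subgroup.subset_closure (Or.inl
        ⟨Or.inr (mul_mem (nII_mem_Gam s) (inv_mem (nII_mem_Gam t))), k2 s t hs ht⟩)

end

/-- `y b` lies in the rank two subgroup. -/
theorem y_mem (h : B2Rel (a.prod k)) (ex : ∃ p : D.T, p.c ≠ 0) (b : F) :
    (a.prod k).y b ∈ Gam a.x a.x' k.x k.x' ⊔ Gam a.z₂ a.z₂' k.z₂ k.z₂' := by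
  obtain ⟨p, hp⟩ := ex
  have h7 := h.nII_y p hp b
  have e : (a.prod k).y b = ((a.prod k).nII p)⁻¹ * (a.prod k).x (p.c⁻¹ * b) * (a.prod k).nII p := by
    rw [← h7]; group
  rw [e]
  exact mul_mem (mul_mem (inv_mem (Subgroup.mem_sup_right (nII_mem_Gam p)))
    (Subgroup.mem_sup_left (Gam.pos _))) (Subgroup.mem_sup_right (nII_mem_Gam p))

section Adjacent

variable {Y : Type*} [Group Y] {m : B2Maps D Y} (h : B2Rel m) {x : Fin 3 → Fin 3 → F → Y}
  (hx : SteinRel x) (e12 : x 1 2 = m.x)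

theorem mem_normalizer_of {N : Subgroup Y} {g : F → Y} (hneg : ∀ t, g (-t) = (g t)⁻¹)
    (hg : ∀ t, ∀ y ∈ N, g t * y * (g t)⁻¹ ∈ N) (t : F) : g t ∈ Subgroup.normalizer (N : Set Y) := by
  rw [Subgroup.mem_normalizer_iff]
  intro y
  refine ⟨fun hy => hg t y hy, fun hy => ?_⟩
  have h1 := hg (-t) _ hy
  rw [hneg, inv_inv] at h1
  have e : (g t)⁻¹ * (g t * y * (g t)⁻¹) * g t = y := by group
  rwa [e] at h1

include h hx e12 in
/-- The group generated by the `y b` and their `Γ_k`-conjugates, for a node `k` joined to the type I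
node only. -/
theorem conj_y {B : Subgroup Y} (p : D.T) (hp : p.c ≠ 0)
    (c01 : ∀ t, Commute (x 0 1 t) (m.nII p)) (c10 : ∀ t, Commute (x 1 0 t) (m.nII p))
    (hy : ∀ b, m.y b ∈ B) (hx01 : ∀ t, x 0 1 t ∈ B) {g : Y}
    (hg : g ∈ Subgroup.closure (Set.range (x 0 1) ∪ Set.range (x 1 0))) (b : F) :
    g⁻¹ * m.y b * g ∈ B := by
  set ν := m.nII p with hν
  -- `y b = ν x(a) ν⁻¹`
  have hyx : ∀ b, m.y b = ν * x 1 2 (D.ε⁻¹ * (D.σ p.c)⁻¹ * b) * ν⁻¹ := by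
    intro b
    have h1 := h.nII_x p hp (D.ε⁻¹ * (D.σ p.c)⁻¹ * b)
    have h2 : D.σ p.c ≠ 0 := fun h0 => hp ((map_eq_zero_iff D.σ D.σ.injective).1 h0)
    have h3 : D.ε * D.σ p.c * (D.ε⁻¹ * (D.σ p.c)⁻¹ * b) = b := by
      have := D.ε_ne
      field_simp
    rw [h3] at h1
    rw [e12, hν, h1]
  let y3 : F → Y := fun s => ν * x 0 2 s * ν⁻¹
  set N : Subgroup Y := Subgroup.closure (Set.range m.y ∪ Set.range y3) with hN
  have yN : ∀ b, m.y b ∈ N := fun b => Subgroup.subset_closure (Or.inl ⟨b, rfl⟩)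
  have y3N : ∀ s, y3 s ∈ N := fun s => Subgroup.subset_closure (Or.inr ⟨s, rfl⟩)
  have hcomm : ∀ {u v w : Y}, Commute u ν → u * v * u⁻¹ = w → u * (ν * v * ν⁻¹) * u⁻¹ = ν * w * ν⁻¹ := by
    intro u v w h1 h2
    rw [← h2]
    have h3 : u * ν = ν * u := h1
    calc u * (ν * v * ν⁻¹) * u⁻¹ = (u * ν) * v * (u * ν)⁻¹ := by group
      _ = (ν * u) * v * (ν * u)⁻¹ := by rw [h3]
      _ = _ := by group
  -- conjugation formulas
  have f1 : ∀ t b, x 0 1 t * m.y b * (x 0 1 t)⁻¹ = y3 (t * (D.ε⁻¹ * (D.σ p.c)⁻¹ * b)) * m.y b := by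
    intro t b
    rw [hyx b, hcomm (c01 t) (RankTwoA2.conj_left hx (by decide) (by decide) (by decide) _ t)]
    show _ = (ν * x 0 2 _ * ν⁻¹) * (ν * _ * ν⁻¹)
    group
  have f2 : ∀ t s, x 0 1 t * y3 s * (x 0 1 t)⁻¹ = y3 s := by
    intro t s
    show x 0 1 t * (ν * x 0 2 s * ν⁻¹) * (x 0 1 t)⁻¹ = ν * x 0 2 s * ν⁻¹
    rw [hcomm (c01 t) (RankTwoA2.conj_comm hx (by decide) (by decide) (by decide) (by decide) s t)]
  have f3 : ∀ t b, x 1 0 t * m.y b * (x 1 0 t)⁻¹ = m.y b := by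
    intro t b
    rw [hyx b, hcomm (c10 t) (RankTwoA2.conj_comm hx (by decide) (by decide) (by decide) (by decide) _ t)]
  have f4 : ∀ t s, x 1 0 t * y3 s * (x 1 0 t)⁻¹ = ν * x 1 2 (t * s) * ν⁻¹ * y3 s := by
    intro t s
    show x 1 0 t * (ν * x 0 2 s * ν⁻¹) * (x 1 0 t)⁻¹ = _ * (ν * x 0 2 s * ν⁻¹)
    rw [hcomm (c10 t) (RankTwoA2.conj_left hx (by decide) (by decide) (by decide) s t)]
    group
  have xN : ∀ s, ν * x 1 2 s * ν⁻¹ ∈ N := by
    intro s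
    have h1 := h.nII_x p hp s
    rw [e12, hν, h1]
    exact yN _
  have gen_conj : ∀ {g : Y}, (∀ b, g * m.y b * g⁻¹ ∈ N) → (∀ s, g * y3 s * g⁻¹ ∈ N) →
      ∀ y ∈ N, g * y * g⁻¹ ∈ N := by
    intro g h1 h2 y hy
    have : N ≤ N.comap (MulAut.conj g).toMonoidHom := by
      conv_lhs => rw [hN]
      refine (Subgroup.closure_le _).2 ?_
      rintro _ (⟨b, rfl⟩ | ⟨s, rfl⟩)
      · exact h1 b
      · exact h2 s
    exact this hy
  have n01 : ∀ t, x 0 1 t ∈ Subgroup.normalizer (N : Set Y) := by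
    apply mem_normalizer_of (fun t => hx.neg (by decide) t)
    intro t
    apply gen_conj
    · intro b; rw [f1]; exact mul_mem (y3N _) (yN _)
    · intro s; rw [f2]; exact y3N _
  have n10 : ∀ t, x 1 0 t ∈ Subgroup.normalizer (N : Set Y) := by
    apply mem_normalizer_of (fun t => hx.neg (by decide) t)
    intro t
    apply gen_conj
    · intro b; rw [f3]; exact yN _
    · intro s; rw [f4]; exact mul_mem (xN _) (y3N _)
  have hgn : g⁻¹ ∈ Subgroup.normalizer (N : Set Y) := by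
    refine inv_mem ((Subgroup.closure_le _).2 ?_ hg)
    rintro _ (⟨t, rfl⟩ | ⟨t, rfl⟩)
    · exact n01 t
    · exact n10 t
  have h1 : g⁻¹ * m.y b * g⁻¹⁻¹ ∈ N := (Subgroup.mem_normalizer_iff.1 hgn _).1 (yN b)
  rw [inv_inv] at h1
  have hNB : N ≤ B := by
    refine (Subgroup.closure_le _).2 ?_
    rintro _ (⟨b, rfl⟩ | ⟨s, rfl⟩)
    · exact hy b
    · have h5 := f1 s (D.ε * D.σ p.c)
      have h2 : D.σ p.c ≠ 0 := fun h0 => hp ((map_eq_zero_iff D.σ D.σ.injective).1 h0)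
      have h6 : s * (D.ε⁻¹ * (D.σ p.c)⁻¹ * (D.ε * D.σ p.c)) = s := by
        have := D.ε_ne
        field_simp
      rw [h6] at h5
      have h7 : y3 s = x 0 1 s * m.y (D.ε * D.σ p.c) * (x 0 1 s)⁻¹ * (m.y (D.ε * D.σ p.c))⁻¹ := by
        rw [h5]; group
      rw [h7]
      exact mul_mem (mul_mem (mul_mem (hx01 s) (hy _)) (inv_mem (hx01 s))) (inv_mem (hy _))
  exact hNB h1

end Adjacent

end Cfsg.Agent.TitsThree.AssembleB2
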