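import Cfsg.Agent.TitsThree.EndRange
import Cfsg.Agent.TitsThree.AssembleB2
import Cfsg.Agent.Tits.ExtAux

/-!
# Elements of `L_i` acting as the reflection `s_i` (S1143)

An element of `L_i` which, together with its inverse, maps `σ 1` to `σ s_i` acts on the apartment as
`s_i`; quotients of two such elements lie in `A_{c,d}`.
-/

set_option autoImplicit false

namespace Cfsg.Agent.TitsThree.EndRefl

open Cfsg.Agent.Tits.Core Cfsg.Agent.Tits.Core.Bldg Cfsg.Agent.Tits.Exchange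
open Cfsg.Agent.Tits Cfsg.Agent.Tits.MouTrans
open Cfsg.Agent.Tits.MouDefs (rt)
open Cfsg.Agent.Tits.MouOut
open Cfsg.Agent.TitsThree.EndGen

variable {I : Type*} {M : CoxeterMatrix I} {W : Type*} [Group W] {cs : CoxeterSystem M W}
variable {C A : Type*} [Group A] [MulAction A C] {Δ : Bldg cs C}
variable {σ : W → C} {U : Set W → Subgroup A} (H : Sys Δ A σ U)

theorem length_two [Finite I] [Finite W] {i j : I} (hij : i ≠ j) : cs.length (cs.simple i * cs.simple j) = 2 := by
  have h1 := cs.length_simple_mul (cs.simple j) i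
  rw [cs.length_simple] at h1
  rcases h1 with h1 | h1
  · omega
  · have h2 : cs.simple i * cs.simple j = 1 := (cs.length_eq_zero_iff).1 (by omega)
    have h3 : cs.simple i = cs.simple j := by
      rw [← cs.inv_simple j]
      exact eq_inv_of_mul_eq_one_left h2
    exact absurd (Cfsg.Agent.Tits.Ext.simple_injective h3) hij

/-- `1 ∈ rt s_i j` for `i ≠ j`. -/
theorem one_mem_rt [Finite I] [Finite W] {i j : I} (hij : i ≠ j) : (1 : W) ∈ rt cs (cs.simple i) j := by
  rw [mem_rt, mul_one, cs.inv_simple, cs.length_simple, length_two (Ne.symm hij)]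
  exact Nat.one_lt_two

include H

/-- `L_i` acts on the panel of `σ w₀` opposite to the panel of type `i` of `σ 1`. -/
theorem pan_opp [Finite W] {i : I} {g : A} (hg : g ∈ Lg cs U i) :
    g • σ (w0 cs) ∈ Δ.Pan (op cs i) (σ (w0 cs)) := by
  have hl : cs.length (cs.simple i * w0 cs) < cs.length (w0 cs) := by
    have h1 := length_mul_w0 cs (cs.simple i)
    rw [cs.length_simple] at h1
    omega
  have hs : σ (cs.simple i * w0 cs) ∈ Δ.Pan (op cs i) (σ (w0 cs)) := by
    right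
    rw [H.chart, ← w0_mul_simple_op, inv_mul_cancel_left]
  let S : Subgroup A :=
    { carrier := {g | g • σ (w0 cs) ∈ Δ.Pan (op cs i) (σ (w0 cs))}
      one_mem' := by
        change (1 : A) • σ (w0 cs) ∈ Δ.Pan (op cs i) (σ (w0 cs))
        rw [one_smul]; exact Δ.self_mem_Pan _ _
      mul_mem' := by
        intro a b ha hb
        change (a * b) • σ (w0 cs) ∈ Δ.Pan (op cs i) (σ (w0 cs))
        rw [mul_smul]
        exact Δ.mem_Pan_trans ha (pan_smul H.iso a hb)
      inv_mem' := by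
        intro a ha
        change a⁻¹ • σ (w0 cs) ∈ Δ.Pan (op cs i) (σ (w0 cs))
        have := pan_smul H.iso a⁻¹ ha
        rw [inv_smul_smul] at this
        exact Δ.mem_Pan_symm this }
  have h1 : U (rt cs 1 i) ≤ S := fun g hg => by
    change g • σ (w0 cs) ∈ Δ.Pan (op cs i) (σ (w0 cs))
    have h3 := pan_smul H.iso g (Δ.mem_Pan_symm hs)
    rw [H.fix hg (v := cs.simple i * w0 cs)] at h3
    · exact Δ.mem_Pan_trans hs h3
    · rw [mem_rt, inv_one, one_mul, cs.simple_mul_simple_cancel_left]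
      exact hl
  have h2 : U (rt cs (cs.simple i) i) ≤ S := fun g hg => by
    change g • σ (w0 cs) ∈ Δ.Pan (op cs i) (σ (w0 cs))
    rw [H.fix hg (v := w0 cs)]
    · exact Δ.self_mem_Pan _ _
    · rw [mem_rt, cs.inv_simple, cs.simple_mul_simple_cancel_left]
      exact hl
  exact (sup_le h1 h2) hg

/-- **An element of `L_i` exchanging `σ 1` and `σ s_i` acts on `σ` as `s_i`.** -/
theorem refl_of [Finite W] {i : I} {n : A} (hn : n ∈ Lg cs U i) (h1 : n • σ 1 = σ (cs.simple i))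
    (h2 : n⁻¹ • σ 1 = σ (cs.simple i)) (v : W) : n • σ v = σ (cs.simple i * v) := by
  obtain ⟨m, hm, hm'⟩ := H.weyl i
  have hl : cs.length (cs.simple i * w0 cs) < cs.length (w0 cs) := by
    have h1 := length_mul_w0 cs (cs.simple i)
    rw [cs.length_simple] at h1
    omega
  -- the image of `σ w₀`
  have hw : n • σ (w0 cs) = σ (cs.simple i * w0 cs) := by
    have e1 : Δ.δ (σ 1) (n • σ (w0 cs)) = cs.simple i * w0 cs := by
      have e0 : Δ.δ (n • n⁻¹ • σ 1) (n • σ (w0 cs)) = cs.simple i * w0 cs := by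
        rw [H.iso, h2, H.chart, cs.inv_simple]
      rwa [smul_inv_smul] at e0
    have e2 : σ (cs.simple i * w0 cs) ∈ Δ.Pan (op cs i) (σ (w0 cs)) := by
      right
      rw [H.chart, ← w0_mul_simple_op, inv_mul_cancel_left]
    have e3 : n • σ (w0 cs) ∈ Δ.Pan (op cs i) (σ (cs.simple i * w0 cs)) :=
      Δ.mem_Pan_trans (Δ.mem_Pan_symm e2) (pan_opp H hn)
    rcases e3 with e3 | e3
    · exact e3
    · exfalso
      have e4 : Δ.δ (σ 1) (σ (cs.simple i * w0 cs)) = cs.simple i * w0 cs := by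
        rw [H.chart, inv_one, one_mul]
      have e5 : cs.simple i * w0 cs * cs.simple (op cs i) = w0 cs := by
        rw [mul_assoc, w0_mul_simple_op, cs.simple_mul_simple_cancel_left]
      have e6 := Δ.δ_mul (x := σ 1) (y := σ (cs.simple i * w0 cs)) (z := n • σ (w0 cs)) (by
        rw [e4, e3, e5, cs.length_simple]
        have h3 := length_mul_w0 cs (cs.simple i)
        rw [cs.length_simple] at h3
        omega)
      rw [e1, e4, e3, e5] at e6
      rw [e6] at hl
      exact lt_irrefl _ hl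
  have hmi : ∀ v, m⁻¹ • σ v = σ (cs.simple i * v) := fun v => by
    rw [inv_smul_eq_iff, hm', cs.simple_mul_simple_cancel_left]
  have hfix : (m⁻¹ * n) • σ v = σ v := by
    refine H.fix_of_fix ?_ ?_ v
    · rw [mul_smul, h1, hmi, cs.simple_mul_simple_self]
    · rw [mul_smul, hw, hmi, cs.simple_mul_simple_cancel_left]
  rw [mul_smul, inv_smul_eq_iff, hm'] at hfix
  exact hfix

omit H in
/-- The quotient of two elements acting as `s_i` lies in `A_{c,d}`. -/
theorem div_mem_tor {i : I} {n n' : A} (hn : ∀ v, n • σ v = σ (cs.simple i * v))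
    (hn' : ∀ v, n' • σ v = σ (cs.simple i * v)) : n * n'⁻¹ ∈ Tor cs A σ := by
  refine mem_tor_of_fix fun v => ?_
  have h1 : n'⁻¹ • σ v = σ (cs.simple i * v) := by
    rw [inv_smul_eq_iff, hn', cs.simple_mul_simple_cancel_left]
  rw [mul_smul, h1, hn, cs.simple_mul_simple_cancel_left]

/-- Conjugates of the elements of `U (rt 1 j)` under an element acting as `s_i`, `i ≠ j`. -/
theorem conj_mem_Up [Finite I] [Finite W] {i j : I} (hij : i ≠ j) {n g : A} (hn : ∀ v, n • σ v = σ (cs.simple i * v))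
    (hg : g ∈ U (rt cs 1 j)) : n * g * n⁻¹ ∈ Up cs U := by
  have h1 := H.conj hn hg
  rw [mul_one] at h1
  exact H.rt_le_Up (one_mem_rt hij) h1

/-! ### Nodes of a package in `G'` -/

section Node

open Cfsg.Agent.TitsThree.EndRange Cfsg.Agent.TitsThree.Pack Cfsg.Agent.TitsThree.B2Pkg
open Cfsg.Agent.TitsThree.AssembleBase Cfsg.Agent.TitsThree.AssembleEdge

variable {i j : I}

theorem nodeAct {X : Type*} {xp xm : X → ↥(Gg cs U)} (hr : NodeRange U i xp xm) :
    NodeAct Δ (σ 1) i (σ (cs.simple i)) xp xm :=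
  H.nodeAct hr.mem (fun _ hg => hr.exists_eq hg) hr.mem' (fun _ hg => hr.exists_eq' hg)

omit H in
theorem node_le {X : Type*} {xp xm : X → ↥(Gg cs U)} (hr : NodeRange U i xp xm) (t : X) :
    (xp t : A) ∈ Lg cs U i ∧ (xm t : A) ∈ Lg cs U i :=
  ⟨le_sup_left (a := U (rt cs 1 i)) (hr.mem t), le_sup_right (a := U (rt cs 1 i)) (hr.mem' t)⟩

variable {F : Type*} [Field F] {xp xm yp ym : F → ↥(Gg cs U)}

omit H in
theorem nn_mem_Lg (hr : NodeRange U i xp xm) (t : F) : ((nn xp xm t : ↥(Gg cs U)) : A) ∈ Lg cs U i :=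
  mul_mem (mul_mem (node_le hr t).1 (node_le hr _).2) (node_le hr t).1

/-- `n(t)` for the first node of an edge acts as a reflection. -/
theorem refl_nn [Finite W] (e : Edge3 xp xm yp ym) (hr : NodeRange U i xp xm) {t : F} (ht : t ≠ 0)
    (v : W) : ((nn xp xm t : ↥(Gg cs U)) : A) • σ v = σ (cs.simple i * v) := by
  have iso : ∀ (a : ↥(Gg cs U)) x y, Δ.δ (a • x) (a • y) = Δ.δ x y := fun a x y => H.iso (a : A) x y
  have key : ∀ t : F, t ≠ 0 → ((nn xp xm t : ↥(Gg cs U)) : A) • σ 1 = σ (cs.simple i) := fun t ht =>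
    nn_smul_left iso H.thick (nodeAct H hr) (e.prod e) t ht
  refine refl_of H (nn_mem_Lg hr t) (key t ht) ?_ v
  have h1 : (nn xp xm t)⁻¹ = nn xp xm (-t) := by
    obtain ⟨x, hx, rfl, rfl, rfl, rfl⟩ := e
    exact RankTwoA2.n_inv hx (by decide) t
  have h2 := key (-t) (neg_ne_zero.2 ht)
  rw [← h1] at h2
  exact h2

/-- `h(t)` lies in `A_{c,d}`. -/
theorem hh_mem_tor [Finite W] (e : Edge3 xp xm yp ym) (hr : NodeRange U i xp xm) {t : F} (ht : t ≠ 0) :
    ((hh xp xm t : ↥(Gg cs U)) : A) ∈ Tor cs A σ :=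
  div_mem_tor (refl_nn H e hr ht) (refl_nn H e hr one_ne_zero)

variable {V : Type*} [AddCommGroup V] [Module F V] {D : PQDatum F V} {m : B2Maps D ↥(Gg cs U)}

/-- `n_II(p)` acts as a reflection. -/
theorem refl_nII [Finite W] (h : B2Rel m) (hr : NodeRange U i m.z₂ m.z₂') {p : D.T} (hp : p.c ≠ 0)
    (v : W) : ((m.nII p : ↥(Gg cs U)) : A) • σ v = σ (cs.simple i * v) := by
  have iso : ∀ (a : ↥(Gg cs U)) x y, Δ.δ (a • x) (a • y) = Δ.δ x y := fun a x y => H.iso (a : A) x y
  have key : ∀ p : D.T, p.c ≠ 0 → ((m.nII p : ↥(Gg cs U)) : A) • σ 1 = σ (cs.simple i) :=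
    fun p hp => AssembleB2.nII_smul iso H.thick (nodeAct H hr) (B2Rel.prod h h) p hp
  refine refl_of H (mul_mem (mul_mem (node_le hr _).2 (node_le hr _).1) (node_le hr _).2)
    (key p hp) ?_ v
  have h2 := key p⁻¹ (CoreB2.inv_c_ne hp)
  rw [← CoreB2.nII_inv h] at h2
  exact h2

theorem nII_mem_tor [Finite W] (h : B2Rel m) (hr : NodeRange U i m.z₂ m.z₂') {p q : D.T}
    (hp : p.c ≠ 0) (hq : q.c ≠ 0) : ((m.nII p * (m.nII q)⁻¹ : ↥(Gg cs U)) : A) ∈ Tor cs A σ :=
  div_mem_tor (refl_nII H h hr hp) (refl_nII H h hr hq)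

/-- `y b` lies in `U_+`. -/
theorem y_mem_Up [Finite I] [Finite W] (hij : i ≠ j) (h : B2Rel m) (hx : NodeRange U j m.x m.x')
    (hr : NodeRange U i m.z₂ m.z₂') {p : D.T} (hp : p.c ≠ 0) (b : F) :
    ((m.y b : ↥(Gg cs U)) : A) ∈ Up cs U := by
  have h1 := h.nII_x p hp (D.ε⁻¹ * (D.σ p.c)⁻¹ * b)
  have h2 : D.σ p.c ≠ 0 := fun h0 => hp ((map_eq_zero_iff D.σ D.σ.injective).1 h0)
  have h3 : D.ε * D.σ p.c * (D.ε⁻¹ * (D.σ p.c)⁻¹ * b) = b := by
    have := D.ε_ne
    field_simp
  rw [h3] at h1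
  rw [← h1]
  exact conj_mem_Up H hij (refl_nII H h hr hp) (hx.mem _)

end Node

end Cfsg.Agent.TitsThree.EndRefl
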