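import Cfsg.Agent.TitsThree.AssembleCN
import Cfsg.Agent.TitsThree.EndRefl

/-!
# The torus of a package of type `C_{n+1}` in `G'` (S1143)

Self-application of `AssembleCN.stab_le'`: `A_{c,d} ⊓ G'` is the group generated by the elements
`h_i(t)` and `n_II(p) n_II(q)⁻¹`.
-/

set_option autoImplicit false

namespace Cfsg.Agent.TitsThree.EndCNTor

open Cfsg.Agent.Tits.Core Cfsg.Agent.Tits.Core.Bldg Cfsg.Agent.Tits.Exchange
open Cfsg.Agent.Tits
open Cfsg.Agent.Tits.MouDefs (rt)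
open Cfsg.Agent.Tits.MouOut Cfsg.Agent.AGraded
open Cfsg.Agent.TitsThree.EndGen Cfsg.Agent.TitsThree.EndRange Cfsg.Agent.TitsThree.EndRefl
open Cfsg.Agent.TitsThree.Pack Cfsg.Agent.TitsThree.B2Pkg Cfsg.Agent.TitsThree.TorusAct
open Cfsg.Agent.TitsThree.AssembleCN

variable {F : Type*} [Field F] {V : Type*} [AddCommGroup V] [Module F V] {D : PQDatum F V}
variable {n : ℕ} {M : CoxeterMatrix (Fin (n + 1))} {W : Type*} [Group W] {cs : CoxeterSystem M W}
variable {C A : Type*} [Group A] [MulAction A C] {Δ : Bldg cs C}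
variable {σ : W → C} {U : Set W → Subgroup A} (H : Sys Δ A σ U)
variable (P : CN ↥(Gg cs U) D n)

/-- The torus of the package as a subgroup of `A`. -/
def TA : Subgroup A := (torusCN P).map (Gg cs U).subtype

variable (hn : 2 ≤ n) (hr : ∀ i : Fin n, NodeRange U i.castSucc (P.xp i) (P.xm i))
  (hz : NodeRange U (Fin.last n) P.b2.z₂ P.b2.z₂')

include H hn hr hz

/-- **`T ≤ A_{c,d}`.** -/
theorem TA_le [Finite W] : TA P ≤ Tor cs A σ := by
  have key : torusCN P ≤ (Tor cs A σ).comap (Gg cs U).subtype := by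
    rw [torusCN, Subgroup.closure_le]
    rintro g (⟨i, t, ht, rfl⟩ | ⟨p, q, hp, hq, rfl⟩)
    · rcases Nat.lt_or_ge (i.1 + 1) n with h1 | h1
      · exact hh_mem_tor H (P.st3 i ⟨i.1 + 1, h1⟩ rfl) (hr i) ht
      · have h2 : 1 ≤ i.1 := by omega
        exact hh_mem_tor H (edge_symm (P.st3 ⟨i.1 - 1, by omega⟩ i (by simp; omega))) (hr i) ht
    · exact nII_mem_tor H P.rel hz hp hq
  exact Subgroup.map_le_iff_le_comap.2 key

/-- **The stabiliser of `c` in `G'` is contained in `U_+ T`.** -/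
theorem stab_le_sup [Finite W] (ex : ∃ p : D.T, p.c ≠ 0) {g : A} (hg : g ∈ Gg cs U)
    (hgc : g • σ 1 = σ 1) : g ∈ Up cs U ⊔ TA P := by
  have iso : ∀ (a : ↥(Gg cs U)) x y, Δ.δ (a • x) (a • y) = Δ.δ x y := fun a x y => H.iso (a : A) x y
  obtain ⟨r, hr0⟩ := ex
  -- the last type I node
  let l : Fin n := ⟨n - 1, by omega⟩
  have hl : l.1 + 1 = n := by show n - 1 + 1 = n; omega
  have gl := P.last l hl
  have hy : ∀ b, ((P.b2.y b : ↥(Gg cs U)) : A) ∈ Up cs U := by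
    intro b
    refine y_mem_Up H (i := Fin.last n) (j := l.castSucc) (Fin.castSucc_lt_last l).ne' P.rel ?_ hz
      hr0 b
    rw [gl.1, gl.2]
    exact hr l
  set Bor : Subgroup ↥(Gg cs U) := (Up cs U ⊔ TA P).comap (Gg cs U).subtype with hBor
  have hU : ∀ g : ↥(Gg cs U), (g : A) ∈ Up cs U → g ∈ Bor := fun g hg =>
    le_sup_left (a := Up cs U) (b := TA P) hg
  have hT : ∀ g : ↥(Gg cs U), g ∈ torusCN P → g ∈ Bor := fun g hg =>
    le_sup_right (a := Up cs U) (b := TA P) (Subgroup.mem_map_of_mem _ hg)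
  have hmem : Mem P Bor :=
    { xp_mem := fun i t => hU _ (H.rt_le_Up (self_mem_rt 1 i.castSucc) ((hr i).mem t))
      y_mem := fun b => hU _ (hy b)
      z₂_mem := fun p => hU _ (H.rt_le_Up (self_mem_rt 1 (Fin.last n)) (hz.mem p))
      hh_mem := fun i t ht => hT _ (hh_mem_torusCN P i ht)
      nII_mem := fun p q hp hq => hT _ (nII_mem_torusCN P hp hq) }
  -- generation
  have hgen : Subgroup.closure {g : ↥(Gg cs U) | (∃ i t, g = P.xp i t ∨ g = P.xm i t) ∨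
      ∃ p, g = P.b2.z₂ p ∨ g = P.b2.z₂' p} = ⊤ := by
    refine H.closure_eq_top ?_ ?_
    · refine Fin.lastCases ?_ ?_
      · intro g hg
        obtain ⟨p, hp⟩ := hz.exists_eq hg
        exact ⟨_, Or.inr ⟨p, Or.inl rfl⟩, hp⟩
      · intro i g hg
        obtain ⟨t, ht⟩ := (hr i).exists_eq hg
        exact ⟨_, Or.inl ⟨i, t, Or.inl rfl⟩, ht⟩
    · refine Fin.lastCases ?_ ?_
      · intro g hg
        obtain ⟨p, hp⟩ := hz.exists_eq' hg
        exact ⟨_, Or.inr ⟨p, Or.inr rfl⟩, hp⟩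
      · intro i g hg
        obtain ⟨t, ht⟩ := (hr i).exists_eq' hg
        exact ⟨_, Or.inl ⟨i, t, Or.inr rfl⟩, ht⟩
  have hdiag : ∀ g : ↥(Gg cs U), (g, g) ∈ graph P P := by
    have h1 : Subgroup.closure {g : ↥(Gg cs U) | (∃ i t, g = P.xp i t ∨ g = P.xm i t) ∨
        ∃ p, g = P.b2.z₂ p ∨ g = P.b2.z₂' p} ≤
        (graph P P).comap ((MonoidHom.id _).prod (MonoidHom.id _)) := by
      rw [Subgroup.closure_le]
      rintro _ (⟨i, t, rfl | rfl⟩ | ⟨t, rfl | rfl⟩)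
      · exact Subgroup.subset_closure (Or.inl ⟨i, t, Or.inl rfl⟩)
      · exact Subgroup.subset_closure (Or.inl ⟨i, t, Or.inr rfl⟩)
      · exact Subgroup.subset_closure (Or.inr ⟨t, Or.inl rfl⟩)
      · exact Subgroup.subset_closure (Or.inr ⟨t, Or.inr rfl⟩)
    intro g
    have h2 : g ∈ (⊤ : Subgroup ↥(Gg cs U)) := Subgroup.mem_top _
    rw [← hgen] at h2
    exact h1 h2
  exact AssembleCN.stab_le' (p := ((⟨g, hg⟩ : ↥(Gg cs U)), (⟨g, hg⟩ : ↥(Gg cs U)))) H.thick iso hn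
    ⟨r, hr0⟩ P (c := σ 1) (ci := fun i => σ (cs.simple i)) (fun i => nodeAct H (hr i))
    (nodeAct H hz) (fun b => H.Up_fix (hy b)) P hmem (hdiag _) hgc

/-- **`A_{c,d} ⊓ G' = T`.** -/
theorem tor_inf_eq [Finite W] (ex : ∃ p : D.T, p.c ≠ 0) : Tor cs A σ ⊓ Gg cs U = TA P := by
  apply le_antisymm
  · exact tor_inf_le H (TA_le H P hn hr hz) fun g hg hgc => stab_le_sup H P hn hr hz ex hg hgc
  · refine le_inf (TA_le H P hn hr hz) ?_
    rw [TA, Subgroup.map_le_iff_le_comap]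
    intro g _
    exact g.2

end Cfsg.Agent.TitsThree.EndCNTor
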