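import Cfsg.Agent.TitsThree.B2Pkg

/-!
# The five standard parameter systems for the double bond, and similarity of parameter systems
-/

set_option autoImplicit false

namespace Cfsg.Agent.TitsThree.StdData

open Cfsg.Agent.TitsThree.Siegel Cfsg.Agent.TitsThree.B2Pkg

/-- Symplectic: `V = 0`, `σ = 1`, `ε = -1`, all `(0, c)`. -/
def stdSp (F : Type*) [Field F] : PQDatum F Unit where
  σ := RingEquiv.refl F
  σσ _ := rfl
  ε := -1
  ε_mul := by simp
  h _ _ := 0
  add_left _ _ _ := by simp
  smul_left _ _ _ := by simp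
  swap _ _ := by simp
  ok _ _ := True
  ok_zero := trivial
  ok_mul _ _ := trivial
  ok_inv _ := trivial
  ok_sc _ _ _ _ := trivial
  ok_tr _ _ := trivial
  ok_refl _ _ _ := trivial
  ok_rel _ := by simp
  ok_aniso _ := rfl

/-- Odd dimensional orthogonal: `V = F`, `σ = 1`, `ε = 1`, all `(w, -w²)`. -/
def stdO1 (F : Type*) [Field F] : PQDatum F F where
  σ := RingEquiv.refl F
  σσ _ := rfl
  ε := 1
  ε_mul := by simp
  h v w := 2 * v * w
  add_left _ _ _ := by ring
  smul_left _ _ _ := by simp only [smul_eq_mul]; ring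
  swap _ _ := by simp only [RingEquiv.refl_apply]; ring
  ok w c := c = -w ^ 2
  ok_zero := by simp
  ok_mul := by
    rintro w c w' c' rfl rfl
    ring
  ok_inv := by
    rintro w c rfl
    simp
  ok_sc := by
    rintro a w c rfl
    simp only [RingEquiv.refl_apply, smul_eq_mul]; ring
  ok_tr a b := by simp only [RingEquiv.refl_apply]; ring
  ok_refl := by
    rintro w c w' c' rfl h0 rfl
    have hw : w ≠ 0 := by
      rintro rfl
      apply h0; simp
    simp only [smul_eq_mul]
    field_simp
    ring
  ok_rel := by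
    rintro w c rfl
    simp only [RingEquiv.refl_apply]; ring
  ok_aniso := by
    intro w h
    have : w ^ 2 = 0 := by
      have := h.symm
      simpa using this
    exact pow_eq_zero_iff (two_ne_zero) |>.1 this

/-- The binary form. -/
def nf {F : Type*} [Field F] (a b : F) (w : F × F) : F := w.1 ^ 2 + a * w.1 * w.2 + b * w.2 ^ 2

/-- Orthogonal of minus type: `V = F²`, `σ = 1`, `ε = 1`, all `(w, -(w₁² + a w₁ w₂ + b w₂²))`. -/
def stdO2 (F : Type*) [Field F] (a b : F)
    (hab : ∀ z₁ z₂ : F, z₁ ^ 2 + a * z₁ * z₂ + b * z₂ ^ 2 = 0 → z₁ = 0 ∧ z₂ = 0) :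
    PQDatum F (F × F) where
  σ := RingEquiv.refl F
  σσ _ := rfl
  ε := 1
  ε_mul := by simp
  h v w := 2 * v.1 * w.1 + a * (v.1 * w.2 + v.2 * w.1) + 2 * b * v.2 * w.2
  add_left _ _ _ := by simp only [Prod.fst_add, Prod.snd_add]; ring
  smul_left _ _ _ := by simp only [Prod.smul_fst, Prod.smul_snd, smul_eq_mul]; ring
  swap _ _ := by simp only [RingEquiv.refl_apply]; ring
  ok w c := c = -nf a b w
  ok_zero := by simp [nf]
  ok_mul := by
    rintro w c w' c' rfl rfl
    simp only [nf, Prod.fst_add, Prod.snd_add]; ring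
  ok_inv := by
    rintro w c rfl
    simp only [nf, RingEquiv.refl_apply, Prod.fst_neg, Prod.snd_neg]; ring
  ok_sc := by
    rintro x w c rfl
    simp only [nf, RingEquiv.refl_apply, Prod.smul_fst, Prod.smul_snd, smul_eq_mul]; ring
  ok_tr x y := by simp only [nf, RingEquiv.refl_apply, Prod.fst_zero, Prod.snd_zero]; ring
  ok_refl := by
    rintro w c w' c' rfl h0 rfl
    have h1 : nf a b w ≠ 0 := fun h => h0 (by rw [h, neg_zero])
    set B := 2 * w'.1 * w.1 + a * (w'.1 * w.2 + w'.2 * w.1) + 2 * b * w'.2 * w.2 with hB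
    set k := (-nf a b w)⁻¹ * B with hk
    have hk' : k * nf a b w = -B := by
      rw [hk]; field_simp
    simp only [nf] at hk'
    simp only [nf, Prod.fst_add, Prod.snd_add, Prod.smul_fst, Prod.smul_snd, smul_eq_mul]
    linear_combination k * hk' - k * hB
  ok_rel := by
    rintro w c rfl
    simp only [nf, RingEquiv.refl_apply]; ring
  ok_aniso := by
    intro w h
    have h1 : w.1 ^ 2 + a * w.1 * w.2 + b * w.2 ^ 2 = 0 := neg_eq_zero.1 h.symm
    obtain ⟨h2, h3⟩ := hab _ _ h1
    exact Prod.ext h2 h3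

/-- Even dimensional unitary: `V = 0`, `ε = 1`, all `(0, c)` with `c + σ c = 0`. -/
def stdU0 (F : Type*) [Field F] (σ : F ≃+* F) (hσ : ∀ x, σ (σ x) = x) : PQDatum F Unit where
  σ := σ
  σσ := hσ
  ε := 1
  ε_mul := by simp
  h _ _ := 0
  add_left _ _ _ := by simp
  smul_left _ _ _ := by simp
  swap _ _ := by simp
  ok _ c := c + σ c = 0
  ok_zero := by simp
  ok_mul := by
    intro w c w' c' h h'
    simp only [sub_zero, map_add]
    linear_combination h + h'
  ok_inv := by
    intro w c h
    simp only [one_mul, hσ]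
    linear_combination h
  ok_sc := by
    intro a w c h
    simp only [map_mul, hσ]
    linear_combination a * σ a * h
  ok_tr a b := by simp only [map_mul, map_sub, map_one, hσ]; ring
  ok_refl := fun _ _ h => h
  ok_rel := by
    intro w c h
    simpa using h
  ok_aniso _ := rfl

/-- Odd dimensional unitary: `V = F`, `ε = 1`, `h v w = v σ w`, all `(w, c)` with `c + σ c = - w σ w`. -/
def stdU1 (F : Type*) [Field F] (σ : F ≃+* F) (hσ : ∀ x, σ (σ x) = x) : PQDatum F F where
  σ := σ
  σσ := hσ
  ε := 1
  ε_mul := by simp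
  h v w := v * σ w
  add_left _ _ _ := by ring
  smul_left _ _ _ := by simp only [smul_eq_mul]; ring
  swap _ _ := by simp only [map_mul, hσ]; ring
  ok w c := c + σ c = -(w * σ w)
  ok_zero := by simp
  ok_mul := by
    intro w c w' c' h h'
    simp only [map_sub, map_add, map_mul, hσ]
    linear_combination h + h'
  ok_inv := by
    intro w c h
    simp only [one_mul, hσ, map_neg]
    linear_combination h
  ok_sc := by
    intro a w c h
    simp only [map_mul, hσ, smul_eq_mul]
    linear_combination a * σ a * h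
  ok_tr a b := by simp only [map_mul, map_sub, map_one, hσ]; ring
  ok_refl := by
    intro w c w' c' h h0 h'
    have hc : σ c ≠ 0 := fun hh => h0 (by have := congrArg σ hh; simpa [hσ] using this)
    simp only [smul_eq_mul, map_add, map_mul, map_inv₀, hσ]
    rw [h']
    field_simp
    linear_combination w' * σ w' * w * σ w * h
  ok_rel := by
    intro w c h
    simpa using h
  ok_aniso := by
    intro w h
    simp only [map_zero, add_zero] at h
    have h1 : w * σ w = 0 := by
      have := h.symm
      simpa using this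
    rcases mul_eq_zero.1 h1 with h2 | h2
    · exact h2
    · have := congrArg σ h2
      simpa [hσ] using this

/-- Similarity of parameter systems: `(w, c) ↦ (e w, l c)`. -/
structure Sim {F : Type*} [Field F] {V V' : Type*} [AddCommGroup V] [Module F V] [AddCommGroup V']
    [Module F V'] (D : PQDatum F V) (D' : PQDatum F V') where
  l : F
  l_ne : l ≠ 0
  e : V ≃ₗ[F] V'
  σ_eq : ∀ x, D'.σ x = D.σ x
  ε_eq : D'.ε = D.ε * l * (D.σ l)⁻¹
  h_eq : ∀ v w, D'.h (e v) (e w) = l * D.h v w
  ok_iff : ∀ w c, D'.ok (e w) (l * c) ↔ D.ok w c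

end Cfsg.Agent.TitsThree.StdData
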