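import Mathlib
import Cfsg.Agent.TitsThree.StdData

/-!
# Classification of finite anisotropic parameter systems
-/

set_option autoImplicit false

namespace Cfsg.Agent.TitsThree.PQClass

open Cfsg.Agent.TitsThree.Siegel Cfsg.Agent.TitsThree.B2Pkg Cfsg.Agent.TitsThree.StdData

section FieldFacts

variable {F : Type*} [Field F] (σ : F ≃+* F) (hσ : ∀ x, σ (σ x) = x)

theorem exists_trace_ne (hne : ∃ x, σ x ≠ x) : ∃ t, t + σ t ≠ 0 := by
  by_contra hcon
  push Not at hcon
  obtain ⟨x, hx⟩ := hne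
  have h1 := hcon 1
  rw [map_one] at h1
  have h2 := hcon x
  apply hx
  have h3 : σ x = -x := by linear_combination h2
  rw [h3]
  linear_combination -x * h1

include hσ in
theorem exists_sub (hne : ∃ x, σ x ≠ x) {ε c : F} (hc : c + ε * σ c = 0) :
    ∃ m, c = m - ε * σ m := by
  obtain ⟨t, ht⟩ := exists_trace_ne σ hne
  set d := t + σ t with hd
  have hσd : σ d = d := by rw [hd, map_add, hσ, add_comm]
  refine ⟨c * (t / d), ?_⟩
  rw [map_mul, map_div₀, hσd]
  have h1 : c * (t / d) - ε * (σ c * (σ t / d)) = (c * t - ε * σ c * σ t) / d := by ring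
  rw [h1, eq_div_iff ht, hd]
  linear_combination σ t * hc

include hσ in
theorem hilbert90 (hne : ∃ x, σ x ≠ x) {x : F} (hx : x * σ x = 1) : ∃ y, y ≠ 0 ∧ x * σ y = y := by
  have hex : ∃ c, c + x * σ c ≠ 0 := by
    by_contra hcon
    push Not at hcon
    obtain ⟨z, hz⟩ := hne
    have h1 := hcon 1
    rw [map_one] at h1
    have h2 := hcon z
    apply hz
    linear_combination -h2 + σ z * h1
  obtain ⟨c, hc⟩ := hex
  refine ⟨c + x * σ c, hc, ?_⟩
  rw [map_add, map_mul, hσ]
  linear_combination c * hx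

include hσ in
theorem norm_surj [Finite F] (hne : ∃ x, σ x ≠ x) {r : F} (hr : σ r = r) : ∃ x, x * σ x = r := by
  by_cases hr0 : r = 0
  · exact ⟨0, by rw [hr0, zero_mul]⟩
  let s : Fˣ →* Fˣ := Units.map (σ : F →* F)
  have hs : ∀ x : Fˣ, ((s x : Fˣ) : F) = σ x := fun x => rfl
  have hss : ∀ x : Fˣ, s (s x) = x := fun x => Units.ext (hσ x)
  let N : Fˣ →* Fˣ := MonoidHom.id Fˣ * s
  let D : Fˣ →* Fˣ := MonoidHom.id Fˣ / s
  have hN : ∀ x, N x = x * s x := fun x => rfl
  have hD : ∀ x, D x = x / s x := fun x => rfl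
  have h1 : N.ker = D.range := by
    apply le_antisymm
    · intro x hx
      rw [MonoidHom.mem_ker, hN] at hx
      have hx' : (x : F) * σ x = 1 := congrArg Units.val hx
      obtain ⟨y, hy0, hy⟩ := hilbert90 σ hσ hne hx'
      refine ⟨Units.mk0 y hy0, ?_⟩
      rw [hD, div_eq_iff_eq_mul]
      apply Units.ext
      rw [Units.val_mul, hs, Units.val_mk0]
      exact hy.symm
    · rintro _ ⟨y, rfl⟩
      rw [MonoidHom.mem_ker, hN, hD, map_div, hss, div_mul_div_comm, mul_comm, div_self']
  have h2 : N.range ≤ D.ker := by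
    rintro _ ⟨y, rfl⟩
    rw [MonoidHom.mem_ker, hN, hD, map_mul, hss, mul_comm (s y) y, div_self']
  have c1 := Subgroup.card_mul_index N.ker
  have c2 := Subgroup.card_mul_index D.ker
  rw [Subgroup.index_ker] at c1 c2
  rw [h1] at c1
  have hpos : 0 < Nat.card D.range := Nat.card_pos
  have h3 : Nat.card D.ker = Nat.card N.range := by
    have : Nat.card D.range * Nat.card D.ker = Nat.card D.range * Nat.card N.range := by
      rw [c1, mul_comm, c2]
    exact Nat.eq_of_mul_eq_mul_left hpos this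
  have h4 : N.range = D.ker := Subgroup.eq_of_le_of_card_ge h2 h3.le
  have h5 : Units.mk0 r hr0 ∈ D.ker := by
    rw [MonoidHom.mem_ker, hD, div_eq_one]
    exact Units.ext hr.symm
  rw [← h4] at h5
  obtain ⟨x, hx⟩ := h5
  exact ⟨x, congrArg Units.val hx⟩

end FieldFacts

section

variable {F : Type*} [Field F] {V : Type*} [AddCommGroup V] [Module F V] (D : PQDatum F V)

/-- the form as a linear map in the first variable -/
def hlin (v : V) : V →ₗ[F] F where
  toFun u := D.h u v
  map_add' u u' := D.add_left u u' v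
  map_smul' a u := D.smul_left a u v

theorem hlin_apply (v u : V) : hlin D v u = D.h u v := rfl

/-- one dimensional: coordinates -/
theorem exists_equiv_one [Module.Finite F V] (h1 : Module.finrank F V = 1) :
    ∃ (v : V) (e : V ≃ₗ[F] F), v ≠ 0 ∧ ∀ x : F, e.symm x = x • v := by
  let b := Module.finBasisOfFinrankEq F V h1
  refine ⟨b 0, b.equivFun ≪≫ₗ LinearEquiv.funUnique (Fin 1) F F, b.ne_zero 0, ?_⟩
  intro x
  rw [LinearEquiv.trans_symm, LinearEquiv.trans_apply, Module.Basis.equivFun_symm_apply]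
  simp

theorem exists_equiv_two [Module.Finite F V] (h2 : Module.finrank F V = 2) :
    ∃ (v w : V) (e : V ≃ₗ[F] F × F), v ≠ 0 ∧ ∀ x : F × F, e.symm x = x.1 • v + x.2 • w := by
  let b := Module.finBasisOfFinrankEq F V h2
  refine ⟨b 0, b 1, b.equivFun ≪≫ₗ LinearEquiv.finTwoArrow F F, b.ne_zero 0, ?_⟩
  intro x
  rw [LinearEquiv.trans_symm, LinearEquiv.trans_apply, Module.Basis.equivFun_symm_apply,
    Fin.sum_univ_two]
  simp [LinearEquiv.finTwoArrow]

end

section unitary

variable {F : Type*} [Field F] {V : Type*} [AddCommGroup V] [Module F V] (D : PQDatum F V)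

theorem ok_iff_unitary (hne : ∃ x, D.σ x ≠ x) (hs : ∀ w, ∃ c, D.ok w c) (w : V) (c : F) :
    D.ok w c ↔ c + D.ε * D.σ c = -D.h w w := by
  constructor
  · exact D.ok_rel
  · intro h
    obtain ⟨c₀, h₀⟩ := hs w
    have h1 := D.ok_rel h₀
    have h2 : (c - c₀) + D.ε * D.σ (c - c₀) = 0 := by
      rw [map_sub]
      linear_combination h - h1
    obtain ⟨m, hm⟩ := exists_sub D.σ D.σσ hne h2
    have h3 := D.ok_tr 1 m
    rw [map_one, one_mul, mul_one, ← hm] at h3
    have h4 := D.ok_mul h₀ h3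
    rw [D.zero_left, sub_zero, add_zero] at h4
    have h5 : c₀ + (c - c₀) = c := by ring
    rwa [h5] at h4

theorem h_aniso (hne : ∃ x, D.σ x ≠ x) (hs : ∀ w, ∃ c, D.ok w c) {w : V} (hw : D.h w w = 0) :
    w = 0 := by
  apply D.ok_aniso
  rw [ok_iff_unitary D hne hs, hw]
  simp

theorem unitary_finrank [Finite F] [Finite V] (hne : ∃ x, D.σ x ≠ x)
    (hs : ∀ w, ∃ c, D.ok w c) : Module.finrank F V ≤ 1 := by
  by_contra hcon
  push Not at hcon
  have : Nontrivial V := Module.nontrivial_of_finrank_pos (R := F) (by omega)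
  obtain ⟨v, hv⟩ := exists_ne (0 : V)
  have hvv : D.h v v ≠ 0 := fun h => hv (h_aniso D hne hs h)
  have hker : LinearMap.ker (hlin D v) ≠ ⊥ := by
    apply LinearMap.ker_ne_bot_of_finrank_lt
    rw [Module.finrank_self]; exact hcon
  obtain ⟨w, hw, hw0⟩ := Submodule.exists_mem_ne_zero_of_ne_bot hker
  have hwv : D.h w v = 0 := by
    rw [LinearMap.mem_ker, hlin_apply] at hw; exact hw
  have hvw : D.h v w = 0 := D.orth_symm hwv
  have hε := D.ε_ne
  have e1 : D.h v v = D.ε * D.σ (D.h v v) := D.swap v v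
  have e2 : D.h w w = D.ε * D.σ (D.h w w) := D.swap w w
  have hσv : D.σ (D.h v v) ≠ 0 := fun h => hvv (by rw [e1, h, mul_zero])
  have hr : D.σ (-(D.h w w) / D.h v v) = -(D.h w w) / D.h v v := by
    rw [map_div₀, map_neg]
    rw [div_eq_div_iff hσv hvv]
    calc -D.σ (D.h w w) * D.h v v = -D.σ (D.h w w) * (D.ε * D.σ (D.h v v)) := by rw [← e1]
      _ = -(D.ε * D.σ (D.h w w)) * D.σ (D.h v v) := by ring
      _ = -(D.h w w) * D.σ (D.h v v) := by rw [← e2]
  obtain ⟨x, hx⟩ := norm_surj D.σ D.σσ hne hr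
  have h0 : D.h (x • v + w) (x • v + w) = 0 := by
    rw [D.add_left, D.add_right, D.add_right, D.smul_left, D.smul_left, D.smul_right,
      D.smul_right, hvw, hwv]
    rw [eq_div_iff hvv] at hx
    linear_combination hx
  have h1 := h_aniso D hne hs h0
  have h2 : D.h (x • v + w) v = 0 := by rw [h1, D.zero_left]
  rw [D.add_left, D.smul_left, hwv, add_zero] at h2
  rcases mul_eq_zero.1 h2 with h3 | h3
  · apply hw0
    rw [h3, zero_smul, zero_add] at h1
    exact h1
  · exact hvv h3

theorem unitary_class [Finite F] [Finite V] (hne : ∃ x, D.σ x ≠ x)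
    (hs : ∀ w, ∃ c, D.ok w c) :
    Nonempty (Sim D (stdU0 F D.σ D.σσ)) ∨ Nonempty (Sim D (stdU1 F D.σ D.σσ)) := by
  have hok := ok_iff_unitary D hne hs
  have hfr := unitary_finrank D hne hs
  rcases Nat.lt_or_ge (Module.finrank F V) 1 with h0 | h1
  · left
    have hsub : Subsingleton V := (Module.finrank_zero_iff (R := F)).1 (by omega)
    obtain ⟨y, hy0, hy⟩ := hilbert90 D.σ D.σσ hne D.ε_mul
    have hl0 : D.σ y ≠ 0 := by
      intro h
      apply hy0
      rw [← hy, h, mul_zero]
    have hσl : D.σ (D.σ y) = D.ε * D.σ y := by rw [D.σσ, hy]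
    refine ⟨⟨D.σ y, hl0, LinearEquiv.ofSubsingleton V _, fun _ => rfl, ?_, ?_, ?_⟩⟩
    · change 1 = _
      rw [hσl, mul_inv_cancel₀ (mul_ne_zero D.ε_ne hl0)]
    · intro v w
      change 0 = _
      rw [Subsingleton.elim v 0, D.zero_left, mul_zero]
    · intro w c
      rw [hok]
      change D.σ y * c + D.σ (D.σ y * c) = 0 ↔ _
      rw [map_mul, hσl, Subsingleton.elim w 0, D.zero_left, neg_zero]
      have e : D.σ y * c + D.ε * D.σ y * D.σ c = D.σ y * (c + D.ε * D.σ c) := by ring
      rw [e]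
      exact ⟨fun h => (mul_eq_zero.1 h).resolve_left hl0, fun h => by rw [h, mul_zero]⟩
  · right
    have h2 : Module.finrank F V = 1 := le_antisymm hfr h1
    obtain ⟨v, e, hv, he⟩ := exists_equiv_one h2
    have hvv : D.h v v ≠ 0 := fun h => hv (h_aniso D hne hs h)
    have e1 : D.h v v = D.ε * D.σ (D.h v v) := D.swap v v
    have hσv : D.σ (D.h v v) ≠ 0 := fun h => hvv (by rw [e1, h, mul_zero])
    have hw : ∀ w : V, w = e w • v := fun w => by rw [← he, LinearEquiv.symm_apply_apply]
    refine ⟨⟨(D.h v v)⁻¹, inv_ne_zero hvv, e, fun _ => rfl, ?_, ?_, ?_⟩⟩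
    · change 1 = _
      rw [map_inv₀, inv_inv]
      field_simp
      exact e1
    · intro u w
      change e u * D.σ (e w) = _
      have : D.h u w = e u * D.σ (e w) * D.h v v := by
        conv_lhs => rw [hw u, hw w, D.smul_left, D.smul_right]
        ring
      rw [this]
      field_simp
    · intro w c
      rw [hok]
      change (D.h v v)⁻¹ * c + D.σ ((D.h v v)⁻¹ * c) = -(e w * D.σ (e w)) ↔ _
      have h3 : D.h w w = e w * D.σ (e w) * D.h v v := by
        conv_lhs => rw [hw w, D.smul_left, D.smul_right]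
        ring
      have h4 : D.σ ((D.h v v)⁻¹ * c) = (D.h v v)⁻¹ * (D.ε * D.σ c) := by
        rw [map_mul, map_inv₀, inv_mul_eq_iff_eq_mul₀ hσv, eq_comm]
        calc D.σ (D.h v v) * ((D.h v v)⁻¹ * (D.ε * D.σ c))
            = (D.h v v)⁻¹ * (D.ε * D.σ (D.h v v)) * D.σ c := by ring
          _ = D.σ c := by rw [← e1, inv_mul_cancel₀ hvv, one_mul]
      rw [h4, ← mul_add, h3, inv_mul_eq_iff_eq_mul₀ hvv]
      constructor
      · intro h; linear_combination h
      · intro h; linear_combination h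

end unitary

section symplectic

variable {F : Type*} [Field F] {V : Type*} [AddCommGroup V] [Module F V] (D : PQDatum F V)

theorem symplectic_class (hσ : ∀ x, D.σ x = x) (hε : D.ε = -1) (h2 : (2 : F) ≠ 0)
    (hs : ∀ w, ∃ c, D.ok w c) : Nonempty (Sim D (stdSp F)) := by
  have hok : ∀ c, D.ok 0 c := by
    intro c
    have := D.ok_tr 1 (c / 2)
    rw [map_one, one_mul, mul_one, hε, hσ] at this
    have e : c / 2 - -1 * (c / 2) = c := by field_simp; ring
    rwa [e] at this
  have hV : ∀ w : V, w = 0 := by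
    intro w
    obtain ⟨c, hc⟩ := hs w
    have := D.ok_mul hc (hok (-c))
    rw [D.zero_left, add_zero] at this
    have e : c + -c - 0 = 0 := by ring
    rw [e] at this
    exact D.ok_aniso this
  have hsub : Subsingleton V := ⟨fun a b => by rw [hV a, hV b]⟩
  refine ⟨⟨1, one_ne_zero, LinearEquiv.ofSubsingleton V _, fun x => (hσ x).symm, ?_, ?_, ?_⟩⟩
  · change -1 = _
    rw [hε, map_one]; simp
  · intro v w
    change 0 = _
    rw [hV v, D.zero_left, mul_zero]
  · intro w c
    change True ↔ _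
    rw [hV w]
    exact ⟨fun _ => hok c, fun _ => trivial⟩

/-- the quadratic form -/
theorem exists_quad (hσ : ∀ x, D.σ x = x) (hε : D.ε = 1)
    (h0 : ∀ c, D.ok 0 c → ∃ m, c = m - D.ε * D.σ m) (hs : ∀ w, ∃ c, D.ok w c) :
    ∃ Q : V → F, (∀ w c, D.ok w c ↔ c = -Q w) ∧ (∀ (a : F) w, Q (a • w) = a ^ 2 * Q w) ∧
      (∀ w w', Q (w + w') = Q w + Q w' + D.h w' w) ∧ (∀ w, Q w = 0 → w = 0) ∧
      (∀ w, D.h w w = 2 * Q w) := by
  have h0' : ∀ c, D.ok 0 c → c = 0 := by
    intro c hc
    obtain ⟨m, hm⟩ := h0 c hc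
    rw [hm, hε, hσ]; ring
  have huniq : ∀ w c c', D.ok w c → D.ok w c' → c = c' := by
    intro w c c' h h'
    have h1 := D.ok_inv h
    rw [hε, hσ, one_mul] at h1
    have h2 := D.ok_mul h1 h'
    rw [neg_add_cancel, D.neg_right] at h2
    have h3 := h0' _ h2
    have h4 := D.ok_rel h
    rw [hε, hσ] at h4
    linear_combination h3 - h4 - 2 * (h3 - h4) + (h3 - h4 - (h3 - h4))
  choose q hq using hs
  have hok : ∀ w c, D.ok w c ↔ c = -(fun w => -q w) w := by
    intro w c
    simp only [neg_neg]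
    exact ⟨fun h => huniq w c (q w) h (hq w), fun h => h ▸ hq w⟩
  refine ⟨fun w => -q w, hok, ?_, ?_, ?_, ?_⟩
  · intro a w
    have h1 := D.ok_sc a (hq w)
    rw [hσ] at h1
    have := huniq _ _ _ h1 (hq (a • w))
    simp only
    rw [← this]; ring
  · intro w w'
    have h1 := D.ok_mul (hq w) (hq w')
    have := huniq _ _ _ h1 (hq (w + w'))
    simp only
    rw [← this]; ring
  · intro w h
    apply D.ok_aniso
    rw [hok]
    simp only at h ⊢
    rw [h, neg_zero]
  · intro w
    have := D.ok_rel (hq w)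
    rw [hε, hσ] at this
    simp only
    linear_combination this

theorem quad_finrank [Finite F] [Finite V] {Q : V → F}
    (hsm : ∀ (a : F) w, Q (a • w) = a ^ 2 * Q w)
    (hadd : ∀ w w', Q (w + w') = Q w + Q w' + D.h w' w) (han : ∀ w, Q w = 0 → w = 0)
    (hh : ∀ w, D.h w w = 2 * Q w) : Module.finrank F V ≤ 2 := by
  classical
  have := Fintype.ofFinite F
  by_contra hcon
  push Not at hcon
  have : Nontrivial V := Module.nontrivial_of_finrank_pos (R := F) (by omega)
  obtain ⟨v, hv⟩ := exists_ne (0 : V)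
  have hQv : Q v ≠ 0 := fun h => hv (han v h)
  by_cases h2 : (2 : F) = 0
  · -- characteristic two
    have hchar : ringChar F = 2 := by
      apply ringChar.eq_iff.2
      exact CharTwo.of_one_ne_zero_of_two_eq_zero one_ne_zero h2
    have hker2 : ∃ w, D.h w v = 0 ∧ ∀ x : F, x • v + w ≠ 0 := by
      by_contra hc
      push Not at hc
      have hle : LinearMap.ker (hlin D v) ≤ Submodule.span F {v} := by
        intro w hw
        rw [LinearMap.mem_ker, hlin_apply] at hw
        obtain ⟨x, hx⟩ := hc w hw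
        rw [Submodule.mem_span_singleton]
        refine ⟨-x, ?_⟩
        rw [neg_smul]
        exact (neg_eq_of_add_eq_zero_right hx)
      have h1 := Submodule.finrank_mono hle
      have h3 := LinearMap.finrank_range_add_finrank_ker (hlin D v)
      have h4 : Module.finrank F (LinearMap.range (hlin D v)) ≤ 1 := by
        have := Submodule.finrank_le (LinearMap.range (hlin D v))
        rwa [Module.finrank_self] at this
      have h5 : Module.finrank F (Submodule.span F {v}) = 1 := finrank_span_singleton hv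
      omega
    obtain ⟨w, hw, hw0⟩ := hker2
    obtain ⟨x, hx⟩ := FiniteField.isSquare_of_char_two hchar (Q w / Q v)
    apply hw0 x
    apply han
    rw [hadd, hsm, D.smul_right, hw, mul_zero, add_zero]
    rw [div_eq_iff hQv] at hx
    have : x ^ 2 * Q v + Q w = 2 * Q w := by rw [hx]; ring
    rw [this, h2, zero_mul]
  · have hvv : D.h v v ≠ 0 := by rw [hh]; exact mul_ne_zero h2 hQv
    have hk1 : LinearMap.ker (hlin D v) ≠ ⊥ := by
      apply LinearMap.ker_ne_bot_of_finrank_lt
      rw [Module.finrank_self]; omega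
    obtain ⟨w, hw, hw0⟩ := Submodule.exists_mem_ne_zero_of_ne_bot hk1
    have hwv : D.h w v = 0 := by rw [LinearMap.mem_ker, hlin_apply] at hw; exact hw
    have hQw : Q w ≠ 0 := fun h => hw0 (han w h)
    have hk2 : LinearMap.ker ((hlin D v).prod (hlin D w)) ≠ ⊥ := by
      apply LinearMap.ker_ne_bot_of_finrank_lt
      rw [Module.finrank_prod, Module.finrank_self]; omega
    obtain ⟨u, hu, hu0⟩ := Submodule.exists_mem_ne_zero_of_ne_bot hk2
    rw [LinearMap.mem_ker] at hu
    have huv : D.h u v = 0 := congrArg Prod.fst hu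
    have huw : D.h u w = 0 := congrArg Prod.snd hu
    have hodd : Fintype.card F % 2 = 1 := by
      by_contra hc
      have he : Fintype.card F % 2 = 0 := by omega
      apply h2
      have hch : ringChar F = 2 := FiniteField.even_card_iff_char_two.2 he
      have := CharP.cast_eq_zero F (ringChar F)
      rw [hch] at this
      exact_mod_cast this
    obtain ⟨x, y, hxy⟩ := FiniteField.exists_root_sum_quadratic
      (f := Polynomial.C (Q v) * Polynomial.X ^ 2 + Polynomial.C 0 * Polynomial.X +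
        Polynomial.C (Q u))
      (g := Polynomial.C (Q w) * Polynomial.X ^ 2 + Polynomial.C 0 * Polynomial.X +
        Polynomial.C 0)
      (Polynomial.degree_quadratic hQv) (Polynomial.degree_quadratic hQw) hodd
    simp only [Polynomial.eval_add, Polynomial.eval_mul, Polynomial.eval_C, Polynomial.eval_pow,
      Polynomial.eval_X] at hxy
    have hwv' : D.h v w = 0 := D.orth_symm hwv
    have h0 : Q (x • v + y • w + u) = 0 := by
      rw [hadd, hadd, hsm, hsm, D.add_right, D.smul_right, D.smul_right, D.smul_left,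
        D.smul_right, huv, huw, hwv]
      linear_combination hxy
    have h1 := han _ h0
    apply hu0
    -- `h u' v = 0` etc. give `x = y = 0`
    have h3 : D.h (x • v + y • w + u) v = 0 := by rw [h1, D.zero_left]
    rw [D.add_left, D.add_left, D.smul_left, D.smul_left, hwv, huv, mul_zero, add_zero,
      add_zero] at h3
    have hx0 : x = 0 := (mul_eq_zero.1 h3).resolve_right hvv
    have hww : D.h w w ≠ 0 := by rw [hh]; exact mul_ne_zero h2 hQw
    have h4 : D.h (x • v + y • w + u) w = 0 := by rw [h1, D.zero_left]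
    rw [D.add_left, D.add_left, D.smul_left, D.smul_left, hwv', huw, mul_zero, zero_add,
      add_zero] at h4
    have hy0 : y = 0 := (mul_eq_zero.1 h4).resolve_right hww
    rw [hx0, hy0, zero_smul, zero_smul, zero_add, zero_add] at h1
    exact h1

theorem orthogonal_class [Finite F] [Finite V] (hσ : ∀ x, D.σ x = x) (hε : D.ε = 1)
    (h0 : ∀ c, D.ok 0 c → ∃ m, c = m - D.ε * D.σ m) (hs : ∀ w, ∃ c, D.ok w c)
    (hne : ∃ w c, D.ok w c ∧ c ≠ 0) :
    Nonempty (Sim D (stdO1 F)) ∨ ∃ a b hab, Nonempty (Sim D (stdO2 F a b hab)) := by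
  obtain ⟨Q, hok, hsm, hadd, han, hh⟩ := exists_quad D hσ hε h0 hs
  have hfr := quad_finrank D hsm hadd han hh
  have hQ0 : Q 0 = 0 := by
    have := hsm 0 0
    rw [zero_smul] at this
    rw [this]; ring
  have hpos : 0 < Module.finrank F V := by
    rw [Module.finrank_pos_iff]
    obtain ⟨w, c, hwc, hc⟩ := hne
    refine ⟨⟨w, 0, ?_⟩⟩
    rintro rfl
    apply hc
    rw [(hok _ _).1 hwc, hQ0, neg_zero]
  have hsymm : ∀ v w, D.h w v = D.h v w := by
    intro v w
    rw [D.swap v w, hε, hσ, one_mul]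
  rcases (show Module.finrank F V = 1 ∨ Module.finrank F V = 2 by omega) with h1 | h2
  · left
    obtain ⟨v, e, hv, he⟩ := exists_equiv_one h1
    have hQv : Q v ≠ 0 := fun h => hv (han v h)
    have hw : ∀ w : V, w = e w • v := fun w => by rw [← he, LinearEquiv.symm_apply_apply]
    refine ⟨⟨(Q v)⁻¹, inv_ne_zero hQv, e, fun x => (hσ x).symm, ?_, ?_, ?_⟩⟩
    · change 1 = _
      rw [hε, hσ, one_mul, mul_inv_cancel₀ (inv_ne_zero hQv)]
    · intro u w
      change 2 * e u * e w = _
      have h3 : D.h u w = e u * e w * (2 * Q v) := by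
        rw [← hh]
        conv_lhs => rw [hw u, hw w, D.smul_left, D.smul_right, hσ]
        ring
      rw [h3]
      field_simp
    · intro w c
      rw [hok]
      change (Q v)⁻¹ * c = -(e w) ^ 2 ↔ _
      have h3 : Q w = (e w) ^ 2 * Q v := by conv_lhs => rw [hw w, hsm]
      rw [h3, inv_mul_eq_iff_eq_mul₀ hQv]
      constructor
      · intro h; linear_combination h
      · intro h; linear_combination h
  · right
    obtain ⟨v, w₀, e, hv, he⟩ := exists_equiv_two h2
    have hQv : Q v ≠ 0 := fun h => hv (han v h)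
    have hw : ∀ w : V, w = (e w).1 • v + (e w).2 • w₀ := fun w => by
      rw [← he, LinearEquiv.symm_apply_apply]
    have hQ : ∀ w : V, Q w = (e w).1 ^ 2 * Q v + (e w).1 * (e w).2 * D.h v w₀ +
        (e w).2 ^ 2 * Q w₀ := by
      intro w
      conv_lhs => rw [hw w, hadd, hsm, hsm, D.smul_left, D.smul_right, hσ, hsymm v w₀]
      ring
    have hhw : ∀ u w : V, D.h u w = 2 * (e u).1 * (e w).1 * Q v +
        ((e u).1 * (e w).2 + (e u).2 * (e w).1) * D.h v w₀ + 2 * (e u).2 * (e w).2 * Q w₀ := by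
      intro u w
      conv_lhs => rw [hw u, hw w, D.add_left, D.add_right, D.add_right, D.smul_left, D.smul_left,
        D.smul_right, D.smul_right, D.smul_left, D.smul_left, D.smul_right, D.smul_right, hσ, hσ,
        hsymm v w₀, hh, hh]
      ring
    refine ⟨D.h v w₀ / Q v, Q w₀ / Q v, ?_, ?_⟩
    · intro z₁ z₂ hz
      have h3 : Q (e.symm (z₁, z₂)) = 0 := by
        rw [hQ, LinearEquiv.apply_symm_apply]
        simp only
        have h4 : z₁ ^ 2 * Q v + z₁ * z₂ * D.h v w₀ + z₂ ^ 2 * Q w₀ =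
            Q v * (z₁ ^ 2 + D.h v w₀ / Q v * z₁ * z₂ + Q w₀ / Q v * z₂ ^ 2) := by
          field_simp
        rw [h4, hz, mul_zero]
      have h4 := han _ h3
      have h5 : (z₁, z₂) = (0 : F × F) := by
        rw [← LinearEquiv.apply_symm_apply e (z₁, z₂), h4, map_zero]
      exact ⟨congrArg Prod.fst h5, congrArg Prod.snd h5⟩
    · refine ⟨⟨(Q v)⁻¹, inv_ne_zero hQv, e, fun x => (hσ x).symm, ?_, ?_, ?_⟩⟩
      · change 1 = _
        rw [hε, hσ, one_mul, mul_inv_cancel₀ (inv_ne_zero hQv)]
      · intro u w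
        change 2 * (e u).1 * (e w).1 + D.h v w₀ / Q v * ((e u).1 * (e w).2 + (e u).2 * (e w).1) +
          2 * (Q w₀ / Q v) * (e u).2 * (e w).2 = _
        rw [hhw u w]
        field_simp
      · intro w c
        rw [hok]
        change (Q v)⁻¹ * c = -nf (D.h v w₀ / Q v) (Q w₀ / Q v) (e w) ↔ _
        rw [hQ w, inv_mul_eq_iff_eq_mul₀ hQv]
        have h3 : Q v * -nf (D.h v w₀ / Q v) (Q w₀ / Q v) (e w) = -((e w).1 ^ 2 * Q v +
            (e w).1 * (e w).2 * D.h v w₀ + (e w).2 ^ 2 * Q w₀) := by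
          simp only [nf]
          field_simp
        rw [h3]

/-- **Classification of finite anisotropic parameter systems.** -/
theorem classify [Finite F] [Finite V]
    (h0 : ∀ c, D.ok 0 c → ∃ m, c = m - D.ε * D.σ m) (hs : ∀ w, ∃ c, D.ok w c)
    (hne : ∃ w c, D.ok w c ∧ c ≠ 0) :
    ((2 : F) ≠ 0 ∧ Nonempty (Sim D (stdSp F))) ∨ Nonempty (Sim D (stdO1 F)) ∨
      (∃ a b hab, Nonempty (Sim D (stdO2 F a b hab))) ∨
      ((∃ x, D.σ x ≠ x) ∧ Nonempty (Sim D (stdU0 F D.σ D.σσ))) ∨
      ((∃ x, D.σ x ≠ x) ∧ Nonempty (Sim D (stdU1 F D.σ D.σσ))) := by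
  by_cases hσ : ∀ x, D.σ x = x
  · have hε : D.ε * D.ε = 1 := by
      have := D.ε_mul
      rwa [hσ] at this
    rcases mul_self_eq_one_iff.1 hε with h1 | h1
    · rcases orthogonal_class D hσ h1 h0 hs hne with h | h
      · exact Or.inr (Or.inl h)
      · exact Or.inr (Or.inr (Or.inl h))
    · by_cases h2 : (2 : F) = 0
      · have h1' : D.ε = 1 := by
          rw [h1]; linear_combination -h2
        rcases orthogonal_class D hσ h1' h0 hs hne with h | h
        · exact Or.inr (Or.inl h)
        · exact Or.inr (Or.inr (Or.inl h))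
      · exact Or.inl ⟨h2, symplectic_class D hσ h1 h2 hs⟩
  · push Not at hσ
    rcases unitary_class D hσ hs with h | h
    · exact Or.inr (Or.inr (Or.inr (Or.inl ⟨hσ, h⟩)))
    · exact Or.inr (Or.inr (Or.inr (Or.inr ⟨hσ, h⟩)))

end symplectic

end Cfsg.Agent.TitsThree.PQClass
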