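import Mathlib
import Cfsg.Agent.TitsThree.StdData

/-!
# The type II node: similitudes and torus of the five standard parameter systems

* `SimG D` : automorphisms `φ` of `D.T` with `φ (sc a p) = sc a (φ p)`, `(φ p).c = κ * p.c`; it is
  solvable for the five standard systems;
* `TorG D` : generated by the maps `sc a` and `sc a ∘ refl p ∘ refl q`; its order is prime to the
  characteristic.
-/

set_option autoImplicit false

namespace Cfsg.Agent.TitsThree.TorusII

open Cfsg.Agent.TitsThree.Siegel Cfsg.Agent.TitsThree.B2Pkg Cfsg.Agent.TitsThree.StdData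
open scoped commutatorElement

/-! ### Group theory -/

/-- `H` is solvable if its commutators lie in a commutative subgroup. -/
theorem solvable_of_commutators {M : Type*} [Group M] (H Q : Subgroup M)
    (hQ : ∀ x ∈ Q, ∀ y ∈ Q, x * y = y * x) (h : ∀ x ∈ H, ∀ y ∈ H, ⁅x, y⁆ ∈ Q) :
    Group.IsSolvable H := by
  refine ⟨2, ?_⟩
  have h1 : derivedSeries H 1 ≤ Q.subgroupOf H := by
    rw [derivedSeries_one]
    unfold commutator
    rw [Subgroup.commutator_le]
    rintro ⟨x, hx⟩ - ⟨y, hy⟩ -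
    rw [Subgroup.mem_subgroupOf]
    exact h x hx y hy
  rw [derivedSeries_succ, eq_bot_iff, Subgroup.commutator_le]
  intro x hx y hy
  have hx' := Subgroup.mem_subgroupOf.1 (h1 hx)
  have hy' := Subgroup.mem_subgroupOf.1 (h1 hy)
  rw [Subgroup.mem_bot, commutatorElement_eq_one_iff_mul_comm]
  exact Subtype.ext (hQ _ hx' _ hy')

/-- A finite group without elements of order `p` has order prime to `p`. -/
theorem not_dvd_card {M : Type*} [Group M] [Finite M] (p : ℕ) [Fact p.Prime] (Q : Subgroup M)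
    (h : ∀ x ∈ Q, x ^ p = 1 → x = 1) : ¬ p ∣ Nat.card Q := by
  intro hd
  obtain ⟨⟨x, hx⟩, hxo⟩ := exists_prime_orderOf_dvd_card' (G := Q) p hd
  have h1 : x ^ p = 1 := by
    have := pow_orderOf_eq_one (⟨x, hx⟩ : Q)
    rw [hxo] at this
    exact congrArg Subtype.val this
  have h2 := h x hx h1
  have h3 : orderOf (⟨x, hx⟩ : Q) = 1 := by
    rw [orderOf_eq_one_iff]
    exact Subtype.ext h2
  rw [hxo] at h3
  exact (Fact.out : p.Prime).one_lt.ne' h3

theorem not_dvd_card_mono {M : Type*} [Group M] [Finite M] {p : ℕ} {Q R : Subgroup M} (hQR : Q ≤ R)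
    (h : ¬ p ∣ Nat.card R) : ¬ p ∣ Nat.card Q :=
  fun hd => h (hd.trans (Subgroup.card_dvd_of_le hQR))

section

variable {F : Type*} [Field F] {V : Type*} [AddCommGroup V] [Module F V] (D : PQDatum F V)

theorem sc_mul (a : F) (p q : D.T) : D.sc a (p * q) = D.sc a p * D.sc a q := by
  ext
  · simp
  · simp only [PQDatum.sc_c, PQDatum.T.mul_c, PQDatum.sc_w, D.smul_left, D.smul_right, D.σσ]
    ring

theorem sc_sc (a b : F) (p : D.T) : D.sc a (D.sc b p) = D.sc (a * b) p := by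
  ext
  · simp [smul_smul]
  · simp only [PQDatum.sc_c, map_mul]; ring

theorem sc_one (p : D.T) : D.sc 1 p = p := by
  ext <;> simp

/-- Similitudes of the parameter group. -/
def SimG : Subgroup (MulAut D.T) where
  carrier := {φ | (∀ a p, φ (D.sc a p) = D.sc a (φ p)) ∧ ∃ κ : F, κ ≠ 0 ∧ ∀ p, (φ p).c = κ * p.c}
  mul_mem' := by
    rintro φ ψ ⟨h1, κ, hκ, h2⟩ ⟨h1', κ', hκ', h2'⟩
    refine ⟨fun a p => ?_, κ * κ', mul_ne_zero hκ hκ', fun p => ?_⟩
    · rw [MulAut.mul_apply, MulAut.mul_apply, h1', h1]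
    · rw [MulAut.mul_apply, h2, h2']; ring
  one_mem' := ⟨fun _ _ => rfl, 1, one_ne_zero, fun _ => (one_mul _).symm⟩
  inv_mem' := by
    rintro φ ⟨h1, κ, hκ, h2⟩
    refine ⟨fun a p => ?_, κ⁻¹, inv_ne_zero hκ, fun p => ?_⟩
    · apply φ.injective
      rw [MulAut.apply_inv_self, h1, MulAut.apply_inv_self]
    · have := h2 (φ⁻¹ p)
      rw [MulAut.apply_inv_self] at this
      rw [this, ← mul_assoc, inv_mul_cancel₀ hκ, one_mul]

/-- Generators of the torus. -/
def torSet : Set (MulAut D.T) :=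
  {φ | (∃ a : F, a ≠ 0 ∧ ∀ r, φ r = D.sc a r) ∨
    ∃ (a : F) (p q : D.T) (hp : p.c ≠ 0) (hq : q.c ≠ 0), a ≠ 0 ∧
      ∀ r, φ r = D.sc a (D.refl p hp (D.refl q hq r))}

/-- The torus. -/
def TorG : Subgroup (MulAut D.T) := Subgroup.closure (torSet D)

/-- Automorphisms acting by scalars. -/
def Q1 : Subgroup (MulAut D.T) where
  carrier := {φ | ∃ μ κ : F, μ ≠ 0 ∧ κ ≠ 0 ∧ ∀ r, (φ r).w = μ • r.w ∧ (φ r).c = κ * r.c}
  mul_mem' := by
    rintro φ ψ ⟨μ, κ, hμ, hκ, h⟩ ⟨μ', κ', hμ', hκ', h'⟩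
    refine ⟨μ * μ', κ * κ', mul_ne_zero hμ hμ', mul_ne_zero hκ hκ', fun r => ⟨?_, ?_⟩⟩
    · rw [MulAut.mul_apply, (h _).1, (h' _).1, smul_smul]
    · rw [MulAut.mul_apply, (h _).2, (h' _).2, mul_assoc]
  one_mem' := ⟨1, 1, one_ne_zero, one_ne_zero, fun r => ⟨(one_smul F _).symm, (one_mul _).symm⟩⟩
  inv_mem' := by
    rintro φ ⟨μ, κ, hμ, hκ, h⟩
    refine ⟨μ⁻¹, κ⁻¹, inv_ne_zero hμ, inv_ne_zero hκ, fun r => ?_⟩
    have h1 := h (φ⁻¹ r)
    rw [MulAut.apply_inv_self] at h1
    constructor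
    · rw [h1.1, smul_smul, inv_mul_cancel₀ hμ, one_smul]
    · rw [h1.2, ← mul_assoc, inv_mul_cancel₀ hκ, one_mul]

theorem Q1_comm : ∀ x ∈ Q1 D, ∀ y ∈ Q1 D, x * y = y * x := by
  rintro φ ⟨μ, κ, -, -, h⟩ ψ ⟨μ', κ', -, -, h'⟩
  ext r
  · rw [MulAut.mul_apply, MulAut.mul_apply, (h _).1, (h' _).1, (h' _).1, (h _).1, smul_smul,
      smul_smul, mul_comm]
  · rw [MulAut.mul_apply, MulAut.mul_apply, (h _).2, (h' _).2, (h' _).2, (h _).2]; ring

theorem Q1_solvable (h : SimG D ≤ Q1 D) : Group.IsSolvable (SimG D) :=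
  solvable_of_commutators _ (Q1 D) (Q1_comm D) (fun x hx y hy => by
    rw [commutatorElement_def]
    exact (Q1 D).mul_mem ((Q1 D).mul_mem ((Q1 D).mul_mem (h hx) (h hy)) ((Q1 D).inv_mem (h hx)))
      ((Q1 D).inv_mem (h hy)))

theorem pow_eq_one_of_char {F : Type*} [Field F] (p : ℕ) [Fact p.Prime] [CharP F p] {x : F}
    (h : x ^ p = 1) : x = 1 := by
  have h1 : (x - 1) ^ p = 0 := by rw [sub_pow_char, h, one_pow, sub_self]
  exact sub_eq_zero.1 (pow_eq_zero_iff (Fact.out : p.Prime).ne_zero |>.1 h1)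

theorem Q1_not_dvd [Finite D.T] (p : ℕ) [Fact p.Prime] [CharP F p] (hne : ∃ r : D.T, r.c ≠ 0) :
    ¬ p ∣ Nat.card (Q1 D) := by
  have : Finite (MulAut D.T) := Finite.of_injective (fun φ : MulAut D.T => (φ : D.T → D.T))
    DFunLike.coe_injective
  apply not_dvd_card
  rintro φ ⟨μ, κ, hμ, hκ, h⟩ hφ
  have hpow : ∀ n : ℕ, ∀ r, ((φ ^ n) r).w = μ ^ n • r.w ∧ ((φ ^ n) r).c = κ ^ n * r.c := by
    intro n
    induction n with
    | zero => intro r; simp
    | succ n ih =>
      intro r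
      rw [pow_succ, MulAut.mul_apply, (ih _).1, (ih _).2, (h r).1, (h r).2, smul_smul]
      exact ⟨by rw [pow_succ], by rw [pow_succ]; ring⟩
  have hw : ∀ r : D.T, r.w = μ ^ p • r.w := by
    intro r
    have := (hpow p r).1
    rwa [hφ] at this
  have hc : ∀ r : D.T, r.c = κ ^ p * r.c := by
    intro r
    have := (hpow p r).2
    rwa [hφ] at this
  have hκ1 : κ = 1 := by
    obtain ⟨r, hr⟩ := hne
    apply pow_eq_one_of_char p
    have := hc r
    exact mul_right_cancel₀ hr (by rw [one_mul]; exact this.symm)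
  ext r
  · rw [(h r).1, MulAut.one_apply]
    by_cases hr : r.w = 0
    · rw [hr, smul_zero]
    · have hμ1 : μ = 1 := by
        apply pow_eq_one_of_char p
        have h1 := hw r
        have h2 : (μ ^ p - 1) • r.w = 0 := by rw [sub_smul, one_smul, ← h1, sub_self]
        exact sub_eq_zero.1 ((smul_eq_zero.1 h2).resolve_right hr)
      rw [hμ1, one_smul]
  · rw [(h r).2, hκ1, one_mul, MulAut.one_apply]

/-- `refl p` acts as a scalar if `V` is at most one dimensional. -/
theorem refl_scalar (hV : ∀ w w' : V, D.h w' w • w = D.h w w • w') (p : D.T) (hp : p.c ≠ 0)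
    (r : D.T) : (D.refl p hp r).w = (-(D.ε * D.σ p.c) / p.c) • r.w := by
  rw [PQDatum.refl_w, mul_smul, hV, smul_smul]
  have h1 := p.rel
  have h2 : D.h p.w p.w = -p.c - D.ε * D.σ p.c := by linear_combination h1
  have h3 : -(D.ε * D.σ p.c) / p.c = 1 + p.c⁻¹ * D.h p.w p.w := by
    rw [h2]; field_simp; ring
  rw [h3, add_smul, one_smul]

theorem TorG_le_Q1 (hV : ∀ w w' : V, D.h w' w • w = D.h w w • w') : TorG D ≤ Q1 D := by
  have hσ0 : ∀ x : F, x ≠ 0 → D.σ x ≠ 0 := fun x hx h => hx (by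
    have := congrArg D.σ h
    rwa [D.σσ, map_zero] at this)
  rw [TorG, Subgroup.closure_le]
  rintro φ (⟨a, ha, h⟩ | ⟨a, p, q, hp, hq, ha, h⟩)
  · refine ⟨D.σ a, a * D.σ a, hσ0 a ha, mul_ne_zero ha (hσ0 a ha), fun r => ?_⟩
    rw [h r]
    exact ⟨rfl, rfl⟩
  · refine ⟨D.σ a * ((-(D.ε * D.σ p.c) / p.c) * (-(D.ε * D.σ q.c) / q.c)), a * D.σ a, ?_,
      mul_ne_zero ha (hσ0 a ha), fun r => ?_⟩
    · have h1 : ∀ s : D.T, s.c ≠ 0 → -(D.ε * D.σ s.c) / s.c ≠ 0 := fun s hs =>
        div_ne_zero (neg_ne_zero.2 (mul_ne_zero D.ε_ne (hσ0 _ hs))) hs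
      exact mul_ne_zero (hσ0 a ha) (mul_ne_zero (h1 p hp) (h1 q hq))
    · rw [h r]
      constructor
      · rw [PQDatum.sc_w, refl_scalar D hV, refl_scalar D hV, smul_smul, smul_smul, mul_assoc]
      · rw [PQDatum.sc_c, PQDatum.refl_c, PQDatum.refl_c]

end

/-! ### The data with `dim V ≤ 1` -/

section small

variable {F : Type*} [Field F]

theorem simG_le_Q1_unit (D : PQDatum F Unit) : SimG D ≤ Q1 D := by
  rintro φ ⟨-, κ, hκ, h⟩
  exact ⟨1, κ, one_ne_zero, hκ, fun r => ⟨rfl, h r⟩⟩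

theorem solvable_sp : Group.IsSolvable (SimG (stdSp F)) := Q1_solvable _ (simG_le_Q1_unit _)

theorem solvable_u0 (σ : F ≃+* F) (hσ : ∀ x, σ (σ x) = x) :
    Group.IsSolvable (SimG (stdU0 F σ hσ)) := Q1_solvable _ (simG_le_Q1_unit _)

theorem solvable_o1 : Group.IsSolvable (SimG (stdO1 F)) := by
  apply Q1_solvable
  rintro φ ⟨hs, κ, hκ, h⟩
  let r₁ : (stdO1 F).T := ⟨1, -1 ^ 2, rfl⟩
  have hr : ∀ r : (stdO1 F).T, r = (stdO1 F).sc r.w r₁ := by
    intro r
    have hrc : r.c = -r.w ^ 2 := r.ok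
    ext
    · rw [PQDatum.sc_w]
      change r.w = r.w * 1
      ring
    · rw [PQDatum.sc_c, hrc]
      change _ = r.w * r.w * -(1 : F) ^ 2
      ring
  have hφ : ∀ r, (φ r).w = (φ r₁).w * r.w := by
    intro r
    conv_lhs => rw [hr r, hs, PQDatum.sc_w]
    change r.w * _ = _
    ring
  have hμ : (φ r₁).w ≠ 0 := by
    intro h0
    have h1 := h r₁
    have h2 : (φ r₁).c = -(φ r₁).w ^ 2 := (φ r₁).ok
    rw [h0] at h2
    rw [h2] at h1
    apply hκ
    have h3 : r₁.c = -1 := by change -(1 : F) ^ 2 = -1; ring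
    rw [h3] at h1
    linear_combination h1
  exact ⟨(φ r₁).w, κ, hμ, hκ, fun r => ⟨by rw [hφ r]; rfl, h r⟩⟩

theorem solvable_u1 (σ : F ≃+* F) (hσ : ∀ x, σ (σ x) = x) (hex : ∃ c, c + σ c = -(1 : F)) :
    Group.IsSolvable (SimG (stdU1 F σ hσ)) := by
  apply Q1_solvable
  rintro φ ⟨hs, κ, hκ, h⟩
  have hσ0 : ∀ x : F, σ x = 0 → x = 0 := fun x hx => by
    have := congrArg σ hx
    rwa [hσ, map_zero] at this
  obtain ⟨c₁, hc₁⟩ := hex
  let r₁ : (stdU1 F σ hσ).T := ⟨1, c₁, by
    change c₁ + σ c₁ = -(1 * σ 1)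
    rw [map_one, one_mul]; exact hc₁⟩
  have hok : ∀ r : (stdU1 F σ hσ).T, r.c + σ r.c = -(r.w * σ r.w) := fun r => r.ok
  -- central elements go to central elements
  have hcen : ∀ r : (stdU1 F σ hσ).T, r.w = 0 → (φ r).w = 0 := by
    intro r hr
    have h1 := hok r
    rw [hr, zero_mul, neg_zero] at h1
    have h2 := hok (φ r)
    rw [h r, map_mul] at h2
    by_contra hw
    have hN : (φ r).w * σ (φ r).w ≠ 0 := mul_ne_zero hw (fun hh => hw (hσ0 _ hh))
    have h12 : ∀ a : F, (φ ((stdU1 F σ hσ).sc a r)).w = σ a * (φ r).w := by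
      intro a
      rw [hs, PQDatum.sc_w]; rfl
    have h13 : ∀ a : F, a + σ a = 0 := by
      intro a
      have h14 := hok (φ (r * (stdU1 F σ hσ).sc a r))
      rw [h (r * (stdU1 F σ hσ).sc a r), map_mul φ, PQDatum.T.mul_w, h12, PQDatum.T.mul_c,
        PQDatum.sc_w, hr] at h14
      have h15 : (κ * (r.c + ((stdU1 F σ hσ).sc a r).c - (stdU1 F σ hσ).h (σ a • (0 : F)) 0)) =
          κ * (r.c * (1 + a * σ a)) := by
        rw [PQDatum.sc_c]
        change κ * (r.c + a * σ a * r.c - (σ a * 0) * σ 0) = _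
        ring
      have h14' : κ * (r.c * (1 + a * σ a)) + σ (κ * (r.c * (1 + a * σ a))) =
          -(((φ r).w + σ a * (φ r).w) * σ ((φ r).w + σ a * (φ r).w)) := by
        rw [← h15]; exact h14
      simp only [map_mul, map_add, map_one, hσ] at h14'
      have h16 : ((φ r).w * σ (φ r).w) * (a + σ a) = 0 := by
        linear_combination h14' - (1 + a * σ a) * h2
      exact (mul_eq_zero.1 h16).resolve_left hN
    have h17 := h13 c₁
    rw [hc₁] at h17
    exact one_ne_zero (neg_eq_zero.1 h17)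
  have hφ : ∀ r, (φ r).w = (φ r₁).w * r.w := by
    intro r
    have h1 : ((stdU1 F σ hσ).sc (σ r.w) r₁)⁻¹ * r = ((stdU1 F σ hσ).sc (σ r.w) r₁)⁻¹ * r := rfl
    have h2 : (((stdU1 F σ hσ).sc (σ r.w) r₁)⁻¹ * r).w = 0 := by
      rw [PQDatum.T.mul_w, PQDatum.T.inv_w, PQDatum.sc_w]
      change -(σ (σ r.w) * 1) + r.w = 0
      rw [hσ]; ring
    have h3 := hcen _ h2
    rw [map_mul, map_inv, PQDatum.T.mul_w, PQDatum.T.inv_w, hs, PQDatum.sc_w] at h3
    have h4 : -(σ (σ r.w) * (φ r₁).w) + (φ r).w = 0 := h3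
    rw [hσ] at h4
    linear_combination h4
  have hμ : (φ r₁).w ≠ 0 := by
    intro h0
    have h1 := hok (φ r₁)
    -- surjectivity of `φ`
    have h2 := hφ (φ⁻¹ r₁)
    rw [MulAut.apply_inv_self, h0, zero_mul] at h2
    exact one_ne_zero h2
  exact ⟨(φ r₁).w, κ, hμ, hκ, fun r => ⟨by rw [hφ r]; rfl, h r⟩⟩

end small

/-! ### The datum `stdO2` -/

section quad

open QuadraticAlgebra

variable {F : Type*} [Field F]

theorem fact_of_aniso {a b : F}
    (hab : ∀ z₁ z₂ : F, z₁ ^ 2 + a * z₁ * z₂ + b * z₂ ^ 2 = 0 → z₁ = 0 ∧ z₂ = 0) :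
    Fact (∀ r : F, r ^ 2 ≠ -b + a * r) := by
  refine ⟨fun r hr => ?_⟩
  have := hab (-r) 1 (by linear_combination hr)
  exact one_ne_zero this.2

/-- linear maps preserving the norm fixing one -/
theorem eq_of_fix_one {a b : F}
    (hab : ∀ z₁ z₂ : F, z₁ ^ 2 + a * z₁ * z₂ + b * z₂ ^ 2 = 0 → z₁ = 0 ∧ z₂ = 0)
    (T : QuadraticAlgebra F (-b) a →ₗ[F] QuadraticAlgebra F (-b) a)
    (hT : ∀ x, norm (T x) = norm x) (h1 : T 1 = 1) :
    (∀ x, T x = x) ∨ (∀ x, T x = star x) := by
  have := fact_of_aniso hab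
  have key : ∀ x : QuadraticAlgebra F (-b) a, norm (x + 1) = norm x + trace x + 1 := by
    intro x
    simp only [norm_def, trace_def, re_add, im_add, re_one, im_one]
    ring
  have htr : ∀ x, trace (T x) = trace x := by
    intro x
    have h2 := hT (x + 1)
    rw [map_add, h1, key, key, hT x] at h2
    linear_combination h2
  have hroot : (T ω - ω) * (T ω - star ω) = 0 := by
    have h3 := sq_sub_trace_smul_add_norm_eq_zero (T ω)
    rw [htr, hT, Algebra.smul_def, algebraMap_trace_eq_add_star, algebraMap_norm_eq_mul_star] at h3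
    linear_combination h3
  have hx : ∀ x : QuadraticAlgebra F (-b) a, T x = x.re • 1 + x.im • T ω := by
    intro x
    conv_lhs => rw [← mk_eta x, mk_eq_add_smul_omega]
    rw [map_add, map_smul, Algebra.algebraMap_eq_smul_one, map_smul, h1]
  rcases mul_eq_zero.1 hroot with h | h
  · left
    intro x
    rw [hx, sub_eq_zero.1 h]
    ext <;> simp
  · right
    intro x
    rw [hx, sub_eq_zero.1 h]
    ext <;> simp
    ring

/-- `V = F²` as the quadratic extension -/
def em (a b : F) (w : F × F) : QuadraticAlgebra F (-b) a := ⟨w.1, w.2⟩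

theorem em_add (a b : F) (w w' : F × F) : em a b (w + w') = em a b w + em a b w' := rfl

theorem em_smul (a b x : F) (w : F × F) : em a b (x • w) = x • em a b w := rfl

theorem em_inj {a b : F} {w w' : F × F} (h : em a b w = em a b w') : w = w' :=
  Prod.ext (congrArg re h) (congrArg im h)

theorem norm_em (a b : F) (w : F × F) : norm (em a b w) = nf a b w := by
  simp only [norm_def, em, nf]; ring

variable {a b : F} (hab : ∀ z₁ z₂ : F, z₁ ^ 2 + a * z₁ * z₂ + b * z₂ ^ 2 = 0 → z₁ = 0 ∧ z₂ = 0)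

/-- Automorphisms acting by multiplications. -/
def Q2 : Subgroup (MulAut (stdO2 F a b hab).T) where
  carrier := {φ | ∃ m : QuadraticAlgebra F (-b) a, m ≠ 0 ∧ ∀ r, em a b (φ r).w = m * em a b r.w}
  mul_mem' := by
    have := fact_of_aniso hab
    rintro φ ψ ⟨m, hm, h⟩ ⟨m', hm', h'⟩
    refine ⟨m * m', mul_ne_zero hm hm', fun r => ?_⟩
    rw [MulAut.mul_apply, h, h', mul_assoc]
  one_mem' := by
    have := fact_of_aniso hab
    exact ⟨1, one_ne_zero, fun r => (one_mul _).symm⟩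
  inv_mem' := by
    have := fact_of_aniso hab
    rintro φ ⟨m, hm, h⟩
    refine ⟨m⁻¹, inv_ne_zero hm, fun r => ?_⟩
    have h1 := h (φ⁻¹ r)
    rw [MulAut.apply_inv_self] at h1
    rw [h1, ← mul_assoc, inv_mul_cancel₀ hm, one_mul]

theorem o2_ext {p q : (stdO2 F a b hab).T} (h : p.w = q.w) : p = q := by
  have h1 : p.c = -nf a b p.w := p.ok
  have h2 : q.c = -nf a b q.w := q.ok
  ext1
  · exact h
  · rw [h1, h2, h]

theorem Q2_comm : ∀ x ∈ Q2 hab, ∀ y ∈ Q2 hab, x * y = y * x := by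
  rintro φ ⟨m, -, h⟩ ψ ⟨m', -, h'⟩
  apply MulEquiv.ext
  intro r
  apply o2_ext
  apply em_inj (a := a) (b := b)
  rw [MulAut.mul_apply, MulAut.mul_apply, h, h', h', h]; ring

/-- type of a similitude: `star` or not -/
def HasType (s : Bool) (φ : MulAut (stdO2 F a b hab).T) : Prop :=
  ∃ m : QuadraticAlgebra F (-b) a, m ≠ 0 ∧
    ∀ r, em a b (φ r).w = m * (if s then star (em a b r.w) else em a b r.w)

theorem star_ne {m : QuadraticAlgebra F (-b) a} (hm : m ≠ 0) : star m ≠ 0 := fun h => hm (by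
  rw [← star_star m, h, star_zero])

theorem HasType.mul {s t : Bool} {φ ψ : MulAut (stdO2 F a b hab).T} (h : HasType hab s φ)
    (h' : HasType hab t ψ) : HasType hab (xor s t) (φ * ψ) := by
  have := fact_of_aniso hab
  obtain ⟨m, hm, h⟩ := h
  obtain ⟨m', hm', h'⟩ := h'
  refine ⟨m * (if s then star m' else m'), mul_ne_zero hm ?_, fun r => ?_⟩
  · split_ifs
    · exact star_ne hm'
    · exact hm'
  · rw [MulAut.mul_apply, h, h']
    cases s <;> cases t <;> simp [star_mul', mul_assoc]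

theorem HasType.inv {s : Bool} {φ : MulAut (stdO2 F a b hab).T} (h : HasType hab s φ) :
    HasType hab s φ⁻¹ := by
  have := fact_of_aniso hab
  obtain ⟨m, hm, h⟩ := h
  refine ⟨(if s then star m⁻¹ else m⁻¹), ?_, fun r => ?_⟩
  · split_ifs
    · exact star_ne (inv_ne_zero hm)
    · exact inv_ne_zero hm
  · have h1 := h (φ⁻¹ r)
    rw [MulAut.apply_inv_self] at h1
    rw [h1]
    cases s
    · simp only [Bool.false_eq_true, if_false]
      rw [← mul_assoc, inv_mul_cancel₀ hm, one_mul]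
    · simp only [if_true, star_mul', star_star]
      rw [← mul_assoc, ← star_mul', inv_mul_cancel₀ hm, star_one, one_mul]

theorem hasType_of_sim {φ : MulAut (stdO2 F a b hab).T} (hφ : φ ∈ SimG (stdO2 F a b hab)) :
    ∃ s, HasType hab s φ := by
  have := fact_of_aniso hab
  obtain ⟨hs, κ, hκ, h⟩ := hφ
  let el : QuadraticAlgebra F (-b) a → (stdO2 F a b hab).T :=
    fun x => ⟨(x.re, x.im), -nf a b (x.re, x.im), rfl⟩
  have hel : ∀ x, em a b (el x).w = x := fun x => rfl
  have hel' : ∀ r, el (em a b r.w) = r := fun r => o2_ext hab rfl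
  let g : QuadraticAlgebra F (-b) a → QuadraticAlgebra F (-b) a := fun x => em a b (φ (el x)).w
  have hg : ∀ r, em a b (φ r).w = g (em a b r.w) := fun r => by
    change _ = em a b (φ (el (em a b r.w))).w
    rw [hel']
  have hadd : ∀ x y, g (x + y) = g x + g y := by
    intro x y
    have h1 : el (x + y) = el x * el y := o2_ext hab rfl
    change em a b (φ (el (x + y))).w = _
    rw [h1, map_mul]
    rfl
  have hsmul : ∀ (c : F) x, g (c • x) = c • g x := by
    intro c x
    have h1 : el (c • x) = (stdO2 F a b hab).sc c (el x) := o2_ext hab rfl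
    change em a b (φ (el (c • x))).w = _
    rw [h1, hs]
    rfl
  have hN : ∀ x, norm (g x) = κ * norm x := by
    intro x
    have h1 := h (el x)
    have h2 : (φ (el x)).c = -nf a b (φ (el x)).w := (φ (el x)).ok
    have h3 : (el x).c = -nf a b (el x).w := rfl
    rw [h2, h3] at h1
    rw [← hel x, ← hg, norm_em, norm_em]
    linear_combination -h1
  have hg1 : g 1 ≠ 0 := by
    intro h0
    have := hN 1
    rw [h0, QuadraticAlgebra.norm_zero, QuadraticAlgebra.norm_one, mul_one] at this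
    exact hκ this.symm
  let T : QuadraticAlgebra F (-b) a →ₗ[F] QuadraticAlgebra F (-b) a :=
    { toFun := fun x => (g 1)⁻¹ * g x
      map_add' := fun x y => by rw [hadd, mul_add]
      map_smul' := fun c x => by rw [hsmul, RingHom.id_apply, mul_smul_comm] }
  have hT : ∀ x, T x = (g 1)⁻¹ * g x := fun x => rfl
  have hTn : ∀ x, norm (T x) = norm x := by
    intro x
    have h1 : norm (g 1) * norm (T x) = κ * norm x := by
      rw [← map_mul, hT, ← mul_assoc, mul_inv_cancel₀ hg1, one_mul, hN]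
    rw [hN, QuadraticAlgebra.norm_one, mul_one] at h1
    exact mul_left_cancel₀ hκ h1
  have hT1 : T 1 = 1 := by rw [hT, inv_mul_cancel₀ hg1]
  have hgT : ∀ x, g x = g 1 * T x := fun x => by
    rw [hT, ← mul_assoc, mul_inv_cancel₀ hg1, one_mul]
  rcases eq_of_fix_one hab T hTn hT1 with h4 | h4
  · refine ⟨false, g 1, hg1, fun r => ?_⟩
    rw [hg, hgT, h4]; rfl
  · refine ⟨true, g 1, hg1, fun r => ?_⟩
    rw [hg, hgT, h4]; rfl

theorem solvable_o2 : Group.IsSolvable (SimG (stdO2 F a b hab)) := by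
  apply solvable_of_commutators _ (Q2 hab) (Q2_comm hab)
  intro x hx y hy
  obtain ⟨s, hs⟩ := hasType_of_sim hab hx
  obtain ⟨t, ht⟩ := hasType_of_sim hab hy
  have h1 : HasType hab false ⁅x, y⁆ := by
    rw [commutatorElement_def]
    have := ((hs.mul hab ht).mul hab (hs.inv hab)).mul hab (ht.inv hab)
    have e : xor (xor (xor s t) s) t = false := by cases s <;> cases t <;> rfl
    rwa [e] at this
  obtain ⟨m, hm, h⟩ := h1
  exact ⟨m, hm, h⟩

theorem em_refl (p : (stdO2 F a b hab).T) (hp : p.c ≠ 0) (r : (stdO2 F a b hab).T) :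
    em a b ((stdO2 F a b hab).refl p hp r).w * star (em a b p.w) =
      -(em a b p.w * star (em a b r.w)) := by
  have hpc : p.c = -nf a b p.w := p.ok
  have h1 : nf a b p.w ≠ 0 := fun h => hp (by rw [hpc, h, neg_zero])
  rw [PQDatum.refl_w, em_add, em_smul, add_mul, smul_mul_assoc, ← algebraMap_norm_eq_mul_star,
    norm_em, Algebra.smul_def, ← map_mul, hpc]
  have h2 : ((-nf a b p.w)⁻¹ * (stdO2 F a b hab).h r.w p.w) * nf a b p.w =
      -(stdO2 F a b hab).h r.w p.w := by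
    rw [inv_neg]; field_simp
  rw [h2]
  change em a b r.w * star (em a b p.w) + algebraMap F _ (-(2 * r.w.1 * p.w.1 + a * (r.w.1 * p.w.2 +
    r.w.2 * p.w.1) + 2 * b * r.w.2 * p.w.2)) = _
  ext
  · simp [em]; ring
  · simp [em]; ring

theorem TorG_le_Q2 : TorG (stdO2 F a b hab) ≤ Q2 hab := by
  have := fact_of_aniso hab
  have hem : ∀ p : (stdO2 F a b hab).T, p.c ≠ 0 → em a b p.w ≠ 0 := by
    intro p hp h
    apply hp
    have hpc : p.c = -nf a b p.w := p.ok
    rw [hpc, ← norm_em, h, QuadraticAlgebra.norm_zero, neg_zero]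
  have hF : ∀ x : F, x ≠ 0 → (algebraMap F (QuadraticAlgebra F (-b) a) x) ≠ 0 := fun x hx h => by
    apply hx
    apply (algebraMap F (QuadraticAlgebra F (-b) a)).injective
    rw [h, map_zero]
  rw [TorG, Subgroup.closure_le]
  rintro φ (⟨x, hx, h⟩ | ⟨x, p, q, hp, hq, hx, h⟩)
  · refine ⟨algebraMap F _ x, hF x hx, fun r => ?_⟩
    rw [h r, PQDatum.sc_w]
    change em a b (x • r.w) = _
    rw [em_smul, Algebra.smul_def]
  · set P := em a b p.w with hP
    set Q := em a b q.w with hQ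
    have hP0 : P ≠ 0 := hem p hp
    have hQ0 : Q ≠ 0 := hem q hq
    have hP1 := star_ne hP0
    have hQ1 := star_ne hQ0
    refine ⟨algebraMap F _ x * (P * star Q / (star P * Q)),
      mul_ne_zero (hF x hx) (div_ne_zero (mul_ne_zero hP0 hQ1) (mul_ne_zero hP1 hQ0)),
      fun r => ?_⟩
    have e1 := em_refl hab q hq r
    have e2 := em_refl hab p hp ((stdO2 F a b hab).refl q hq r)
    rw [← hQ] at e1
    rw [← hP] at e2
    have e3 := congrArg star e1
    simp only [star_mul', star_star, star_neg] at e3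
    rw [h r, PQDatum.sc_w]
    change em a b (x • _) = _
    rw [em_smul, Algebra.smul_def, mul_assoc]
    congr 1
    rw [div_mul_eq_mul_div, eq_div_iff (mul_ne_zero hP1 hQ0)]
    linear_combination Q * e2 - P * e3

theorem Q2_not_dvd [Finite F] (p : ℕ) [Fact p.Prime] [CharP F p] :
    ¬ p ∣ Nat.card (Q2 hab) := by
  have := fact_of_aniso hab
  have hfin : Finite (stdO2 F a b hab).T := by
    apply Finite.of_injective (fun r : (stdO2 F a b hab).T => r.w)
    intro r r' h
    exact o2_ext hab h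
  have : Finite (MulAut (stdO2 F a b hab).T) :=
    Finite.of_injective (fun φ : MulAut (stdO2 F a b hab).T => (φ : _ → _)) DFunLike.coe_injective
  have : CharP (QuadraticAlgebra F (-b) a) p :=
    charP_of_injective_algebraMap (algebraMap F (QuadraticAlgebra F (-b) a)).injective p
  apply not_dvd_card
  rintro φ ⟨m, hm, h⟩ hφ
  have hpow : ∀ n : ℕ, ∀ r, em a b ((φ ^ n) r).w = m ^ n * em a b r.w := by
    intro n
    induction n with
    | zero => intro r; simp
    | succ n ih =>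
      intro r
      rw [pow_succ, MulAut.mul_apply, ih, h, pow_succ, mul_assoc]
  have hm1 : m = 1 := by
    apply pow_eq_one_of_char p
    have := hpow p ⟨(1, 0), -nf a b (1, 0), rfl⟩
    rw [hφ, MulAut.one_apply] at this
    have e : em a b ((1, 0) : F × F) = 1 := rfl
    simp only [e, mul_one] at this
    exact this.symm
  apply MulEquiv.ext
  intro r
  apply o2_ext
  apply em_inj (a := a) (b := b)
  rw [h, hm1, one_mul, MulAut.one_apply]

end quad

end Cfsg.Agent.TitsThree.TorusII
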