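import Cfsg.Agent.TitsThree.EndPerm
import Cfsg.Agent.TitsThree.TorusII
import Cfsg.Agent.TitsThree.PQClass
import Cfsg.Agent.TitsThree.B2NI
/-!
S1143, END: the type II node.

* `Good D` : the similitudes of `D` form a solvable group, the torus has order prime to the
  characteristic; the five standard systems are good;
* `SolNode` : the image of `A_{c,d}` on a node is solvable; `solNode_of_field`, `solNode_II`,
  `tor_solvable_of_solNode`;
* `LinII` : elements acting on the type II root group through the torus; `commute_of_mem_LinII`.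
-/

set_option autoImplicit false

namespace Cfsg.Agent.TitsThree.EndII

open Cfsg.Agent.Tits.Core Cfsg.Agent.Tits.Core.Bldg Cfsg.Agent.Tits.Exchange
open Cfsg.Agent.Tits
open Cfsg.Agent.Tits.MouDefs (rt)
open Cfsg.Agent.Tits.MouOut
open Cfsg.Agent.TitsThree.Hua
open Cfsg.Agent.TitsThree.B2Pkg Cfsg.Agent.TitsThree.StdData Cfsg.Agent.TitsThree.TorusII
open Cfsg.Agent.TitsThree.EndGen Cfsg.Agent.TitsThree.EndPerm
open scoped commutatorElement
open MulAction

/-! ### Good parameter systems -/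

section Good

variable {F : Type*} [Field F] {V : Type*} [AddCommGroup V] [Module F V]

/-- The similitudes are solvable, the torus has order prime to the characteristic. -/
structure Good (D : PQDatum F V) : Prop where
  solv : Group.IsSolvable (SimG D)
  coprime : ∀ (p : ℕ) [Fact p.Prime] [CharP F p], ¬ p ∣ Nat.card (TorG D)

theorem finite_T (D : PQDatum F V) [Finite F] [Finite V] : Finite D.T :=
  Finite.of_injective (fun p : D.T => (p.w, p.c)) fun p q h => by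
    ext
    · exact congrArg Prod.fst h
    · exact congrArg Prod.snd h

theorem finite_mulAut {X : Type*} [Group X] [Finite X] : Finite (MulAut X) :=
  Finite.of_injective (fun φ : MulAut X => (φ : X → X)) DFunLike.coe_injective

theorem good_of_Q1 (D : PQDatum F V) [Finite F] [Finite V] (hs : Group.IsSolvable (SimG D))
    (hV : ∀ w w' : V, D.h w' w • w = D.h w w • w') (hne : ∃ r : D.T, r.c ≠ 0) : Good D := by
  have := finite_T D
  have : Finite (MulAut D.T) := finite_mulAut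
  exact ⟨hs, fun p _ _ => not_dvd_card_mono (TorG_le_Q1 D hV) (Q1_not_dvd D p hne)⟩

theorem good_sp [Finite F] : Good (stdSp F) :=
  good_of_Q1 _ solvable_sp (fun _ _ => rfl) ⟨⟨(), 1, trivial⟩, one_ne_zero⟩

theorem good_u0 [Finite F] (σ : F ≃+* F) (hσ : ∀ x, σ (σ x) = x) (hne : ∃ x, σ x ≠ x) :
    Good (stdU0 F σ hσ) := by
  obtain ⟨x, hx⟩ := hne
  refine good_of_Q1 _ (solvable_u0 σ hσ) (fun _ _ => rfl) ⟨⟨(), x - σ x, ?_⟩, ?_⟩
  · change x - σ x + σ (x - σ x) = 0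
    rw [map_sub, hσ]; ring
  · exact sub_ne_zero.2 (Ne.symm hx)

theorem good_o1 [Finite F] : Good (stdO1 F) := by
  refine good_of_Q1 _ solvable_o1 (fun w w' => ?_) ⟨⟨1, -1 ^ 2, rfl⟩, ?_⟩
  · change 2 * w' * w * w = 2 * w * w * w'
    ring
  · change -(1 : F) ^ 2 ≠ 0
    rw [one_pow]
    exact neg_ne_zero.2 one_ne_zero

theorem good_u1 [Finite F] (σ : F ≃+* F) (hσ : ∀ x, σ (σ x) = x) (hne : ∃ x, σ x ≠ x) :
    Good (stdU1 F σ hσ) := by
  have hex : ∃ c, c + σ c = -(1 : F) := by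
    obtain ⟨t, ht⟩ := PQClass.exists_trace_ne σ hne
    refine ⟨-(t / (t + σ t)), ?_⟩
    have h1 : σ (t + σ t) = t + σ t := by rw [map_add, hσ, add_comm]
    rw [map_neg, map_div₀, h1, ← neg_add, ← add_div, div_self ht]
  refine good_of_Q1 _ (solvable_u1 σ hσ hex) (fun w w' => ?_) ?_
  · change w' * σ w * w = w * σ w * w'
    ring
  · obtain ⟨c, hc⟩ := hex
    refine ⟨⟨1, c, ?_⟩, ?_⟩
    · change c + σ c = -(1 * σ 1)
      rw [hc, map_one, one_mul]
    · rintro (h : c = 0)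
      rw [h, map_zero, add_zero] at hc
      exact one_ne_zero (neg_eq_zero.1 hc.symm)

theorem good_o2 [Finite F] {a b : F}
    (hab : ∀ z₁ z₂ : F, z₁ ^ 2 + a * z₁ * z₂ + b * z₂ ^ 2 = 0 → z₁ = 0 ∧ z₂ = 0) :
    Good (stdO2 F a b hab) := by
  have := finite_T (stdO2 F a b hab)
  have : Finite (MulAut (stdO2 F a b hab).T) := finite_mulAut
  exact ⟨solvable_o2 hab, fun p _ _ => not_dvd_card_mono (TorG_le_Q2 hab) (Q2_not_dvd hab p)⟩

end Good

/-! ### Similitudes from automorphisms -/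

section Sim

variable {F : Type*} [Field F] {V : Type*} [AddCommGroup V] [Module F V] {D : PQDatum F V}
variable {A : Type*} [Group A] {m : B2Maps D A}

/-- An element of the torus commuting with the type I root groups acts on the type II root group
as a similitude. -/
theorem simG_of_commute (rel : B2Rel m) {g : A} (hx : ∀ a, g * m.x a = m.x a * g)
    (hx' : ∀ a, g * m.x' a = m.x' a * g) (φ : MulAut D.T)
    (hφ : ∀ p, m.z₂ (φ p) = g * m.z₂ p * g⁻¹) (hy : ∀ b, ∃ b', g * m.y b * g⁻¹ = m.y b')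
    (uniq : ∀ p p' b b', m.z₁ p * m.y b = m.z₁ p' * m.y b' → p = p' ∧ b = b')
    {p₀ : D.T} (hp₀ : p₀.c ≠ 0) : φ ∈ SimG D := by
  choose ψ hψ using hy
  have hcx : ∀ a, g * m.x a * g⁻¹ = m.x a := fun a => by rw [hx, mul_inv_cancel_right]
  have hcx' : ∀ a, g * m.x' a * g⁻¹ = m.x' a := fun a => by rw [hx', mul_inv_cancel_right]
  have hn : g * m.nI * g⁻¹ = m.nI := by
    have e : g * m.nI * g⁻¹ =
        (g * m.x 1 * g⁻¹) * (g * m.x' (-1) * g⁻¹) * (g * m.x 1 * g⁻¹) := by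
      rw [B2Maps.nI]; group
    rw [e, hcx, hcx']
    rfl
  have hz₁ : ∀ p, g * m.z₁ p * g⁻¹ = m.z₁ (φ p) := by
    intro p
    rw [← rel.nI_z₂ p, ← rel.nI_z₂ (φ p), hφ]
    have e : g * (m.nI * m.z₂ p * m.nI⁻¹) * g⁻¹ =
        (g * m.nI * g⁻¹) * (g * m.z₂ p * g⁻¹) * (g * m.nI * g⁻¹)⁻¹ := by group
    rw [e, hn]
  have key : ∀ a p, φ (D.sc a p) = D.sc a (φ p) ∧
      ψ (-(D.ε * a * D.σ p.c)) = -(D.ε * a * D.σ (φ p).c) := by
    intro a p
    have h1 := rel.x_z₂ a p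
    have h2 := rel.x_z₂ a (φ p)
    have e : g * ⁅m.x a, m.z₂ p⁆ * g⁻¹ = ⁅g * m.x a * g⁻¹, g * m.z₂ p * g⁻¹⁆ := by
      simp only [commutatorElement_def]; group
    have e' : g * (m.z₁ (D.sc a p) * m.y (-(D.ε * a * D.σ p.c))) * g⁻¹ =
        (g * m.z₁ (D.sc a p) * g⁻¹) * (g * m.y (-(D.ε * a * D.σ p.c)) * g⁻¹) := by group
    rw [h1, hcx, ← hφ, h2, e', hz₁, hψ] at e
    exact uniq _ _ _ _ e
  have hσ0 : ∀ {x : F}, x ≠ 0 → D.σ x ≠ 0 := fun hx => by simpa using hx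
  have hφ0 : (φ p₀).c ≠ 0 := by
    intro h0
    rw [PQDatum.T.c_eq_zero_iff] at h0
    rw [ne_eq, PQDatum.T.c_eq_zero_iff] at hp₀
    exact hp₀ (φ.injective (h0.trans (map_one φ).symm))
  set κ' : F := D.σ (φ p₀).c / D.σ p₀.c with hκ'
  have hψ' : ∀ b, ψ b = κ' * b := by
    intro b
    have h1 := (key (-((D.ε * D.σ p₀.c)⁻¹ * b)) p₀).2
    have hne : D.ε * D.σ p₀.c ≠ 0 := mul_ne_zero D.ε_ne (hσ0 hp₀)
    have e1 : -(D.ε * -((D.ε * D.σ p₀.c)⁻¹ * b) * D.σ p₀.c) = b := by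
      have h2 : -(D.ε * -((D.ε * D.σ p₀.c)⁻¹ * b) * D.σ p₀.c) =
        (D.ε * D.σ p₀.c) * (D.ε * D.σ p₀.c)⁻¹ * b := by ring
      rw [h2, mul_inv_cancel₀ hne, one_mul]
    rw [e1] at h1
    rw [h1, hκ']
    have h3 := D.ε_ne
    have h4 := hσ0 hp₀
    field_simp
  refine ⟨fun a p => (key a p).1, D.σ κ', ?_, fun p => ?_⟩
  · exact hσ0 (div_ne_zero (hσ0 hφ0) (hσ0 hp₀))
  · have h1 := (key 1 p).2
    rw [hψ', mul_one] at h1
    have h2 : D.σ (φ p).c = κ' * D.σ p.c := by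
      have h3 : D.ε * D.σ (φ p).c = D.ε * (κ' * D.σ p.c) := by linear_combination h1
      exact mul_left_cancel₀ D.ε_ne h3
    have h3 := congrArg D.σ h2
    rwa [D.σσ, map_mul, D.σσ] at h3

end Sim

/-! ### Automorphisms of the parameter group -/

/-- The action of a subgroup normalising the image of an injective homomorphism. -/
theorem exists_autHom {X A : Type*} [Group X] [Group A] {z : X → A}
    (zmul : ∀ p q, z (p * q) = z p * z q) (inj : Function.Injective z) (S : Subgroup A)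
    (hS : ∀ h ∈ S, ∀ p, ∃ q, h * z p * h⁻¹ = z q) :
    ∃ ρ : ↥S →* MulAut X, ∀ h p, z (ρ h p) = (h : A) * z p * (h : A)⁻¹ := by
  have h1 : ∀ (h : ↥S) p, ∃ q, (h : A) * z p * (h : A)⁻¹ = z q := fun h p => hS h h.2 p
  choose φ hφ using h1
  have hinv : ∀ (h : ↥S) p, φ h (φ h⁻¹ p) = p := by
    intro h p
    apply inj
    rw [← hφ, ← hφ]
    simp only [Subgroup.coe_inv]
    group
  let f : ↥S → MulAut X := fun h =>
    { toFun := φ h
      invFun := φ h⁻¹
      left_inv := fun p => by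
        have := hinv h⁻¹ p
        rwa [inv_inv] at this
      right_inv := hinv h
      map_mul' := fun p q => by
        apply inj
        rw [← hφ, zmul, zmul, ← hφ, ← hφ]
        group }
  have hf : ∀ h p, z (f h p) = (h : A) * z p * (h : A)⁻¹ := fun h p => (hφ h p).symm
  refine ⟨MonoidHom.mk' f fun a b => ?_, hf⟩
  apply MulEquiv.ext
  intro p
  apply inj
  rw [MulAut.mul_apply, hf, hf, hf]
  simp only [Subgroup.coe_mul]
  group

section Sys

variable {I : Type*} {M : CoxeterMatrix I} {W : Type*} [Group W] {cs : CoxeterSystem M W}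
variable {C A : Type*} [Group A] [MulAction A C] {Δ : Bldg cs C}
variable {σ : W → C} {U : Set W → Subgroup A}

/-! ### Solvability -/

/-- The image of `A_{c,d}` on the node `i` is solvable. -/
def SolNode (cs : CoxeterSystem M W) (A : Type*) [Group A] [MulAction A C] (σ : W → C)
    (U : Set W → Subgroup A) (i : I) : Prop :=
  ∃ N : Subgroup ↥(Tor cs A σ), ∃ _ : N.Normal, Group.IsSolvable (↥(Tor cs A σ) ⧸ N) ∧
    ∀ h ∈ N, ∀ u ∈ U (rt cs 1 i), (h : A) * u = u * h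

theorem solNode_of_hom {i : I} {Q : Type*} [Group Q] (hQ : Group.IsSolvable Q)
    (f : ↥(Tor cs A σ) →* Q)
    (hf : ∀ h, f h = 1 → ∀ u ∈ U (rt cs 1 i), (h : A) * u = u * h) : SolNode cs A σ U i := by
  refine ⟨f.ker, inferInstance, ?_, fun h hh => hf h hh⟩
  exact Group.isSolvable_of_isSolvable_injective (QuotientGroup.kerLift_injective f)

variable (H : Sys Δ A σ U)

include H

/-- **Solvability of `A_{c,d}`.** -/
theorem tor_solvable_of_solNode [Finite I] [Finite W] (h : ∀ i, SolNode cs A σ U i) :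
    Group.IsSolvable ↥(Tor cs A σ) := by
  choose N hN hs hc using h
  exact tor_solvable H (Q := fun i => ↥(Tor cs A σ) ⧸ N i) hs
    (fun i => QuotientGroup.mk' (N i))
    fun i g hg u hu => hc i g ((QuotientGroup.eq_one_iff g).1 hg) u hu

theorem solNode_of_field [Finite W] {F : Type*} [Field F] [Finite F] {i : I} {xp xm : F → A}
    (par : SL2Par xp xm) (hp : Set.range xp = U (rt cs 1 i))
    (hm : Set.range xm = U (rt cs (cs.simple i) i)) : SolNode cs A σ U i := by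
  obtain ⟨f, hf⟩ := exists_hom_solvable H par hp hm
  exact solNode_of_hom isSolvable_GL1 f hf

variable {F : Type*} [Field F] {V : Type*} [AddCommGroup V] [Module F V] {D : PQDatum F V}
variable {m : B2Maps D A} (rel : B2Rel m) {i j : I}
variable (hx : Set.range m.x = U (rt cs 1 i)) (hx' : Set.range m.x' = U (rt cs (cs.simple i) i))
variable (hz : Set.range m.z₂ = U (rt cs 1 j)) (hz' : Set.range m.z₂' = U (rt cs (cs.simple j) j))

include rel

include hx hx' in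
/-- `n_I(t)` acts on the apartment as `s_i`. -/
theorem nn_perm [Finite W] {p₀ : D.T} (hp₀ : p₀.c ≠ 0) {t : F} (ht : t ≠ 0) (v : W) :
    CoreB2.nt m t • σ v = σ (cs.simple i * v) := by
  have mx : ∀ a, m.x a ∈ U (rt cs 1 i) := fun a => (hx ▸ ⟨a, rfl⟩ : m.x a ∈ (U (rt cs 1 i) : Set A))
  have mx' : ∀ a, m.x' a ∈ U (rt cs (cs.simple i) i) := fun a =>
    (hx' ▸ ⟨a, rfl⟩ : m.x' a ∈ (U (rt cs (cs.simple i) i) : Set A))
  have hL : CoreB2.nt m t ∈ Lg cs U i :=
    mul_mem (mul_mem (Subgroup.mem_sup_left (mx _)) (Subgroup.mem_sup_right (mx' _)))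
      (Subgroup.mem_sup_left (mx _))
  refine perm_of_conj H hL ?_ ?_ v
  · intro u hu
    have hu' : u ∈ Set.range m.x' := hx' ▸ hu
    obtain ⟨r, rfl⟩ := hu'
    have h1 := rel.nn_x' hp₀ (neg_ne_zero.2 ht) r
    rw [← rel.nn_inv, inv_inv] at h1
    change (CoreB2.nt m t)⁻¹ * m.x' r * CoreB2.nt m t = _ at h1
    rw [h1]
    exact mx _
  · intro u hu
    have hu' : u ∈ Set.range m.x := hx ▸ hu
    obtain ⟨r, rfl⟩ := hu'
    have h1 := rel.nn_x hp₀ (neg_ne_zero.2 ht) r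
    rw [← rel.nn_inv, inv_inv] at h1
    change (CoreB2.nt m t)⁻¹ * m.x r * CoreB2.nt m t = _ at h1
    rw [h1]
    exact mx' _

include hz hz' in
/-- `n_II(p)` acts on the apartment as `s_j`. -/
theorem nII_perm [Finite W] {p : D.T} (hp : p.c ≠ 0) (v : W) :
    m.nII p • σ v = σ (cs.simple j * v) := by
  have mz : ∀ a, m.z₂ a ∈ U (rt cs 1 j) := fun a => (hz ▸ ⟨a, rfl⟩ : m.z₂ a ∈ (U (rt cs 1 j) : Set A))
  have mz' : ∀ a, m.z₂' a ∈ U (rt cs (cs.simple j) j) := fun a =>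
    (hz' ▸ ⟨a, rfl⟩ : m.z₂' a ∈ (U (rt cs (cs.simple j) j) : Set A))
  have hL : m.nII p ∈ Lg cs U j :=
    mul_mem (mul_mem (Subgroup.mem_sup_right (mz' _)) (Subgroup.mem_sup_left (mz _)))
      (Subgroup.mem_sup_right (mz' _))
  refine perm_of_conj H hL ?_ ?_ v
  · intro u hu
    have hu' : u ∈ Set.range m.z₂' := hz' ▸ hu
    obtain ⟨r, rfl⟩ := hu'
    have h1 := rel.nII_z₂' p⁻¹ (D.inv_c_ne hp) r
    rw [← rel.nII_inv, inv_inv] at h1
    rw [h1]
    exact mz _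
  · intro u hu
    have hu' : u ∈ Set.range m.z₂ := hz ▸ hu
    obtain ⟨r, rfl⟩ := hu'
    have h1 := rel.nII_z₂ p⁻¹ (D.inv_c_ne hp) r
    rw [← rel.nII_inv, inv_inv] at h1
    rw [h1]
    exact mz' _

include hx hz hz' in
theorem y_mem_U [Finite W] {p₀ : D.T} (hp₀ : p₀.c ≠ 0) (b : F) :
    m.y b ∈ U (rt cs (cs.simple j) i) := by
  have h1 := rel.nII_x p₀ hp₀ ((D.ε * D.σ p₀.c)⁻¹ * b)
  have hne : D.ε * D.σ p₀.c ≠ 0 := mul_ne_zero D.ε_ne (by simpa using hp₀)
  rw [mul_inv_cancel_left₀ hne] at h1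
  rw [← h1]
  have h2 := H.conj (u := cs.simple j) (nII_perm H rel hz hz' hp₀) (w := 1) (i := i)
    (g := m.x ((D.ε * D.σ p₀.c)⁻¹ * b)) (hx ▸ ⟨_, rfl⟩ : m.x _ ∈ (U (rt cs 1 i) : Set A))
  rwa [mul_one] at h2

include hx hz hz' in
theorem exists_y [Finite W] {p₀ : D.T} (hp₀ : p₀.c ≠ 0) {g : A}
    (hg : g ∈ U (rt cs (cs.simple j) i)) : ∃ b, g = m.y b := by
  have hn : ∀ v, (m.nII p₀)⁻¹ • σ v = σ (cs.simple j * v) := fun v => by
    rw [inv_smul_eq_iff, nII_perm H rel hz hz' hp₀, ← mul_assoc, cs.simple_mul_simple_self,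
      one_mul]
  have h2 := H.conj hn hg
  rw [cs.simple_mul_simple_self] at h2
  have h3 : (m.nII p₀)⁻¹ * g * (m.nII p₀)⁻¹⁻¹ ∈ Set.range m.x := hx ▸ h2
  obtain ⟨a, ha⟩ := h3
  refine ⟨D.ε * D.σ p₀.c * a, ?_⟩
  rw [← rel.nII_x p₀ hp₀ a, ha]
  group

include hx hx' hz in
theorem z₁_mem_U [Finite W] {p₀ : D.T} (hp₀ : p₀.c ≠ 0) (p : D.T) :
    m.z₁ p ∈ U (rt cs (cs.simple i) j) := by
  have h1 := rel.nI_z₂ p
  rw [← CoreB2.nt_one] at h1
  rw [← h1]
  have h2 := H.conj (u := cs.simple i) (nn_perm H rel hx hx' hp₀ one_ne_zero) (w := 1) (i := j)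
    (g := m.z₂ p) (hz ▸ ⟨_, rfl⟩ : m.z₂ _ ∈ (U (rt cs 1 j) : Set A))
  rwa [mul_one] at h2

include hx hz' in
theorem z₂_eq_y [Finite W] {p₀ : D.T} (hp₀ : p₀.c ≠ 0) (injx : Function.Injective m.x)
    (injz : Function.Injective m.z₂) {r : D.T} {c : F} (h : m.z₂ r = m.y c) : r = 1 ∧ c = 0 := by
  have h1 := rel.nII_z₂ p₀ hp₀ r
  have h2 := rel.nII_y p₀ hp₀ c
  rw [h, h2] at h1
  have e1 : m.x (p₀.c⁻¹ * c) = 1 := by
    refine eq_one_of_mem_two H (w := cs.simple j) (i := j) (w' := 1) (i' := i) (v := 1) ?_ ?_ ?_ ?_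
    · rw [h1, ← SetLike.mem_coe, ← hz']
      exact ⟨_, rfl⟩
    · rw [← SetLike.mem_coe, ← hx]
      exact ⟨_, rfl⟩
    · have := mul_simple_notMem_rt (cs := cs) (cs.simple j) j
      rwa [cs.simple_mul_simple_self] at this
    · exact self_mem_rt 1 i
  have e2 : m.x 0 = 1 := CoreB2.x_zero rel
  have e3 : c = 0 := by
    have := injx (e1.trans e2.symm)
    exact (mul_eq_zero.1 this).resolve_left (inv_ne_zero hp₀)
  refine ⟨injz ?_, e3⟩
  rw [h, e3, CoreB2.y_zero rel, CoreB2.z₂_one rel]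

include hx hz' in
theorem z₁_eq_y [Finite W] {p₀ : D.T} (hp₀ : p₀.c ≠ 0) (injx : Function.Injective m.x)
    (injz : Function.Injective m.z₂) {p : D.T} {b : F} (h : m.z₁ p = m.y b) : p = 1 ∧ b = 0 := by
  have h1 := rel.nI_z₁ p
  have h2 := rel.nI_y b
  rw [h, h2] at h1
  obtain ⟨h3, h4⟩ := z₂_eq_y H rel hx hz' hp₀ injx injz h1.symm
  constructor
  · have h5 := congrArg (D.sc (-1)) h3
    rw [TorusII.sc_sc, neg_mul_neg, one_mul, TorusII.sc_one, D.sc_T_one] at h5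
    exact h5
  · have := (mul_eq_zero.1 h4).resolve_left D.ε_ne
    simpa using this

include hx hz' in
/-- Uniqueness of the decomposition of `Z₁ Y`. -/
theorem zy_unique [Finite W] {p₀ : D.T} (hp₀ : p₀.c ≠ 0) (injx : Function.Injective m.x)
    (injz : Function.Injective m.z₂) (p p' : D.T) (b b' : F)
    (h : m.z₁ p * m.y b = m.z₁ p' * m.y b') : p = p' ∧ b = b' := by
  have h1 : m.z₁ (p'⁻¹ * p) = m.y (b' + -b) := by
    rw [rel.z₁_mul, rel.y_add, CoreB2.y_neg rel, CoreB2.z₁_inv rel, inv_mul_eq_iff_eq_mul,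
      ← mul_assoc, ← h, mul_inv_cancel_right]
  obtain ⟨h2, h3⟩ := z₁_eq_y H rel hx hz' hp₀ injx injz h1
  exact ⟨(inv_mul_eq_one.1 h2).symm, by linear_combination -h3⟩

omit rel in
theorem commute_neg [Finite W] [Finite F] {xp xm : F → A} (par : SL2Par xp xm)
    (hp : Set.range xp = U (rt cs 1 i)) (hm : Set.range xm = U (rt cs (cs.simple i) i)) {h : A}
    (hh : h ∈ Tor cs A σ) (hc : ∀ t, h * xp t = xp t * h) (t : F) : h * xm t = xm t * h := by
  have hi : h⁻¹ ∈ Tor cs A σ := inv_mem hh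
  have key : ∀ (y : F → A) (w : W), Set.range y = U (rt cs w i) →
      Set.range (fun t => h * y t * h⁻¹) = Set.range y := by
    intro y w hy
    rw [hy]
    ext g
    constructor
    · rintro ⟨t, rfl⟩
      exact tor_conj H hh (hy ▸ ⟨t, rfl⟩ : y t ∈ (U (rt cs w i) : Set A))
    · intro hg
      have h1 : h⁻¹ * g * h⁻¹⁻¹ ∈ (U (rt cs w i) : Set A) := tor_conj H hi hg
      rw [← hy] at h1
      obtain ⟨t, ht⟩ := h1
      exact ⟨t, by change h * y t * h⁻¹ = g; rw [ht]; group⟩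
  obtain ⟨τ, c, hc0, h1, h2⟩ := GlueA.compare par (par.conj h) (key xp 1 hp)
    (key xm (cs.simple i) hm)
  have h3 : ∀ t, c * τ t = t := fun t => by
    apply par.injp
    rw [← h1, hc, mul_inv_cancel_right]
  have h4 : c = 1 := by
    have := h3 1
    rwa [map_one, mul_one] at this
  have h5 := h2 t
  have h6 := h3 t
  rw [h4, one_mul] at h6
  rw [h4, inv_one, one_mul, h6, mul_inv_eq_iff_eq_mul] at h5
  exact h5

include hx hx' hz hz' in
/-- **The image of `A_{c,d}` on the type II node is solvable.** -/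
theorem solNode_II [Finite W] [Finite F] (good : Good D) (par : SL2Par m.x m.x')
    (injz : Function.Injective m.z₂) {p₀ : D.T} (hp₀ : p₀.c ≠ 0) : SolNode cs A σ U j := by
  obtain ⟨f₁, hf₁⟩ := exists_torHom H par hx hx'
  obtain ⟨ρ, hρ⟩ := exists_autHom rel.z₂_mul injz (Tor cs A σ) (fun h hh p => by
    have h1 : h * m.z₂ p * h⁻¹ ∈ (U (rt cs 1 j) : Set A) :=
      tor_conj H hh (hz ▸ ⟨p, rfl⟩ : m.z₂ p ∈ (U (rt cs 1 j) : Set A))
    rw [← hz] at h1
    obtain ⟨q, hq⟩ := h1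
    exact ⟨q, hq.symm⟩)
  have hsim : ∀ h, f₁ h = 1 → ρ h ∈ SimG D := by
    intro h hh
    have hc : ∀ t, (h : A) * m.x t = m.x t * (h : A) := fun t => by
      have h1 := hf₁ h t
      rw [hh] at h1
      rw [eq_mul_inv_iff_mul_eq] at h1
      exact h1.symm
    refine simG_of_commute rel hc (commute_neg H par hx hx' h.2 hc) (ρ h) (hρ h) (fun b => ?_)
      (zy_unique H rel hx hz' hp₀ par.injp injz) hp₀
    exact exists_y H rel hx hz hz' hp₀ (tor_conj H h.2 (y_mem_U H rel hx hz hz' hp₀ b))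
  let f : ↥(Tor cs A σ) →* GL1 F × MulAut D.T := f₁.prod ρ
  let π : f.range →* GL1 F := (MonoidHom.fst _ _).comp f.range.subtype
  let ι : π.ker →* MulAut D.T := ((MonoidHom.snd _ _).comp f.range.subtype).comp π.ker.subtype
  have hι : ∀ x, ι x ∈ SimG D := by
    rintro ⟨⟨x, ⟨h, rfl⟩⟩, hx⟩
    exact hsim h hx
  let κ : π.ker →* SimG D := ι.codRestrict (SimG D) hι
  have hκ : Function.Injective κ := by
    rintro ⟨⟨x, hx1⟩, hx2⟩ ⟨⟨y, hy1⟩, hy2⟩ hxy
    have h1 : x.2 = y.2 := congrArg Subtype.val hxy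
    have h2 : x.1 = 1 := hx2
    have h3 : y.1 = 1 := hy2
    apply Subtype.ext
    apply Subtype.ext
    exact Prod.ext (h2.trans h3.symm) h1
  have := good.solv
  have s1 : Group.IsSolvable π.ker := Group.isSolvable_of_isSolvable_injective hκ
  have s2 : Group.IsSolvable (GL1 F) := isSolvable_GL1
  have s3 : Group.IsSolvable f.range :=
    Group.isSolvable_of_ker_le_range π.ker.subtype π (by rw [Subgroup.range_subtype])
  refine solNode_of_hom s3 f.rangeRestrict fun h hh u hu => ?_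
  have h1 : f h = 1 := congrArg Subtype.val hh
  have h2 : ρ h = 1 := congrArg Prod.snd h1
  have hu' : u ∈ Set.range m.z₂ := hz ▸ hu
  obtain ⟨p, rfl⟩ := hu'
  have h3 := hρ h p
  rw [h2, MulAut.one_apply, eq_mul_inv_iff_mul_eq] at h3
  exact h3.symm

end Sys

/-! ### The torus on the type II root group -/

section LinII

variable {F : Type*} [Field F] {V : Type*} [AddCommGroup V] [Module F V] {D : PQDatum F V}
variable {A : Type*} [Group A] {m : B2Maps D A}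

/-- Elements acting on the type II root group through the torus. -/
def LinII (m : B2Maps D A) : Subgroup A where
  carrier := {h | ∃ φ ∈ TorG D, ∀ p, h * m.z₂ p * h⁻¹ = m.z₂ (φ p)}
  one_mem' := ⟨1, one_mem _, fun p => by rw [one_mul, inv_one, mul_one, MulAut.one_apply]⟩
  mul_mem' := by
    rintro h k ⟨φ, hφ, h1⟩ ⟨ψ, hψ, h2⟩
    refine ⟨φ * ψ, mul_mem hφ hψ, fun p => ?_⟩
    have e : h * k * m.z₂ p * (h * k)⁻¹ = h * (k * m.z₂ p * k⁻¹) * h⁻¹ := by group
    rw [e, h2, h1, MulAut.mul_apply]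
  inv_mem' := by
    rintro h ⟨φ, hφ, h1⟩
    refine ⟨φ⁻¹, inv_mem hφ, fun p => ?_⟩
    have h2 := h1 (φ⁻¹ p)
    rw [MulAut.apply_inv_self] at h2
    rw [← h2]
    group

theorem mem_LinII {h : A} :
    h ∈ LinII m ↔ ∃ φ ∈ TorG D, ∀ p, h * m.z₂ p * h⁻¹ = m.z₂ (φ p) := Iff.rfl

theorem mem_LinII_of_commute {h : A} (hc : ∀ p, h * m.z₂ p = m.z₂ p * h) : h ∈ LinII m :=
  ⟨1, one_mem _, fun p => by rw [hc, mul_inv_cancel_right, MulAut.one_apply]⟩

/-- An element of order `p` acting through the torus centralises the type II root group. -/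
theorem commute_of_mem_LinII (good : Good D) {p : ℕ} [hp : Fact p.Prime] [CharP F p]
    (inj : Function.Injective m.z₂) {h : A} (hh : h ∈ LinII m) (ho : orderOf h = p) (r : D.T) :
    h * m.z₂ r = m.z₂ r * h := by
  obtain ⟨φ, hφ, h1⟩ := hh
  have h2 : ∀ k : ℕ, ∀ r, h ^ k * m.z₂ r * (h ^ k)⁻¹ = m.z₂ ((φ ^ k) r) := by
    intro k
    induction k with
    | zero => intro r; simp
    | succ k ih =>
      intro r
      have e : h ^ (k + 1) * m.z₂ r * (h ^ (k + 1))⁻¹ = h * (h ^ k * m.z₂ r * (h ^ k)⁻¹) * h⁻¹ := by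
        rw [pow_succ']; group
      rw [e, ih, h1, pow_succ', MulAut.mul_apply]
  have h3 : φ ^ p = 1 := by
    apply MulEquiv.ext
    intro r
    apply inj
    rw [← h2, ← ho, pow_orderOf_eq_one, one_mul, inv_one, mul_one, MulAut.one_apply]
  have h4 : φ = 1 := by
    by_contra hne
    have h5 : orderOf φ = p := orderOf_eq_prime h3 hne
    have h6 : orderOf (⟨φ, hφ⟩ : TorG D) = p := by rw [← h5, ← Subgroup.orderOf_coe]
    exact good.coprime p (h6 ▸ orderOf_dvd_natCard _)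
  have h7 := h1 r
  rw [h4, MulAut.one_apply, mul_inv_eq_iff_eq_mul] at h7
  exact h7

variable (rel : B2Rel m)

include rel

/-- `h_I(t)` acts through the torus. -/
theorem nt_mem_LinII {s t : F} (hs : s ≠ 0) (ht : t ≠ 0) :
    CoreB2.nt m s * (CoreB2.nt m t)⁻¹ ∈ LinII m := by
  have ha : s⁻¹ * t ≠ 0 := mul_ne_zero (inv_ne_zero hs) ht
  let φ : MulAut D.T :=
    { toFun := D.sc (s⁻¹ * t)
      invFun := D.sc (s⁻¹ * t)⁻¹
      left_inv := fun r => by rw [TorusII.sc_sc, inv_mul_cancel₀ ha, TorusII.sc_one]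
      right_inv := fun r => by rw [TorusII.sc_sc, mul_inv_cancel₀ ha, TorusII.sc_one]
      map_mul' := D.sc_mul _ }
  refine ⟨φ, Subgroup.subset_closure (Or.inl ⟨_, ha, fun r => rfl⟩), fun r => ?_⟩
  change _ = m.z₂ (D.sc (s⁻¹ * t) r)
  have h1 := rel.nn_z₂ (neg_ne_zero.2 ht) r
  rw [← rel.nn_inv, inv_inv] at h1
  have e : CoreB2.nt m s * (CoreB2.nt m t)⁻¹ * m.z₂ r * (CoreB2.nt m s * (CoreB2.nt m t)⁻¹)⁻¹ =
      CoreB2.nt m s * ((CoreB2.nt m t)⁻¹ * m.z₂ r * CoreB2.nt m t) * (CoreB2.nt m s)⁻¹ := by group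
  change (CoreB2.nt m t)⁻¹ * m.z₂ r * CoreB2.nt m t = _ at h1
  rw [e, h1]
  have h2 := rel.nn_z₁ hs (D.sc (-t) r)
  change CoreB2.nt m s * m.z₁ (D.sc (-t) r) * (CoreB2.nt m s)⁻¹ = _ at h2
  rw [h2, TorusII.sc_sc, neg_mul_neg]

/-- `h_I(t)` acts through the torus. -/
theorem hh_mem_LinII {t : F} (ht : t ≠ 0) : hh m.x m.x' t ∈ LinII m :=
  nt_mem_LinII rel ht one_ne_zero

/-- The type II torus elements act through the torus. -/
theorem nII_mem_LinII [Finite D.T] {p q : D.T} (hp : p.c ≠ 0) (hq : q.c ≠ 0) :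
    m.nII p * (m.nII q)⁻¹ ∈ LinII m := by
  have hq' := D.inv_c_ne hq
  have hσ0 : ∀ {x : F}, x ≠ 0 → D.σ x ≠ 0 := fun hx => by simpa using hx
  set a : F := D.ε⁻¹ * p.c * (D.σ (q⁻¹).c)⁻¹ with ha
  have ha0 : a ≠ 0 := mul_ne_zero (mul_ne_zero (inv_ne_zero D.ε_ne) hp) (inv_ne_zero (hσ0 hq'))
  let g : D.T → D.T := fun r => D.sc a (D.refl p hp (D.refl q⁻¹ hq' r))
  have gmul : ∀ r r', g (r * r') = g r * g r' := fun r r' => by
    simp only [g]
    rw [D.refl_mul, D.refl_mul, D.sc_mul]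
  have ginj : Function.Injective g := by
    intro r r' h
    have h1 := congrArg (D.sc a⁻¹) h
    simp only [g] at h1
    rw [TorusII.sc_sc, TorusII.sc_sc, inv_mul_cancel₀ ha0, TorusII.sc_one, TorusII.sc_one] at h1
    exact D.refl_injective _ _ (D.refl_injective _ _ h1)
  let φ : MulAut D.T := MulEquiv.ofBijective (MonoidHom.mk' g gmul)
    ((Finite.injective_iff_bijective (f := g)).1 ginj)
  refine ⟨φ, Subgroup.subset_closure (Or.inr ⟨a, p, q⁻¹, hp, hq', ha0, fun r => rfl⟩),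
    fun r => ?_⟩
  change _ = m.z₂ (D.sc a (D.refl p hp (D.refl q⁻¹ hq' r)))
  have h1 := rel.nII_z₂ q⁻¹ hq' r
  have e : m.nII p * (m.nII q)⁻¹ * m.z₂ r * (m.nII p * (m.nII q)⁻¹)⁻¹ =
      m.nII p * ((m.nII q)⁻¹ * m.z₂ r * (m.nII q)⁻¹⁻¹) * (m.nII p)⁻¹ := by group
  rw [e, rel.nII_inv, h1, rel.nII_z₂' p hp, D.refl_sc, TorusII.sc_sc]

/-- The type II torus elements act linearly on the type I root group. -/
theorem nII_mem_Lin {p q : D.T} (hp : p.c ≠ 0) (hq : q.c ≠ 0) :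
    m.nII p * (m.nII q)⁻¹ ∈ Lin m.x :=
  ⟨p.c⁻¹ * q.c, mul_ne_zero (inv_ne_zero hp) hq, fun t => rel.hII_x hp hq t⟩

end LinII

end Cfsg.Agent.TitsThree.EndII
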