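import Cfsg.Agent.TitsThree.EndFF
import Cfsg.Agent.TitsThree.EndII
import Cfsg.Agent.TitsThree.EndCNTor

/-!
# The hypotheses of END for type `C_{n+1}` (S1143)

`RangesCN`: the root elements of a package `CN` in `G' = Gg cs U` exhaust the fundamental root groups.
From this: `A_{c,d}` is solvable, `A_{c,d} ⊓ G'` is a `p'`-group, the root groups are `p`-groups.
-/

set_option autoImplicit false

namespace Cfsg.Agent.TitsThree.EndCN

open Cfsg.Agent.Tits.Core Cfsg.Agent.Tits.Core.Bldg Cfsg.Agent.Tits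
open Cfsg.Agent.Tits.MouDefs (rt Aut)
open Cfsg.Agent.Tits.MouOut
open Cfsg.Agent.TitsThree Cfsg.Agent.TitsThree.Pack Cfsg.Agent.TitsThree.B2Pkg
open Cfsg.Agent.TitsThree.Hua Cfsg.Agent.TitsThree.EndGen Cfsg.Agent.TitsThree.TorusAct
open Cfsg.Agent.TitsThree.EndRange Cfsg.Agent.TitsThree.EndII Cfsg.Agent.TitsThree.EndCNTor

variable {n : ℕ} {M : CoxeterMatrix (Fin (n + 1))} {W : Type*} [Group W] {cs : CoxeterSystem M W}
variable {C A : Type*} [Group A] [MulAction A C] {Δ : Bldg cs C}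
variable {σ : W → C} {U : Set W → Subgroup A}
variable {F : Type*} [Field F] {V : Type*} [AddCommGroup V] [Module F V] {D : PQDatum F V}

/-- The package exhausts the fundamental root groups. -/
structure RangesCN (P : CN ↥(Gg cs U) D n) : Prop where
  r : ∀ i : Fin n, NodeRange U i.castSucc (P.xp i) (P.xm i)
  rT : NodeRange U (Fin.last n) P.b2.z₂ P.b2.z₂'
  sl : ∀ i, SL2Par (P.xp i) (P.xm i)
  injT : Function.Injective P.b2.z₂

variable {P : CN ↥(Gg cs U) D n}

/-- The group of parameters is a `p`-group. -/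
theorem isPGroup_T {p : ℕ} [Fact p.Prime] [CharP F p] : IsPGroup p D.T := by
  have hw : ∀ (q : D.T) (k : ℕ), (q ^ k).w = k • q.w := by
    intro q k
    induction k with
    | zero => simp
    | succ k ih => rw [pow_succ, PQDatum.T.mul_w, ih, succ_nsmul]
  have hc : ∀ (q : D.T), q.w = 0 → ∀ k : ℕ, (q ^ k).c = k • q.c := by
    intro q hq k
    induction k with
    | zero => simp
    | succ k ih => rw [pow_succ, PQDatum.T.mul_c, ih, succ_nsmul, hq, D.zero_left, sub_zero]
  have hp : ∀ v : V, p • v = 0 := fun v => by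
    rw [← Nat.cast_smul_eq_nsmul F, CharP.cast_eq_zero, zero_smul]
  intro q
  refine ⟨2, ?_⟩
  rw [pow_two, pow_mul]
  have h1 : (q ^ p).w = 0 := by rw [hw, hp]
  rw [← PQDatum.T.c_eq_zero_iff, hc _ h1, ← Nat.cast_smul_eq_nsmul F, CharP.cast_eq_zero, zero_smul]

/-- The fundamental root groups are `p`-groups. -/
theorem isPGroup {p : ℕ} [Fact p.Prime] [CharP F p] (R : RangesCN P) (i : Fin (n + 1)) :
    IsPGroup p ↥(U (rt cs 1 i)) := by
  revert i
  refine Fin.lastCases ?_ ?_
  · rintro ⟨u, hu⟩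
    obtain ⟨t, rfl⟩ := R.rT.exists_eq hu
    obtain ⟨k, hk⟩ := isPGroup_T (D := D) (p := p) t
    refine ⟨k, Subtype.ext ?_⟩
    have h1 : ∀ j : ℕ, P.b2.z₂ t ^ j = P.b2.z₂ (t ^ j) := by
      intro j
      induction j with
      | zero => rw [pow_zero, pow_zero, CoreB2.z₂_one P.rel]
      | succ j ih => rw [pow_succ, pow_succ, ih, P.rel.z₂_mul]
    change (P.b2.z₂ t : A) ^ p ^ k = 1
    rw [← Subgroup.coe_pow, h1, hk, CoreB2.z₂_one P.rel]
    rfl
  · intro i
    exact EndFF.isPGroup_of_node (R.r i) (R.sl i)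

/-- `A_{c,d}` is solvable. -/
theorem solvable [Finite W] [Finite F] (H : Sys Δ A σ U) (hn : 1 ≤ n) (R : RangesCN P)
    (good : Good D) (ex : ∃ p : D.T, p.c ≠ 0) : Group.IsSolvable ↥(Tor cs A σ) := by
  refine tor_solvable_of_solNode H ?_
  have inj : Function.Injective (Gg cs U).subtype := Subgroup.subtype_injective _
  refine Fin.lastCases ?_ ?_
  · obtain ⟨p₀, hp₀⟩ := ex
    let l : Fin n := ⟨n - 1, by omega⟩
    have hl : l.1 + 1 = n := by show n - 1 + 1 = n; omega
    obtain ⟨e1, e2⟩ := P.last l hl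
    have hr := R.r l
    have hs := R.sl l
    rw [← e1, ← e2] at hr hs
    exact solNode_II H (m := P.b2.map (Gg cs U).subtype) (P.rel.map _) (i := l.castSucc)
      (j := Fin.last n) hr.1 hr.2 R.rT.1 R.rT.2 good (sl2_map inj hs) (inj.comp R.injT) hp₀
  · intro i
    exact solNode_of_field H (sl2_map inj (R.sl i)) (R.r i).1 (R.r i).2

/-- The torus acts on the type II root group through `TorG D`. -/
theorem torusCN_le_LinII [Finite F] [Finite V] (P : CN ↥(Gg cs U) D n) :
    torusCN P ≤ LinII P.b2 := by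
  have : Finite D.T := finite_T D
  rw [torusCN, Subgroup.closure_le]
  rintro g (⟨i, t, ht, rfl⟩ | ⟨p, q, hp, hq, rfl⟩)
  · rcases Nat.lt_or_ge (i.1 + 1) n with h1 | h1
    · exact mem_LinII_of_commute fun p => (comm_hh (P.commT i h1) t p).1
    · have h2 := P.last i (by have := i.2; omega)
      rw [← h2.1, ← h2.2]
      exact hh_mem_LinII P.rel ht
  · exact nII_mem_LinII P.rel hp hq

/-- `A_{c,d} ⊓ G'` is a `p'`-group. -/
theorem coprime [Finite W] [Finite A] [Finite F] [Finite V] (H : Sys Δ A σ U) (hn : 2 ≤ n) {p : ℕ}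
    [Fact p.Prime] [CharP F p] (R : RangesCN P) (good : Good D) (ex : ∃ p : D.T, p.c ≠ 0) :
    (Nat.card ↥(Tor cs A σ ⊓ Gg cs U)).Coprime p := by
  refine tor_coprime H inf_le_left ?_
  intro s hs ho
  rw [tor_inf_eq H P hn R.r R.rT ex] at hs
  obtain ⟨g, hg, rfl⟩ := hs
  have ho' : orderOf g = p := by
    rw [← ho]
    exact (orderOf_injective _ (Subgroup.subtype_injective (Gg cs U)) g).symm
  have hp : g ^ p = 1 := by rw [← ho', pow_orderOf_eq_one]
  refine Fin.lastCases ?_ ?_
  · intro u hu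
    obtain ⟨r, rfl⟩ := R.rT.exists_eq hu
    exact congrArg (Subgroup.subtype _) (commute_of_mem_LinII good R.injT (torusCN_le_LinII P hg) ho' r)
  · intro i
    exact comm_of_scal (R.r i) (R.sl i).injp (scalCN hn P i hg) hp

/-- **END for `C_{n+1}`**: `Solved Δ` from a package with ranges and the identification of `G'`. -/
theorem solved [Finite W] {C : Type*} [Finite C] {Δ : Bldg cs C} {σ : W → C}
    (H : Sys Δ (Aut Δ) σ (UU Δ σ)) (hn : 2 ≤ n) {p : ℕ} [Fact p.Prime] [Finite F] [Finite V] [CharP F p]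
    {P : CN ↥(Gg cs (UU Δ σ)) D n} (R : RangesCN P) (good : Good D) (ex : ∃ p : D.T, p.c ≠ 0)
    (hK : IsSimpleGroup ↥(Gg cs (UU Δ σ)) → Top.LieConcl ↥(Gg cs (UU Δ σ))) : Top.Solved Δ := by
  have : Finite (Aut Δ) := by
    refine Finite.of_injective (fun a : Aut Δ => (MulAction.toPerm a : Equiv.Perm C)) fun a b hab => ?_
    have h1 : b⁻¹ * a = 1 := H.faith _ fun x => by
      rw [mul_smul, inv_smul_eq_iff]
      exact congrFun (congrArg DFunLike.coe hab) x
    exact (inv_mul_eq_one.1 h1).symm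
  exact EndHyp.solved H (p := p) (isPGroup R) (solvable H (by omega) R good ex)
    (coprime H hn R good ex) hK

end Cfsg.Agent.TitsThree.EndCN
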