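import Cfsg.Agent.TitsThree.WittFrame
import Cfsg.Agent.TitsThree.KSideDefs
/-!
A proper subgroup containing the positive root elements and the torus elements, for all classical
groups of type `C_n` / `D_n` at once: the image of the stabiliser of the line spanned by
`b (i0, true)`.
-/

set_option autoImplicit false

namespace Cfsg.Agent.TitsThree.LineBorel

open Cfsg.Agent.TitsThree.Siegel Cfsg.Agent.TitsThree.WittFrame Cfsg.Agent.TitsThree

section General

variable {F : Type*} [Field F] {V : Type*} [AddCommGroup V] [Module F V]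

/-- The stabiliser of the line spanned by `v`. -/
def lineStab (v : V) : Subgroup (V ≃ₗ[F] V) where
  carrier := {g | ∃ a : F, g v = a • v}
  mul_mem' := by
    rintro g g' ⟨a, ha⟩ ⟨a', ha'⟩
    refine ⟨a' * a, ?_⟩
    change g (g' v) = _
    rw [ha', map_smul, ha, smul_smul]
  one_mem' := ⟨1, (one_smul F v).symm⟩
  inv_mem' := by
    rintro g ⟨a, ha⟩
    by_cases h : a = 0
    · have hv : v = 0 := by
        rw [h, zero_smul] at ha
        exact g.map_eq_zero_iff.1 ha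
      exact ⟨1, by rw [hv, map_zero, smul_zero]⟩
    · refine ⟨a⁻¹, ?_⟩
      have h1 : g⁻¹ (g v) = v := g.symm_apply_apply v
      rw [ha, map_smul] at h1
      rw [← h1, smul_smul, inv_mul_cancel₀ h, one_smul, h1]

theorem mem_lineStab {v : V} {g : V ≃ₗ[F] V} : g ∈ lineStab v ↔ ∃ a : F, g v = a • v := Iff.rfl

theorem mem_lineStab_of_fix {v : V} {g : V ≃ₗ[F] V} (h : g v = v) : g ∈ lineStab v :=
  ⟨1, by rw [h, one_smul]⟩

variable {K : Type*} [Group K] {I : Subgroup (V ≃ₗ[F] V)} (φ : I →* K)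

/-- The image of the stabiliser of a line. -/
def bor (v : V) : Subgroup K := ((lineStab (F := F) v).subgroupOf I).map φ

theorem map_mem_bor {v : V} {g : I} (h : g.1 ∈ lineStab v) : φ g ∈ bor φ v :=
  ⟨g, Subgroup.mem_subgroupOf.2 h, rfl⟩

theorem mem_bor_iff {v : V} (hk : ∀ g : I, φ g = 1 → g.1 ∈ lineStab v) {g : I} :
    φ g ∈ bor φ v ↔ g.1 ∈ lineStab v := by
  constructor
  · rintro ⟨g', hg', h⟩
    have h1 : φ (g'⁻¹ * g) = 1 := by rw [map_mul, map_inv, h, inv_mul_cancel]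
    have h2 := (lineStab v).mul_mem (Subgroup.mem_subgroupOf.1 hg') (hk _ h1)
    have h3 : g'.1 * (g'⁻¹ * g : I).1 = g.1 := by
      change ((g' * (g'⁻¹ * g) : I) : V ≃ₗ[F] V) = g
      rw [mul_inv_cancel_left]
    rwa [h3] at h2
  · exact map_mem_bor φ

theorem bor_ne_top {v : V} (hk : ∀ g : I, φ g = 1 → g.1 ∈ lineStab v) (g : I)
    (hg : g.1 ∉ lineStab v) : bor φ v ≠ ⊤ := by
  intro h
  apply hg
  rw [← mem_bor_iff φ hk, h]
  exact Subgroup.mem_top _

end General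

section Frame

variable {F : Type*} [Field F] {V : Type*} [AddCommGroup V] [Module F V] {H : HForm F V}
  {ι : Type*} [DecidableEq ι] (Fr : Frame H ι)

theorem b_ne_zero (x : ι × Bool) : Fr.b x ≠ 0 := by
  intro h
  have h1 := Fr.hb_neg_self x
  rw [h, H.zero_right] at h1
  exact Fr.η_ne x h1.symm

theorem b_ne_smul {x y : ι × Bool} (h : x.1 ≠ y.1) (a : F) : Fr.b x ≠ a • Fr.b y := by
  intro h1
  have h2 := Fr.hb_self_neg x
  rw [h1, H.smul_left, Fr.hb_of_ne (y := neg x) (Ne.symm h), mul_zero] at h2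
  exact Fr.η_ne _ h2.symm

/-- `X x y t` fixes `b z` unless `z ∈ {-x, -y}`. -/
theorem X_fix {x y z : ι × Bool} (hx : z ≠ neg x) (hy : z ≠ neg y) (t : F) :
    Fr.X x y t (Fr.b z) = Fr.b z := by
  by_cases h : x.1 ≠ y.1
  · rw [Fr.X_eq h, H.sie_apply]
    have h1 : H.h (Fr.b z) (Fr.b x) = 0 := H.orth_symm (Fr.hb_ne hx)
    have h2 : H.h (Fr.b z) (Fr.b y) = 0 := H.orth_symm (Fr.hb_ne hy)
    rw [H.smul_right, h1, h2]
    simp
  · rw [Frame.X, dif_neg h]
    rfl

/-- `X x y t : b (-y) ↦ b (-y) + t b x`. -/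
theorem X_apply_neg {x y : ι × Bool} (h : x.1 ≠ y.1) (t : F) :
    Fr.X x y t (Fr.b (neg y)) = Fr.b (neg y) + t • Fr.b x := by
  rw [Fr.X_eq h, H.sie_apply]
  have h1 : H.h (Fr.b (neg y)) (Fr.b x) = 0 := Fr.hb_of_ne (Ne.symm h)
  rw [H.smul_right, h1, Fr.hb_neg_self, zero_smul, mul_zero, zero_smul, add_zero, add_zero,
    sub_eq_add_neg, ← neg_smul]
  congr 2
  simp only [Frame.sc, map_neg, map_mul, H.σε', H.σσ, Fr.σ_η]
  have h2 := Fr.η_ne y
  have h3 := H.ε_ne
  field_simp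

/-- `Z x p` fixes `b z` unless `z = -x`. -/
theorem Z_fix {x z : ι × Bool} (hx : z ≠ neg x) (p : Fr.Adm) : Fr.Z x p (Fr.b z) = Fr.b z := by
  rw [Frame.Z, H.sie_apply]
  have h1 : H.h (Fr.b z) (Fr.b x) = 0 := H.orth_symm (Fr.hb_ne hx)
  rw [h1, Fr.h0 z _ (Fr.ok_mem p.ok)]
  simp

/-- The action of `n(t)` for a root of type I on its plane. -/
theorem nn_apply {x y : ι × Bool} (h : x.1 ≠ y.1) (t : F) (ht : t ≠ 0) :
    nn (Fr.X x y) (Fr.X (neg y) (neg x)) t (Fr.b x) = -t⁻¹ • Fr.b (neg y) ∧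
    nn (Fr.X x y) (Fr.X (neg y) (neg x)) t (Fr.b (neg y)) = t • Fr.b x := by
  have hxy : x ≠ neg y := fun e => h (by rw [e, neg_fst])
  have hxx : x ≠ neg x := fun e => by
    have := congrArg Prod.snd e
    simp at this
  have h1 : ∀ s, Fr.X x y s (Fr.b x) = Fr.b x := fun s => X_fix Fr hxx hxy s
  have h2 : ∀ s, Fr.X x y s (Fr.b (neg y)) = Fr.b (neg y) + s • Fr.b x :=
    fun s => X_apply_neg Fr h s
  have h3 : ∀ s, Fr.X (neg y) (neg x) s (Fr.b x) = Fr.b x + s • Fr.b (neg y) := by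
    intro s
    have := X_apply_neg Fr (x := neg y) (y := neg x) (Ne.symm h) s
    rwa [WittFrame.neg_neg] at this
  have h4 : ∀ s, Fr.X (neg y) (neg x) s (Fr.b (neg y)) = Fr.b (neg y) := by
    intro s
    refine X_fix Fr ?_ ?_ s
    · intro e
      have := congrArg Prod.snd e
      simp at this
    · rw [WittFrame.neg_neg]; exact Ne.symm hxy
  constructor
  · change Fr.X x y t (Fr.X (neg y) (neg x) (-t⁻¹) (Fr.X x y t (Fr.b x))) = _
    rw [h1, h3, map_add, map_smul, h1, h2, smul_add, smul_smul, neg_mul, inv_mul_cancel₀ ht]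
    module
  · change Fr.X x y t (Fr.X (neg y) (neg x) (-t⁻¹) (Fr.X x y t (Fr.b (neg y)))) = _
    rw [h2, map_add, map_smul, h4, h3, smul_add, smul_smul, mul_neg, mul_inv_cancel₀ ht]
    have e : Fr.b (neg y) + (t • Fr.b x + (-1 : F) • Fr.b (neg y)) = t • Fr.b x := by module
    rw [e, map_smul, h1]

/-- The torus element `h(t)` of a root of type I preserves the line of `b x`. -/
theorem hh_apply {x y : ι × Bool} (h : x.1 ≠ y.1) (t : F) (ht : t ≠ 0) :
    hh (Fr.X x y) (Fr.X (neg y) (neg x)) t (Fr.b x) = t • Fr.b x := by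
  have h1 := (nn_apply Fr h (1 : F) one_ne_zero).2
  have h2 := (nn_apply Fr h t ht).2
  rw [one_smul] at h1
  have h3 : (nn (Fr.X x y) (Fr.X (neg y) (neg x)) 1)⁻¹ (Fr.b x) = Fr.b (neg y) := by
    rw [← h1]
    exact (nn (Fr.X x y) (Fr.X (neg y) (neg x)) (1 : F)).symm_apply_apply _
  change nn (Fr.X x y) (Fr.X (neg y) (neg x)) t
    ((nn (Fr.X x y) (Fr.X (neg y) (neg x)) 1)⁻¹ (Fr.b x)) = _
  rw [h3, h2]

variable (i0 : ι)

theorem X_mem_lineStab {x y : ι × Bool} (hx : x ≠ (i0, false)) (hy : y ≠ (i0, false)) (t : F) :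
    Fr.X x y t ∈ lineStab (F := F) (Fr.b (i0, true)) := by
  refine mem_lineStab_of_fix (X_fix Fr ?_ ?_ t)
  · intro e
    apply hx
    rw [← WittFrame.neg_neg x, ← e]
    rfl
  · intro e
    apply hy
    rw [← WittFrame.neg_neg y, ← e]
    rfl

theorem Z_mem_lineStab {x : ι × Bool} (hx : x ≠ (i0, false)) (p : Fr.Adm) :
    Fr.Z x p ∈ lineStab (F := F) (Fr.b (i0, true)) := by
  refine mem_lineStab_of_fix (Z_fix Fr ?_ p)
  intro e
  apply hx
  rw [← WittFrame.neg_neg x, ← e]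
  rfl

/-- The torus elements of the node `(i0, j)`. -/
theorem hh_mem_lineStab {j : ι} (hj : i0 ≠ j) (y : Bool) (t : F) (ht : t ≠ 0) :
    hh (Fr.X (i0, true) (j, y)) (Fr.X (j, !y) (i0, false)) t ∈
      lineStab (F := F) (Fr.b (i0, true)) :=
  ⟨t, hh_apply Fr (x := (i0, true)) (y := (j, y)) hj t ht⟩

/-- The opposite root element of the node `(i0, j)` is not in the line stabiliser. -/
theorem X_notMem_lineStab {j : ι} (hj : i0 ≠ j) (y : Bool) (t : F) (ht : t ≠ 0) :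
    Fr.X (j, y) (i0, false) t ∉ lineStab (F := F) (Fr.b (i0, true)) := by
  rintro ⟨a, ha⟩
  have h1 := X_apply_neg Fr (x := (j, y)) (y := (i0, false)) (Ne.symm hj) t
  have e : neg ((i0, false) : ι × Bool) = (i0, true) := rfl
  rw [e, ha] at h1
  have h2 : t • Fr.b (j, y) = (a - 1) • Fr.b (i0, true) := by
    rw [sub_smul, one_smul, h1, add_sub_cancel_left]
  have h3 : Fr.b (j, y) = (t⁻¹ * (a - 1)) • Fr.b (i0, true) := by
    rw [← smul_smul, ← h2, smul_smul, inv_mul_cancel₀ ht, one_smul]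
  exact b_ne_smul Fr (x := (j, y)) (y := (i0, true)) (Ne.symm hj) _ h3

end Frame

end Cfsg.Agent.TitsThree.LineBorel
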