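import Cfsg.Agent.TitsThree.Siegel
import Mathlib.Algebra.Group.Commutator
import Mathlib.Algebra.Group.Subgroup.Basic
import Mathlib.Algebra.Group.Prod

/-!
# The relation package of type `B₂` (pseudo-quadratic form)

Model to keep in mind: `V_total = ⟨e₁,e₂⟩ ⊕ V ⊕ ⟨f₁,f₂⟩`, `h` linear on the left, `h w v = ε σ(h v w)`,
`h e_i f_i = 1`, `h f_i e_i = ε`, and

* `x  a` (root `e₁-e₂`) : `e₂ ↦ e₂ + a e₁`, `f₁ ↦ f₁ - σ(a) f₂`;
* `x' a` (root `e₂-e₁`) : `e₁ ↦ e₁ + a e₂`, `f₂ ↦ f₂ - σ(a) f₁`;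
* `y  b` (root `e₁+e₂`) : `f₂ ↦ f₂ + b e₁`, `f₁ ↦ f₁ - ε σ(b) e₂`;
* `y' b` (root `-e₁-e₂`): `e₂ ↦ e₂ + b f₁`, `e₁ ↦ e₁ - ε⁻¹ σ(b) f₂`;
* `z₁ (w,c)` (root `e₁`) : `f₁ ↦ f₁ + w + c e₁`, `v ↦ v - h v w e₁` (`v ∈ V`); `z₂` the same with index 2;
* `z₁' (w,c)` (root `-e₁`) : `e₁ ↦ e₁ + w + ε⁻¹ c f₁`, `v ↦ v - ε⁻¹ h v w f₁`; `z₂'` the same with index 2.

All formulas below were checked numerically for `Sp₄`, `O₅`, `O₆⁻`, `U₄`, `U₅` (odd and even characteristic,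
every `ε`).  `X = {(w,c) | ok w c}` has the law `(w,c)(w',c') = (w+w', c+c'-h w' w)`.
-/

set_option autoImplicit false

namespace Cfsg.Agent.TitsThree.B2Pkg

open Cfsg.Agent.TitsThree.Siegel
open scoped commutatorElement

/-- Parameter system for the type II root groups. -/
structure PQDatum (F : Type*) [Field F] (V : Type*) [AddCommGroup V] [Module F V] extends HForm F V where
  ok : V → F → Prop
  ok_zero : ok 0 0
  ok_mul : ∀ {w c w' c'}, ok w c → ok w' c' → ok (w + w') (c + c' - h w' w)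
  ok_inv : ∀ {w c}, ok w c → ok (-w) (ε * σ c)
  ok_sc : ∀ (a : F) {w c}, ok w c → ok (σ a • w) (a * σ a * c)
  ok_tr : ∀ a b : F, ok 0 (σ a * b - ε * a * σ b)
  ok_refl : ∀ {w c w' c'}, ok w c → c ≠ 0 → ok w' c' → ok (w' + (c⁻¹ * h w' w) • w) c'
  ok_rel : ∀ {w c}, ok w c → c + ε * σ c = -h w w
  ok_aniso : ∀ {w}, ok w 0 → w = 0

variable {F : Type*} [Field F] {V : Type*} [AddCommGroup V] [Module F V]

namespace PQDatum

variable (D : PQDatum F V)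

/-- The parameter group of the type II root groups. -/
@[ext] structure T where
  w : V
  c : F
  ok : D.ok w c

variable {D}

namespace T

instance : Mul D.T := ⟨fun p q => ⟨p.w + q.w, p.c + q.c - D.h q.w p.w, D.ok_mul p.ok q.ok⟩⟩
instance : One D.T := ⟨⟨0, 0, D.ok_zero⟩⟩
instance : Inv D.T := ⟨fun p => ⟨-p.w, D.ε * D.σ p.c, D.ok_inv p.ok⟩⟩

@[simp] theorem mul_w (p q : D.T) : (p * q).w = p.w + q.w := rfl
@[simp] theorem mul_c (p q : D.T) : (p * q).c = p.c + q.c - D.h q.w p.w := rfl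
@[simp] theorem one_w : (1 : D.T).w = 0 := rfl
@[simp] theorem one_c : (1 : D.T).c = 0 := rfl
@[simp] theorem inv_w (p : D.T) : p⁻¹.w = -p.w := rfl
@[simp] theorem inv_c (p : D.T) : p⁻¹.c = D.ε * D.σ p.c := rfl

theorem rel (p : D.T) : p.c + D.ε * D.σ p.c = -D.h p.w p.w := D.ok_rel p.ok

instance : Group D.T where
  mul_assoc p q r := by
    ext
    · simp [add_assoc]
    · simp only [mul_c, mul_w, D.add_left, D.add_right]; ring
  one_mul p := by ext <;> simp [D.zero_right]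
  mul_one p := by ext <;> simp [D.zero_left]
  inv_mul_cancel p := by
    ext
    · simp
    · have h1 := p.rel
      have h2 : D.h p.w (-p.w) = -D.h p.w p.w := by
        have := D.smul_right (-1) p.w p.w
        simpa using this
      simp only [mul_c, inv_c, inv_w, one_c, h2]
      linear_combination h1

theorem c_eq_zero_iff {p : D.T} : p.c = 0 ↔ p = 1 := by
  constructor
  · intro h
    have h1 : D.ok p.w 0 := h ▸ p.ok
    ext
    · exact D.ok_aniso h1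
    · exact h
  · rintro rfl; rfl

end T

variable (D)

/-- scaling `(σ(a) w, a σ(a) c)` -/
def sc (a : F) (p : D.T) : D.T := ⟨D.σ a • p.w, a * D.σ a * p.c, D.ok_sc a p.ok⟩

/-- the central elements `(0, σ(a) b - ε a σ(b))` -/
def tr (a b : F) : D.T := ⟨0, D.σ a * b - D.ε * a * D.σ b, D.ok_tr a b⟩

/-- the reflection `(w' + c⁻¹ h(w',w) w, c')` attached to `p = (w,c)` -/
def refl (p : D.T) (hp : p.c ≠ 0) (q : D.T) : D.T :=
  ⟨q.w + (p.c⁻¹ * D.h q.w p.w) • p.w, q.c, D.ok_refl p.ok hp q.ok⟩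

@[simp] theorem sc_w (a : F) (p : D.T) : (D.sc a p).w = D.σ a • p.w := rfl
@[simp] theorem sc_c (a : F) (p : D.T) : (D.sc a p).c = a * D.σ a * p.c := rfl
@[simp] theorem tr_w (a b : F) : (D.tr a b).w = 0 := rfl
@[simp] theorem tr_c (a b : F) : (D.tr a b).c = D.σ a * b - D.ε * a * D.σ b := rfl
@[simp] theorem refl_w (p : D.T) (hp : p.c ≠ 0) (q : D.T) :
    (D.refl p hp q).w = q.w + (p.c⁻¹ * D.h q.w p.w) • p.w := rfl
@[simp] theorem refl_c (p : D.T) (hp : p.c ≠ 0) (q : D.T) : (D.refl p hp q).c = q.c := rfl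

end PQDatum

/-- The eight families of root elements. -/
structure B2Maps (D : PQDatum F V) (Y : Type*) where
  x : F → Y
  x' : F → Y
  y : F → Y
  y' : F → Y
  z₁ : D.T → Y
  z₂ : D.T → Y
  z₁' : D.T → Y
  z₂' : D.T → Y

namespace B2Maps

variable {D : PQDatum F V} {Y : Type*} [Group Y] (m : B2Maps D Y)

/-- `n_I = x(1) x'(-1) x(1)` -/
def nI : Y := m.x 1 * m.x' (-1) * m.x 1

/-- `n_II(w,c) = z₂'(-c⁻¹ w, σ(c)⁻¹) z₂(w,c) z₂'(-ε⁻¹ σ(c)⁻¹ w, σ(c)⁻¹)` -/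
def nII (p : D.T) : Y :=
  m.z₂' (D.sc (-(D.σ p.c)⁻¹) p) * m.z₂ p * m.z₂' (D.sc (-(D.ε * p.c⁻¹)) p)

/-- transport along a homomorphism -/
def map {Z : Type*} [Group Z] (f : Y →* Z) : B2Maps D Z where
  x a := f (m.x a)
  x' a := f (m.x' a)
  y a := f (m.y a)
  y' a := f (m.y' a)
  z₁ p := f (m.z₁ p)
  z₂ p := f (m.z₂ p)
  z₁' p := f (m.z₁' p)
  z₂' p := f (m.z₂' p)

/-- product -/
def prod {Z : Type*} [Group Z] (k : B2Maps D Z) : B2Maps D (Y × Z) where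
  x a := (m.x a, k.x a)
  x' a := (m.x' a, k.x' a)
  y a := (m.y a, k.y a)
  y' a := (m.y' a, k.y' a)
  z₁ p := (m.z₁ p, k.z₁ p)
  z₂ p := (m.z₂ p, k.z₂ p)
  z₁' p := (m.z₁' p, k.z₁' p)
  z₂' p := (m.z₂' p, k.z₂' p)

end B2Maps

/-- The relation package of type `B₂` with parameters `D`. -/
structure B2Rel {D : PQDatum F V} {Y : Type*} [Group Y] (m : B2Maps D Y) : Prop where
  x_add : ∀ a b, m.x (a + b) = m.x a * m.x b
  x'_add : ∀ a b, m.x' (a + b) = m.x' a * m.x' b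
  y_add : ∀ a b, m.y (a + b) = m.y a * m.y b
  y'_add : ∀ a b, m.y' (a + b) = m.y' a * m.y' b
  z₁_mul : ∀ p q, m.z₁ (p * q) = m.z₁ p * m.z₁ q
  z₂_mul : ∀ p q, m.z₂ (p * q) = m.z₂ p * m.z₂ q
  z₁'_mul : ∀ p q, m.z₁' (p * q) = m.z₁' p * m.z₁' q
  z₂'_mul : ∀ p q, m.z₂' (p * q) = m.z₂' p * m.z₂' q
  -- commutators of positive root elements
  x_z₂ : ∀ a p, ⁅m.x a, m.z₂ p⁆ = m.z₁ (D.sc a p) * m.y (-(D.ε * a * D.σ p.c))
  z₁_z₂ : ∀ p q, ⁅m.z₁ p, m.z₂ q⁆ = m.y (-D.h q.w p.w)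
  x_y : ∀ a b, ⁅m.x a, m.y b⁆ = m.z₁ (D.tr a b)
  x_z₁ : ∀ a p, Commute (m.x a) (m.z₁ p)
  y_z₁ : ∀ b p, Commute (m.y b) (m.z₁ p)
  y_z₂ : ∀ b p, Commute (m.y b) (m.z₂ p)
  -- conjugation by `n_I`
  nI_x : ∀ a, m.nI * m.x a * m.nI⁻¹ = m.x' (-a)
  nI_x' : ∀ a, m.nI * m.x' a * m.nI⁻¹ = m.x (-a)
  nI_y : ∀ b, m.nI * m.y b * m.nI⁻¹ = m.y (D.ε * D.σ b)
  nI_y' : ∀ b, m.nI * m.y' b * m.nI⁻¹ = m.y' (D.ε⁻¹ * D.σ b)
  nI_z₁ : ∀ p, m.nI * m.z₁ p * m.nI⁻¹ = m.z₂ (D.sc (-1) p)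
  nI_z₂ : ∀ p, m.nI * m.z₂ p * m.nI⁻¹ = m.z₁ p
  nI_z₁' : ∀ p, m.nI * m.z₁' p * m.nI⁻¹ = m.z₂' (D.sc (-1) p)
  nI_z₂' : ∀ p, m.nI * m.z₂' p * m.nI⁻¹ = m.z₁' p
  -- conjugation by `n_II`
  nII_x : ∀ p, p.c ≠ 0 → ∀ a, m.nII p * m.x a * (m.nII p)⁻¹ = m.y (D.ε * D.σ p.c * a)
  nII_y : ∀ p, p.c ≠ 0 → ∀ b, m.nII p * m.y b * (m.nII p)⁻¹ = m.x (p.c⁻¹ * b)
  nII_x' : ∀ p, p.c ≠ 0 → ∀ a, m.nII p * m.x' a * (m.nII p)⁻¹ = m.y' (-(p.c⁻¹ * D.σ a))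
  nII_y' : ∀ p, p.c ≠ 0 → ∀ b, m.nII p * m.y' b * (m.nII p)⁻¹ = m.x' (-(D.ε⁻¹ * p.c * D.σ b))
  nII_z₁ : ∀ p (hp : p.c ≠ 0) q, m.nII p * m.z₁ q * (m.nII p)⁻¹ = m.z₁ (D.refl p hp q)
  nII_z₁' : ∀ p (hp : p.c ≠ 0) q, m.nII p * m.z₁' q * (m.nII p)⁻¹ = m.z₁' (D.refl p hp q)
  nII_z₂ : ∀ p (hp : p.c ≠ 0) q,
    m.nII p * m.z₂ q * (m.nII p)⁻¹ = m.z₂' (D.sc (D.σ p.c)⁻¹ (D.refl p hp q))
  nII_z₂' : ∀ p (hp : p.c ≠ 0) q,
    m.nII p * m.z₂' q * (m.nII p)⁻¹ = m.z₂ (D.sc (D.ε⁻¹ * p.c) (D.refl p hp q))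

namespace B2Rel

variable {D : PQDatum F V} {Y Z : Type*} [Group Y] [Group Z] {m : B2Maps D Y} {k : B2Maps D Z}

theorem map_nI (f : Y →* Z) : (m.map f).nI = f m.nI := by simp [B2Maps.nI, B2Maps.map]

theorem map_nII (f : Y →* Z) (p : D.T) : (m.map f).nII p = f (m.nII p) := by
  simp [B2Maps.nII, B2Maps.map]

theorem nI_conj (f : Y →* Z) (g : Y) :
    (m.map f).nI * f g * ((m.map f).nI)⁻¹ = f (m.nI * g * m.nI⁻¹) := by
  rw [map_nI]; simp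

theorem nII_conj (f : Y →* Z) (p : D.T) (g : Y) :
    (m.map f).nII p * f g * ((m.map f).nII p)⁻¹ = f (m.nII p * g * (m.nII p)⁻¹) := by
  rw [map_nII]; simp

/-- The package is inherited by homomorphic images. -/
theorem map (h : B2Rel m) (f : Y →* Z) : B2Rel (m.map f) where
  x_add a b := by simp [B2Maps.map, h.x_add]
  x'_add a b := by simp [B2Maps.map, h.x'_add]
  y_add a b := by simp [B2Maps.map, h.y_add]
  y'_add a b := by simp [B2Maps.map, h.y'_add]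
  z₁_mul p q := by simp [B2Maps.map, h.z₁_mul]
  z₂_mul p q := by simp [B2Maps.map, h.z₂_mul]
  z₁'_mul p q := by simp [B2Maps.map, h.z₁'_mul]
  z₂'_mul p q := by simp [B2Maps.map, h.z₂'_mul]
  x_z₂ a p := by simp only [B2Maps.map, ← map_commutatorElement, h.x_z₂, map_mul]
  z₁_z₂ p q := by simp only [B2Maps.map, ← map_commutatorElement, h.z₁_z₂]
  x_y a b := by simp only [B2Maps.map, ← map_commutatorElement, h.x_y]
  x_z₁ a p := (h.x_z₁ a p).map f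
  y_z₁ a p := (h.y_z₁ a p).map f
  y_z₂ a p := (h.y_z₂ a p).map f
  nI_x a := (nI_conj f _).trans (congrArg f (h.nI_x a))
  nI_x' a := (nI_conj f _).trans (congrArg f (h.nI_x' a))
  nI_y a := (nI_conj f _).trans (congrArg f (h.nI_y a))
  nI_y' a := (nI_conj f _).trans (congrArg f (h.nI_y' a))
  nI_z₁ a := (nI_conj f _).trans (congrArg f (h.nI_z₁ a))
  nI_z₂ a := (nI_conj f _).trans (congrArg f (h.nI_z₂ a))
  nI_z₁' a := (nI_conj f _).trans (congrArg f (h.nI_z₁' a))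
  nI_z₂' a := (nI_conj f _).trans (congrArg f (h.nI_z₂' a))
  nII_x p hp a := (nII_conj f p _).trans (congrArg f (h.nII_x p hp a))
  nII_y p hp a := (nII_conj f p _).trans (congrArg f (h.nII_y p hp a))
  nII_x' p hp a := (nII_conj f p _).trans (congrArg f (h.nII_x' p hp a))
  nII_y' p hp a := (nII_conj f p _).trans (congrArg f (h.nII_y' p hp a))
  nII_z₁ p hp a := (nII_conj f p _).trans (congrArg f (h.nII_z₁ p hp a))
  nII_z₁' p hp a := (nII_conj f p _).trans (congrArg f (h.nII_z₁' p hp a))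
  nII_z₂ p hp a := (nII_conj f p _).trans (congrArg f (h.nII_z₂ p hp a))
  nII_z₂' p hp a := (nII_conj f p _).trans (congrArg f (h.nII_z₂' p hp a))

/-- A package whose image under an injective homomorphism satisfies the relations satisfies them. -/
theorem of_map {f : Y →* Z} (hf : Function.Injective f) (h : B2Rel (m.map f)) : B2Rel m where
  x_add a b := hf (by simpa [B2Maps.map] using h.x_add a b)
  x'_add a b := hf (by simpa [B2Maps.map] using h.x'_add a b)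
  y_add a b := hf (by simpa [B2Maps.map] using h.y_add a b)
  y'_add a b := hf (by simpa [B2Maps.map] using h.y'_add a b)
  z₁_mul p q := hf (by simpa [B2Maps.map] using h.z₁_mul p q)
  z₂_mul p q := hf (by simpa [B2Maps.map] using h.z₂_mul p q)
  z₁'_mul p q := hf (by simpa [B2Maps.map] using h.z₁'_mul p q)
  z₂'_mul p q := hf (by simpa [B2Maps.map] using h.z₂'_mul p q)
  x_z₂ a p := hf (by
    rw [map_commutatorElement, map_mul]; exact h.x_z₂ a p)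
  z₁_z₂ p q := hf (by rw [map_commutatorElement]; exact h.z₁_z₂ p q)
  x_y a b := hf (by rw [map_commutatorElement]; exact h.x_y a b)
  x_z₁ a p := hf (by rw [map_mul, map_mul]; exact h.x_z₁ a p)
  y_z₁ a p := hf (by rw [map_mul, map_mul]; exact h.y_z₁ a p)
  y_z₂ a p := hf (by rw [map_mul, map_mul]; exact h.y_z₂ a p)
  nI_x a := hf ((nI_conj f _).symm.trans (h.nI_x a))
  nI_x' a := hf ((nI_conj f _).symm.trans (h.nI_x' a))
  nI_y a := hf ((nI_conj f _).symm.trans (h.nI_y a))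
  nI_y' a := hf ((nI_conj f _).symm.trans (h.nI_y' a))
  nI_z₁ a := hf ((nI_conj f _).symm.trans (h.nI_z₁ a))
  nI_z₂ a := hf ((nI_conj f _).symm.trans (h.nI_z₂ a))
  nI_z₁' a := hf ((nI_conj f _).symm.trans (h.nI_z₁' a))
  nI_z₂' a := hf ((nI_conj f _).symm.trans (h.nI_z₂' a))
  nII_x p hp a := hf ((nII_conj f p _).symm.trans (h.nII_x p hp a))
  nII_y p hp a := hf ((nII_conj f p _).symm.trans (h.nII_y p hp a))
  nII_x' p hp a := hf ((nII_conj f p _).symm.trans (h.nII_x' p hp a))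
  nII_y' p hp a := hf ((nII_conj f p _).symm.trans (h.nII_y' p hp a))
  nII_z₁ p hp a := hf ((nII_conj f p _).symm.trans (h.nII_z₁ p hp a))
  nII_z₁' p hp a := hf ((nII_conj f p _).symm.trans (h.nII_z₁' p hp a))
  nII_z₂ p hp a := hf ((nII_conj f p _).symm.trans (h.nII_z₂ p hp a))
  nII_z₂' p hp a := hf ((nII_conj f p _).symm.trans (h.nII_z₂' p hp a))

/-- The package in a product. -/
theorem prod (h : B2Rel m) (h' : B2Rel k) : B2Rel (m.prod k) where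
  x_add a b := Prod.ext (h.x_add a b) (h'.x_add a b)
  x'_add a b := Prod.ext (h.x'_add a b) (h'.x'_add a b)
  y_add a b := Prod.ext (h.y_add a b) (h'.y_add a b)
  y'_add a b := Prod.ext (h.y'_add a b) (h'.y'_add a b)
  z₁_mul p q := Prod.ext (h.z₁_mul p q) (h'.z₁_mul p q)
  z₂_mul p q := Prod.ext (h.z₂_mul p q) (h'.z₂_mul p q)
  z₁'_mul p q := Prod.ext (h.z₁'_mul p q) (h'.z₁'_mul p q)
  z₂'_mul p q := Prod.ext (h.z₂'_mul p q) (h'.z₂'_mul p q)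
  x_z₂ a p := Prod.ext (h.x_z₂ a p) (h'.x_z₂ a p)
  z₁_z₂ p q := Prod.ext (h.z₁_z₂ p q) (h'.z₁_z₂ p q)
  x_y a b := Prod.ext (h.x_y a b) (h'.x_y a b)
  x_z₁ a p := Prod.ext (h.x_z₁ a p) (h'.x_z₁ a p)
  y_z₁ a p := Prod.ext (h.y_z₁ a p) (h'.y_z₁ a p)
  y_z₂ a p := Prod.ext (h.y_z₂ a p) (h'.y_z₂ a p)
  nI_x a := Prod.ext (h.nI_x a) (h'.nI_x a)
  nI_x' a := Prod.ext (h.nI_x' a) (h'.nI_x' a)
  nI_y a := Prod.ext (h.nI_y a) (h'.nI_y a)
  nI_y' a := Prod.ext (h.nI_y' a) (h'.nI_y' a)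
  nI_z₁ a := Prod.ext (h.nI_z₁ a) (h'.nI_z₁ a)
  nI_z₂ a := Prod.ext (h.nI_z₂ a) (h'.nI_z₂ a)
  nI_z₁' a := Prod.ext (h.nI_z₁' a) (h'.nI_z₁' a)
  nI_z₂' a := Prod.ext (h.nI_z₂' a) (h'.nI_z₂' a)
  nII_x p hp a := Prod.ext (h.nII_x p hp a) (h'.nII_x p hp a)
  nII_y p hp a := Prod.ext (h.nII_y p hp a) (h'.nII_y p hp a)
  nII_x' p hp a := Prod.ext (h.nII_x' p hp a) (h'.nII_x' p hp a)
  nII_y' p hp a := Prod.ext (h.nII_y' p hp a) (h'.nII_y' p hp a)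
  nII_z₁ p hp a := Prod.ext (h.nII_z₁ p hp a) (h'.nII_z₁ p hp a)
  nII_z₁' p hp a := Prod.ext (h.nII_z₁' p hp a) (h'.nII_z₁' p hp a)
  nII_z₂ p hp a := Prod.ext (h.nII_z₂ p hp a) (h'.nII_z₂ p hp a)
  nII_z₂' p hp a := Prod.ext (h.nII_z₂' p hp a) (h'.nII_z₂' p hp a)

end B2Rel

end Cfsg.Agent.TitsThree.B2Pkg
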