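import Cfsg.Agent.Tits.Gate
import Cfsg.Agent.TitsThree.B2Pkg
import Cfsg.Agent.TitsThree.KSideDefs
/-!
# The interface between the G side and the K side (S1143)

`Comm4`, `Edge3` : relation packages of a pair of nodes with label 2, 3 (label 4: `B2Pkg.B2Rel`).
`SL`, `CN`, `FF` : packages for a whole diagram (simply laced; `C_{n+1}`; `F₄`) in a group `Y`.
`NodeAct` : how the root elements of a node act on the panel of the base chamber.

G side: `G` simple, acting strongly transitively on `Δ`, base chamber `c`, `SL`/`CN`/`FF` package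
in `G` + `NodeAct` for every node + generation.
K side: the same package in `K` + generation + a proper subgroup `Bor` containing the positive
root elements and the elements `n(t) n(1)⁻¹`.
-/

set_option autoImplicit false

namespace Cfsg.Agent.TitsThree.Pack

open Cfsg.Agent.Tits.Core Cfsg.Agent.AGraded Cfsg.Agent.TitsThree.B2Pkg

/-- label 2 -/
def Comm4 {X X' Y : Type*} [Group Y] (xp xm : X → Y) (yp ym : X' → Y) : Prop :=
  ∀ s t, Commute (xp s) (yp t) ∧ Commute (xp s) (ym t) ∧ Commute (xm s) (yp t) ∧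
    Commute (xm s) (ym t)

/-- label 3 -/
def Edge3 {F Y : Type*} [Field F] [Group Y] (xp xm yp ym : F → Y) : Prop :=
  ∃ x : Fin 3 → Fin 3 → F → Y, SteinRel x ∧ x 0 1 = xp ∧ x 1 0 = xm ∧ x 1 2 = yp ∧ x 2 1 = ym

/-- Simply laced package (fields of `SLData` without generation and Borel). -/
structure SL (Y : Type*) [Group Y] (F : Type*) [Field F] (n : ℕ) (adj : Fin n → Fin n → Prop) where
  xp : Fin n → F → Y
  xm : Fin n → F → Y
  st3 : ∀ i j, adj i j → Edge3 (xp i) (xm i) (xp j) (xm j)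
  comm : ∀ i j, i ≠ j → ¬ adj i j → ¬ adj j i → Comm4 (xp i) (xm i) (xp j) (xm j)

/-- Package of type `C_{n+1}`: nodes `0, …, n-1` of type I (parametrised by `F`), the last node
(type II) parametrised by `D.T`, i.e. `b2.z₂`, `b2.z₂'`. -/
structure CN (Y : Type*) [Group Y] {F : Type*} [Field F] {V : Type*} [AddCommGroup V] [Module F V]
    (D : PQDatum F V) (n : ℕ) where
  xp : Fin n → F → Y
  xm : Fin n → F → Y
  b2 : B2Maps D Y
  rel : B2Rel b2
  st3 : ∀ i j : Fin n, i.1 + 1 = j.1 → Edge3 (xp i) (xm i) (xp j) (xm j)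
  comm : ∀ i j : Fin n, i.1 + 1 < j.1 → Comm4 (xp i) (xm i) (xp j) (xm j)
  commT : ∀ i : Fin n, i.1 + 1 < n → Comm4 (xp i) (xm i) b2.z₂ b2.z₂'
  last : ∀ i : Fin n, i.1 + 1 = n → b2.x = xp i ∧ b2.x' = xm i

/-- Package of type `F₄`: nodes `0, 1` parametrised by `F`, nodes `2, 3` by the field `E`;
`τ, τ' : E → D.T` are the parametrisations of the type II root groups of the double bond `1 = 2`. -/
structure FF (Y : Type*) [Group Y] {F : Type*} [Field F] {V : Type*} [AddCommGroup V] [Module F V]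
    (D : PQDatum F V) {E : Type*} [Field E] (τ τ' : E → D.T) where
  x0 : F → Y
  y0 : F → Y
  x1 : F → Y
  y1 : F → Y
  x2 : E → Y
  y2 : E → Y
  x3 : E → Y
  y3 : E → Y
  b2 : B2Maps D Y
  rel : B2Rel b2
  e01 : Edge3 x0 y0 x1 y1
  e23 : Edge3 x2 y2 x3 y3
  hx : b2.x = x1
  hx' : b2.x' = y1
  hz : ∀ t, b2.z₂ (τ t) = x2 t
  hz' : ∀ t, b2.z₂' (τ' t) = y2 t
  c02 : Comm4 x0 y0 x2 y2
  c03 : Comm4 x0 y0 x3 y3
  c13 : Comm4 x1 y1 x3 y3

/-- The action of the root elements of the node `i` on the `i`-panel of the base chamber `c`;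
`ci` is the chamber of the panel fixed by the negative root group. -/
structure NodeAct {I : Type*} {M : CoxeterMatrix I} {W : Type*} [Group W] {cs : CoxeterSystem M W}
    {C : Type*} (Δ : Bldg cs C) {G : Type*} [Group G] [MulAction G C] (c : C) (i : I) (ci : C)
    {X : Type*} (xp xm : X → G) : Prop where
  mem : ci ∈ Δ.Pan i c
  ne : ci ≠ c
  fix : ∀ t, xp t • c = c
  fix' : ∀ t, xm t • ci = ci
  trans : ∀ y ∈ Δ.Pan i c, y ≠ c → ∃ t, xp t • ci = y
  trans' : ∀ y ∈ Δ.Pan i c, y ≠ ci → ∃ t, xm t • c = y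

/-! ### G side -/

section GSide

variable {W : Type*} [Group W] {C : Type*}

/-- G side, simply laced. -/
structure GSL {n : ℕ} {M : CoxeterMatrix (Fin n)} {cs : CoxeterSystem M W} (Δ : Bldg cs C)
    (G : Type*) [Group G] [MulAction G C] (F : Type*) [Field F] (adj : Fin n → Fin n → Prop)
    extends SL G F n adj where
  c : C
  ci : Fin n → C
  act : ∀ i, NodeAct Δ c i (ci i) (xp i) (xm i)
  gen : Subgroup.closure {g : G | ∃ i t, g = xp i t ∨ g = xm i t} = ⊤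

/-- G side, type `C_{n+1}`. -/
structure GCN {n : ℕ} {M : CoxeterMatrix (Fin (n + 1))} {cs : CoxeterSystem M W} (Δ : Bldg cs C)
    (G : Type*) [Group G] [MulAction G C] {F : Type*} [Field F] {V : Type*} [AddCommGroup V]
    [Module F V] (D : PQDatum F V) extends CN G D n where
  c : C
  ci : Fin (n + 1) → C
  act : ∀ i : Fin n, NodeAct Δ c i.castSucc (ci i.castSucc) (xp i) (xm i)
  actT : NodeAct Δ c (Fin.last n) (ci (Fin.last n)) b2.z₂ b2.z₂'
  y_fix : ∀ b, b2.y b • c = c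
  gen : Subgroup.closure {g : G | (∃ i t, g = xp i t ∨ g = xm i t) ∨ ∃ p, g = b2.z₂ p ∨ g = b2.z₂' p}
    = ⊤

/-- G side, type `F₄`. -/
structure GFF {M : CoxeterMatrix (Fin 4)} {cs : CoxeterSystem M W} (Δ : Bldg cs C)
    (G : Type*) [Group G] [MulAction G C] {F : Type*} [Field F] {V : Type*} [AddCommGroup V]
    [Module F V] (D : PQDatum F V) {E : Type*} [Field E] (τ τ' : E → D.T)
    extends FF G D τ τ' where
  c : C
  ci : Fin 4 → C
  a0 : NodeAct Δ c 0 (ci 0) x0 y0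
  a1 : NodeAct Δ c 1 (ci 1) x1 y1
  a2 : NodeAct Δ c 2 (ci 2) x2 y2
  a3 : NodeAct Δ c 3 (ci 3) x3 y3
  y_fix : ∀ b, b2.y b • c = c
  gen : Subgroup.closure (Set.range x0 ∪ Set.range y0 ∪ Set.range x1 ∪ Set.range y1 ∪
    Set.range x2 ∪ Set.range y2 ∪ Set.range x3 ∪ Set.range y3) = ⊤

end GSide

/-! ### K side (the simply laced K side is `SLData`) -/

/-- K side, type `C_{n+1}`. -/
structure KCN (K : Type*) [Group K] {F : Type*} [Field F] {V : Type*} [AddCommGroup V]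
    [Module F V] (D : PQDatum F V) (n : ℕ) extends CN K D n where
  gen : Subgroup.closure {g : K | (∃ i t, g = xp i t ∨ g = xm i t) ∨ ∃ p, g = b2.z₂ p ∨ g = b2.z₂' p}
    = ⊤
  Bor : Subgroup K
  Bor_ne : Bor ≠ ⊤
  xp_mem : ∀ i t, xp i t ∈ Bor
  y_mem : ∀ t, b2.y t ∈ Bor
  z₁_mem : ∀ p, b2.z₁ p ∈ Bor
  z₂_mem : ∀ p, b2.z₂ p ∈ Bor
  hh_mem : ∀ i t, t ≠ 0 → hh (xp i) (xm i) t ∈ Bor
  nII_mem : ∀ p q, p.c ≠ 0 → q.c ≠ 0 → b2.nII p * (b2.nII q)⁻¹ ∈ Bor

/-- K side, type `F₄`. -/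
structure KFF (K : Type*) [Group K] {F : Type*} [Field F] {V : Type*} [AddCommGroup V]
    [Module F V] (D : PQDatum F V) {E : Type*} [Field E] (τ τ' : E → D.T)
    extends FF K D τ τ' where
  gen : Subgroup.closure (Set.range x0 ∪ Set.range y0 ∪ Set.range x1 ∪ Set.range y1 ∪
    Set.range x2 ∪ Set.range y2 ∪ Set.range x3 ∪ Set.range y3) = ⊤
  Bor : Subgroup K
  Bor_ne : Bor ≠ ⊤
  x0_mem : ∀ t, x0 t ∈ Bor
  x1_mem : ∀ t, x1 t ∈ Bor
  x2_mem : ∀ t, x2 t ∈ Bor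
  x3_mem : ∀ t, x3 t ∈ Bor
  y_mem : ∀ t, b2.y t ∈ Bor
  z₁_mem : ∀ p, b2.z₁ p ∈ Bor
  hh0_mem : ∀ t, t ≠ 0 → hh x0 y0 t ∈ Bor
  hh1_mem : ∀ t, t ≠ 0 → hh x1 y1 t ∈ Bor
  hh3_mem : ∀ t, t ≠ 0 → hh x3 y3 t ∈ Bor
  nII_mem : ∀ p q, p.c ≠ 0 → q.c ≠ 0 → b2.nII p * (b2.nII q)⁻¹ ∈ Bor

/-! ### Products -/

section Prod

variable {Y Z : Type*} [Group Y] [Group Z]

theorem Comm4.prod {X X' : Type*} {xp xm : X → Y} {yp ym : X' → Y} {xp' xm' : X → Z}
    {yp' ym' : X' → Z} (h : Comm4 xp xm yp ym) (h' : Comm4 xp' xm' yp' ym') :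
    Comm4 (fun t => (xp t, xp' t)) (fun t => (xm t, xm' t)) (fun t => (yp t, yp' t))
      (fun t => (ym t, ym' t)) := by
  intro s t
  obtain ⟨a1, a2, a3, a4⟩ := h s t
  obtain ⟨b1, b2, b3, b4⟩ := h' s t
  exact ⟨Prod.ext a1 b1, Prod.ext a2 b2, Prod.ext a3 b3, Prod.ext a4 b4⟩

theorem SteinRel.prod {ι F : Type*} [Fintype ι] [DecidableEq ι] [Field F]
    {x : ι → ι → F → Y} {x' : ι → ι → F → Z} (h : SteinRel x) (h' : SteinRel x') :
    SteinRel fun a b t => (x a b t, x' a b t) where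
  add i j hij a b := Prod.ext (h.add i j hij a b) (h'.add i j hij a b)
  comm i j k l hij hkl hjk hil a b :=
    Prod.ext (h.comm i j k l hij hkl hjk hil a b) (h'.comm i j k l hij hkl hjk hil a b)
  br i j k hij hjk hik a b := Prod.ext (h.br i j k hij hjk hik a b) (h'.br i j k hij hjk hik a b)

theorem Edge3.prod {F : Type*} [Field F] {xp xm yp ym : F → Y} {xp' xm' yp' ym' : F → Z}
    (h : Edge3 xp xm yp ym) (h' : Edge3 xp' xm' yp' ym') :
    Edge3 (fun t => (xp t, xp' t)) (fun t => (xm t, xm' t)) (fun t => (yp t, yp' t))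
      (fun t => (ym t, ym' t)) := by
  obtain ⟨x, hx, rfl, rfl, rfl, rfl⟩ := h
  obtain ⟨x', hx', rfl, rfl, rfl, rfl⟩ := h'
  exact ⟨_, SteinRel.prod hx hx', rfl, rfl, rfl, rfl⟩

end Prod

end Cfsg.Agent.TitsThree.Pack
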