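import Cfsg.Agent.TitsThree.B2Frame
import Cfsg.Agent.TitsThree.LineBorel
import Cfsg.Agent.TitsThree.Pack

/-!
# The K side of type `C_n` from a Witt frame

`Model Fr K` : the group `K` is a quotient `φ : I → K` (kernel inside every line stabiliser) of a subgroup `I` of
`GL(V)` containing all root elements of the Witt frame `Fr`, and `K` is generated by the images of the simple
root elements.  `kcn : KCN K D (n+1)` for every parameter system `D` with a bijective embedding in `Fr`.
-/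

set_option autoImplicit false

namespace Cfsg.Agent.TitsThree.FrameCN

open Cfsg.Agent.TitsThree.Siegel Cfsg.Agent.TitsThree.WittFrame Cfsg.Agent.TitsThree.WittWeyl
open Cfsg.Agent.TitsThree.B2Pkg Cfsg.Agent.TitsThree.B2Frame Cfsg.Agent.TitsThree.LineBorel
open Cfsg.Agent.TitsThree.Pack Cfsg.Agent.AGraded Cfsg.Agent.TitsThree
open scoped commutatorElement

variable {F : Type*} [Field F] {V : Type*} [AddCommGroup V] [Module F V] {H : HForm F V}

/-! ## Steinberg systems of type `A` -/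

theorem map_steinRel {ι Y Z : Type*} [Fintype ι] [DecidableEq ι] [Group Y] [Group Z] (f : Y →* Z)
    {x : ι → ι → F → Y} (h : SteinRel x) : SteinRel fun a b t => f (x a b t) where
  add i j hij a b := by rw [h.add i j hij, map_mul]
  comm i j k l hij hkl hjk hil a b := by rw [← map_mul, ← map_mul, h.comm i j k l hij hkl hjk hil]
  br i j k hij hjk hik a b := by rw [← map_commutatorElement, h.br i j k hij hjk hik]

theorem frame_steinRel {ι : Type*} [Fintype ι] [DecidableEq ι] (Fr : Frame H ι) :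
    SteinRel (fun i j t => Fr.X (i, true) (j, false) t) where
  add i j _ := Fr.A_add i j
  comm i j k l _ _ hjk hil a b := (Fr.A_commute hjk hil a b).eq
  br i j k hij hjk hik a b := by
    rw [commutatorElement_def, mul_inv_eq_iff_eq_mul]
    exact Fr.A_conj hij hjk hik a b

/-! ## Models -/

/-- A group `K` modelled on the root elements of a Witt frame. -/
structure Model {m : ℕ} (Fr : Frame H (Fin m)) (K : Type*) [Group K] where
  I : Subgroup (V ≃ₗ[F] V)
  φ : I →* K
  hX : ∀ x y t, Fr.X x y t ∈ I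
  hZ : ∀ x p, Fr.Z x p ∈ I
  ker : ∀ (v : V) (g : I), φ g = 1 → g.1 ∈ lineStab (F := F) v
  gen : ∀ (l : Fin m) (L : Subgroup K),
    (∀ i j : Fin m, i.val + 1 = j.val → ∀ t,
      φ ⟨Fr.X (i, true) (j, false) t, hX _ _ _⟩ ∈ L ∧ φ ⟨Fr.X (j, true) (i, false) t, hX _ _ _⟩ ∈ L) →
    (∀ p, φ ⟨Fr.Z (l, true) p, hZ _ _⟩ ∈ L ∧ φ ⟨Fr.Z (l, false) p, hZ _ _⟩ ∈ L) → L = ⊤

namespace Model

variable {m : ℕ} {Fr : Frame H (Fin m)} {K : Type*} [Group K] (M : Model Fr K)

/-- type I root elements of `K` -/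
def X (x y : Fin m × Bool) (t : F) : K := M.φ ⟨Fr.X x y t, M.hX _ _ _⟩

/-- type II root elements of `K` -/
def Z (x : Fin m × Bool) (p : Fr.Adm) : K := M.φ ⟨Fr.Z x p, M.hZ _ _⟩

theorem steinRel : SteinRel (fun i j t => M.X (i, true) (j, false) t) := by
  have h : SteinRel (fun i j t => (⟨Fr.X (i, true) (j, false) t, M.hX _ _ _⟩ : M.I)) :=
    { add := fun i j hij a b => Subtype.ext ((frame_steinRel Fr).add i j hij a b)
      comm := fun i j k l hij hkl hjk hil a b =>
        Subtype.ext ((frame_steinRel Fr).comm i j k l hij hkl hjk hil a b)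
      br := fun i j k hij hjk hik a b => Subtype.ext ((frame_steinRel Fr).br i j k hij hjk hik a b) }
  exact map_steinRel M.φ h

theorem commute_XX {x y z u : Fin m × Bool} (h1 : z ≠ neg x) (h2 : z ≠ neg y) (h3 : u ≠ neg x)
    (h4 : u ≠ neg y) (s t : F) : Commute (M.X x y s) (M.X z u t) := by
  have h : Commute (⟨Fr.X x y s, M.hX _ _ _⟩ : M.I) ⟨Fr.X z u t, M.hX _ _ _⟩ :=
    Subtype.ext (Fr.commute_XX h1 h2 h3 h4 s t).eq
  exact h.map M.φ

theorem commute_ZX {x y z : Fin m × Bool} (h1 : y ≠ neg x) (h2 : z ≠ neg x) (p : Fr.Adm) (t : F) :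
    Commute (M.Z x p) (M.X y z t) := by
  have h : Commute (⟨Fr.Z x p, M.hZ _ _⟩ : M.I) ⟨Fr.X y z t, M.hX _ _ _⟩ :=
    Subtype.ext (Fr.commute_ZX h1 h2 p t).eq
  exact h.map M.φ

variable {V₁ : Type*} [AddCommGroup V₁] [Module F V₁] {D : PQDatum F V₁} (E : Emb D Fr)

/-- the maps in `I` -/
def mapsI (i k : Fin m) : B2Maps D M.I where
  x t := ⟨Fr.X (i, true) (k, false) t, M.hX _ _ _⟩
  x' t := ⟨Fr.X (k, true) (i, false) t, M.hX _ _ _⟩
  y t := ⟨Fr.X (i, true) (k, true) t, M.hX _ _ _⟩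
  y' t := ⟨Fr.X (i, false) (k, false) t, M.hX _ _ _⟩
  z₁ p := ⟨Fr.Z (i, true) (E.pos p), M.hZ _ _⟩
  z₂ p := ⟨Fr.Z (k, true) (E.pos p), M.hZ _ _⟩
  z₁' p := ⟨Fr.Z (i, false) (E.ngt p), M.hZ _ _⟩
  z₂' p := ⟨Fr.Z (k, false) (E.ngt p), M.hZ _ _⟩

theorem relI {i k : Fin m} (hik : i ≠ k) : B2Rel (M.mapsI E i k) :=
  B2Rel.of_map (f := M.I.subtype) Subtype.val_injective (rel E hik)

/-- the maps in `K` -/
def maps (i k : Fin m) : B2Maps D K := (M.mapsI E i k).map M.φ

theorem relK {i k : Fin m} (hik : i ≠ k) : B2Rel (M.maps E i k) := (M.relI E hik).map M.φ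

theorem maps_x (i k : Fin m) : (M.maps E i k).x = M.X (i, true) (k, false) := rfl
theorem maps_x' (i k : Fin m) : (M.maps E i k).x' = M.X (k, true) (i, false) := rfl
theorem maps_y (i k : Fin m) : (M.maps E i k).y = M.X (i, true) (k, true) := rfl
theorem maps_z₁ (i k : Fin m) (p : D.T) : (M.maps E i k).z₁ p = M.Z (i, true) (E.pos p) := rfl
theorem maps_z₂ (i k : Fin m) (p : D.T) : (M.maps E i k).z₂ p = M.Z (k, true) (E.pos p) := rfl
theorem maps_z₂' (i k : Fin m) (p : D.T) : (M.maps E i k).z₂' p = M.Z (k, false) (E.ngt p) := rfl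

end Model

theorem pos_surj {m : ℕ} {Fr : Frame H (Fin m)} {V₁ : Type*} [AddCommGroup V₁] [Module F V₁]
    {D : PQDatum F V₁} (E : Emb D Fr) (hE : Function.Surjective E.ngt) :
    Function.Surjective E.pos := by
  intro p
  obtain ⟨q, hq⟩ := hE (Frame.Adm.smul H.ε p)
  refine ⟨q, ?_⟩
  rw [Emb.pos, hq, Frame.Adm.smul_smul, inv_mul_cancel₀ H.ε_ne, Frame.Adm.one_smul]

section Main

variable {n : ℕ} {Fr : Frame H (Fin (n + 2))} {K : Type*} [Group K] (M : Model Fr K)
variable {V₁ : Type*} [AddCommGroup V₁] [Module F V₁] {D : PQDatum F V₁} (E : Emb D Fr)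

/-- The package of type `C_{n+2}`. -/
def cn : CN K D (n + 1) where
  xp i t := M.X (i.castSucc, true) (i.succ, false) t
  xm i t := M.X (i.succ, true) (i.castSucc, false) t
  b2 := M.maps E (Fin.last n).castSucc (Fin.last (n + 1))
  rel := M.relK E (by intro h; have := congrArg Fin.val h; simp at this)
  st3 i j hij := by
    have hj := j.2
    let f : Fin 3 → Fin (n + 2) := fun a => ⟨i + a, by omega⟩
    have hf : Function.Injective f := by
      intro a b hab
      have := congrArg Fin.val hab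
      exact Fin.ext (by simpa [f] using this)
    have e0 : f 0 = i.castSucc := Fin.ext (by simp [f])
    have e1 : f 1 = i.succ := Fin.ext (by simp [f])
    have e1' : f 1 = j.castSucc := Fin.ext (by simp [f, hij])
    have e2 : f 2 = j.succ := Fin.ext (by simp [f]; omega)
    refine ⟨_, KSideDefs.SteinRel.comap M.steinRel hf, ?_, ?_, ?_, ?_⟩
    · simp only [e0, e1]
    · simp only [e0, e1]
    · simp only [e1', e2]
    · simp only [e1', e2]
  comm i j hij s t := by
    have hj := j.2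
    have a1 : i.castSucc ≠ j.castSucc := fun e => by
      have := congrArg Fin.val e; simp at this; omega
    have a2 : i.castSucc ≠ j.succ := fun e => by
      have := congrArg Fin.val e; simp at this; omega
    have a3 : i.succ ≠ j.castSucc := fun e => by
      have := congrArg Fin.val e; simp at this; omega
    have a4 : i.succ ≠ j.succ := fun e => by
      have := congrArg Fin.val e; simp at this; omega
    refine ⟨M.commute_XX ?_ ?_ ?_ ?_ s t, M.commute_XX ?_ ?_ ?_ ?_ s t,
      M.commute_XX ?_ ?_ ?_ ?_ s t, M.commute_XX ?_ ?_ ?_ ?_ s t⟩ <;>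
    · intro e
      have := congrArg Prod.fst e
      first
        | exact a1 this.symm
        | exact a2 this.symm
        | exact a3 this.symm
        | exact a4 this.symm
  commT i hi s p := by
    have a1 : i.castSucc ≠ Fin.last (n + 1) := fun e => by
      have := congrArg Fin.val e; simp at this; omega
    have a2 : i.succ ≠ Fin.last (n + 1) := fun e => by
      have := congrArg Fin.val e; simp at this; omega
    refine ⟨(M.commute_ZX ?_ ?_ _ s).symm, (M.commute_ZX ?_ ?_ _ s).symm,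
      (M.commute_ZX ?_ ?_ _ s).symm, (M.commute_ZX ?_ ?_ _ s).symm⟩ <;>
    · intro e
      have := congrArg Prod.fst e
      first
        | exact a1 this
        | exact a2 this
  last i hi := by
    have h1 : i = Fin.last n := Fin.ext (by simp; omega)
    subst h1
    exact ⟨rfl, rfl⟩

theorem cn_xp (i : Fin (n + 1)) (t : F) :
    (cn M E).xp i t = M.X (i.castSucc, true) (i.succ, false) t := rfl
theorem cn_xm (i : Fin (n + 1)) (t : F) :
    (cn M E).xm i t = M.X (i.succ, true) (i.castSucc, false) t := rfl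

/-- The proper subgroup. -/
def Bor : Subgroup K := bor M.φ (Fr.b (0, true))

theorem Bor_ne : Bor M ≠ ⊤ := by
  have h01 : (0 : Fin (n + 2)) ≠ 1 := by simp
  refine bor_ne_top M.φ (M.ker _) ⟨Fr.X (1, true) (0, false) 1, M.hX _ _ _⟩ ?_
  exact X_notMem_lineStab Fr 0 h01 true (1 : F) one_ne_zero

theorem X_mem_Bor {x y : Fin (n + 2) × Bool} (hx : x ≠ (0, false)) (hy : y ≠ (0, false)) (t : F) :
    M.X x y t ∈ Bor M :=
  map_mem_bor M.φ (g := ⟨Fr.X x y t, M.hX _ _ _⟩) (X_mem_lineStab Fr 0 hx hy t)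

theorem Z_mem_Bor {x : Fin (n + 2) × Bool} (hx : x ≠ (0, false)) (p : Fr.Adm) :
    M.Z x p ∈ Bor M :=
  map_mem_bor M.φ (g := ⟨Fr.Z x p, M.hZ _ _⟩) (Z_mem_lineStab Fr 0 hx p)

theorem hh_mem_Bor (i : Fin (n + 1)) (t : F) (ht : t ≠ 0) :
    hh (M.X (i.castSucc, true) (i.succ, false)) (M.X (i.succ, true) (i.castSucc, false)) t ∈
      Bor M := by
  by_cases hi : i.castSucc = 0
  · have h2 : hh (M.X (i.castSucc, true) (i.succ, false)) (M.X (i.succ, true) (i.castSucc, false)) t =
        M.φ (hh (fun t => (⟨Fr.X (i.castSucc, true) (i.succ, false) t, M.hX _ _ _⟩ : M.I))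
          (fun t => (⟨Fr.X (i.succ, true) (i.castSucc, false) t, M.hX _ _ _⟩ : M.I)) t) := by
      simp only [hh, nn, Model.X, map_mul, map_inv]
    rw [h2]
    refine map_mem_bor M.φ ?_
    have h3 := hh_mem_lineStab Fr i.castSucc (j := i.succ) (Fin.castSucc_lt_succ).ne false t ht
    rw [hi] at h3 ⊢
    exact h3
  · have h1 : ∀ s, M.X (i.castSucc, true) (i.succ, false) s ∈ Bor M := fun s =>
      X_mem_Bor M (by simp) (by simp) s
    have h2 : ∀ s, M.X (i.succ, true) (i.castSucc, false) s ∈ Bor M := fun s =>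
      X_mem_Bor M (by simp) (by simpa using hi) s
    rw [hh, nn, nn]
    exact (Bor M).mul_mem ((Bor M).mul_mem ((Bor M).mul_mem (h1 _) (h2 _)) (h1 _))
      ((Bor M).inv_mem ((Bor M).mul_mem ((Bor M).mul_mem (h1 _) (h2 _)) (h1 _)))

/-- **The K side of type `C_{n+2}` of a model.** -/
def kcn (hE : Function.Surjective E.ngt) : KCN K D (n + 1) where
  toCN := cn M E
  gen := by
    refine M.gen (Fin.last (n + 1)) _ ?_ ?_
    · intro i j hij t
      have hj := j.2
      obtain ⟨i', e1, e2⟩ : ∃ i' : Fin (n + 1), i = i'.castSucc ∧ j = i'.succ :=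
        ⟨⟨i, by omega⟩, rfl, Fin.ext (by simpa using hij.symm)⟩
      subst e1 e2
      exact ⟨Subgroup.subset_closure (Or.inl ⟨i', t, Or.inl rfl⟩),
        Subgroup.subset_closure (Or.inl ⟨i', t, Or.inr rfl⟩)⟩
    · intro p
      constructor
      · obtain ⟨q, rfl⟩ := pos_surj E hE p
        exact Subgroup.subset_closure (Or.inr ⟨q, Or.inl rfl⟩)
      · obtain ⟨q, rfl⟩ := hE p
        exact Subgroup.subset_closure (Or.inr ⟨q, Or.inr rfl⟩)
  Bor := Bor M
  Bor_ne := Bor_ne M
  xp_mem i t := X_mem_Bor M (by simp) (by simp) t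
  y_mem t := X_mem_Bor M (by simp) (by simp) t
  z₁_mem p := Z_mem_Bor M (by simp) _
  z₂_mem p := Z_mem_Bor M (by simp) _
  hh_mem i t ht := hh_mem_Bor M i t ht
  nII_mem p q _ _ := by
    have h1 : ∀ r, (M.maps E (Fin.last n).castSucc (Fin.last (n + 1))).z₂ r ∈ Bor M := fun r =>
      Z_mem_Bor M (by simp) _
    have h2 : ∀ r, (M.maps E (Fin.last n).castSucc (Fin.last (n + 1))).z₂' r ∈ Bor M := fun r =>
      Z_mem_Bor M (by simp) _
    have h3 : ∀ r, (M.maps E (Fin.last n).castSucc (Fin.last (n + 1))).nII r ∈ Bor M := fun r =>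
      (Bor M).mul_mem ((Bor M).mul_mem (h2 _) (h1 _)) (h2 _)
    exact (Bor M).mul_mem (h3 p) ((Bor M).inv_mem (h3 q))

end Main

end Cfsg.Agent.TitsThree.FrameCN
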