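import Cfsg.Agent.TitsThree.SpGen
import Cfsg.Agent.TitsThree.FrameCN
import Cfsg.Agent.TitsThree.StdData

/-!
K side of type `C_{n+2}`, symplectic case, all fields (even characteristic included):
`KCN (PSp (n+2) F) (stdSp F) (n+1)`.
-/

set_option autoImplicit false

namespace Cfsg.Agent.TitsThree.KInstSp

open Cfsg Cfsg.Agent.ClassicalGeometry.SympBasic
open Cfsg.Agent.TitsThree.Siegel Cfsg.Agent.TitsThree.SpIdent Cfsg.Agent.TitsThree.SpGen
open Cfsg.Agent.TitsThree.WittFrame
open Cfsg.Agent.TitsThree.FrameCN Cfsg.Agent.TitsThree.B2Frame Cfsg.Agent.TitsThree.B2Pkg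
open Cfsg.Agent.TitsThree.Pack Cfsg.Agent.TitsThree.StdData

/-- The model of `PSp` over the symplectic Witt frame. -/
noncomputable def model (m : ℕ) (F : Type*) [Field F] : Model (frame m F) (PSp m F) where
  I := isos (form m F)
  φ := toPSp
  hX := (frame m F).isIso_X
  hZ := (frame m F).isIso_Z
  ker := ker_lineStab
  gen l L h1 h2 := eq_top_of_simple l L h1 fun c => h2 (adm c)

/-- The parameter system `Sp`. -/
def emb (m : ℕ) (F : Type*) [Field F] : Emb (stdSp F) (frame m F) where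
  j := 0
  σ_eq := rfl
  ε_eq := rfl
  h_eq v w := by
    rw [LinearMap.zero_apply, HForm.zero_left]
    rfl
  ok_of {w c} _ := by
    rw [frame_ok, LinearMap.zero_apply]

theorem emb_surj (m : ℕ) (F : Type*) [Field F] : Function.Surjective (emb m F).ngt := by
  intro p
  refine ⟨⟨(), -p.c, trivial⟩, ?_⟩
  rw [eq_adm p]
  apply Frame.Adm.ext
  · rfl
  · rw [Emb.ngt_c, form_ε]
    change (-1 : F)⁻¹ * (-p.c) = p.c
    rw [inv_neg, inv_one, neg_one_mul, _root_.neg_neg]

/-- **K side, symplectic groups.** -/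
noncomputable def kcnSp (F : Type*) [Field F] (n : ℕ) :
    KCN (PSp (n + 2) F) (stdSp F) (n + 1) :=
  kcn (model (n + 2) F) (emb (n + 2) F) (emb_surj (n + 2) F)

/-- K side, symplectic groups, packed. -/
theorem exists_KCN_Sp {F : Type} [Field F] [Fintype F] (n : ℕ) (h : n = 0 → 3 ≤ Fintype.card F) :
    ∃ (K : Type) (_ : Group K), IsSimpleGroup K ∧ IsPSp K ∧
      Nonempty (KCN K (stdSp F) (n + 1)) :=
  ⟨PSp (n + 2) F, inferInstance,
    Cfsg.Agent.S0270.result (n + 2) (by omega) fun h2 => h (by omega),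
    ⟨F, inferInstance, inferInstance, n + 2, by omega, fun h2 => h (by omega), ⟨MulEquiv.refl _⟩⟩,
    ⟨kcnSp F n⟩⟩

end Cfsg.Agent.TitsThree.KInstSp
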