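import Mathlib
/-!
S1143, PART 3a (END).  Let a finite group `A` act on a set `C` (the chambers), `c d : C` "opposite",
`O = opp(c)`, and let `U` be a `p`-subgroup, normal in `A_c`, regular on `O`.  Put `H = A_c ⊓ A_d` and
let `N` be the normal closure of `U` in `A`.  If `H` is solvable, `|H ⊓ N|` is prime to `p`, `N` is
transitive on `C`, then every simple, non-solvable subgroup `G ≤ A` which is transitive on `C` and whose
stabiliser `G_c` is transitive on `O` equals `N`; moreover `U ≤ G` and `G_c = U (H ⊓ G)`.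
-/

set_option autoImplicit false

namespace Cfsg.Agent.TitsThree.End

open MulAction

variable {A C : Type*} [Group A] [MulAction A C]

/-- `A_c = U H`. -/
theorem exists_mul {c d : C} {O : Set C} {U : Subgroup A}
    (hO : ∀ a ∈ stabilizer A c, ∀ x ∈ O, a • x ∈ O) (hd : d ∈ O)
    (hUc : U ≤ stabilizer A c) (hUt : ∀ x ∈ O, ∃ u ∈ U, u • d = x)
    {a : A} (ha : a ∈ stabilizer A c) :
    ∃ u ∈ U, ∃ h ∈ stabilizer A c ⊓ stabilizer A d, a = u * h := by
  obtain ⟨u, hu, h⟩ := hUt _ (hO a ha d hd)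
  refine ⟨u, hu, u⁻¹ * a, Subgroup.mem_inf.mpr ⟨mul_mem (inv_mem (hUc hu)) ha, ?_⟩, by group⟩
  rw [mem_stabilizer_iff, mul_smul, ← h, inv_smul_smul]

/-- `|G_c| = |O| |G_c ∩ G_d|` for a group `G` of permutations whose stabiliser of `c` is transitive
on `O`. -/
theorem card_stabilizer {c d : C} {O : Set C} (G : Subgroup A)
    (hO : ∀ a ∈ stabilizer A c, ∀ x ∈ O, a • x ∈ O) (hd : d ∈ O)
    (hG : ∀ x ∈ O, ∃ g ∈ G, g • c = c ∧ g • d = x) :
    Nat.card ↥(G ⊓ stabilizer A c) =
      Nat.card O * Nat.card ↥(G ⊓ (stabilizer A c ⊓ stabilizer A d)) := by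
  set K := G ⊓ stabilizer A c with hK
  have horb : MulAction.orbit K d = O := by
    ext x
    constructor
    · rintro ⟨k, rfl⟩
      exact hO _ k.2.2 d hd
    · intro hx
      obtain ⟨g, hg, hgc, hgx⟩ := hG x hx
      exact ⟨⟨g, hg, hgc⟩, hgx⟩
  have hst : Nat.card (MulAction.stabilizer K d) =
      Nat.card ↥(G ⊓ (stabilizer A c ⊓ stabilizer A d)) := by
    refine Nat.card_congr ⟨fun k => ⟨(k : K), ⟨k.1.2.1, k.1.2.2, ?_⟩⟩,
      fun k => ⟨⟨k, k.2.1, k.2.2.1⟩, ?_⟩, ?_, ?_⟩
    · exact k.2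
    · exact k.2.2.2
    · intro k; rfl
    · intro k; rfl
  have := Nat.card_congr (MulAction.orbitProdStabilizerEquivGroup K d)
  rw [Nat.card_prod, horb, hst] at this
  exact this.symm

/-- The main theorem (END). -/
theorem main [Finite A] {c d : C} {O : Set C} {U : Subgroup A} {p : ℕ} [Fact p.Prime]
    (hO : ∀ a ∈ stabilizer A c, ∀ x ∈ O, a • x ∈ O) (hd : d ∈ O)
    (hUc : U ≤ stabilizer A c)
    (hUn : ∀ a ∈ stabilizer A c, ∀ u ∈ U, a * u * a⁻¹ ∈ U)
    (hUp : IsPGroup p U)
    (hUt : ∀ x ∈ O, ∃ u ∈ U, u • d = x)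
    (hUs : ∀ u ∈ U, u • d = d → u = 1)
    (hN : ∀ x : C, ∃ n ∈ Subgroup.normalClosure (U : Set A), n • c = x)
    (hH : Group.IsSolvable ↥(stabilizer A c ⊓ stabilizer A d))
    (hcop : (Nat.card ↥(stabilizer A c ⊓ stabilizer A d ⊓
      Subgroup.normalClosure (U : Set A))).Coprime p)
    (G : Subgroup A) [IsSimpleGroup G] (hns : ¬ Group.IsSolvable G)
    (hGt : ∀ x : C, ∃ g ∈ G, g • c = x)
    (hG : ∀ x ∈ O, ∃ g ∈ G, g • c = c ∧ g • d = x) :
    G = Subgroup.normalClosure (U : Set A) ∧ U ≤ G := by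
  classical
  set N := Subgroup.normalClosure (U : Set A) with hNdef
  set H := stabilizer A c ⊓ stabilizer A d with hHdef
  have hUN : U ≤ N := Subgroup.subset_normalClosure
  -- `A / N` is solvable
  have hsol : Group.IsSolvable (A ⧸ N) := by
    have := hH
    refine Group.isSolvable_of_surjective (f := (QuotientGroup.mk' N).comp H.subtype) ?_
    intro x
    obtain ⟨a, rfl⟩ := QuotientGroup.mk'_surjective N x
    obtain ⟨n, hn, hnc⟩ := hN (a • c)
    have ha : n⁻¹ * a ∈ stabilizer A c := by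
      rw [mem_stabilizer_iff, mul_smul, ← hnc, inv_smul_smul]
    obtain ⟨u, hu, h, hh, e⟩ := exists_mul hO hd hUc hUt ha
    refine ⟨⟨h, hh⟩, ?_⟩
    simp only [MonoidHom.comp_apply, Subgroup.coe_subtype, QuotientGroup.mk'_apply]
    rw [QuotientGroup.eq]
    have e2 : a = n * u * h := by
      rw [mul_assoc, ← e]; group
    rw [e2]
    have : h⁻¹ * (n * u * h) = h⁻¹ * (n * u) * h⁻¹⁻¹ := by group
    rw [this]
    exact (Subgroup.normalClosure_normal (s := (U : Set A))).conj_mem _ (mul_mem hn (hUN hu)) _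
  -- `G ≤ N`
  have hGN : G ≤ N := by
    have hnorm : (N.subgroupOf G).Normal := inferInstance
    rcases hnorm.eq_bot_or_eq_top with h | h
    · exfalso
      apply hns
      have := hsol
      refine Group.isSolvable_of_isSolvable_injective (f := (QuotientGroup.mk' N).comp G.subtype) ?_
      rw [← MonoidHom.ker_eq_bot_iff, eq_bot_iff]
      intro g hg
      rw [← h, Subgroup.mem_subgroupOf]
      rw [MonoidHom.mem_ker, MonoidHom.comp_apply, QuotientGroup.mk'_apply,
        QuotientGroup.eq_one_iff] at hg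
      exact hg
    · exact Subgroup.subgroupOf_eq_top.mp h
  -- orders
  have hcardO : Nat.card O = Nat.card U := by
    refine Nat.card_congr (Equiv.symm (Equiv.ofBijective
      (fun u : U => (⟨(u : A) • d, hO _ (hUc u.2) d hd⟩ : O)) ⟨?_, ?_⟩))
    · intro u v huv
      have h1 : (u : A) • d = (v : A) • d := congrArg Subtype.val huv
      have h2 : ((v : A)⁻¹ * u) • d = d := by rw [mul_smul, h1, inv_smul_smul]
      have h3 := hUs _ (mul_mem (inv_mem v.2) u.2) h2
      exact Subtype.ext (inv_mul_eq_one.mp h3).symm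
    · rintro ⟨x, hx⟩
      obtain ⟨u, hu, h⟩ := hUt x hx
      exact ⟨⟨u, hu⟩, Subtype.ext h⟩
  have hGcard := card_stabilizer (c := c) (d := d) G hO hd hG
  -- `U` is the set of `p`-elements of `N_c`
  have key : ∀ g ∈ N ⊓ stabilizer A c, (∃ k : ℕ, orderOf g = p ^ k) → g ∈ U := by
    intro g hg hgk
    obtain ⟨k, hk⟩ := hgk
    -- `N_c = U (H ⊓ N)`; work in the normaliser
    set M := N ⊓ stabilizer A c with hM
    have hUM : U ≤ M := le_inf hUN hUc
    have hnM : (U.subgroupOf M).Normal := by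
      constructor
      intro u hu a
      rw [Subgroup.mem_subgroupOf] at hu ⊢
      exact hUn _ a.2.2 _ hu
    -- the quotient `M / U` has order prime to `p`
    have hidx : (U.subgroupOf M).index.Coprime p := by
      have hsurj : Function.Surjective
          (fun x : ↥(H ⊓ N) => (QuotientGroup.mk (⟨x, x.2.2, x.2.1.1⟩ : M) :
            M ⧸ U.subgroupOf M)) := by
        intro y
        obtain ⟨m, rfl⟩ := QuotientGroup.mk_surjective y
        obtain ⟨u, hu, h, hh, e⟩ := exists_mul hO hd hUc hUt m.2.2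
        have hhN : h ∈ N := by
          have : h = u⁻¹ * m := by rw [e]; group
          rw [this]
          exact mul_mem (inv_mem (hUN hu)) m.2.1
        refine ⟨⟨h, hh, hhN⟩, ?_⟩
        change (QuotientGroup.mk _ : M ⧸ U.subgroupOf M) = QuotientGroup.mk m
        rw [QuotientGroup.eq, Subgroup.mem_subgroupOf]
        simp only [Subgroup.coe_mul, InvMemClass.coe_inv]
        rw [e]
        have : h⁻¹ * (u * h) = h⁻¹ * u * h⁻¹⁻¹ := by group
        rw [this]
        exact hUn _ (inv_mem hh.1) _ hu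
      have hdvd : (U.subgroupOf M).index ∣ Nat.card ↥(H ⊓ N) := by
        let f : ↥(H ⊓ N) →* M ⧸ U.subgroupOf M :=
          (QuotientGroup.mk' (U.subgroupOf M)).comp
            (Subgroup.inclusion (show H ⊓ N ≤ M from fun x hx => ⟨hx.2, hx.1.1⟩))
        have hf : Function.Surjective f := hsurj
        rw [Subgroup.index]
        exact Subgroup.card_dvd_of_surjective f hf
      exact Nat.Coprime.coprime_dvd_left hdvd hcop
    let q : M ⧸ U.subgroupOf M := QuotientGroup.mk ⟨g, hg⟩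
    have h1 : orderOf q ∣ p ^ k := by
      rw [orderOf_dvd_iff_pow_eq_one]
      have : (⟨g, hg⟩ : M) ^ (p ^ k) = 1 := by
        apply Subtype.ext
        simp only [SubmonoidClass.coe_pow, OneMemClass.coe_one]
        rw [← hk, pow_orderOf_eq_one]
      calc q ^ (p ^ k) = QuotientGroup.mk ((⟨g, hg⟩ : M) ^ (p ^ k)) := rfl
        _ = 1 := by rw [this]; rfl
    have h2 : orderOf q ∣ (U.subgroupOf M).index := by
      rw [Subgroup.index]; exact orderOf_dvd_natCard q
    have h3 : orderOf q = 1 := by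
      have hc : (p ^ k).Coprime ((U.subgroupOf M).index) :=
        (Nat.Coprime.pow_right k hidx).symm
      exact Nat.dvd_one.mp (hc.gcd_eq_one ▸ Nat.dvd_gcd h1 h2)
    have h4 : q = 1 := orderOf_eq_one_iff.mp h3
    have h5 : (⟨g, hg⟩ : M) ∈ U.subgroupOf M := (QuotientGroup.eq_one_iff _).mp h4
    exact Subgroup.mem_subgroupOf.mp h5
  -- a Sylow `p`-subgroup of `G_c`
  have hUG : U ≤ G := by
    set M := G ⊓ stabilizer A c with hM
    obtain ⟨P⟩ : Nonempty (Sylow p M) := inferInstance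
    obtain ⟨n, hn⟩ := hUp.exists_card_eq
    have hdvd : p ^ n ∣ Nat.card P := by
      refine P.pow_dvd_card_of_pow_dvd_card ?_
      rw [hGcard, hcardO, hn]
      exact Dvd.intro _ rfl
    have hPU : (P : Subgroup M).map M.subtype ≤ U := by
      rintro _ ⟨x, hx, rfl⟩
      refine key _ ⟨hGN x.2.1, x.2.2⟩ ?_
      obtain ⟨k, hk⟩ := (IsPGroup.iff_orderOf.mp P.isPGroup') ⟨x, hx⟩
      refine ⟨k, ?_⟩
      rw [← hk]
      change orderOf ((x : M) : A) = _
      rw [Subgroup.orderOf_coe, ← Subgroup.orderOf_coe (⟨x, hx⟩ : (P : Subgroup M))]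
    have hcardP : Nat.card ↥((P : Subgroup M).map M.subtype) = Nat.card P :=
      Nat.card_congr ((P : Subgroup M).equivMapOfInjective M.subtype
        M.subtype_injective).symm.toEquiv
    have heq : (P : Subgroup M).map M.subtype = U := by
      apply Subgroup.eq_of_le_of_card_ge hPU
      rw [hcardP, hn]
      exact Nat.le_of_dvd Nat.card_pos hdvd
    rw [← heq]
    rintro _ ⟨x, hx, rfl⟩
    exact x.2.1
  refine ⟨le_antisymm hGN ?_, hUG⟩
  rw [hNdef, Subgroup.normalClosure, Subgroup.closure_le]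
  intro x hx
  rw [Group.mem_conjugatesOfSet_iff] at hx
  obtain ⟨u, hu, hux⟩ := hx
  rw [isConj_iff] at hux
  obtain ⟨a, rfl⟩ := hux
  obtain ⟨g, hg, hgc⟩ := hGt (a • c)
  have ha : g⁻¹ * a ∈ stabilizer A c := by
    rw [mem_stabilizer_iff, mul_smul, ← hgc, inv_smul_smul]
  have : a * u * a⁻¹ = g * ((g⁻¹ * a) * u * (g⁻¹ * a)⁻¹) * g⁻¹ := by group
  rw [this]
  exact mul_mem (mul_mem hg (hUG (hUn _ ha _ hu))) (inv_mem hg)

end Cfsg.Agent.TitsThree.End
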