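import Cfsg.Agent.Tits.Gate
import Cfsg.Agent.Tits.Generic
/-!
Normal subgroups of a group acting strongly transitively on a thick building with connected diagram
are trivial or transitive on the chambers (S1143); the identification lemma for graphs `D ≤ A × K`.
-/

set_option autoImplicit false

namespace Cfsg.Agent.TitsThree.NormalTrans

open Cfsg.Agent.Tits.Core Cfsg.Agent.Tits.Core.Bldg Cfsg.Agent.Tits

variable {I : Type*} {M : CoxeterMatrix I} {W : Type*} [Group W] {cs : CoxeterSystem M W}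
variable {C A : Type*} [Group A] [MulAction A C]

/-- The diagram is connected. -/
def Conn (M : CoxeterMatrix I) : Prop :=
  ∀ J : Set I, J.Nonempty → Jᶜ.Nonempty → ∃ a ∈ J, ∃ b ∈ Jᶜ, M a b ≠ 2

/-- `w` is the distance between two chambers of one orbit of `N`. -/
def Sig (Δ : Bldg cs C) (N : Subgroup A) (w : W) : Prop :=
  ∀ y z, Δ.δ y z = w → ∃ n ∈ N, n • y = z

theorem sig_of {Δ : Bldg cs C} (hA : Δ.StrongAct A) {N : Subgroup A} [hN : N.Normal] {n : A}
    (hn : n ∈ N) (x : C) : Sig Δ N (Δ.δ x (n • x)) := by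
  intro y z h
  obtain ⟨a, h1, h2⟩ := hA.trans x (n • x) y z h.symm
  refine ⟨a * n * a⁻¹, hN.conj_mem n hn a, ?_⟩
  rw [mul_smul, mul_smul, ← h1, inv_smul_smul, h2]

theorem third {Δ : Bldg cs C} (ht : Δ.Thick) {y y' : C} {i : I} (h : Δ.δ y y' = cs.simple i) :
    ∃ c, Δ.δ y c = cs.simple i ∧ Δ.δ y' c = cs.simple i := by
  obtain ⟨z1, z2, hne, h1, h2⟩ := ht y i
  have key : ∀ z, z ≠ y' → Δ.δ y z = cs.simple i → Δ.δ y' z = cs.simple i := by
    intro z hz hyz
    exact Δ.δ_eq_of_mem_Pan (x := y) (Δ.mem_Pan_of_δ h) (Δ.mem_Pan_of_δ hyz) (Ne.symm hz)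
  by_cases hz : z1 = y'
  · exact ⟨z2, h2, key z2 (by rw [← hz]; exact hne.symm) h2⟩
  · exact ⟨z1, h1, key z1 hz h1⟩

theorem sig_simple {Δ : Bldg cs C} (ht : Δ.Thick) {N : Subgroup A} {w : W} {i : I}
    (hw : Sig Δ N w) (hl : cs.length (cs.simple i * w) < cs.length w) : Sig Δ N (cs.simple i) := by
  intro y y' h
  obtain ⟨c, hc1, hc2⟩ := third ht h
  obtain ⟨z, hz⟩ := Δ.exists_δ c (cs.simple i * w)
  have hlt : cs.length (Δ.δ c z) < cs.length (cs.simple i * Δ.δ c z) := by
    rw [hz, cs.simple_mul_simple_cancel_left]; exact hl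
  have h1 := Δ.step_lt_left hc1 hlt
  have h2 := Δ.step_lt_left hc2 hlt
  rw [hz, cs.simple_mul_simple_cancel_left] at h1 h2
  obtain ⟨n1, hn1, e1⟩ := hw _ _ h1
  obtain ⟨n2, hn2, e2⟩ := hw _ _ h2
  refine ⟨n2⁻¹ * n1, mul_mem (inv_mem hn2) hn1, ?_⟩
  rw [mul_smul, e1, ← e2, inv_smul_smul]

/-- **Normal subgroups are trivial or transitive on the chambers.** -/
theorem trans_of_normal [Finite I] [Finite W] {Δ : Bldg cs C} (ht : Δ.Thick) (hA : Δ.StrongAct A)
    (hM : Conn M) (N : Subgroup A) [hN : N.Normal] (hne : N ≠ ⊥) (x y : C) :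
    ∃ n ∈ N, n • x = y := by
  -- the set of nodes
  let J : Set I := {i | Sig Δ N (cs.simple i)}
  have hJ : J.Nonempty := by
    obtain ⟨⟨n, hn⟩, hn1⟩ := (Subgroup.ne_bot_iff_exists_ne_one).1 hne
    have hfa := hA.faithful
    have : ∃ x : C, n • x ≠ x := by
      by_contra hcon
      push Not at hcon
      apply hn1
      apply Subtype.ext
      exact hfa.eq_of_smul_eq_smul (fun x => by rw [hcon x]; exact (one_smul A x).symm)
    obtain ⟨x, hx⟩ := this
    have hw := sig_of hA hn x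
    have hw1 : Δ.δ x (n • x) ≠ 1 := fun h => hx (Δ.eq_of_δ_eq_one h).symm
    obtain ⟨i, hi⟩ := cs.exists_leftDescent_of_ne_one hw1
    exact ⟨i, sig_simple ht hw hi⟩
  have hJ' : J = Set.univ := by
    by_contra hcon
    obtain ⟨i, hi, j, hj, hij⟩ := hM J hJ (Set.nonempty_compl.2 hcon)
    have hne : i ≠ j := by rintro rfl; exact hj hi
    apply hj
    obtain ⟨c, hc⟩ := Δ.exists_δ x (cs.simple j)
    obtain ⟨e, he⟩ := Δ.exists_δ c (cs.simple i)
    obtain ⟨n, hn, hne'⟩ := hi c e he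
    have h1 : Δ.δ e (n • x) = cs.simple j := by
      rw [← hne', hA.iso, Δ.symm x c, hc, cs.inv_simple]
    have h2 : Δ.δ x e = cs.simple j * cs.simple i := by
      refine Δ.δ_mul_of hc he ?_
      rw [Generic.length_two cs hne.symm, cs.length_simple, cs.length_simple]
    have h3 : Δ.δ x (n • x) = cs.simple j * cs.simple i * cs.simple j := by
      refine Δ.δ_mul_of h2 h1 ?_
      rw [Generic.length_three cs hne.symm (by rw [M.symmetric]; exact hij),
        Generic.length_two cs hne.symm, cs.length_simple]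
    have h4 := sig_of hA hn x
    rw [h3] at h4
    refine sig_simple (i := j) ht h4 ?_
    rw [mul_assoc, cs.simple_mul_simple_cancel_left, ← mul_assoc,
      Generic.length_three cs hne.symm (by rw [M.symmetric]; exact hij),
      Generic.length_two cs hne]
    omega
  have key : ∀ w, Sig Δ N w := by
    intro w
    induction w using cs.simple_induction_right with
    | one =>
      intro y z h
      exact ⟨1, one_mem _, by rw [one_smul]; exact Δ.eq_of_δ_eq_one h⟩
    | mul_simple_right w i ih =>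
      intro y z h
      obtain ⟨z', h1, h2⟩ := Δ.exists_step y z i
      rw [h, cs.simple_mul_simple_cancel_right] at h2
      obtain ⟨n1, hn1, e1⟩ := ih _ _ h2
      have hi : i ∈ J := by rw [hJ']; exact Set.mem_univ i
      obtain ⟨n2, hn2, e2⟩ := hi _ _ h1
      refine ⟨n2⁻¹ * n1, mul_mem (inv_mem hn2) hn1, ?_⟩
      rw [mul_smul, e1, ← e2, inv_smul_smul]
  exact key _ x y rfl

/-- **Identification.** `A` acts strongly transitively on `Δ`, `K` is simple, `D ≤ A × K` projects onto both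
factors and the elements of `D` fixing the chamber `c` have their second component in the proper
subgroup `Bor`: then `A ≃* K`. -/
theorem mulEquiv_of_graph [Finite I] [Finite W] {K : Type*} [Group K] {Δ : Bldg cs C} (ht : Δ.Thick)
    (hA : Δ.StrongAct A) (hM : Conn M) [IsSimpleGroup K] (D : Subgroup (A × K)) (c : C)
    (Bor : Subgroup K) (hBor : Bor ≠ ⊤)
    (h1 : D.map (MonoidHom.fst A K) = ⊤) (h2 : D.map (MonoidHom.snd A K) = ⊤)
    (hD : ∀ g ∈ D, g.1 • c = c → g.2 ∈ Bor) : Nonempty (A ≃* K) := by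
  have f1 : ∀ a : A, ∃ k : K, (a, k) ∈ D := by
    intro a
    obtain ⟨⟨a', k⟩, h, rfl⟩ := (Subgroup.mem_map.1 (h1 ▸ Subgroup.mem_top a))
    exact ⟨k, h⟩
  have f2 : ∀ k : K, ∃ a : A, (a, k) ∈ D := by
    intro k
    obtain ⟨⟨a, k'⟩, h, rfl⟩ := (Subgroup.mem_map.1 (h2 ▸ Subgroup.mem_top k))
    exact ⟨a, h⟩
  let N2 : Subgroup K := D.comap (MonoidHom.inr A K)
  have mem2 : ∀ k, k ∈ N2 ↔ ((1 : A), k) ∈ D := fun k => Iff.rfl
  have hN2 : N2.Normal := by
    refine ⟨fun k hk g => ?_⟩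
    obtain ⟨a, ha⟩ := f2 g
    have := mul_mem (mul_mem ha ((mem2 k).1 hk)) (inv_mem ha)
    rw [mem2]
    simpa using this
  have hN2' : N2 = ⊥ := by
    rcases hN2.eq_bot_or_eq_top with h | h
    · exact h
    · exfalso
      apply hBor
      rw [eq_top_iff]
      intro k _
      have hk : k ∈ N2 := h ▸ Subgroup.mem_top k
      exact hD _ ((mem2 k).1 hk) (one_smul _ _)
  let N1 : Subgroup A := D.comap (MonoidHom.inl A K)
  have mem1 : ∀ a, a ∈ N1 ↔ (a, (1 : K)) ∈ D := fun a => Iff.rfl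
  have hN1 : N1.Normal := by
    refine ⟨fun k hk g => ?_⟩
    obtain ⟨a, ha⟩ := f1 g
    have := mul_mem (mul_mem ha ((mem1 k).1 hk)) (inv_mem ha)
    rw [mem1]
    simpa using this
  have hN1' : N1 = ⊥ := by
    by_contra hne
    apply hBor
    rw [eq_top_iff]
    intro k _
    obtain ⟨a, ha⟩ := f2 k
    obtain ⟨n, hn, hnc⟩ := trans_of_normal ht hA hM N1 hne c (a • c)
    have h3 := mul_mem (inv_mem ((mem1 n).1 hn)) ha
    have h4 : (n⁻¹ * a, k) ∈ D := by simpa using h3
    exact hD _ h4 (by change (n⁻¹ * a) • c = c; rw [mul_smul, ← hnc, inv_smul_smul])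
  have b1 : Function.Bijective ((MonoidHom.fst A K).comp D.subtype) := by
    constructor
    · rw [injective_iff_map_eq_one]
      rintro ⟨⟨a, k⟩, h⟩ h4
      have h5 : a = 1 := h4
      subst h5
      have h6 : k ∈ N2 := (mem2 k).2 h
      rw [hN2', Subgroup.mem_bot] at h6
      subst h6
      rfl
    · intro a
      obtain ⟨k, hk⟩ := f1 a
      exact ⟨⟨(a, k), hk⟩, rfl⟩
  have b2 : Function.Bijective ((MonoidHom.snd A K).comp D.subtype) := by
    constructor
    · rw [injective_iff_map_eq_one]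
      rintro ⟨⟨a, k⟩, h⟩ h4
      have h5 : k = 1 := h4
      subst h5
      have h6 : a ∈ N1 := (mem1 a).2 h
      rw [hN1', Subgroup.mem_bot] at h6
      subst h6
      rfl
    · intro k
      obtain ⟨a, ha⟩ := f2 k
      exact ⟨⟨(a, k), ha⟩, rfl⟩
  exact ⟨(MulEquiv.ofBijective _ b1).symm.trans (MulEquiv.ofBijective _ b2)⟩

end Cfsg.Agent.TitsThree.NormalTrans
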