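import Cfsg.Agent.TitsThree.AssembleB2
import Cfsg.Agent.TitsThree.NormalTrans
import Cfsg.Agent.Tits.ExtAux
import Cfsg.Agent.TitsThree.B2NI

/-!
# GU assembly of type `C_{n+1}` (S1143)

`stab_le` (L1): a package of type `C_{n+1}` in a group `G` acting on the building `Δ` and the same
package in a group `K`: the elements of the group generated by the pairs of root elements which fix
the base chamber have their second component in `Bor`.
`nonempty_mulEquiv` (L2): `GCN` + `KCN` ⟹ `G ≃* K`.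
-/

set_option autoImplicit false

namespace Cfsg.Agent.TitsThree.AssembleCN

open Cfsg.Agent.Tits.Core Cfsg.Agent.Tits.Core.Bldg Cfsg.Agent.AGraded
open Cfsg.Agent.TitsThree.Pack Cfsg.Agent.TitsThree.AssembleBase Cfsg.Agent.TitsThree.AssembleEdge
open Cfsg.Agent.TitsThree.B2Pkg Cfsg.Agent.TitsThree.CoreB2

variable {F : Type*} [Field F] {V : Type*} [AddCommGroup V] [Module F V] {D : PQDatum F V}
variable {n : ℕ} {M : CoxeterMatrix (Fin (n + 1))} {W : Type*} [Group W] {cs : CoxeterSystem M W}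
variable {C G K : Type*} [Group G] [Group K] [MulAction G C]

/-- The rank one subgroups of `G × K`. -/
def Gi (g : CN G D n) (k : CN K D n) : Fin (n + 1) → Subgroup (G × K) :=
  Fin.lastCases (Gam g.b2.z₂ g.b2.z₂' k.b2.z₂ k.b2.z₂')
    (fun i => Gam (g.xp i) (g.xm i) (k.xp i) (k.xm i))

@[simp] theorem Gi_last (g : CN G D n) (k : CN K D n) :
    Gi g k (Fin.last n) = Gam g.b2.z₂ g.b2.z₂' k.b2.z₂ k.b2.z₂' := by
  simp [Gi]

@[simp] theorem Gi_castSucc (g : CN G D n) (k : CN K D n) (i : Fin n) :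
    Gi g k i.castSucc = Gam (g.xp i) (g.xm i) (k.xp i) (k.xm i) := by
  simp [Gi]

/-- The group generated by the pairs of root elements. -/
def graph (g : CN G D n) (k : CN K D n) : Subgroup (G × K) :=
  Subgroup.closure {p : G × K | (∃ i t, p = (g.xp i t, k.xp i t) ∨ p = (g.xm i t, k.xm i t)) ∨
    ∃ t, p = (g.b2.z₂ t, k.b2.z₂ t) ∨ p = (g.b2.z₂' t, k.b2.z₂' t)}

theorem graph_eq (g : CN G D n) (k : CN K D n) : graph g k = ⨆ i, Gi g k i := by
  apply le_antisymm
  · refine (Subgroup.closure_le _).2 ?_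
    have h1 : ∀ i : Fin n, Gam (g.xp i) (g.xm i) (k.xp i) (k.xm i) ≤ ⨆ i, Gi g k i := fun i => by
      rw [← Gi_castSucc]; exact le_iSup (Gi g k) _
    have h2 : Gam g.b2.z₂ g.b2.z₂' k.b2.z₂ k.b2.z₂' ≤ ⨆ i, Gi g k i := by
      rw [← Gi_last]; exact le_iSup (Gi g k) _
    rintro p (⟨i, t, rfl | rfl⟩ | ⟨t, rfl | rfl⟩)
    · exact h1 i (Gam.pos t)
    · exact h1 i (Gam.neg t)
    · exact h2 (Gam.pos t)
    · exact h2 (Gam.neg t)
  · refine iSup_le ?_
    refine Fin.lastCases ?_ ?_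
    · rw [Gi_last]
      refine (Subgroup.closure_le _).2 ?_
      rintro p (⟨t, rfl⟩ | ⟨t, rfl⟩)
      · exact Subgroup.subset_closure (Or.inr ⟨t, Or.inl rfl⟩)
      · exact Subgroup.subset_closure (Or.inr ⟨t, Or.inr rfl⟩)
    · intro i
      rw [Gi_castSucc]
      refine (Subgroup.closure_le _).2 ?_
      rintro p (⟨t, rfl⟩ | ⟨t, rfl⟩)
      · exact Subgroup.subset_closure (Or.inl ⟨i, t, Or.inl rfl⟩)
      · exact Subgroup.subset_closure (Or.inl ⟨i, t, Or.inr rfl⟩)

theorem pr_comm {a a' : G} {b b' : K} (h : Commute a a') (h' : Commute b b') :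
    ((a', b') : G × K) * (a, b) = (a, b) * (a', b') := Prod.ext h.symm h'.symm

/-- Two rank one subgroups commute if their generators do. -/
theorem comm_of_Comm4 {X X' : Type*} {xp xm : X → G} {yp ym : X' → G} {xp' xm' : X → K}
    {yp' ym' : X' → K} (h : Comm4 xp xm yp ym) (h' : Comm4 xp' xm' yp' ym') :
    ∀ x ∈ Gam xp xm xp' xm', ∀ y ∈ Gam yp ym yp' ym', x * y = y * x := by
  have key : Gam xp xm xp' xm' ≤ Subgroup.centralizer (Gam yp ym yp' ym' : Set (G × K)) := by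
    refine (Subgroup.closure_le _).2 ?_
    rw [Gam, Subgroup.centralizer_closure]
    rintro p (⟨s, rfl⟩ | ⟨s, rfl⟩)
    · rw [SetLike.mem_coe, Subgroup.mem_centralizer_iff]
      rintro q (⟨t, rfl⟩ | ⟨t, rfl⟩)
      · exact pr_comm (h s t).1 (h' s t).1
      · exact pr_comm (h s t).2.1 (h' s t).2.1
    · rw [SetLike.mem_coe, Subgroup.mem_centralizer_iff]
      rintro q (⟨t, rfl⟩ | ⟨t, rfl⟩)
      · exact pr_comm (h s t).2.2.1 (h' s t).2.2.1
      · exact pr_comm (h s t).2.2.2 (h' s t).2.2.2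
  intro x hx y hy
  exact ((Subgroup.mem_centralizer_iff.1 (key hx)) y hy).symm

/-- The memberships on the `K` side. -/
structure Mem (k : CN K D n) (Bor : Subgroup K) : Prop where
  xp_mem : ∀ i t, k.xp i t ∈ Bor
  y_mem : ∀ t, k.b2.y t ∈ Bor
  z₂_mem : ∀ p, k.b2.z₂ p ∈ Bor
  hh_mem : ∀ i t, t ≠ 0 → hh (k.xp i) (k.xm i) t ∈ Bor
  nII_mem : ∀ p q, p.c ≠ 0 → q.c ≠ 0 → k.b2.nII p * (k.b2.nII q)⁻¹ ∈ Bor

/-- **(L1)** The elements of `graph g k` fixing the base chamber have their second component in `Bor`. -/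
theorem stab_le [Finite W] {Δ : Bldg cs C} (hth : Δ.Thick)
    (iso : ∀ (a : G) x y, Δ.δ (a • x) (a • y) = Δ.δ x y) (hn : 2 ≤ n) (ex : ∃ p : D.T, p.c ≠ 0)
    (g : CN G D n) {c : C} {ci : Fin (n + 1) → C}
    (act : ∀ i : Fin n, NodeAct Δ c i.castSucc (ci i.castSucc) (g.xp i) (g.xm i))
    (actT : NodeAct Δ c (Fin.last n) (ci (Fin.last n)) g.b2.z₂ g.b2.z₂')
    (y_fix : ∀ b, g.b2.y b • c = c) (k : CN K D n) {Bor : Subgroup K} (hk : Mem k Bor)
    (hnir : NIRel (g.b2.prod k.b2)) {p : G × K} (hp : p ∈ graph g k) (hpc : p.1 • c = c) :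
    p.2 ∈ Bor := by
  have hB2 : B2Rel (g.b2.prod k.b2) := B2Rel.prod g.rel k.rel
  -- the last type I node
  let l : Fin n := ⟨n - 1, by omega⟩
  have hl : l.1 + 1 = n := by show n - 1 + 1 = n; omega
  have gl := g.last l hl
  have kl := k.last l hl
  have hil : NodeAct Δ c l.castSucc (ci l.castSucc) g.b2.x g.b2.x' := by
    rw [gl.1, gl.2]; exact act l
  have eG : Gam g.b2.x g.b2.x' k.b2.x k.b2.x' = Gi g k l.castSucc := by
    rw [Gi_castSucc, gl.1, gl.2, kl.1, kl.2]
  have eT : Gam g.b2.z₂ g.b2.z₂' k.b2.z₂ k.b2.z₂' = Gi g k (Fin.last n) := (Gi_last g k).symm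
  -- edges
  have hedge : ∀ i j : Fin n, i.1 + 1 = j.1 → Edge3 (pr (g.xp i) (k.xp i)) (pr (g.xm i) (k.xm i))
      (pr (g.xp j) (k.xp j)) (pr (g.xm j) (k.xm j)) := fun i j hij =>
    Edge3.prod (g.st3 i j hij) (k.st3 i j hij)
  have edge_stab : ∀ i j : Fin n, i.1 + 1 = j.1 → ∀ q ∈ Gi g k i.castSucc ⊔ Gi g k j.castSucc,
      q.1 • c = c → q.2 ∈ Bor ∧ q ∈ Subgroup.closure
        {h : G × K | (h ∈ Gi g k i.castSucc ∨ h ∈ Gi g k j.castSucc) ∧ h.1 • c = c} := by
    intro i j hij q hq hqc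
    rw [Gi_castSucc, Gi_castSucc] at hq ⊢
    exact AssembleEdge.stab iso hth (act i) (act j) (hedge i j hij) (hk.xp_mem i) (hk.xp_mem j)
      (hk.hh_mem i) (hk.hh_mem j) hq hqc
  have b2_stab : ∀ q ∈ Gi g k l.castSucc ⊔ Gi g k (Fin.last n),
      q.1 • c = c → q.2 ∈ Bor ∧ q ∈ Subgroup.closure
        ({h : G × K | (h ∈ Gi g k l.castSucc ∨ h ∈ Gi g k (Fin.last n)) ∧ h.1 • c = c} ∪
          Set.range (g.b2.prod k.b2).y) := by
    intro q hq hqc
    rw [← eG, ← eT] at hq ⊢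
    refine AssembleB2.stab iso hth hil actT hB2 hnir y_fix ex ?_ hk.z₂_mem hk.y_mem ?_ hk.nII_mem
      hq hqc
    · rw [kl.1]; exact hk.xp_mem l
    · rw [kl.1, kl.2]; exact hk.hh_mem l
  -- swapping elements
  have swap : ∀ i : Fin n, ∃ q ∈ Gi g k i.castSucc, q.1 • c = ci i.castSucc := by
    intro i
    rw [Gi_castSucc]
    rcases Nat.lt_or_ge (i.1 + 1) n with h1 | h1
    · exact ⟨_, nn_mem 1, nn_smul_left iso hth (act i) (hedge i ⟨i.1 + 1, h1⟩ rfl) 1 one_ne_zero⟩
    · have h2 : i.1 + 1 = n := le_antisymm i.2 h1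
      exact ⟨_, nn_mem 1, nn_smul_right iso hth (act i)
        (hedge ⟨i.1 - 1, by omega⟩ i (by show i.1 - 1 + 1 = i.1; omega)) 1 one_ne_zero⟩
  have pan : ∀ i, ∀ q ∈ Gi g k i, q.1 • c ∈ Δ.Pan i c := by
    refine Fin.lastCases ?_ ?_
    · rw [Gi_last]; exact pan_Gam iso actT _ _
    · intro i; rw [Gi_castSucc]; exact pan_Gam iso (act i) _ _
  have trans : ∀ i, ∀ y ∈ Δ.Pan i c, ∃ q ∈ Gi g k i, q.1 • c = y := by
    refine Fin.lastCases ?_ ?_
    · obtain ⟨r, hr⟩ := ex
      rw [Gi_last]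
      exact trans_Gam actT _ _ (AssembleB2.nII_mem_Gam r) (AssembleB2.nII_smul iso hth actT hB2 r hr)
    · intro i
      obtain ⟨q, hq, hqc⟩ := swap i
      rw [Gi_castSucc] at hq ⊢
      exact trans_Gam (act i) _ _ hq hqc
  have R1 : ∀ i, ∀ q ∈ Gi g k i, q.1 • c = c → q.2 ∈ Bor := by
    refine Fin.lastCases ?_ ?_
    · intro q hq hqc
      exact (b2_stab q (Subgroup.mem_sup_right hq) hqc).1
    · intro i q hq hqc
      rcases Nat.lt_or_ge (i.1 + 1) n with h1 | h1
      · exact (edge_stab i ⟨i.1 + 1, h1⟩ rfl q (Subgroup.mem_sup_left hq) hqc).1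
      · exact (edge_stab ⟨i.1 - 1, by omega⟩ i (by show i.1 - 1 + 1 = i.1; omega) q
          (Subgroup.mem_sup_right hq) hqc).1
  have commI : ∀ i j : Fin n, i.1 + 1 < j.1 → ∀ x ∈ Gi g k i.castSucc, ∀ y ∈ Gi g k j.castSucc,
      x * y = y * x := by
    intro i j hij
    rw [Gi_castSucc, Gi_castSucc]
    exact comm_of_Comm4 (g.comm i j hij) (k.comm i j hij)
  have commT : ∀ i : Fin n, i.1 + 1 < n → ∀ x ∈ Gi g k i.castSucc, ∀ y ∈ Gi g k (Fin.last n),
      x * y = y * x := by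
    intro i hi
    rw [Gi_castSucc, Gi_last]
    exact comm_of_Comm4 (g.commT i hi) (k.commT i hi)
  set E : Set (G × K) := Set.range (g.b2.prod k.b2).y with hE
  set S : Set (G × K) := {h : G × K | ∃ i, h ∈ Gi g k i ∧ h.1 • c = c} ∪ E with hS
  have hRle : Subgroup.closure {h : G × K | ∃ i, h ∈ Gi g k i ∧ h.1 • c = c} ≤
      Subgroup.closure S := Subgroup.closure_mono Set.subset_union_left
  have sinj : Function.Injective cs.simple := Cfsg.Agent.Tits.Ext.simple_injective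
  -- (R)
  have RII : ∀ i j : Fin n, i.1 < j.1 → ∀ q ∈ Gi g k i.castSucc ⊔ Gi g k j.castSucc, q.1 • c = c →
      q ∈ Subgroup.closure S := by
    intro i j hij q hq hqc
    rcases Nat.lt_or_ge (i.1 + 1) j.1 with h1 | h1
    · refine hRle (comm_stab (Δ := Δ) pan (i := i.castSucc) (j := j.castSucc) ?_
        (commI i j h1) hq hqc)
      intro h2
      have h3 := sinj h2
      rw [Fin.castSucc_inj] at h3
      rw [h3] at hij
      exact lt_irrefl _ hij
    · refine Subgroup.closure_mono ?_ (edge_stab i j (by omega) q hq hqc).2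
      rintro h ⟨h2 | h2, h3⟩
      · exact Or.inl ⟨_, h2, h3⟩
      · exact Or.inl ⟨_, h2, h3⟩
  have RIT : ∀ i : Fin n, ∀ q ∈ Gi g k i.castSucc ⊔ Gi g k (Fin.last n), q.1 • c = c →
      q ∈ Subgroup.closure S := by
    intro i q hq hqc
    rcases Nat.lt_or_ge (i.1 + 1) n with h1 | h1
    · refine hRle (comm_stab (Δ := Δ) pan (i := i.castSucc) (j := Fin.last n) ?_
        (commT i h1) hq hqc)
      intro h2
      exact (Fin.castSucc_lt_last i).ne (sinj h2)
    · have h2 : i = l := Fin.ext (by have := i.2; show i.1 = n - 1; omega)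
      subst h2
      refine Subgroup.closure_mono ?_ (b2_stab q hq hqc).2
      rintro h (⟨h2 | h2, h3⟩ | h4)
      · exact Or.inl ⟨_, h2, h3⟩
      · exact Or.inl ⟨_, h2, h3⟩
      · exact Or.inr h4
  have R : ∀ i j, i ≠ j → ∀ q ∈ Gi g k i ⊔ Gi g k j, q.1 • c = c → q ∈ Subgroup.closure S := by
    refine Fin.lastCases ?_ ?_
    · refine Fin.lastCases ?_ ?_
      · intro h; exact absurd rfl h
      · intro j _ q hq hqc
        rw [sup_comm] at hq
        exact RIT j q hq hqc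
    · intro i
      refine Fin.lastCases ?_ ?_
      · intro _ q hq hqc
        exact RIT i q hq hqc
      · intro j hij q hq hqc
        rcases Nat.lt_trichotomy i.1 j.1 with h1 | h1 | h1
        · exact RII i j h1 q hq hqc
        · exact absurd (congrArg Fin.castSucc (Fin.ext h1)) hij
        · rw [sup_comm] at hq
          exact RII j i h1 q hq hqc
  -- `y b`
  have yfix' : ∀ b, ((g.b2.prod k.b2).y b).1 • c = c := y_fix
  have ymem : ∀ b, (g.b2.prod k.b2).y b ∈ Gi g k l.castSucc ⊔ Gi g k (Fin.last n) := by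
    intro b
    rw [← eG, ← eT]
    exact AssembleB2.y_mem hB2 ex b
  have yBt : ∀ b, (g.b2.prod k.b2).y b ∈ GUProd.Bt (Gi g k) c := fun b =>
    Subgroup.subset_closure ⟨_, _, ymem b, yfix' b⟩
  have hEprop : ∀ q ∈ E, q.1 • c = c ∧ q.2 ∈ Bor ∧ GenP (Gi g k) c q := by
    rintro _ ⟨b, rfl⟩
    refine ⟨yfix' b, hk.y_mem b, ?_⟩
    refine Fin.lastCases ?_ ?_
    · intro h hh
      exact genP_self iso pan trans (ymem b) (yfix' b) (Or.inr rfl) hh
    · intro j h hh
      rcases Nat.lt_or_ge (j.1 + 1) n with h1 | h1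
      · rcases Nat.lt_or_ge (j.1 + 1) l.1 with h2 | h2
        · -- commutes with everything
          refine ⟨h, hh, ?_⟩
          have h3 : Gi g k l.castSucc ⊔ Gi g k (Fin.last n) ≤
              Subgroup.centralizer (Gi g k j.castSucc : Set (G × K)) := by
            refine sup_le ?_ ?_
            · intro y hy
              rw [Subgroup.mem_centralizer_iff]
              intro x hx
              exact commI j l h2 x hx y hy
            · intro y hy
              rw [Subgroup.mem_centralizer_iff]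
              intro x hx
              exact commT j h1 x hx y hy
          have h4 := (Subgroup.mem_centralizer_iff.1 (h3 (ymem b))) h hh
          have h5 : h⁻¹ * (g.b2.prod k.b2).y b * h = (g.b2.prod k.b2).y b := by
            rw [mul_assoc, ← h4, inv_mul_cancel_left]
          rw [h5]
          exact yBt b
        · -- adjacent to the last type I node
          have hjl : j.1 + 1 = l.1 := by
            have e1 : l.1 = n - 1 := rfl
            omega
          obtain ⟨x, hx, e01, e10, e12, -⟩ := hedge j l hjl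
          obtain ⟨r, hr⟩ := ex
          refine ⟨h, hh, ?_⟩
          have hc := commT j h1
          have hν : (g.b2.prod k.b2).nII r ∈ Gi g k (Fin.last n) := by
            rw [Gi_last]; exact AssembleB2.nII_mem_Gam r
          refine AssembleB2.conj_y (m := g.b2.prod k.b2) hB2 hx ?_ r hr ?_ ?_ yBt ?_ ?_ b
          · rw [e12]
            funext t
            show (g.xp l t, k.xp l t) = (g.b2.x t, k.b2.x t)
            rw [gl.1, kl.1]
          · intro t
            refine hc _ ?_ _ hν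
            rw [e01, Gi_castSucc]; exact Gam.pos t
          · intro t
            refine hc _ ?_ _ hν
            rw [e10, Gi_castSucc]; exact Gam.neg t
          · intro t
            refine Subgroup.subset_closure ⟨j.castSucc, j.castSucc, ?_, ?_⟩
            · rw [e01, Gi_castSucc]; exact Subgroup.mem_sup_left (Gam.pos t)
            · rw [e01]; exact (act j).fix t
          · rw [Gi_castSucc] at hh
            rw [e01, e10]; exact hh
      · have h2 : j = l := Fin.ext (by have := j.2; show j.1 = n - 1; omega)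
        subst h2
        exact genP_self iso pan trans (ymem b) (yfix' b) (Or.inl rfl) hh
  rw [graph_eq] at hp
  exact gu_extra Δ c iso Bor (Gi g k) pan trans E hEprop R1 R p hp hpc

/-- **(L2)** -/
theorem nonempty_mulEquiv [Finite W] {Δ : Bldg cs C} (hth : Δ.Thick) (hA : Δ.StrongAct G)
    (hM : NormalTrans.Conn M) [IsSimpleGroup K] (hn : 2 ≤ n) (ex : ∃ p : D.T, p.c ≠ 0)
    (g : GCN Δ G D) (k : KCN K D n) (hnir : NIRel (g.b2.prod k.b2)) : Nonempty (G ≃* K) := by
  have hk : Mem k.toCN k.Bor :=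
    { xp_mem := k.xp_mem, y_mem := k.y_mem, z₂_mem := k.z₂_mem, hh_mem := k.hh_mem
      nII_mem := k.nII_mem }
  refine NormalTrans.mulEquiv_of_graph hth hA hM (graph g.toCN k.toCN) g.c k.Bor k.Bor_ne ?_ ?_ ?_
  · rw [eq_top_iff, ← g.gen, Subgroup.closure_le]
    rintro _ (⟨i, t, rfl | rfl⟩ | ⟨t, rfl | rfl⟩)
    · exact ⟨_, Subgroup.subset_closure (Or.inl ⟨i, t, Or.inl rfl⟩), rfl⟩
    · exact ⟨_, Subgroup.subset_closure (Or.inl ⟨i, t, Or.inr rfl⟩), rfl⟩
    · exact ⟨_, Subgroup.subset_closure (Or.inr ⟨t, Or.inl rfl⟩), rfl⟩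
    · exact ⟨_, Subgroup.subset_closure (Or.inr ⟨t, Or.inr rfl⟩), rfl⟩
  · rw [eq_top_iff, ← k.gen, Subgroup.closure_le]
    rintro _ (⟨i, t, rfl | rfl⟩ | ⟨t, rfl | rfl⟩)
    · exact ⟨_, Subgroup.subset_closure (Or.inl ⟨i, t, Or.inl rfl⟩), rfl⟩
    · exact ⟨_, Subgroup.subset_closure (Or.inl ⟨i, t, Or.inr rfl⟩), rfl⟩
    · exact ⟨_, Subgroup.subset_closure (Or.inr ⟨t, Or.inl rfl⟩), rfl⟩
    · exact ⟨_, Subgroup.subset_closure (Or.inr ⟨t, Or.inr rfl⟩), rfl⟩
  · intro p hp hpc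
    exact stab_le hth hA.iso hn ex g.toCN g.act g.actT g.y_fix k.toCN hk hnir hp hpc

/-- **(L1)** without the hypothesis on `n_I(t)`. -/
theorem stab_le' [Finite W] {Δ : Bldg cs C} (hth : Δ.Thick)
    (iso : ∀ (a : G) x y, Δ.δ (a • x) (a • y) = Δ.δ x y) (hn : 2 ≤ n) (ex : ∃ p : D.T, p.c ≠ 0)
    (g : CN G D n) {c : C} {ci : Fin (n + 1) → C}
    (act : ∀ i : Fin n, NodeAct Δ c i.castSucc (ci i.castSucc) (g.xp i) (g.xm i))
    (actT : NodeAct Δ c (Fin.last n) (ci (Fin.last n)) g.b2.z₂ g.b2.z₂')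
    (y_fix : ∀ b, g.b2.y b • c = c) (k : CN K D n) {Bor : Subgroup K} (hk : Mem k Bor)
    {p : G × K} (hp : p ∈ graph g k) (hpc : p.1 • c = c) : p.2 ∈ Bor := by
  obtain ⟨r, hr⟩ := ex
  exact stab_le hth iso hn ⟨r, hr⟩ g act actT y_fix k hk
    (B2NI.nirel (B2Rel.prod g.rel k.rel) hr) hp hpc

/-- **(L2)** without the hypothesis on `n_I(t)`. -/
theorem nonempty_mulEquiv' [Finite W] {Δ : Bldg cs C} (hth : Δ.Thick) (hA : Δ.StrongAct G)
    (hM : NormalTrans.Conn M) [IsSimpleGroup K] (hn : 2 ≤ n) (ex : ∃ p : D.T, p.c ≠ 0)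
    (g : GCN Δ G D) (k : KCN K D n) : Nonempty (G ≃* K) := by
  obtain ⟨r, hr⟩ := ex
  exact nonempty_mulEquiv hth hA hM hn ⟨r, hr⟩ g k (B2NI.nirel (B2Rel.prod g.rel k.rel) hr)

end Cfsg.Agent.TitsThree.AssembleCN
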