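import Cfsg.Agent.Tits.OfBN
import Cfsg.Agent.Tits.MouDefs
import Cfsg.Agent.LieRecognition.BNCox
import Cfsg.Agent.TitsThree.End
import Cfsg.Agent.TitsThree.NormalTrans
import Cfsg.Prelude.Def_Classification2
/-!
S1143, top level: from the seven statements `Solved Δ` (types A, C, D, E₆, E₇, E₈, F₄) to the
classification of the finite simple groups with an irreducible (B,N)-pair of rank at least three.
-/

set_option autoImplicit false

namespace Cfsg.Agent.TitsThree.Top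

open Cfsg.Agent.Tits.Core Cfsg.Agent.Tits.Core.Bldg Cfsg.Agent.Tits
open Cfsg.Agent.Tits.MouDefs (Aut mem_Aut)
open Cfsg.Agent.TitsThree.NormalTrans
open Cfsg.Agent.LieRecognition
open Cfsg.Agent.LieRecognition.BNCox (cA cC cD cE cF)
open MulAction

universe u

/-- The conclusion of S1143. -/
def LieConcl (K : Type*) [Group K] : Prop :=
  Cfsg.IsPSL K ∨ Cfsg.IsPSp K ∨ Cfsg.IsPSU K ∨ Cfsg.IsPOmegaOdd K ∨ Cfsg.IsPOmegaPlus K ∨
    Cfsg.IsPOmegaMinus K ∨ Cfsg.IsExceptionalLieType K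

theorem exceptional_of_equiv {G K : Type*} [Group G] [Group K] (e : G ≃* K)
    (h : Cfsg.IsExceptionalLieType K) : Cfsg.IsExceptionalLieType G := by
  rcases h with h | h | h | h | h | h | h | h | h | h | h
  · obtain ⟨F, i1, i2, h1, ⟨f⟩⟩ := h
    exact Or.inl ⟨F, i1, i2, h1, ⟨e.trans f⟩⟩
  · obtain ⟨F, i1, i2, ⟨f⟩⟩ := h
    exact Or.inr (Or.inl ⟨F, i1, i2, ⟨e.trans f⟩⟩)
  · obtain ⟨F, i1, i2, ⟨f⟩⟩ := h
    exact Or.inr (Or.inr (Or.inl ⟨F, i1, i2, ⟨e.trans f⟩⟩))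
  · obtain ⟨F, i1, i2, ⟨f⟩⟩ := h
    exact Or.inr (Or.inr (Or.inr (Or.inl ⟨F, i1, i2, ⟨e.trans f⟩⟩)))
  · obtain ⟨F, i1, i2, ⟨f⟩⟩ := h
    exact Or.inr (Or.inr (Or.inr (Or.inr (Or.inl ⟨F, i1, i2, ⟨e.trans f⟩⟩))))
  · obtain ⟨F, i1, i2, q, h1, h2, ⟨f⟩⟩ := h
    exact Or.inr (Or.inr (Or.inr (Or.inr (Or.inr (Or.inl ⟨F, i1, i2, q, h1, h2, ⟨e.trans f⟩⟩)))))
  · obtain ⟨F, i1, i2, q, h1, h2, ⟨f⟩⟩ := h
    exact Or.inr (Or.inr (Or.inr (Or.inr (Or.inr (Or.inr (Or.inl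
      ⟨F, i1, i2, q, h1, h2, ⟨e.trans f⟩⟩))))))
  · obtain ⟨F, i1, i2, q, h1, h2, ⟨f⟩⟩ := h
    exact Or.inr (Or.inr (Or.inr (Or.inr (Or.inr (Or.inr (Or.inr (Or.inl
      ⟨F, i1, i2, q, h1, h2, ⟨e.trans f⟩⟩)))))))
  · obtain ⟨F, i1, i2, q, h1, h2, ⟨f⟩⟩ := h
    exact Or.inr (Or.inr (Or.inr (Or.inr (Or.inr (Or.inr (Or.inr (Or.inr (Or.inl
      ⟨F, i1, i2, q, h1, h2, ⟨e.trans f⟩⟩))))))))
  · obtain ⟨F, i1, i2, q, h1, h2, ⟨f⟩⟩ := h
    exact Or.inr (Or.inr (Or.inr (Or.inr (Or.inr (Or.inr (Or.inr (Or.inr (Or.inr (Or.inl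
      ⟨F, i1, i2, q, h1, h2, ⟨e.trans f⟩⟩)))))))))
  · obtain ⟨f⟩ := h
    exact Or.inr (Or.inr (Or.inr (Or.inr (Or.inr (Or.inr (Or.inr (Or.inr (Or.inr (Or.inr
      ⟨e.trans f⟩)))))))))

/-- The conclusion is invariant under isomorphism. -/
theorem LieConcl.of_equiv {G K : Type*} [Group G] [Group K] (e : G ≃* K) (h : LieConcl K) :
    LieConcl G := by
  rcases h with h | h | h | h | h | h | h
  · obtain ⟨F, i1, i2, n, h1, h2, ⟨f⟩⟩ := h
    exact Or.inl ⟨F, i1, i2, n, h1, h2, ⟨e.trans f⟩⟩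
  · obtain ⟨F, i1, i2, n, h1, h2, ⟨f⟩⟩ := h
    exact Or.inr (Or.inl ⟨F, i1, i2, n, h1, h2, ⟨e.trans f⟩⟩)
  · obtain ⟨F, i1, i2, n, q, h1, h2, h3, ⟨f⟩⟩ := h
    exact Or.inr (Or.inr (Or.inl ⟨F, i1, i2, n, q, h1, h2, h3, ⟨e.trans f⟩⟩))
  · obtain ⟨F, i1, i2, m, h1, h2, ⟨f⟩⟩ := h
    exact Or.inr (Or.inr (Or.inr (Or.inl ⟨F, i1, i2, m, h1, h2, ⟨e.trans f⟩⟩)))
  · obtain ⟨F, i1, i2, m, h1, ⟨f⟩⟩ := h
    exact Or.inr (Or.inr (Or.inr (Or.inr (Or.inl ⟨F, i1, i2, m, h1, ⟨e.trans f⟩⟩))))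
  · obtain ⟨F, i1, i2, m, a, b, h1, h2, ⟨f⟩⟩ := h
    exact Or.inr (Or.inr (Or.inr (Or.inr (Or.inr (Or.inl
      ⟨F, i1, i2, m, a, b, h1, h2, ⟨e.trans f⟩⟩)))))
  · exact Or.inr (Or.inr (Or.inr (Or.inr (Or.inr (Or.inr (exceptional_of_equiv e h))))))

variable {I : Type*} {M : CoxeterMatrix I} {W : Type*} [Group W] {cs : CoxeterSystem M W}
variable {C : Type*}

/-- The local theory has been carried out for `Δ`: `U` is the unipotent radical of the stabiliser of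
the chamber `c` in `Aut Δ`, and the group generated by its conjugates is a known simple group
(it may be assumed to be simple). -/
structure Solved (Δ : Bldg cs C) : Prop where
  out : ∃ (p : ℕ) (_ : Fact p.Prime) (c d : C) (U : Subgroup (Aut Δ)),
    Δ.Opp c d ∧ U ≤ stabilizer (Aut Δ) c ∧
    (∀ a ∈ stabilizer (Aut Δ) c, ∀ u ∈ U, a * u * a⁻¹ ∈ U) ∧
    IsPGroup p U ∧
    (∀ x, Δ.Opp c x → ∃ u ∈ U, u • d = x) ∧
    (∀ u ∈ U, u • d = d → u = 1) ∧
    (∀ x : C, ∃ n ∈ Subgroup.normalClosure (U : Set (Aut Δ)), n • c = x) ∧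
    Group.IsSolvable ↥(stabilizer (Aut Δ) c ⊓ stabilizer (Aut Δ) d) ∧
    (Nat.card ↥(stabilizer (Aut Δ) c ⊓ stabilizer (Aut Δ) d ⊓
      Subgroup.normalClosure (U : Set (Aut Δ)))).Coprime p ∧
    (IsSimpleGroup ↥(Subgroup.normalClosure (U : Set (Aut Δ))) →
      LieConcl ↥(Subgroup.normalClosure (U : Set (Aut Δ))))

theorem smul_def' {Δ : Bldg cs C} (a : Aut Δ) (x : C) : a • x = (a : Equiv.Perm C) x := rfl

theorem δ_smul {Δ : Bldg cs C} (a : Aut Δ) (x y : C) : Δ.δ (a • x) (a • y) = Δ.δ x y :=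
  a.2 x y

/-- The image of a strongly transitive group in `Aut Δ`. -/
def toAut {Δ : Bldg cs C} {G : Type*} [Group G] [MulAction G C] (hG : Δ.StrongAct G) :
    G →* Aut Δ :=
  (MulAction.toPermHom G C).codRestrict (Aut Δ) fun g x y => hG.iso g x y

theorem toAut_smul {Δ : Bldg cs C} {G : Type*} [Group G] [MulAction G C] (hG : Δ.StrongAct G)
    (g : G) (x : C) : toAut hG g • x = g • x := rfl

theorem toAut_injective {Δ : Bldg cs C} {G : Type*} [Group G] [MulAction G C]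
    (hG : Δ.StrongAct G) : Function.Injective (toAut hG) := by
  have := hG.faithful
  intro g h hgh
  refine this.eq_of_smul_eq_smul (α := C) fun x => ?_
  rw [← toAut_smul hG, hgh, toAut_smul]

/-- A group acting strongly transitively on a thick building is not commutative. -/
theorem not_comm {Δ : Bldg cs C} [Nonempty I] [Nonempty C] (ht : Δ.Thick) {G : Type*} [Group G]
    [MulAction G C] (hG : Δ.StrongAct G) : ¬ ∀ a b : G, a * b = b * a := by
  intro hcomm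
  obtain ⟨i⟩ := (inferInstance : Nonempty I)
  obtain ⟨c⟩ := (inferInstance : Nonempty C)
  obtain ⟨y, z, hne, h1, h2⟩ := ht c i
  obtain ⟨g, hg1, hg2⟩ := hG.trans c y c z (h1.trans h2.symm)
  have hfa := hG.faithful
  have hg : g = 1 := by
    refine hfa.eq_of_smul_eq_smul (α := C) fun x => ?_
    obtain ⟨a, ha, -⟩ := hG.trans c c x x (by rw [Δ.δ_self, Δ.δ_self])
    rw [one_smul, ← ha, ← mul_smul, hcomm, mul_smul, hg1]
  apply hne
  rw [← hg2, hg, one_smul]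

/-- **End of the proof**: a simple group acting strongly transitively on a solved building. -/
theorem concl_of_solved [Nonempty I] [Finite C] {Δ : Bldg cs C} (ht : Δ.Thick) (hS : Solved Δ)
    {G : Type*} [Group G] [IsSimpleGroup G] [MulAction G C] (hG : Δ.StrongAct G) :
    LieConcl G := by
  obtain ⟨p, hp, c, d, U, hcd, hUc, hUn, hUp, hUt, hUs, hN, hH, hcop, hK⟩ := hS.out
  have : Nonempty C := ⟨c⟩
  have hinj := toAut_injective hG
  let e : G ≃* (toAut hG).range := MonoidHom.ofInjective hinj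
  have : IsSimpleGroup (toAut hG).range := e.symm.isSimpleGroup
  have hns : ¬ Group.IsSolvable (toAut hG).range := by
    intro hsol
    have h1 := (IsSimpleGroup.comm_iff_isSolvable (G := (toAut hG).range)).2 hsol
    refine not_comm ht hG fun a b => e.injective ?_
    rw [map_mul, map_mul]
    exact h1 _ _
  have hmain := End.main (A := Aut Δ) (C := C) (c := c) (d := d) (O := {x | Δ.Opp c x}) (U := U)
    (p := p) ?_ hcd hUc hUn hUp hUt hUs hN hH hcop (toAut hG).range hns ?_ ?_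
  · have hs : IsSimpleGroup ↥(Subgroup.normalClosure (U : Set (Aut Δ))) :=
      (MulEquiv.subgroupCongr hmain.1).symm.isSimpleGroup
    exact ((hK hs).of_equiv (MulEquiv.subgroupCongr hmain.1)).of_equiv e
  · intro a ha x hx
    change Δ.δ c (a • x) = _
    have h1 : Δ.δ (a • c) (a • x) = Δ.δ c x := δ_smul a c x
    rw [mem_stabilizer_iff.1 ha] at h1
    rw [h1]
    exact hx
  · intro x
    obtain ⟨g, hg, -⟩ := hG.trans c c x x (by rw [Δ.δ_self, Δ.δ_self])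
    exact ⟨toAut hG g, ⟨g, rfl⟩, by rw [toAut_smul, hg]⟩
  · intro x hx
    obtain ⟨g, hg1, hg2⟩ := hG.trans c d c x (hcd.trans (Eq.symm hx))
    exact ⟨toAut hG g, ⟨g, rfl⟩, by rw [toAut_smul, hg1], by rw [toAut_smul, hg2]⟩

/-- Every finite thick building of type `M` is solved. -/
def AllSolved {n : ℕ} (M : CoxeterMatrix (Fin n)) : Prop :=
  ∀ (W C : Type u) [Group W] [Finite W] [Finite C] [Nonempty C] (cs : CoxeterSystem M W)
    (Δ : Bldg cs C), Δ.Thick → Solved Δ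

theorem concl_of_allSolved {n : ℕ} (hn : 3 ≤ n) {M : CoxeterMatrix (Fin n)}
    (hM : AllSolved.{u} M) {G : Type u} [Group G] [Finite G] [IsSimpleGroup G]
    (P : Cfsg.BNPair G) {e : Fin n ≃ P.S} (h : BNType P M e) : LieConcl G := by
  obtain ⟨hNor, cs, Δ, -, -, ht, hSA⟩ := OfBN.exists_bldg P h
  have : Nonempty (Fin n) := ⟨⟨0, by omega⟩⟩
  have hS : P.S.Nonempty := ⟨_, (e ⟨0, by omega⟩).2⟩
  have hcore := OfBN.normalCore_eq_bot P hS
  have hfin : Finite (OfBN.WP P) := inferInstance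
  exact concl_of_solved ht (hM _ _ cs Δ ht) (hSA hcore)

/-- The statement of S1143 from the seven families. -/
theorem main_of (hA : ∀ n, 3 ≤ n → AllSolved.{u} (cA n)) (hC : ∀ n, 3 ≤ n → AllSolved.{u} (cC n))
    (hD : ∀ n, 4 ≤ n → AllSolved.{u} (cD n)) (hE6 : AllSolved.{u} (cE 6))
    (hE7 : AllSolved.{u} (cE 7)) (hE8 : AllSolved.{u} (cE 8)) (hF : AllSolved.{u} cF)
    {G : Type u} [Group G] [Finite G] [IsSimpleGroup G]
    (P : Cfsg.BNPair G) (h3 : 3 ≤ P.rank) (hirr : P.Irreducible) : LieConcl G := by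
  rcases BNCox.exists_type P hirr h3 with h | h | h | h | h | h | h
  · obtain ⟨n, v, hn, h⟩ := h
    exact concl_of_allSolved hn (hA n hn) P h
  · obtain ⟨n, v, hn, h⟩ := h
    exact concl_of_allSolved hn (hC n hn) P h
  · obtain ⟨n, v, hn, h⟩ := h
    exact concl_of_allSolved (by omega) (hD n hn) P h
  · obtain ⟨v, h⟩ := h
    exact concl_of_allSolved (by omega) hE6 P h
  · obtain ⟨v, h⟩ := h
    exact concl_of_allSolved (by omega) hE7 P h
  · obtain ⟨v, h⟩ := h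
    exact concl_of_allSolved (by omega) hE8 P h
  · obtain ⟨v, h⟩ := h
    exact concl_of_allSolved (by omega) hF P h

end Cfsg.Agent.TitsThree.Top
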