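import Cfsg.Agent.Tits.MouOut
import Cfsg.Agent.TitsThree.Top

/-!
S1143: `Top.Solved Δ` from the Moufang property (`MouOut.Sys`): what is left are the solvability of
`A_{c,d}`, the coprimality `(|A_{c,d} ∩ G'|, p) = 1`, and the identification of `G'`.
-/

set_option autoImplicit false

namespace Cfsg.Agent.TitsThree.EndHyp

open Cfsg.Agent.Tits.Core Cfsg.Agent.Tits.Core.Bldg Cfsg.Agent.Tits.Exchange
open Cfsg.Agent.Tits.MouTrans Cfsg.Agent.Tits.MouOut
open Cfsg.Agent.Tits.MouDefs (rt Aut Chart Ext Comb)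
open Cfsg.Agent.TitsThree.Top
open MulAction

variable {I : Type*} {M : CoxeterMatrix I} {W : Type*} [Group W] {cs : CoxeterSystem M W}
variable {C : Type*} {Δ : Bldg cs C}

section Sys

variable {A : Type*} [Group A] [MulAction A C] {σ : W → C} {U : Set W → Subgroup A}

/-- The parameters are the orders of the fundamental root groups. -/
theorem param [Finite C] (H : Sys Δ A σ U) (i : I) :
    Δ.Param i (Nat.card (U (rt cs 1 i))) := by
  intro x
  have e1 : Δ.δ (σ 1) (σ (cs.simple i)) = cs.simple i := by rw [H.chart, inv_one, one_mul]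
  have h1 : Nat.card (Δ.Pan i (σ 1)) = Nat.card (U (rt cs 1 i)) + 1 := by
    let f : Option (U (rt cs 1 i)) → Δ.Pan i (σ 1) := fun o =>
      o.elim ⟨σ 1, Δ.self_mem_Pan _ _⟩ fun g => ⟨(g : A) • σ (cs.simple i), by
        have := pan_smul H.iso (g : A) (Δ.mem_Pan_of_δ e1)
        rwa [H.fix g.2 (self_mem_rt 1 i)] at this⟩
    have hf : Function.Bijective f := by
      constructor
      · rintro (_ | g) (_ | g') h
        · rfl
        · exfalso
          have h1 : σ 1 = (g' : A) • σ (cs.simple i) := congrArg Subtype.val h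
          rw [← H.fix g'.2 (self_mem_rt 1 i)] at h1
          exact Δ.ne_of_δ_simple e1 (MulAction.injective _ h1)
        · exfalso
          have h1 : (g : A) • σ (cs.simple i) = σ 1 := congrArg Subtype.val h
          rw [← H.fix g.2 (self_mem_rt 1 i)] at h1
          exact Δ.ne_of_δ_simple e1 (MulAction.injective _ h1).symm
        · have h1 : (g : A) • σ (cs.simple i) = (g' : A) • σ (cs.simple i) := congrArg Subtype.val h
          have h2 : (g' : A)⁻¹ * (g : A) = 1 := by
            refine H.free 1 i _ (mul_mem (inv_mem g'.2) g.2) ?_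
            rw [one_mul, mul_smul, h1, inv_smul_smul]
          rw [Subtype.ext (inv_mul_eq_one.1 h2).symm]
      · rintro ⟨y, hy⟩
        rcases hy with rfl | hy
        · exact ⟨none, rfl⟩
        · obtain ⟨g, hg, h⟩ := H.trans 1 i (σ (cs.simple i)) y e1 hy
          exact ⟨some ⟨g, hg⟩, Subtype.ext h⟩
    have : Finite (Option (U (rt cs 1 i))) := Finite.of_injective f hf.1
    have : Finite (U (rt cs 1 i)) := Finite.of_injective (some : _ → Option (U (rt cs 1 i)))
      (Option.some_injective _)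
    rw [← Nat.card_congr (Equiv.ofBijective f hf), Finite.card_option]
  obtain ⟨g, -, rfl⟩ := H.Gtrans x
  rw [← h1]
  refine Nat.card_congr ⟨fun y => ⟨g⁻¹ • y.1, ?_⟩, fun y => ⟨g • y.1, pan_smul H.iso g y.2⟩,
    fun y => Subtype.ext (smul_inv_smul _ _), fun y => Subtype.ext (inv_smul_smul _ _)⟩
  have := pan_smul H.iso g⁻¹ y.2
  rwa [inv_smul_smul] at this

/-- `U_+` is a `p`-group if all fundamental root groups are. -/
theorem Up_isPGroup [Finite I] [Finite W] [Finite C] (H : Sys Δ A σ U) {p : ℕ} [Fact p.Prime]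
    (hU : ∀ i, IsPGroup p (U (rt cs 1 i))) : IsPGroup p (Up cs U) := by
  refine H.Up_isPGroup (q := fun i => Nat.card (U (rt cs 1 i))) (fun i => param H i) fun i => ?_
  have : Finite A := by
    refine Finite.of_injective (fun a : A => (MulAction.toPerm a : Equiv.Perm C)) fun a b hab => ?_
    have h1 : b⁻¹ * a = 1 := H.faith _ fun x => by
      rw [mul_smul, inv_smul_eq_iff]
      exact congrFun (congrArg DFunLike.coe hab) x
    exact (inv_mul_eq_one.1 h1).symm
  exact (hU i).exists_card_eq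

end Sys

/-- **The structure `Solved`** from the Moufang property. -/
theorem solved [Finite I] [Finite W] [Finite C] {σ : W → C}
    (H : Sys Δ (Aut Δ) σ (UU Δ σ)) {p : ℕ} [Fact p.Prime]
    (hU : ∀ i, IsPGroup p (UU Δ σ (rt cs 1 i)))
    (hH : Group.IsSolvable ↥(stabilizer (Aut Δ) (σ 1) ⊓ stabilizer (Aut Δ) (σ (w0 cs))))
    (hcop : (Nat.card ↥(stabilizer (Aut Δ) (σ 1) ⊓ stabilizer (Aut Δ) (σ (w0 cs)) ⊓
      Gg cs (UU Δ σ))).Coprime p)
    (hK : IsSimpleGroup ↥(Gg cs (UU Δ σ)) → LieConcl ↥(Gg cs (UU Δ σ))) : Solved Δ := by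
  have e := H.Gg_eq
  refine ⟨p, inferInstance, σ 1, σ (w0 cs), Up cs (UU Δ σ), H.opp, fun u hu => H.Up_fix hu,
    fun a ha u hu => H.Up_normal ha hu, Up_isPGroup H hU, fun x hx => H.Up_trans _ x hx,
    fun u hu h => H.Up_free hu h, fun x => ?_, hH, ?_, ?_⟩
  · rw [← e]
    exact H.Gtrans x
  · rw [← e]
    exact hcop
  · rw [← e]
    exact hK

end Cfsg.Agent.TitsThree.EndHyp
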