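import Mathlib
import Cfsg.Agent.AGraded.Coord

/-!
# Reflections in groups graded by a root system of type `A`

`Refl X i j n`: conjugation by `n` permutes the root subgroups `X a b` like the transposition of `i` and `j`.
-/

set_option autoImplicit false

namespace Cfsg.Agent.TitsThree.A2Refl

open scoped commutatorElement
open Cfsg.Agent.AGraded

universe u w

variable {ι : Type u} {G : Type w} [Group G]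

/-- `n` acts as the transposition `(i j)` -/
structure Refl (X : ι → ι → Subgroup G) (i j : ι) (n : G) : Prop where
  ij : ∀ c ∈ X i j, n * c * n⁻¹ ∈ X j i
  ji : ∀ c ∈ X j i, n * c * n⁻¹ ∈ X i j
  ik : ∀ k, k ≠ i → k ≠ j → ∀ c ∈ X i k, n * c * n⁻¹ ∈ X j k
  jk : ∀ k, k ≠ i → k ≠ j → ∀ c ∈ X j k, n * c * n⁻¹ ∈ X i k
  ki : ∀ k, k ≠ i → k ≠ j → ∀ c ∈ X k i, n * c * n⁻¹ ∈ X k j
  kj : ∀ k, k ≠ i → k ≠ j → ∀ c ∈ X k j, n * c * n⁻¹ ∈ X k i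

/-- the rank one condition: every `1 ≠ a ∈ X i j` lies in a product `y * a * y'` acting as `(i j)` -/
def Rgd (X : ι → ι → Subgroup G) : Prop :=
  ∀ i j, i ≠ j → ∀ a ∈ X i j, a ≠ 1 → ∃ y ∈ X j i, ∃ y' ∈ X j i, Refl X i j (y * a * y')

variable {X : ι → ι → Subgroup G} (h : Graded X) {i j k : ι} (hij : i ≠ j) (hki : k ≠ i) (hkj : k ≠ j)
include h hij hki hkj

/-- the groups `X i k` and `X j k` meet trivially -/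
theorem inter_col {c : G} (h1 : c ∈ X i k) (h2 : c ∈ X j k) : c = 1 := by
  by_contra hc
  obtain ⟨x, hx, hx1⟩ := h.ne_bot i j hij
  have h3 := h.br_ne i j k hij hkj.symm hki.symm x hx c h2 hx1 hc
  apply h3
  rw [commutatorElement_eq_one_iff_mul_comm]
  exact h.comm i j i k hij hki.symm hij.symm hki.symm x hx c h1

theorem inter_row {c : G} (h1 : c ∈ X k i) (h2 : c ∈ X k j) : c = 1 := by
  by_contra hc
  obtain ⟨x, hx, hx1⟩ := h.ne_bot j i hij.symm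
  have h3 := h.br_ne k j i hkj hij.symm hki c h2 x hx hc hx1
  apply h3
  rw [commutatorElement_eq_one_iff_mul_comm]
  exact h.comm k i j i hki hij.symm hij hki c h1 x hx

theorem refl_jk {a y y' : G} (ha : a ∈ X i j) (hy : y ∈ X j i) (hy' : y' ∈ X j i) (hn : Refl X i j (y * a * y'))
    {b : G} (hb : b ∈ X j k) : ⁅y, ⁅a, b⁆⁆ = b⁻¹ ∧ (y * a * y') * b * (y * a * y')⁻¹ = ⁅a, b⁆ := by
  have hq := h.br_mem i j k hij hkj.symm hki.symm a ha b hb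
  have hp := h.br_mem j i k hij.symm hki.symm hkj.symm y hy _ hq
  have c1 : y' * b * y'⁻¹ = b := by
    rw [h.comm j i j k hij.symm hkj.symm hij hkj.symm y' hy' b hb, mul_inv_cancel_right]
  have c2 : a * b * a⁻¹ = ⁅a, b⁆ * b := by rw [commutatorElement_def]; group
  have c3 : y * ⁅a, b⁆ * y⁻¹ = ⁅y, ⁅a, b⁆⁆ * ⁅a, b⁆ := by rw [commutatorElement_def y]; group
  have c4 : y * b * y⁻¹ = b := by
    rw [h.comm j i j k hij.symm hkj.symm hij hkj.symm y hy b hb, mul_inv_cancel_right]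
  have c5 : (y * a * y') * b * (y * a * y')⁻¹ = ⁅y, ⁅a, b⁆⁆ * ⁅a, b⁆ * b := by
    calc (y * a * y') * b * (y * a * y')⁻¹ = y * (a * (y' * b * y'⁻¹) * a⁻¹) * y⁻¹ := by group
      _ = (y * ⁅a, b⁆ * y⁻¹) * (y * b * y⁻¹) := by rw [c1, c2]; group
      _ = _ := by rw [c3, c4]
  have c6 := hn.jk k hki hkj b hb
  rw [c5] at c6 ⊢
  have c7 : ⁅y, ⁅a, b⁆⁆ * ⁅a, b⁆ = ⁅a, b⁆ * ⁅y, ⁅a, b⁆⁆ :=
    h.comm j k i k hkj.symm hki.symm hki hkj.symm _ hp _ hq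
  have c8 : ⁅y, ⁅a, b⁆⁆ * b = 1 := by
    apply inter_col h hij hki hkj (c := ⁅y, ⁅a, b⁆⁆ * b) _ ((X j k).mul_mem hp hb)
    have := (X i k).mul_mem ((X i k).inv_mem hq) c6
    rw [c7] at this
    have e : ⁅a, b⁆⁻¹ * (⁅a, b⁆ * ⁅y, ⁅a, b⁆⁆ * b) = ⁅y, ⁅a, b⁆⁆ * b := by group
    rwa [e] at this
  refine ⟨eq_inv_of_mul_eq_one_left c8, ?_⟩
  rw [c7, mul_assoc, c8, mul_one]

theorem refl_ik {a y y' : G} (ha : a ∈ X i j) (hy : y ∈ X j i) (hy' : y' ∈ X j i) (hn : Refl X i j (y * a * y'))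
    {c : G} (hc : c ∈ X i k) : ⁅a, ⁅y', c⁆⁆ = c⁻¹ ∧ (y * a * y') * c * (y * a * y')⁻¹ = ⁅y', c⁆ := by
  have hq := h.br_mem j i k hij.symm hki.symm hkj.symm y' hy' c hc
  have hp := h.br_mem i j k hij hkj.symm hki.symm a ha _ hq
  have c1 : y' * c * y'⁻¹ = ⁅y', c⁆ * c := by rw [commutatorElement_def]; group
  have c2 : a * ⁅y', c⁆ * a⁻¹ = ⁅a, ⁅y', c⁆⁆ * ⁅y', c⁆ := by rw [commutatorElement_def a]; group
  have c3 : a * c * a⁻¹ = c := by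
    rw [h.comm i j i k hij hki.symm hij.symm hki.symm a ha c hc, mul_inv_cancel_right]
  have c4 : y * ⁅y', c⁆ * y⁻¹ = ⁅y', c⁆ := by
    rw [h.comm j i j k hij.symm hkj.symm hij hkj.symm y hy _ hq, mul_inv_cancel_right]
  have hr : ⁅a, ⁅y', c⁆⁆ * c ∈ X i k := (X i k).mul_mem hp hc
  have hyr := h.br_mem j i k hij.symm hki.symm hkj.symm y hy _ hr
  have c7 : ⁅y', c⁆ * ⁅a, ⁅y', c⁆⁆ = ⁅a, ⁅y', c⁆⁆ * ⁅y', c⁆ :=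
    h.comm j k i k hkj.symm hki.symm hki hkj.symm _ hq _ hp
  have c5 : (y * a * y') * c * (y * a * y')⁻¹ = ⁅y', c⁆ * (⁅y, ⁅a, ⁅y', c⁆⁆ * c⁆ * (⁅a, ⁅y', c⁆⁆ * c)) := by
    calc (y * a * y') * c * (y * a * y')⁻¹ = y * (a * (y' * c * y'⁻¹) * a⁻¹) * y⁻¹ := by group
      _ = y * ((a * ⁅y', c⁆ * a⁻¹) * (a * c * a⁻¹)) * y⁻¹ := by rw [c1]; group
      _ = y * (⁅y', c⁆ * (⁅a, ⁅y', c⁆⁆ * c)) * y⁻¹ := by rw [c2, c3, ← c7]; group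
      _ = (y * ⁅y', c⁆ * y⁻¹) * (y * (⁅a, ⁅y', c⁆⁆ * c) * y⁻¹) := by group
      _ = _ := by
        rw [c4]
        congr 1
        rw [commutatorElement_def y]
        group
  have c6 := hn.ik k hki hkj c hc
  rw [c5] at c6 ⊢
  have c8 : ⁅a, ⁅y', c⁆⁆ * c = 1 := by
    apply inter_col h hij hki hkj (c := ⁅a, ⁅y', c⁆⁆ * c) hr
    have h1 := (X j k).mul_mem ((X j k).inv_mem hq) c6
    have h2 := (X j k).mul_mem ((X j k).inv_mem hyr) h1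
    have e : ⁅y, ⁅a, ⁅y', c⁆⁆ * c⁆⁻¹ * (⁅y', c⁆⁻¹ * (⁅y', c⁆ * (⁅y, ⁅a, ⁅y', c⁆⁆ * c⁆ * (⁅a, ⁅y', c⁆⁆ * c))))
        = ⁅a, ⁅y', c⁆⁆ * c := by group
    rwa [e] at h2
  refine ⟨eq_inv_of_mul_eq_one_left c8, ?_⟩
  rw [c8, mul_one, commutatorElement_one_right, mul_one]

theorem refl_ki {a y y' : G} (ha : a ∈ X i j) (hy : y ∈ X j i) (hy' : y' ∈ X j i) (hn : Refl X i j (y * a * y'))
    {c : G} (hc : c ∈ X k i) : ⁅⁅c, a⁆, y⁆ = c⁻¹ ∧ (y * a * y') * c * (y * a * y')⁻¹ = ⁅c, a⁆⁻¹ := by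
  have hq := h.br_mem k i j hki hij hkj c hc a ha
  have hq' := (X k j).inv_mem hq
  have hp := h.br_mem k j i hkj hij.symm hki _ hq' y hy
  have c1 : y' * c * y'⁻¹ = c := by
    rw [h.comm j i k i hij.symm hki hki.symm hij.symm y' hy' c hc, mul_inv_cancel_right]
  have c2 : a * c * a⁻¹ = ⁅c, a⁆⁻¹ * c := by rw [commutatorElement_def]; group
  have c3 : y * ⁅c, a⁆⁻¹ * y⁻¹ = ⁅⁅c, a⁆⁻¹, y⁆⁻¹ * ⁅c, a⁆⁻¹ := by rw [commutatorElement_def _ y]; group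
  have c4 : y * c * y⁻¹ = c := by
    rw [h.comm j i k i hij.symm hki hki.symm hij.symm y hy c hc, mul_inv_cancel_right]
  have c5 : (y * a * y') * c * (y * a * y')⁻¹ = ⁅⁅c, a⁆⁻¹, y⁆⁻¹ * ⁅c, a⁆⁻¹ * c := by
    calc (y * a * y') * c * (y * a * y')⁻¹ = y * (a * (y' * c * y'⁻¹) * a⁻¹) * y⁻¹ := by group
      _ = (y * ⁅c, a⁆⁻¹ * y⁻¹) * (y * c * y⁻¹) := by rw [c1, c2]; group
      _ = _ := by rw [c3, c4]
  have c6 := hn.ki k hki hkj c hc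
  rw [c5] at c6 ⊢
  have c7 : ⁅⁅c, a⁆⁻¹, y⁆⁻¹ * ⁅c, a⁆⁻¹ = ⁅c, a⁆⁻¹ * ⁅⁅c, a⁆⁻¹, y⁆⁻¹ :=
    h.comm k i k j hki hkj hki.symm hkj _ ((X k i).inv_mem hp) _ hq'
  have c8 : ⁅⁅c, a⁆⁻¹, y⁆⁻¹ * c = 1 := by
    apply inter_row h hij hki hkj (c := ⁅⁅c, a⁆⁻¹, y⁆⁻¹ * c) ((X k i).mul_mem ((X k i).inv_mem hp) hc)
    have := (X k j).mul_mem hq c6
    rw [c7] at this
    have e : ⁅c, a⁆ * (⁅c, a⁆⁻¹ * ⁅⁅c, a⁆⁻¹, y⁆⁻¹ * c) = ⁅⁅c, a⁆⁻¹, y⁆⁻¹ * c := by group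
    rwa [e] at this
  have c9 : ⁅⁅c, a⁆⁻¹, y⁆ = c := by
    rw [inv_mul_eq_one] at c8
    exact c8
  refine ⟨?_, ?_⟩
  · have := h.br_mul_left hkj hij.symm hki hq' hq hy
    rw [inv_mul_cancel, commutatorElement_one_left, c9] at this
    exact eq_inv_of_mul_eq_one_right this.symm
  · rw [c7, mul_assoc, c8, mul_one]

theorem refl_kj {a y y' : G} (ha : a ∈ X i j) (hy : y ∈ X j i) (hy' : y' ∈ X j i) (hn : Refl X i j (y * a * y'))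
    {d : G} (hd : d ∈ X k j) : ⁅⁅d, y'⁆, a⁆ = d⁻¹ ∧ (y * a * y') * d * (y * a * y')⁻¹ = ⁅d, y'⁆⁻¹ := by
  have hq := h.br_mem k j i hkj hij.symm hki d hd y' hy'
  have hq' := (X k i).inv_mem hq
  have hp := h.br_mem k i j hki hij hkj _ hq' a ha
  have hr : ⁅⁅d, y'⁆⁻¹, a⁆⁻¹ * d ∈ X k j := (X k j).mul_mem ((X k j).inv_mem hp) hd
  have hyr := h.br_mem k j i hkj hij.symm hki _ hr y hy
  have c1 : y' * d * y'⁻¹ = ⁅d, y'⁆⁻¹ * d := by rw [commutatorElement_def]; group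
  have c2 : a * ⁅d, y'⁆⁻¹ * a⁻¹ = ⁅⁅d, y'⁆⁻¹, a⁆⁻¹ * ⁅d, y'⁆⁻¹ := by rw [commutatorElement_def _ a]; group
  have c3 : a * d * a⁻¹ = d := by
    rw [h.comm i j k j hij hkj hkj.symm hij a ha d hd, mul_inv_cancel_right]
  have c4 : y * ⁅d, y'⁆⁻¹ * y⁻¹ = ⁅d, y'⁆⁻¹ := by
    rw [h.comm j i k i hij.symm hki hki.symm hij.symm y hy _ hq', mul_inv_cancel_right]
  have c7 : ⁅⁅d, y'⁆⁻¹, a⁆⁻¹ * ⁅d, y'⁆⁻¹ = ⁅d, y'⁆⁻¹ * ⁅⁅d, y'⁆⁻¹, a⁆⁻¹ :=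
    h.comm k j k i hkj hki hkj.symm hki _ ((X k j).inv_mem hp) _ hq'
  have c5 : (y * a * y') * d * (y * a * y')⁻¹
      = ⁅d, y'⁆⁻¹ * (⁅⁅⁅d, y'⁆⁻¹, a⁆⁻¹ * d, y⁆⁻¹ * (⁅⁅d, y'⁆⁻¹, a⁆⁻¹ * d)) := by
    calc (y * a * y') * d * (y * a * y')⁻¹ = y * (a * (y' * d * y'⁻¹) * a⁻¹) * y⁻¹ := by group
      _ = y * ((a * ⁅d, y'⁆⁻¹ * a⁻¹) * (a * d * a⁻¹)) * y⁻¹ := by rw [c1]; group
      _ = y * (⁅d, y'⁆⁻¹ * (⁅⁅d, y'⁆⁻¹, a⁆⁻¹ * d)) * y⁻¹ := by rw [c2, c3, c7]; group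
      _ = (y * ⁅d, y'⁆⁻¹ * y⁻¹) * (y * (⁅⁅d, y'⁆⁻¹, a⁆⁻¹ * d) * y⁻¹) := by group
      _ = _ := by
        rw [c4]
        congr 1
        rw [commutatorElement_def _ y]
        group
  have c6 := hn.kj k hki hkj d hd
  rw [c5] at c6 ⊢
  have c8 : ⁅⁅d, y'⁆⁻¹, a⁆⁻¹ * d = 1 := by
    refine inter_row h hij hki hkj (c := ⁅⁅d, y'⁆⁻¹, a⁆⁻¹ * d) ?_ hr
    have h1 := (X k i).mul_mem hq c6
    have h2 := (X k i).mul_mem hyr h1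
    have e : ⁅⁅⁅d, y'⁆⁻¹, a⁆⁻¹ * d, y⁆
        * (⁅d, y'⁆ * (⁅d, y'⁆⁻¹ * (⁅⁅⁅d, y'⁆⁻¹, a⁆⁻¹ * d, y⁆⁻¹ * (⁅⁅d, y'⁆⁻¹, a⁆⁻¹ * d))))
        = ⁅⁅d, y'⁆⁻¹, a⁆⁻¹ * d := by group
    rwa [e] at h2
  have c9 : ⁅⁅d, y'⁆⁻¹, a⁆ = d := by
    rw [inv_mul_eq_one] at c8
    exact c8
  refine ⟨?_, ?_⟩
  · have := h.br_mul_left hki hij hkj hq' hq ha
    rw [inv_mul_cancel, commutatorElement_one_left, c9] at this
    exact eq_inv_of_mul_eq_one_right this.symm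
  · rw [c8, commutatorElement_one_left, inv_one, mul_one, mul_one]

end Cfsg.Agent.TitsThree.A2Refl
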