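import Mathlib

/-!
# Finite additive sets of units are fields

`A` an additive subgroup of a finite ring `R`, `1 ∈ A`, every nonzero element of `A` is
invertible with inverse in `A`.  Then `A` is closed under multiplication and commutative,
so `A` is a finite field.  (Used for finite Moufang planes and for groups graded by `A₂`.)
-/

namespace Cfsg.Agent.TitsThree.FieldSet

open MulOpposite

variable {R : Type*} [Ring R]

/-- An additive subgroup containing `1` in which all nonzero elements have inverses. -/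
structure DivSet (A : AddSubgroup R) : Prop where
  one_mem : (1 : R) ∈ A
  inv : ∀ a ∈ A, a ≠ 0 → ∃ b ∈ A, a * b = 1 ∧ b * a = 1

variable {A : AddSubgroup R}

theorem DivSet.isUnit (h : DivSet A) {a : R} (ha : a ∈ A) (h0 : a ≠ 0) : IsUnit a := by
  obtain ⟨b, _, h1, h2⟩ := h.inv a ha h0
  exact ⟨⟨a, b, h1, h2⟩, rfl⟩

theorem DivSet.uop (h : DivSet A) {x y : R} (hx : x ∈ A) (hy : y ∈ A) : x * y * x ∈ A := by
  by_cases hx0 : x = 0
  · subst hx0; simp
  by_cases hy0 : y = 0
  · subst hy0; simp
  obtain ⟨x', hx'A, hxx', hx'x⟩ := h.inv x hx hx0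
  obtain ⟨y', hy'A, hyy', hy'y⟩ := h.inv y hy hy0
  by_cases hd : y' - x = 0
  · have hyx : y' = x := sub_eq_zero.1 hd
    rw [← hyx, hy'y, one_mul]; exact hy'A
  obtain ⟨d', hd'A, hdd', hd'd⟩ := h.inv (y' - x) (A.sub_mem hy'A hx) hd
  have e1 : (y' - x) * (y * x) = x - x * y * x := by
    rw [sub_mul, ← mul_assoc, hy'y, one_mul, mul_assoc]
  have e2 : d' * (x - x * y * x) = y * x := by
    rw [← e1, ← mul_assoc, hd'd, one_mul]
  have hs : (x' + d') * (x - x * y * x) = 1 := by
    rw [add_mul, e2, mul_sub, hx'x, ← mul_assoc, ← mul_assoc, hx'x, one_mul]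
    abel
  by_cases hs0 : x' + d' = 0
  · rw [hs0, zero_mul] at hs
    have : x * y * x = 0 := by
      calc x * y * x = x * y * x * 1 := (mul_one _).symm
        _ = 0 := by rw [← hs, mul_zero]
    rw [this]; exact A.zero_mem
  obtain ⟨s', hs'A, _, hs's⟩ := h.inv (x' + d') (A.add_mem hx'A hd'A) hs0
  have e3 : s' = x - x * y * x := by
    calc s' = s' * ((x' + d') * (x - x * y * x)) := by rw [hs, mul_one]
      _ = x - x * y * x := by rw [← mul_assoc, hs's, one_mul]
  have e4 : x * y * x = x - s' := by rw [e3]; abel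
  rw [e4]; exact A.sub_mem hx hs'A

theorem DivSet.polar (h : DivSet A) {x y z : R} (hx : x ∈ A) (hy : y ∈ A) (hz : z ∈ A) :
    x * y * z + z * y * x ∈ A := by
  have e : x * y * z + z * y * x = (x + z) * y * (x + z) - x * y * x - z * y * z := by
    noncomm_ring
  rw [e]
  exact A.sub_mem (A.sub_mem (h.uop (A.add_mem hx hz) hy) (h.uop hx hy)) (h.uop hz hy)

theorem DivSet.pow_mem (h : DivSet A) {a : R} (ha : a ∈ A) : ∀ n : ℕ, a ^ n ∈ A
  | 0 => by simpa using h.one_mem
  | 1 => by simpa using ha
  | n + 2 => by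
    have e : a ^ (n + 2) = a * a ^ n * a := by
      rw [pow_succ, pow_succ']
    rw [e]; exact h.uop ha (h.pow_mem ha n)

/-- value of a word in the powers of two letters -/
def ev (g : Bool → R) : List (Bool × ℕ) → R
  | [] => 1
  | p :: l => g p.1 ^ p.2 * ev g l

/-- value of the reversed word -/
def ve (g : Bool → R) : List (Bool × ℕ) → R
  | [] => 1
  | p :: l => ve g l * g p.1 ^ p.2

theorem ev_append (g : Bool → R) : ∀ l m : List (Bool × ℕ), ev g (l ++ m) = ev g l * ev g m
  | [], m => by simp [ev]
  | p :: l, m => by simp [ev, ev_append g l m, mul_assoc]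

theorem ve_append (g : Bool → R) : ∀ l m : List (Bool × ℕ), ve g (l ++ m) = ve g m * ve g l
  | [], m => by simp [ve]
  | p :: l, m => by simp [ve, ve_append g l m, mul_assoc]

/-- The polar form of words. -/
def tt (g : Bool → R) (u v : List (Bool × ℕ)) (x : R) : R :=
  ev g u * x * ve g v + ev g v * x * ve g u

theorem tt_comm (g : Bool → R) (u v : List (Bool × ℕ)) (x : R) : tt g u v x = tt g v u x := by
  unfold tt; exact add_comm _ _

theorem tt_merge (g : Bool → R) (p q : Bool × ℕ) (hpq : p.1 = q.1) (u v : List (Bool × ℕ))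
    (x : R) : tt g (p :: q :: u) v x = tt g ((p.1, p.2 + q.2) :: u) v x := by
  unfold tt
  simp only [ev, ve, ← hpq]
  have h1 : g p.1 ^ p.2 * (g p.1 ^ q.2 * ev g u) = g p.1 ^ (p.2 + q.2) * ev g u := by
    rw [pow_add, mul_assoc]
  have h2 : ve g u * g p.1 ^ q.2 * g p.1 ^ p.2 = ve g u * g p.1 ^ (p.2 + q.2) := by
    rw [add_comm p.2 q.2, pow_add, mul_assoc]
  rw [h1, h2]

theorem bool_third : ∀ a b c : Bool, a ≠ b → b ≠ c → a = c := by decide

/-- Same first letters. -/
theorem DivSet.tt_same (h : DivSet A) {g : Bool → R} (hg : ∀ i, g i ∈ A)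
    (p q : Bool × ℕ) (hpq : p.1 = q.1) (hle : p.2 ≤ q.2) (u v : List (Bool × ℕ)) (x : R)
    (hz : tt g u ((q.1, q.2 - p.2) :: v) x ∈ A) : tt g (p :: u) (q :: v) x ∈ A := by
  have e : tt g (p :: u) (q :: v) x =
      g p.1 ^ p.2 * tt g u ((q.1, q.2 - p.2) :: v) x * g p.1 ^ p.2 := by
    unfold tt
    simp only [ev, ve, ← hpq]
    have h1 : g p.1 ^ q.2 = g p.1 ^ (q.2 - p.2) * g p.1 ^ p.2 := by
      rw [← pow_add, Nat.sub_add_cancel hle]
    have h2 : g p.1 ^ q.2 = g p.1 ^ p.2 * g p.1 ^ (q.2 - p.2) := by
      rw [← pow_add, Nat.add_sub_cancel' hle]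
    have e1 : ev g u * x * (ve g v * g p.1 ^ q.2) =
      ev g u * x * ve g v * g p.1 ^ (q.2 - p.2) * g p.1 ^ p.2 := by
      rw [h1]; simp only [mul_assoc]
    have e2 : g p.1 ^ q.2 * ev g v * x * (ve g u * g p.1 ^ p.2) =
      g p.1 ^ p.2 * (g p.1 ^ (q.2 - p.2) * ev g v * x * ve g u) * g p.1 ^ p.2 := by
      rw [h2]; simp only [mul_assoc]
    rw [e2, mul_add, add_mul]
    congr 1
    rw [h1]; simp only [mul_assoc]
  rw [e]
  exact h.uop (h.pow_mem (hg _) _) hz

/-- Swapping the tails. -/
theorem DivSet.tt_swap (h : DivSet A) {g : Bool → R} (hg : ∀ i, g i ∈ A)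
    (p q : Bool × ℕ) (u v : List (Bool × ℕ)) (x : R)
    (hz : tt g u v x ∈ A) (hs : tt g (p :: v) (q :: u) x ∈ A) :
    tt g (p :: u) (q :: v) x ∈ A := by
  have hp := h.polar (h.pow_mem (hg p.1) p.2) hz (h.pow_mem (hg q.1) q.2)
  have e : tt g (p :: u) (q :: v) x = (g p.1 ^ p.2 * tt g u v x * g q.1 ^ q.2 +
      g q.1 ^ q.2 * tt g u v x * g p.1 ^ p.2) - tt g (p :: v) (q :: u) x := by
    unfold tt
    simp only [ev, ve, mul_add, add_mul, mul_assoc]
    abel
  rw [e]
  exact A.sub_mem hp hs

theorem DivSet.tt_mem (h : DivSet A) {g : Bool → R} (hg : ∀ i, g i ∈ A) {x : R} (hx : x ∈ A) :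
    ∀ (n : ℕ) (u v : List (Bool × ℕ)), u.length + v.length ≤ n → tt g u v x ∈ A := by
  intro n
  induction n with
  | zero =>
    intro u v huv
    have hu : u = [] := List.length_eq_zero_iff.1 (by omega)
    have hv : v = [] := List.length_eq_zero_iff.1 (by omega)
    subst hu hv
    simpa [tt, ev, ve] using A.add_mem hx hx
  | succ n ih =>
    -- same letters
    have same : ∀ (p q : Bool × ℕ) (u v : List (Bool × ℕ)), p.1 = q.1 →
        u.length + v.length + 2 ≤ n + 1 → tt g (p :: u) (q :: v) x ∈ A := by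
      intro p q u v hpq hl
      rcases le_total p.2 q.2 with hle | hle
      · exact h.tt_same hg p q hpq hle u v x (ih _ _ (by simp only [List.length_cons]; omega))
      · rw [tt_comm]
        exact h.tt_same hg q p hpq.symm hle v u x
          (ih _ _ (by simp only [List.length_cons]; omega))
    have both : ∀ (p q : Bool × ℕ) (u v : List (Bool × ℕ)),
        u.length + v.length + 2 ≤ n + 1 → tt g (p :: u) (q :: v) x ∈ A := by
      intro p q u v hl
      by_cases hpq : p.1 = q.1
      · exact same p q u v hpq hl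
      have hz : tt g u v x ∈ A := ih _ _ (by omega)
      match v, u with
      | q' :: v', u =>
        simp only [List.length_cons] at hl
        by_cases hq : q.1 = q'.1
        · rw [tt_comm, tt_merge g q q' hq]
          exact ih _ _ (by simp only [List.length_cons]; omega)
        · have hp : p.1 = q'.1 := bool_third _ _ _ hpq hq
          refine h.tt_swap hg p q u (q' :: v') x hz ?_
          rw [tt_merge g p q' hp]
          exact ih _ _ (by simp only [List.length_cons]; omega)
      | [], p' :: u' =>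
        simp only [List.length_cons] at hl
        by_cases hp : p.1 = p'.1
        · rw [tt_merge g p p' hp]
          exact ih _ _ (by simp only [List.length_cons, List.length_nil]; omega)
        · have hq : q.1 = p'.1 := bool_third _ _ _ (Ne.symm hpq) hp
          refine h.tt_swap hg p q (p' :: u') [] x hz ?_
          rw [tt_comm, tt_merge g q p' hq]
          exact ih _ _ (by simp only [List.length_cons, List.length_nil]; omega)
      | [], [] =>
        have := h.polar (h.pow_mem (hg p.1) p.2) hx (h.pow_mem (hg q.1) q.2)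
        simpa [tt, ev, ve] using this
    have empt : ∀ (v : List (Bool × ℕ)), v.length ≤ n + 1 → tt g [] v x ∈ A := by
      intro v hv
      match v with
      | [] => simpa [tt, ev, ve] using A.add_mem hx hx
      | q :: v' =>
        simp only [List.length_cons] at hv
        have hz : tt g [] v' x ∈ A := ih _ _ (by simp only [List.length_nil]; omega)
        have hp := h.polar h.one_mem hz (h.pow_mem (hg q.1) q.2)
        have h2 : tt g v' [q] x ∈ A := by
          match v' with
          | [] => 
            have := h.polar h.one_mem hx (h.pow_mem (hg q.1) q.2)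
            simpa [tt, ev, ve] using this
          | q' :: v'' =>
            exact both q' q v'' [] (by simp only [List.length_cons, List.length_nil] at hv ⊢; omega)
        have e : tt g [] (q :: v') x = (1 * tt g [] v' x * g q.1 ^ q.2 +
            g q.1 ^ q.2 * tt g [] v' x * 1) - tt g v' [q] x := by
          unfold tt
          simp only [ev, ve, mul_add, add_mul, mul_assoc, one_mul, mul_one]
          abel
        rw [e]
        exact A.sub_mem hp h2
    intro u v huv
    match u, v with
    | [], v => exact empt v (by simpa using huv)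
    | u, [] => rw [tt_comm]; exact empt u (by simpa using huv)
    | p :: u, q :: v =>
      exact both p q u v (by simp only [List.length_cons] at huv; omega)

/-! ### The ring of pairs `(f, f*)` -/

/-- Two letters. -/
def letter (a b : R) : Bool → R := fun i => cond i a b

/-- The ring of pairs `(f, f*)`, `f` in the ring generated by `a`, `b`. -/
def SS (a b : R) : Subring (R × Rᵐᵒᵖ) := Subring.closure {(a, op a), (b, op b)}

theorem SS_words {a b : R} {f : R × Rᵐᵒᵖ}
    (hf : f ∈ Submonoid.closure ({(a, op a), (b, op b)} : Set (R × Rᵐᵒᵖ))) :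
    ∃ l, f = (ev (letter a b) l, op (ve (letter a b) l)) := by
  induction hf using Submonoid.closure_induction with
  | mem x hx =>
    rcases hx with rfl | hx
    · exact ⟨[(true, 1)], by simp [ev, ve, letter]⟩
    · rw [Set.mem_singleton_iff] at hx
      subst hx
      exact ⟨[(false, 1)], by simp [ev, ve, letter]⟩
  | one => exact ⟨[], by simp [ev, ve]; rfl⟩
  | mul x y _ _ hx hy =>
    obtain ⟨l, rfl⟩ := hx
    obtain ⟨m, rfl⟩ := hy
    exact ⟨l ++ m, by simp [ev_append, ve_append]⟩

theorem letter_mem {a b : R} (ha : a ∈ A) (hb : b ∈ A) : ∀ i, letter a b i ∈ A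
  | true => ha
  | false => hb

theorem DivSet.SS_tt (h : DivSet A) {a b : R} (ha : a ∈ A) (hb : b ∈ A) {x : R} (hx : x ∈ A)
    {f f2 : R × Rᵐᵒᵖ} (hf : f ∈ SS a b) (hf2 : f2 ∈ SS a b) :
    f.1 * x * f2.2.unop + f2.1 * x * f.2.unop ∈ A := by
  rw [SS, Subring.mem_closure_iff] at hf hf2
  induction hf using AddSubgroup.closure_induction with
  | mem y hy =>
    induction hf2 using AddSubgroup.closure_induction with
    | mem z hz =>
      obtain ⟨l, rfl⟩ := SS_words hy
      obtain ⟨m, rfl⟩ := SS_words hz
      exact h.tt_mem (letter_mem ha hb) hx _ l m le_rfl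
    | zero => simp
    | add z w _ _ hz hw =>
      have e : y.1 * x * (z + w).2.unop + (z + w).1 * x * y.2.unop =
          (y.1 * x * z.2.unop + z.1 * x * y.2.unop) +
          (y.1 * x * w.2.unop + w.1 * x * y.2.unop) := by
        simp only [Prod.snd_add, Prod.fst_add, unop_add]; noncomm_ring
      rw [e]; exact A.add_mem hz hw
    | neg z _ hz =>
      have e : y.1 * x * (-z).2.unop + (-z).1 * x * y.2.unop =
          -(y.1 * x * z.2.unop + z.1 * x * y.2.unop) := by
        simp only [Prod.snd_neg, Prod.fst_neg, unop_neg]; noncomm_ring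
      rw [e]; exact A.neg_mem hz
  | zero => simp
  | add z w _ _ hz hw =>
    have e : (z + w).1 * x * f2.2.unop + f2.1 * x * (z + w).2.unop =
        (z.1 * x * f2.2.unop + f2.1 * x * z.2.unop) +
        (w.1 * x * f2.2.unop + f2.1 * x * w.2.unop) := by
      simp only [Prod.snd_add, Prod.fst_add, unop_add]; noncomm_ring
    rw [e]; exact A.add_mem hz hw
  | neg z _ hz =>
    have e : (-z).1 * x * f2.2.unop + f2.1 * x * (-z).2.unop =
        -(z.1 * x * f2.2.unop + f2.1 * x * z.2.unop) := by
      simp only [Prod.snd_neg, Prod.fst_neg, unop_neg]; noncomm_ring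
    rw [e]; exact A.neg_mem hz

theorem DivSet.uu_words (h : DivSet A) {g : Bool → R} (hg : ∀ i, g i ∈ A) {x : R} (hx : x ∈ A) :
    ∀ l, ev g l * x * ve g l ∈ A
  | [] => by simpa [ev, ve] using hx
  | p :: l => by
    have e : ev g (p :: l) * x * ve g (p :: l) =
        g p.1 ^ p.2 * (ev g l * x * ve g l) * g p.1 ^ p.2 := by
      simp only [ev, ve, mul_assoc]
    rw [e]
    exact h.uop (h.pow_mem (hg _) _) (h.uu_words hg hx l)

theorem DivSet.SS_uu (h : DivSet A) {a b : R} (ha : a ∈ A) (hb : b ∈ A) {x : R} (hx : x ∈ A)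
    {f : R × Rᵐᵒᵖ} (hf : f ∈ SS a b) : f.1 * x * f.2.unop ∈ A := by
  have hf' := hf
  rw [SS, Subring.mem_closure_iff] at hf'
  induction hf' using AddSubgroup.closure_induction with
  | mem y hy =>
    obtain ⟨l, rfl⟩ := SS_words hy
    exact h.uu_words (letter_mem ha hb) hx l
  | zero => simp
  | add z w hz' hw' hz hw =>
    rw [← Subring.mem_closure_iff] at hz' hw'
    have e : (z + w).1 * x * (z + w).2.unop =
        z.1 * x * z.2.unop + w.1 * x * w.2.unop +
        (z.1 * x * w.2.unop + w.1 * x * z.2.unop) := by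
      simp only [Prod.snd_add, Prod.fst_add, unop_add]; noncomm_ring
    rw [e]; exact A.add_mem (A.add_mem (hz hz') (hw hw')) (h.SS_tt ha hb hx hz' hw')
  | neg z hz' hz =>
    rw [← Subring.mem_closure_iff] at hz'
    have e : (-z).1 * x * (-z).2.unop = z.1 * x * z.2.unop := by
      simp only [Prod.snd_neg, Prod.fst_neg, unop_neg]; noncomm_ring
    rw [e]; exact hz hz'

theorem SS_swap {a b : R} {f : R × Rᵐᵒᵖ} (hf : f ∈ SS a b) : (f.2.unop, op f.1) ∈ SS a b := by
  unfold SS at hf
  induction hf using Subring.closure_induction with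
  | mem x hx =>
    rcases hx with rfl | hx
    · exact Subring.subset_closure (by simp)
    · rw [Set.mem_singleton_iff] at hx
      subst hx
      exact Subring.subset_closure (by simp)
  | zero => exact (SS a b).zero_mem
  | one => exact (SS a b).one_mem
  | add x y _ _ hx hy => exact (SS a b).add_mem hx hy
  | neg x _ hx => exact (SS a b).neg_mem hx
  | mul x y _ _ hx hy => exact (SS a b).mul_mem hy hx

theorem SS_fst {a b : R} {r : R} (hr : r ∈ Subring.closure ({a, b} : Set R)) :
    ∃ r', (r, op r') ∈ SS a b := by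
  induction hr using Subring.closure_induction with
  | mem x hx =>
    rcases hx with rfl | hx
    · exact ⟨x, Subring.subset_closure (by simp)⟩
    · rw [Set.mem_singleton_iff] at hx
      subst hx
      exact ⟨x, Subring.subset_closure (by simp)⟩
  | zero => exact ⟨0, (SS a b).zero_mem⟩
  | one => exact ⟨1, (SS a b).one_mem⟩
  | add x y _ _ hx hy =>
    obtain ⟨x', hx⟩ := hx
    obtain ⟨y', hy⟩ := hy
    exact ⟨x' + y', (SS a b).add_mem hx hy⟩
  | neg x _ hx =>
    obtain ⟨x', hx⟩ := hx
    exact ⟨-x', (SS a b).neg_mem hx⟩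
  | mul x y _ _ hx hy =>
    obtain ⟨x', hx⟩ := hx
    obtain ⟨y', hy⟩ := hy
    exact ⟨y' * x', (SS a b).mul_mem hx hy⟩

theorem SS_mem_fst {a b : R} {f : R × Rᵐᵒᵖ} (hf : f ∈ SS a b) :
    f.1 ∈ Subring.closure ({a, b} : Set R) := by
  unfold SS at hf
  induction hf using Subring.closure_induction with
  | mem x hx =>
    rcases hx with rfl | hx
    · exact Subring.subset_closure (by simp)
    · rw [Set.mem_singleton_iff] at hx
      subst hx
      exact Subring.subset_closure (by simp)
  | zero => exact Subring.zero_mem _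
  | one => exact Subring.one_mem _
  | add x y _ _ hx hy => exact Subring.add_mem _ hx hy
  | neg x _ hx => exact Subring.neg_mem _ hx
  | mul x y _ _ hx hy => exact Subring.mul_mem _ hx hy

/-! ### Wedderburn -/

theorem comm_of_units [Finite R] (S : Subring R) (hS : ∀ x ∈ S, x ≠ 0 → IsUnit x) :
    ∀ x ∈ S, ∀ y ∈ S, x * y = y * x := by
  intro x hx y hy
  rcases subsingleton_or_nontrivial R with hR | hR
  · exact Subsingleton.elim _ _
  have : NoZeroDivisors S := by
    constructor
    intro p q hpq
    by_cases hp : p = 0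
    · exact Or.inl hp
    · right
      have hp' : (p : R) ≠ 0 := fun hh => hp (Subtype.ext hh)
      have hpq' : (p : R) * (q : R) = 0 := by
        have := congrArg Subtype.val hpq
        simpa using this
      exact Subtype.ext ((hS p p.2 hp').mul_right_eq_zero.1 hpq')
  have : IsDomain S := NoZeroDivisors.to_isDomain S
  have hF := Finite.isDomain_to_isField S
  have := hF.mul_comm ⟨x, hx⟩ ⟨y, hy⟩
  exact congrArg Subtype.val this

theorem comm_of_idem [Finite R] (e : R) (he : e * e = e) (hne : e ≠ 0)
    (hz : ∀ x y : R, e * x * e ≠ 0 → e * y * e ≠ 0 → (e * x * e) * (e * y * e) ≠ 0)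
    (x y : R) : (e * x * e) * (e * y * e) = (e * y * e) * (e * x * e) := by
  have hi : IsIdempotentElem e := he
  have : NoZeroDivisors hi.Corner := by
    constructor
    rintro ⟨_, x, rfl⟩ ⟨_, y, rfl⟩ hpq
    by_contra hcon
    push Not at hcon
    obtain ⟨h1, h2⟩ := hcon
    refine hz x y ?_ ?_ (congrArg Subtype.val hpq)
    · intro hh; exact h1 (Subtype.ext hh)
    · intro hh; exact h2 (Subtype.ext hh)
  have : Nontrivial hi.Corner :=
    ⟨⟨1, 0, fun hh => hne (congrArg Subtype.val hh)⟩⟩
  have : Finite hi.Corner := Subtype.finite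
  have : IsDomain hi.Corner := NoZeroDivisors.to_isDomain _
  have hF := Finite.isDomain_to_isField hi.Corner
  have := hF.mul_comm ⟨e * x * e, x, rfl⟩ ⟨e * y * e, y, rfl⟩
  exact congrArg Subtype.val this

/-! ### Commutativity -/

theorem isUnit_of_mul [Finite R] {x y : R} (h : x * y = 1) : IsUnit x :=
  ⟨⟨x, y, h, mul_eq_one_symm h⟩, rfl⟩

theorem isUnit_left_of_mul [Finite R] {x y : R} (h : IsUnit (x * y)) : IsUnit x := by
  obtain ⟨u, hu⟩ := h
  exact isUnit_of_mul (y := y * ↑u⁻¹) (by rw [← mul_assoc, ← hu, Units.mul_inv])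

theorem isUnit_right_of_mul [Finite R] {x y : R} (h : IsUnit (x * y)) : IsUnit y := by
  obtain ⟨u, hu⟩ := h
  have : (↑u⁻¹ * x) * y = 1 := by rw [mul_assoc, ← hu, Units.inv_mul]
  exact ⟨⟨y, _, mul_eq_one_symm this, this⟩, rfl⟩

theorem DivSet.nonunit [Finite R] (h : DivSet A) {a b : R} (ha : a ∈ A) (hb : b ∈ A) {x : R}
    (hx : x ∈ A) {f f' : R} (hf : (f, op f') ∈ SS a b) (hn : ¬ IsUnit f) : f * x * f' = 0 := by
  by_contra h0
  have := h.isUnit (h.SS_uu ha hb hx hf) h0
  have h2 : IsUnit (f * (x * f')) := by simpa [mul_assoc] using this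
  exact hn (isUnit_left_of_mul h2)

theorem comm_closure {a b e : R} (hea : e * a = a * e) (heb : e * b = b * e) {r : R}
    (hr : r ∈ Subring.closure ({a, b} : Set R)) : e * r = r * e := by
  induction hr using Subring.closure_induction with
  | mem x hx =>
    rcases hx with rfl | hx
    · exact hea
    · rw [Set.mem_singleton_iff] at hx
      subst hx
      exact heb
  | zero => simp
  | one => simp
  | add x y _ _ hx hy => rw [mul_add, add_mul, hx, hy]
  | neg x _ hx => rw [mul_neg, neg_mul, hx]
  | mul x y _ _ hx hy => rw [← mul_assoc, hx, mul_assoc, hy, mul_assoc]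

theorem DivSet.case_idem [Finite R] (h : DivSet A) {a b : R} (ha : a ∈ A) (hb : b ∈ A)
    {e e' : R} (he : (e, op e') ∈ SS a b) (hsum : e + e' = 1) (hidem : e * e = e)
    (hne : e ≠ 0) (hn : ¬ IsUnit e) (hn' : ¬ IsUnit e') : e * (a * b) = e * (b * a) := by
  have he' : e' = 1 - e := by rw [← hsum]; abel
  have hee' : e * e' = 0 := by rw [he', mul_sub, mul_one, hidem, sub_self]
  have he'e : e' * e = 0 := by rw [he', sub_mul, one_mul, hidem, sub_self]
  have hcomm : ∀ x ∈ A, e * x = x * e := by
    intro x hx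
    have h1 := h.nonunit ha hb hx he hn
    have h2 := h.nonunit ha hb hx (SS_swap he) hn'
    simp only at h1 h2
    calc e * x = e * x * (e + e') := by rw [hsum, mul_one]
      _ = e * x * e := by rw [mul_add, h1, add_zero]
      _ = (e + e') * x * e := by rw [add_mul, add_mul, show e' * x * e = 0 from h2, add_zero]
      _ = x * e := by rw [hsum, one_mul]
  have hcR : ∀ r ∈ Subring.closure ({a, b} : Set R), e * r = r * e :=
    fun r hr => comm_closure (hcomm a ha) (hcomm b hb) hr
  have hcR' : ∀ r ∈ Subring.closure ({a, b} : Set R), e' * r = r * e' := by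
    intro r hr
    rw [he', sub_mul, mul_sub, hcR r hr, one_mul, mul_one]
  have key : ∀ r ∈ Subring.closure ({a, b} : Set R), ∀ s ∈ Subring.closure ({a, b} : Set R),
      r * e ≠ 0 → (r * e) * (s * e) = 0 → s * e = 0 := by
    intro r hr s hs hre h0
    obtain ⟨r', hrr'⟩ := SS_fst hr
    have hp : (r * e, op (e' * r')) ∈ SS a b := (SS a b).mul_mem hrr' he
    have hsumA : r * e + e' * r' ∈ A := by
      have := h.SS_tt ha hb h.one_mem hp (SS a b).one_mem
      simpa using this
    have hr' : r' ∈ Subring.closure ({a, b} : Set R) := SS_mem_fst (SS_swap hrr')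
    have hne2 : r * e + e' * r' ≠ 0 := by
      intro h3
      apply hre
      have h4 : e * (r * e + e' * r') = 0 := by rw [h3, mul_zero]
      rw [mul_add, ← mul_assoc, ← mul_assoc e e' r', hee', zero_mul, add_zero, hcR r hr,
        mul_assoc, hidem] at h4
      exact h4
    have hu := h.isUnit hsumA hne2
    have h5 : (r * e + e' * r') * (s * e) = 0 := by
      rw [add_mul, h0, zero_add, hcR' r' hr']
      rw [mul_assoc r' e' (s * e), ← mul_assoc e' s e, hcR' s hs, mul_assoc s e' e, he'e,
        mul_zero, mul_zero]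
    exact hu.mul_right_eq_zero.1 h5
  -- the corner
  let R0 := Subring.closure ({a, b} : Set R)
  have haR : a ∈ R0 := Subring.subset_closure (by simp)
  have hbR : b ∈ R0 := Subring.subset_closure (by simp)
  have heR : e ∈ R0 := SS_mem_fst he
  have hrw : ∀ r ∈ R0, e * r * e = r * e := fun r hr => by
    rw [hcR r hr, mul_assoc, hidem]
  have hcor := comm_of_idem (R := R0) ⟨e, heR⟩ (Subtype.ext hidem)
    (fun hh => hne (congrArg Subtype.val hh))
    (by
      rintro ⟨x, hx⟩ ⟨y, hy⟩ h1 h2 h3
      have h1' : x * e ≠ 0 := by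
        intro hh; apply h1; apply Subtype.ext
        simpa [hrw x hx] using hh
      have h2' : y * e ≠ 0 := by
        intro hh; apply h2; apply Subtype.ext
        simpa [hrw y hy] using hh
      apply h2'
      apply key x hx y hy h1'
      have := congrArg Subtype.val h3
      simpa [hrw x hx, hrw y hy] using this)
    ⟨a, haR⟩ ⟨b, hbR⟩
  have hcor' : (e * a * e) * (e * b * e) = (e * b * e) * (e * a * e) := congrArg Subtype.val hcor
  rw [hrw a haR, hrw b hbR] at hcor'
  have l1 : a * e * (b * e) = e * (a * b) := by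
    rw [mul_assoc a e, ← mul_assoc e b e, hcR b hbR, mul_assoc b e e, hidem, ← mul_assoc a b e,
      ← hcR (a * b) (R0.mul_mem haR hbR)]
  have l2 : b * e * (a * e) = e * (b * a) := by
    rw [mul_assoc b e, ← mul_assoc e a e, hcR a haR, mul_assoc a e e, hidem, ← mul_assoc b a e,
      ← hcR (b * a) (R0.mul_mem hbR haR)]
  rw [l1, l2] at hcor'
  exact hcor'

/-- In a finite ring units have inverses that are powers. -/
theorem exists_pow_inv [Finite R] {u v : R} (huv : u * v = 1) (hvu : v * u = 1) :
    ∃ n : ℕ, v = u ^ n := by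
  obtain ⟨n, hn, hpow⟩ := (isOfFinOrder_of_finite (⟨u, v, huv, hvu⟩ : Rˣ)).exists_pow_eq_one
  have hpow' : u ^ n = 1 := congrArg Units.val hpow
  refine ⟨n - 1, ?_⟩
  calc v = v * u ^ n := by rw [hpow', mul_one]
    _ = v * (u * u ^ (n - 1)) := by rw [← pow_succ']; congr 2; omega
    _ = u ^ (n - 1) := by rw [← mul_assoc, hvu, one_mul]

theorem DivSet.case_sum [Finite R] (h : DivSet A) {a b : R} (ha : a ∈ A) (hb : b ∈ A)
    {f f' : R} (hf : (f, op f') ∈ SS a b) (hf0 : f ≠ 0) (hn : ¬ IsUnit f) (hn' : ¬ IsUnit f')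
    (hf0' : f' ≠ 0)
    (hsum : f + f' ≠ 0) : a * b = b * a := by
  have huA : f + f' ∈ A := by
    have := h.SS_tt ha hb h.one_mem hf (SS a b).one_mem
    simpa using this
  obtain ⟨v, hvA, huv, hvu⟩ := h.inv _ huA hsum
  have hff' : f * f' = 0 := by
    have := h.nonunit ha hb h.one_mem hf hn
    simpa using this
  have hf'f : f' * f = 0 := by
    have := h.nonunit ha hb h.one_mem (SS_swap hf) hn'
    simpa using this
  have huS : (f + f', op (f + f')) ∈ SS a b := by
    have := (SS a b).add_mem hf (SS_swap hf)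
    have e : ((f, op f') + ((f, op f').2.unop, op (f, op f').1) : R × Rᵐᵒᵖ) =
      (f + f', op (f + f')) := by
      ext1
      · rfl
      · simp [add_comm]
    rw [← e]; exact this
  have hvS : (v, op v) ∈ SS a b := by
    obtain ⟨n, hn⟩ := exists_pow_inv huv hvu
    have := (SS a b).pow_mem huS n
    have e : ((f + f', op (f + f')) ^ n : R × Rᵐᵒᵖ) = (v, op v) := by
      rw [hn]
      ext1 <;> simp
    rw [← e]; exact this
  have hfu : f * (f + f') = f * f := by rw [mul_add, hff', add_zero]
  have huf : (f + f') * f = f * f := by rw [add_mul, hf'f, add_zero]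
  have hvf : v * f = f * v := by
    calc v * f = v * f * ((f + f') * v) := by rw [huv, mul_one]
      _ = v * (f * (f + f')) * v := by simp only [mul_assoc]
      _ = v * ((f + f') * f) * v := by rw [hfu, huf]
      _ = (v * (f + f')) * f * v := by simp only [mul_assoc]
      _ = f * v := by rw [hvu, one_mul]
  have hfu' : f' * (f + f') = f' * f' := by rw [mul_add, hf'f, zero_add]
  have huf' : (f + f') * f' = f' * f' := by rw [add_mul, hff', zero_add]
  have hvf' : v * f' = f' * v := by
    calc v * f' = v * f' * ((f + f') * v) := by rw [huv, mul_one]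
      _ = v * (f' * (f + f')) * v := by simp only [mul_assoc]
      _ = v * ((f + f') * f') * v := by rw [hfu', huf']
      _ = (v * (f + f')) * f' * v := by simp only [mul_assoc]
      _ = f' * v := by rw [hvu, one_mul]
  have heS : (f * v, op (f' * v)) ∈ SS a b := by
    have := (SS a b).mul_mem hf hvS
    rw [← hvf']; exact this
  have hes : f * v + f' * v = 1 := by rw [← add_mul, huv]
  have hv0 : ∀ x, x * v = 0 → x = 0 := fun x hx => by
    calc x = x * (v * (f + f')) := by rw [hvu, mul_one]
      _ = 0 := by rw [← mul_assoc, hx, zero_mul]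
  have hid : f * v * (f * v) = f * v := by
    calc f * v * (f * v) = f * (v * f) * v := by simp only [mul_assoc]
      _ = f * (f * v) * v := by rw [hvf]
      _ = (f * f) * v * v := by simp only [mul_assoc]
      _ = f * ((f + f') * v) * v := by rw [← hfu]; simp only [mul_assoc]
      _ = f * v := by rw [huv, mul_one]
  have hid' : f' * v * (f' * v) = f' * v := by
    calc f' * v * (f' * v) = f' * (v * f') * v := by simp only [mul_assoc]
      _ = f' * (f' * v) * v := by rw [hvf']
      _ = (f' * f') * v * v := by simp only [mul_assoc]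
      _ = f' * ((f + f') * v) * v := by rw [← hfu']; simp only [mul_assoc]
      _ = f' * v := by rw [huv, mul_one]
  have hne : ¬ IsUnit (f * v) := fun hh => hn (isUnit_left_of_mul hh)
  have hne' : ¬ IsUnit (f' * v) := fun hh => hn' (isUnit_left_of_mul hh)
  have c1 := h.case_idem ha hb heS hes hid (fun hh => hf0 (hv0 _ hh)) hne hne'
  have c2 := h.case_idem ha hb (SS_swap heS) (by rw [← hes]; exact add_comm _ _) hid'
    (fun hh => hf0' (hv0 _ hh)) hne' hne
  simp only at c1 c2
  calc a * b = (f * v + f' * v) * (a * b) := by rw [hes, one_mul]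
    _ = f * v * (a * b) + f' * v * (a * b) := add_mul _ _ _
    _ = f * v * (b * a) + f' * v * (b * a) := by rw [c1]; exact congrArg _ c2
    _ = (f * v + f' * v) * (b * a) := (add_mul _ _ _).symm
    _ = b * a := by rw [hes, one_mul]

/-- The characteristic: some prime kills `1`. -/
theorem DivSet.exists_prime [Finite R] [Nontrivial R] (h : DivSet A) :
    ∃ p : ℕ, p.Prime ∧ (p : R) = 0 := by
  have hfin : ∃ n : ℕ, 0 < n ∧ (n : R) = 0 := by
    obtain ⟨n, hn, h0⟩ := (isOfFinAddOrder_of_finite (1 : R)).exists_nsmul_eq_zero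
    exact ⟨n, hn, by simpa [nsmul_eq_mul] using h0⟩
  classical
  let n := Nat.find hfin
  have hn : 0 < n ∧ (n : R) = 0 := Nat.find_spec hfin
  have hmin : ∀ m, m < n → ¬ (0 < m ∧ (m : R) = 0) := fun m hm => Nat.find_min hfin hm
  refine ⟨n, ?_, hn.2⟩
  have hn1 : n ≠ 1 := by
    intro h1
    have := hn.2
    rw [h1, Nat.cast_one] at this
    exact one_ne_zero this
  by_contra hp
  obtain ⟨m, hmd, hm1, hmn⟩ := Nat.exists_dvd_of_not_prime (by omega : 2 ≤ n) hp
  obtain ⟨k, hk⟩ := hmd
  have hm0 : 0 < m := by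
    rcases Nat.eq_zero_or_pos m with h0 | h0
    · subst h0; omega
    · exact h0
  have hk0 : 0 < k := by
    rcases Nat.eq_zero_or_pos k with h0 | h0
    · subst h0; omega
    · exact h0
  have hmlt : m < n := by
    rcases Nat.lt_or_ge m n with h1 | h1
    · exact h1
    · exfalso
      have : m * 1 ≤ m * k := Nat.mul_le_mul_left _ hk0
      apply hmn
      omega
  have hklt : k < n := by
    have hm2 : 2 ≤ m := by omega
    have : 2 * k ≤ m * k := Nat.mul_le_mul_right _ hm2
    omega
  have hcast : ∀ j : ℕ, (j : R) ∈ A := fun j => by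
    have := A.nsmul_mem h.one_mem j
    simpa [nsmul_eq_mul] using this
  have hm' : (m : R) ≠ 0 := fun hh => hmin m hmlt ⟨hm0, hh⟩
  have hk' : (k : R) ≠ 0 := fun hh => hmin k hklt ⟨hk0, hh⟩
  apply hk'
  have hu := h.isUnit (hcast m) hm'
  apply hu.mul_right_eq_zero.1
  rw [← Nat.cast_mul, ← hk]
  exact hn.2

theorem commutator_pow {a b c : R} (hc : a * b - b * a = c) (hac : a * c = c * a) :
    ∀ n : ℕ, a ^ (n + 1) * b - b * a ^ (n + 1) = (n + 1 : ℕ) * (a ^ n * c)
  | 0 => by simp [hc]
  | n + 1 => by
    have ih := commutator_pow hc hac n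
    have hcn : a ^ (n + 1) * c = a * (a ^ n * c) := by rw [pow_succ', mul_assoc]
    calc a ^ (n + 1 + 1) * b - b * a ^ (n + 1 + 1)
        = a * (a ^ (n + 1) * b - b * a ^ (n + 1)) + (a * b - b * a) * a ^ (n + 1) := by
          rw [pow_succ' a (n + 1)]; noncomm_ring
      _ = a * ((n + 1 : ℕ) * (a ^ n * c)) + a ^ (n + 1) * c := by
          rw [ih, hc]
          congr 1
          exact ((Commute.pow_left (show Commute a c from hac) (n + 1)).eq).symm
      _ = (n + 1 + 1 : ℕ) * (a ^ (n + 1) * c) := by
          rw [← mul_assoc a, ← (Nat.cast_commute (n + 1) a).eq, mul_assoc, ← hcn]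
          push_cast
          noncomm_ring

theorem DivSet.comm [Finite R] (h : DivSet A) {a b : R} (ha : a ∈ A) (hb : b ∈ A) :
    a * b = b * a := by
  rcases subsingleton_or_nontrivial R with hR | hR
  · exact Subsingleton.elim _ _
  have haR : a ∈ Subring.closure ({a, b} : Set R) := Subring.subset_closure (by simp)
  have hbR : b ∈ Subring.closure ({a, b} : Set R) := Subring.subset_closure (by simp)
  by_cases hall : ∀ x ∈ Subring.closure ({a, b} : Set R), x ≠ 0 → IsUnit x
  · exact comm_of_units _ hall a haR b hbR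
  -- the involution is well defined
  have hwd : ∀ g, ((0 : R), op g) ∈ SS a b → g = 0 := by
    intro g hg
    by_contra hg0
    apply hall
    have hgA : g ∈ A := by
      have := h.SS_tt ha hb h.one_mem hg (SS a b).one_mem
      simpa using this
    have hgu := h.isUnit hgA hg0
    intro r hr hr0
    obtain ⟨r', hrr'⟩ := SS_fst hr
    have hp : ((0 : R), op (r * g)) ∈ SS a b := by
      have := (SS a b).mul_mem hg (SS_swap hrr')
      have e : (((0 : R), op g) * ((r, op r').2.unop, op (r, op r').1) : R × Rᵐᵒᵖ) =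
        (0, op (r * g)) := by
        ext1
        · simp
        · simp
      rw [← e]; exact this
    have hrgA : r * g ∈ A := by
      have := h.SS_tt ha hb h.one_mem hp (SS a b).one_mem
      simpa using this
    have hrg0 : r * g ≠ 0 := fun hh => hr0 (hgu.mul_left_eq_zero.1 hh)
    exact isUnit_left_of_mul (h.isUnit hrgA hrg0)
  have hwd' : ∀ g, (g, op (0 : R)) ∈ SS a b → g = 0 := fun g hg => hwd g (SS_swap hg)
  -- nonunits
  have hnu' : ∀ f f', (f, op f') ∈ SS a b → f ≠ 0 → ¬ IsUnit f → ¬ IsUnit f' := by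
    intro f f' hf hf0 hn hu
    have := h.nonunit ha hb h.one_mem hf hn
    rw [mul_one] at this
    exact hf0 (hu.mul_left_eq_zero.1 this)
  by_cases hskew : ∀ f f', (f, op f') ∈ SS a b → ¬ IsUnit f → f' = -f
  · -- all nonunits are skew
    have hcen : ∀ f ∈ Subring.closure ({a, b} : Set R), ¬ IsUnit f →
        ∀ r r', (r, op r') ∈ SS a b → f * r = f * r' ∧ f * r = r * f := by
      intro f hf hn
      obtain ⟨f', hff'⟩ := SS_fst hf
      have hf' := hskew f f' hff' hn
      have hstep : ∀ r r', (r, op r') ∈ SS a b → f * r' = r * f := by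
        intro r r' hr
        have hp : (r * f, op (f' * r')) ∈ SS a b := (SS a b).mul_mem hr hff'
        have hnn : ¬ IsUnit (r * f) := fun hh => hn (isUnit_right_of_mul hh)
        have := hskew _ _ hp hnn
        rw [hf', neg_mul] at this
        exact neg_injective this
      have hfa : f * a = a * f := hstep a a (Subring.subset_closure (by simp))
      have hfb : f * b = b * f := hstep b b (Subring.subset_closure (by simp))
      intro r r' hr
      have h1 : f * r = r * f := comm_closure hfa hfb (SS_mem_fst hr)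
      exact ⟨by rw [hstep r r' hr, h1], h1⟩
    push Not at hall
    obtain ⟨f, hf, hf0, hn⟩ := hall
    have haS : (a, op a) ∈ SS a b := Subring.subset_closure (by simp)
    have hbS : (b, op b) ∈ SS a b := Subring.subset_closure (by simp)
    have hab : (a * b, op (b * a)) ∈ SS a b := (SS a b).mul_mem haS hbS
    have hc := (hcen f hf hn _ _ hab).1
    have hcR : a * b - b * a ∈ Subring.closure ({a, b} : Set R) :=
      Subring.sub_mem _ (Subring.mul_mem _ haR hbR) (Subring.mul_mem _ hbR haR)
    have hcn : ¬ IsUnit (a * b - b * a) := by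
      intro hu
      apply hf0
      have : f * (a * b - b * a) = 0 := by rw [mul_sub, hc, sub_self]
      exact hu.mul_left_eq_zero.1 this
    have hac : a * (a * b - b * a) = (a * b - b * a) * a :=
      ((hcen _ hcR hcn a a (Subring.subset_closure (by simp))).2).symm
    -- `a` has order prime to `p`
    by_cases ha0 : a = 0
    · rw [ha0]; simp
    obtain ⟨a', ha'A, haa', ha'a⟩ := h.inv a ha ha0
    obtain ⟨p, hp, hp0⟩ := h.exists_prime
    have : CharP R p := by
      obtain ⟨q, hq⟩ := CharP.exists R
      have hd : q ∣ p := (CharP.cast_eq_zero_iff R q p).1 hp0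
      rcases (Nat.dvd_prime hp).1 hd with h1 | h1
      · exfalso
        subst h1
        have := CharP.cast_eq_zero R 1
        rw [Nat.cast_one] at this
        exact one_ne_zero this
      · rw [← h1]; exact hq
    obtain ⟨m, hm, hpow⟩ :=
      (isOfFinOrder_of_finite (⟨a, a', haa', ha'a⟩ : Rˣ)).exists_pow_eq_one
    have hpow' : a ^ m = 1 := congrArg Units.val hpow
    -- remove the `p`-part
    have hex : ∃ k : ℕ, 0 < k ∧ a ^ k = 1 ∧ ¬ p ∣ k := by
      obtain ⟨e, k, hk, hmk⟩ := Nat.exists_eq_pow_mul_and_not_dvd hm.ne' p hp.ne_one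
      refine ⟨k, ?_, ?_, hk⟩
      · rcases Nat.eq_zero_or_pos k with h0 | h0
        · subst h0; exact absurd (dvd_zero p) hk
        · exact h0
      · have hsub : (a ^ k - 1) ^ (p ^ e) = 0 := by
          have hcomm : Commute (a ^ k) 1 := Commute.one_right _
          have : Fact p.Prime := ⟨hp⟩
          rw [sub_pow_char_pow_of_commute _ _ hcomm, one_pow, ← pow_mul, mul_comm k, ← hmk,
            hpow', sub_self]
        by_contra hne
        have hne' : a ^ k - 1 ≠ 0 := sub_ne_zero.2 hne
        have hu := h.isUnit (A.sub_mem (h.pow_mem ha k) h.one_mem) hne'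
        have := hu.pow (p ^ e)
        rw [hsub] at this
        exact not_isUnit_zero this
    obtain ⟨k, hk0, hk1, hpk⟩ := hex
    obtain ⟨j, rfl⟩ : ∃ j, k = j + 1 := ⟨k - 1, by omega⟩
    have hcp := commutator_pow rfl hac j
    rw [hk1, one_mul, mul_one, sub_self] at hcp
    have hku : IsUnit ((j + 1 : ℕ) : R) := by
      rw [← CharP.isUnit_natCast_iff (R := R) hp] at hpk
      exact hpk
    have h1 : a ^ j * (a * b - b * a) = 0 := hku.mul_right_eq_zero.1 hcp.symm
    have hau : IsUnit (a ^ j) := (h.isUnit ha ha0).pow j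
    exact sub_eq_zero.1 (hau.mul_right_eq_zero.1 h1)
  · push Not at hskew
    obtain ⟨f, f', hff', hn, hne⟩ := hskew
    have hf0 : f ≠ 0 := by
      rintro rfl
      exact hne (by rw [hwd f' hff', neg_zero])
    have hn' := hnu' f f' hff' hf0 hn
    have hf0' : f' ≠ 0 := by
      rintro rfl
      exact hf0 (hwd' f hff')
    exact h.case_sum ha hb hff' hf0 hn hn' hf0' (fun hh => hne (eq_neg_of_add_eq_zero_right hh))

theorem DivSet.mul_mem [Finite R] (h : DivSet A) {a b : R} (ha : a ∈ A) (hb : b ∈ A) :
    a * b ∈ A := by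
  rcases subsingleton_or_nontrivial R with hR | hR
  · rw [Subsingleton.elim (a * b) 0]; exact A.zero_mem
  obtain ⟨p, hp, hp0⟩ := h.exists_prime
  have hcast : ∀ j : ℕ, (j : R) ∈ A := fun j => by
    have := A.nsmul_mem h.one_mem j
    simpa [nsmul_eq_mul] using this
  by_cases h2 : (2 : R) = 0
  · -- every element is a square
    have hinj : Function.Injective (fun x : A => (⟨x.1 ^ 2, h.pow_mem x.2 2⟩ : A)) := by
      rintro ⟨x, hx⟩ ⟨y, hy⟩ hxy
      have hxy' : x ^ 2 = y ^ 2 := congrArg Subtype.val hxy
      apply Subtype.ext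
      by_contra hne
      have hne' : x - y ≠ 0 := sub_ne_zero.2 hne
      have hu := (h.isUnit (A.sub_mem hx hy) hne').pow 2
      have h0 : (x - y) ^ 2 = 0 := by
        have hc := h.comm hx hy
        have e : (x - y) ^ 2 = x ^ 2 - y ^ 2 - 2 * (x * y - y * y) := by
          have : (x - y) ^ 2 = x ^ 2 - x * y - y * x + y ^ 2 := by noncomm_ring
          rw [this, ← hc]; noncomm_ring
        rw [e, hxy', h2]; simp
      rw [h0] at hu
      exact not_isUnit_zero hu
    have hsurj := Finite.surjective_of_injective hinj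
    obtain ⟨⟨c, hc⟩, hcc⟩ := hsurj ⟨a, ha⟩
    have hcc' : c ^ 2 = a := congrArg Subtype.val hcc
    have e : a * b = c * b * c := by
      rw [← hcc', pow_two, mul_assoc, h.comm hc hb, ← mul_assoc, h.comm hc hb]
    rw [e]; exact h.uop hc hb
  · have h2A : (2 : R) ∈ A := by exact_mod_cast hcast 2
    obtain ⟨t, htA, h2t, ht2⟩ := h.inv 2 h2A h2
    have h3 := h.polar ha h.one_mem hb
    have e : a * 1 * b + b * 1 * a = 2 * (a * b) := by
      rw [mul_one, mul_one, ← h.comm ha hb, two_mul]
    rw [e] at h3
    -- `t` is a multiple of `1`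
    obtain ⟨k, hk⟩ := exists_pow_inv h2t ht2
    have ht : t = ((2 ^ k : ℕ) : R) := by rw [hk]; push_cast; rfl
    have e2 : a * b = (2 ^ k : ℕ) • (2 * (a * b)) := by
      rw [nsmul_eq_mul, ← ht, ← mul_assoc, ht2, one_mul]
    rw [e2]; exact A.nsmul_mem h3 _

/-- The subring. -/
def DivSet.subring [Finite R] (h : DivSet A) : Subring R :=
  { A with
    one_mem' := h.one_mem
    mul_mem' := fun ha hb => h.mul_mem ha hb }

theorem DivSet.mem_subring [Finite R] (h : DivSet A) {x : R} : x ∈ h.subring ↔ x ∈ A := Iff.rfl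

/-- The field. -/
@[reducible]
noncomputable def DivSet.field [Finite R] [Nontrivial R] (h : DivSet A) : Field h.subring :=
  { (inferInstance : Ring h.subring) with
    mul_comm := fun x y => Subtype.ext (h.comm x.2 y.2)
    inv := fun x => ⟨Ring.inverse x.1, by
      by_cases hx : x.1 = 0
      · rw [hx, Ring.inverse_zero]; exact h.subring.zero_mem
      · obtain ⟨b, hb, h1, h2⟩ := h.inv x.1 x.2 hx
        have : Ring.inverse x.1 = b := by
          have hu : IsUnit x.1 := ⟨⟨x.1, b, h1, h2⟩, rfl⟩
          have := Ring.mul_inverse_cancel x.1 hu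
          calc Ring.inverse x.1 = (b * x.1) * Ring.inverse x.1 := by rw [h2, one_mul]
            _ = b := by rw [mul_assoc, this, mul_one]
        rw [this]; exact hb⟩
    exists_pair_ne := ⟨0, 1, fun hh => zero_ne_one (congrArg Subtype.val hh)⟩
    mul_inv_cancel := fun x hx => Subtype.ext (Ring.mul_inverse_cancel x.1
      (h.isUnit x.2 (fun hh => hx (Subtype.ext hh))))
    inv_zero := Subtype.ext (Ring.inverse_zero _)
    nnqsmul := _
    nnqsmul_def := fun _ _ => rfl
    qsmul := _
    qsmul_def := fun _ _ => rfl }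

end Cfsg.Agent.TitsThree.FieldSet
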