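import Mathlib
import Cfsg.Agent.AGraded.Coord
import Cfsg.Agent.TitsThree.FieldSet

/-!
# Additive sets of operators and finite fields

`A`, `A'` additive subgroups of `End W`, `W` finite, `1 ∈ A`, `A` transitive on the nonzero vectors, the nonzero
elements of `A'` are the inverses of the nonzero elements of `A`: then `A = A'` is a field and `W` has dimension one.
-/

set_option autoImplicit false
set_option linter.style.haveILetI false

namespace Cfsg.Agent.TitsThree.OpField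

universe u

theorem exists_inv {R : Type u} [Ring R] (A A' : AddSubgroup R) (h1 : (1 : R) ∈ A)
    (hinv : ∀ a ∈ A, a ≠ 0 → ∃ b ∈ A', a * b = 1 ∧ b * a = 1)
    (hinv' : ∀ b ∈ A', b ≠ 0 → ∃ a ∈ A, a * b = 1 ∧ b * a = 1) (a : R) (ha : a ∈ A) (ha0 : a ≠ 0) :
    ∃ b ∈ A, a * b = 1 ∧ b * a = 1 := by
  by_cases ha1 : a = 1
  · exact ⟨1, h1, by rw [ha1, mul_one], by rw [ha1, mul_one]⟩
  have hd0 : a - 1 ≠ 0 := sub_ne_zero.2 ha1
  have hdA : a - 1 ∈ A := A.sub_mem ha h1
  obtain ⟨c, hc, hc1, hc2⟩ := hinv _ hdA hd0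
  obtain ⟨d, hd, hd1, hd2⟩ := hinv a ha ha0
  have h10 : (1 : R) ≠ 0 := by
    intro h
    apply ha0
    rw [← mul_one a, h, mul_zero]
  obtain ⟨e, he, he1, he2⟩ := hinv 1 h1 h10
  have h1' : (1 : R) ∈ A' := by
    rw [one_mul] at he1
    rw [← he1]; exact he
  -- 1 + (a-1)⁻¹ = (a-1)⁻¹ a
  have h2 : 1 + c = c * a := by
    have : a = (a - 1) + 1 := by abel
    rw [this, mul_add, hc2, mul_one]
  have h3 : (1 + c) * (d * (a - 1)) = 1 := by
    rw [h2]
    have : c * a * (d * (a - 1)) = c * ((a * d) * (a - 1)) := by noncomm_ring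
    rw [this, hd1, one_mul, hc2]
  have h4 : 1 + c ≠ 0 := by
    intro h
    rw [h, zero_mul] at h3
    exact h10 h3.symm
  obtain ⟨f, hf, hf1, hf2⟩ := hinv' _ (A'.add_mem h1' hc) h4
  have h5 : f = d * (a - 1) := by
    calc f = f * ((1 + c) * (d * (a - 1))) := by rw [h3, mul_one]
      _ = (f * (1 + c)) * (d * (a - 1)) := by noncomm_ring
      _ = d * (a - 1) := by rw [hf1, one_mul]
  have h6 : d = 1 - f := by
    rw [h5, mul_sub, hd2, mul_one]
    abel
  exact ⟨d, by rw [h6]; exact A.sub_mem h1 hf, hd1, hd2⟩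

variable {W : Type u} [AddCommGroup W] [Finite W]

theorem exists_field (A A' : AddSubgroup (AddMonoid.End W)) (h1 : (1 : AddMonoid.End W) ∈ A) (hW : ∃ w : W, w ≠ 0)
    (hreg : ∀ w w' : W, w ≠ 0 → ∃ a ∈ A, a w = w')
    (hinv : ∀ a ∈ A, a ≠ 0 → ∃ b ∈ A', a * b = 1 ∧ b * a = 1)
    (hinv' : ∀ b ∈ A', b ≠ 0 → ∃ a ∈ A, a * b = 1 ∧ b * a = 1) :
    ∃ (F : Type) (_ : Field F) (_ : Fintype F) (ρ : F →+* AddMonoid.End W),
      (∀ a, a ∈ A ↔ ∃ s, ρ s = a) ∧ (∀ a, a ∈ A' ↔ ∃ s, ρ s = a) ∧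
      ∀ w : W, w ≠ 0 → Function.Bijective (fun s => ρ s w) := by
  classical
  have hfin : Finite (AddMonoid.End W) := DFunLike.finite (W →+ W)
  have hA := exists_inv A A' h1 hinv hinv'
  have hD : FieldSet.DivSet A := ⟨h1, hA⟩
  have hmul : ∀ a ∈ A, ∀ b ∈ A, a * b ∈ A := fun a ha b hb => hD.mul_mem ha hb
  have hcomm : ∀ a ∈ A, ∀ b ∈ A, a * b = b * a := fun a ha b hb => hD.comm ha hb
  obtain ⟨w0, hw0⟩ := hW
  have h10 : (1 : AddMonoid.End W) ≠ 0 := by
    intro h
    apply hw0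
    have : (1 : AddMonoid.End W) w0 = (0 : AddMonoid.End W) w0 := by rw [h]
    exact this
  haveI : Nontrivial (AddMonoid.End W) := ⟨⟨1, 0, h10⟩⟩
  let S : Subring (AddMonoid.End W) :=
    { A with
      mul_mem' := fun {a b} ha hb => hmul a ha b hb
      one_mem' := h1 }
  have hS : ∀ a, a ∈ S ↔ a ∈ A := fun a => Iff.rfl
  letI : CommRing S := { (inferInstance : Ring S) with
    mul_comm := fun a b => Subtype.ext (hcomm a.1 a.2 b.1 b.2) }
  have hfield : IsField S :=
    { exists_pair_ne := ⟨0, 1, fun h => h10 (congrArg Subtype.val h).symm⟩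
      mul_comm := mul_comm
      mul_inv_cancel := fun {a} ha => by
        obtain ⟨b, hb, hb1, -⟩ := hA a.1 a.2 (fun h => ha (Subtype.ext h))
        exact ⟨⟨b, hb⟩, Subtype.ext hb1⟩ }
  letI : Field S := hfield.toField
  have hfS : Finite S := Subtype.finite
  obtain ⟨F, _, _, ⟨E⟩⟩ := AGraded.exists_type_field S
  let ρ : F →+* AddMonoid.End W := S.subtype.comp E.toRingHom
  have hρA : ∀ a, a ∈ A ↔ ∃ s, ρ s = a := by
    intro a
    constructor
    · intro ha
      exact ⟨E.symm ⟨a, ha⟩, by simp [ρ]⟩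
    · rintro ⟨s, rfl⟩
      exact (E s).2
  have hρ0 : ∀ s, ρ s = 0 → s = 0 := fun s hs => by
    have : Function.Injective ρ := ρ.injective
    apply this
    rw [hs, map_zero]
  refine ⟨F, inferInstance, inferInstance, ρ, hρA, ?_, ?_⟩
  · intro b
    constructor
    · intro hb
      by_cases hb0 : b = 0
      · exact ⟨0, by rw [map_zero, hb0]⟩
      obtain ⟨a, ha, h1, h2⟩ := hinv' b hb hb0
      obtain ⟨c, hc, h3, h4⟩ := hA a ha (by
        rintro rfl
        rw [zero_mul] at h1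
        exact h10 h1.symm)
      have : b = c := by
        calc b = (c * a) * b := by rw [h4, one_mul]
          _ = c * (a * b) := mul_assoc _ _ _
          _ = c := by rw [h1, mul_one]
      rw [this]
      exact (hρA c).1 hc
    · rintro ⟨s, rfl⟩
      by_cases hs : s = 0
      · rw [hs, map_zero]
        exact A'.zero_mem
      have hs' : ρ s⁻¹ ∈ A := (hρA _).2 ⟨_, rfl⟩
      obtain ⟨b, hb, h1, h2⟩ := hinv _ hs' (fun h => (inv_ne_zero hs) (hρ0 _ h))
      have : ρ s = b := by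
        calc ρ s = ρ s * (ρ s⁻¹ * b) := by rw [h1, mul_one]
          _ = (ρ s * ρ s⁻¹) * b := (mul_assoc _ _ _).symm
          _ = b := by rw [← map_mul, mul_inv_cancel₀ hs, map_one, one_mul]
      rw [this]
      exact hb
  · intro w hw
    refine ⟨?_, ?_⟩
    · intro s t hst
      have h0 : ρ (s - t) w = 0 := by
        rw [map_sub]
        exact sub_eq_zero.2 hst
      by_contra hne
      have hd : s - t ≠ 0 := sub_ne_zero.2 hne
      apply hw
      have : (ρ ((s - t)⁻¹ * (s - t))) w = 0 := by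
        rw [map_mul]
        show ρ (s - t)⁻¹ (ρ (s - t) w) = 0
        rw [h0, map_zero]
      rw [inv_mul_cancel₀ hd, map_one] at this
      exact this
    · intro w'
      obtain ⟨a, ha, haw⟩ := hreg w w' hw
      obtain ⟨s, hs⟩ := (hρA a).1 ha
      exact ⟨s, by simp only [hs, haw]⟩

end Cfsg.Agent.TitsThree.OpField
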