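import Mathlib
import Cfsg.Agent.TitsThree.OpField

/-!
# Spreads with shears

`V` a finite abelian group with a family `S` of subgroups covering it, pairwise complementary, such that the shears with
axis `S i0` are transitive on the other members, and the shears with axis `S i1` too.  Then `V ≃ F × F` for a field `F`,
the members being the lines through `0`.
-/

set_option autoImplicit false
set_option linter.style.haveILetI false

namespace Cfsg.Agent.TitsThree.SpreadField

universe u v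

variable {V : Type u} [AddCommGroup V] {ι : Type v}

/-- a spread -/
structure Spread (S : ι → AddSubgroup V) : Prop where
  inf : ∀ i j, i ≠ j → ∀ v, v ∈ S i → v ∈ S j → v = 0
  sup : ∀ i j, i ≠ j → ∀ v, ∃ a ∈ S i, ∃ b ∈ S j, v = a + b
  cov : ∀ v, ∃ i, v ∈ S i
  ne : ∀ i, ∃ v ∈ S i, v ≠ 0

/-- `g` is a shear with axis `S i` -/
structure Shear (S : ι → AddSubgroup V) (i : ι) (g : V ≃+ V) : Prop where
  fix : ∀ v ∈ S i, g v = v
  mem : ∀ v, g v - v ∈ S i
  perm : ∀ k, ∃ k', ∀ v, v ∈ S k → g v ∈ S k'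

/-- transitivity of the shears with axis `S i` -/
def Trans (S : ι → AddSubgroup V) (i j : ι) : Prop :=
  ∀ k, k ≠ i → ∃ g : V ≃+ V, Shear S i g ∧ ∀ v ∈ S j, g v ∈ S k

variable {S : ι → AddSubgroup V}

theorem Shear.one (i : ι) : Shear S i (AddEquiv.refl V) where
  fix v hv := rfl
  mem v := by
    show v - v ∈ S i
    rw [sub_self]
    exact (S i).zero_mem
  perm k := ⟨k, fun v hv => hv⟩

theorem Shear.comp {i : ι} {g h : V ≃+ V} (hg : Shear S i g) (hh : Shear S i h) : Shear S i (h.trans g) where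
  fix v hv := by
    show g (h v) = v
    rw [hh.fix v hv, hg.fix v hv]
  mem v := by
    show g (h v) - v ∈ S i
    have : g (h v) - v = (g (h v) - h v) + (h v - v) := by abel
    rw [this]
    exact (S i).add_mem (hg.mem _) (hh.mem _)
  perm k := by
    obtain ⟨k1, h1⟩ := hh.perm k
    obtain ⟨k2, h2⟩ := hg.perm k1
    exact ⟨k2, fun v hv => h2 _ (h1 _ hv)⟩

/-- the operator `v ↦ g v - v` from `S j` to `S i` -/
def Shear.toHom {i : ι} {g : V ≃+ V} (hg : Shear S i g) (j : ι) : S j →+ S i where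
  toFun v := ⟨g v - v, hg.mem v⟩
  map_zero' := by
    apply Subtype.ext
    simp
  map_add' v w := by
    apply Subtype.ext
    simp only [AddSubgroup.coe_add, map_add]
    abel

theorem Shear.toHom_coe {i : ι} {g : V ≃+ V} (hg : Shear S i g) (j : ι) (v : S j) :
    ((hg.toHom j v : S i) : V) = g v - v := rfl

theorem ne_of_map (hS : Spread S) {i j c : ι} (hij : i ≠ j) {g : V ≃+ V} (hg : Shear S i g)
    (h : ∀ v ∈ S j, g v ∈ S c) : c ≠ i := by
  rintro rfl
  obtain ⟨v, hv, hv0⟩ := hS.ne j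
  have h1 := h v hv
  have h2 := hg.fix _ h1
  have h3 : g v = v := g.injective h2
  rw [h3] at h1
  exact hv0 (hS.inf _ _ hij v h1 hv)

/-- the two operators are inverse to each other -/
theorem key (hS : Spread S) {i j c : ι} (hci : c ≠ i) (hcj : c ≠ j) {g h : V ≃+ V} (hg : Shear S i g)
    (hh : Shear S j h) (h1 : ∀ v ∈ S j, g v ∈ S c) (h2 : ∀ v ∈ S i, h v ∈ S c) :
    (∀ w : S i, hg.toHom j (hh.toHom i w) = w) ∧ (∀ v : S j, hh.toHom i (hg.toHom j v) = v) := by
  have aux : ∀ (w : S i) (v : S j), ((w : V) + v ∈ S c) → hh.toHom i w = v ∧ hg.toHom j v = w := by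
    intro w v hwv
    constructor
    · apply Subtype.ext
      rw [hh.toHom_coe]
      have h3 : h w - w - v ∈ S j := (S j).sub_mem (hh.mem _) v.2
      have h4 : h w - w - v ∈ S c := by
        have : h w - w - v = h w - (w + v) := by abel
        rw [this]
        exact (S c).sub_mem (h2 _ w.2) hwv
      exact sub_eq_zero.1 (hS.inf _ _ hcj _ h4 h3)
    · apply Subtype.ext
      rw [hg.toHom_coe]
      have h3 : g v - v - w ∈ S i := (S i).sub_mem (hg.mem _) w.2
      have h4 : g v - v - w ∈ S c := by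
        have : g v - v - w = g v - (w + v) := by abel
        rw [this]
        exact (S c).sub_mem (h1 _ v.2) hwv
      exact sub_eq_zero.1 (hS.inf _ _ hci _ h4 h3)
  constructor
  · intro w
    refine (aux w (hh.toHom i w) ?_).2
    rw [hh.toHom_coe, add_sub_cancel]
    exact h2 _ w.2
  · intro v
    refine (aux (hg.toHom j v) v ?_).1
    rw [hg.toHom_coe, sub_add_cancel]
    exact h1 _ v.2

/-- an additive submonoid of a finite group -/
def ofSub {R : Type u} [AddCommGroup R] [Finite R] (p : R → Prop) (h0 : p 0) (hadd : ∀ a b, p a → p b → p (a + b)) :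
    AddSubgroup R where
  carrier := {a | p a}
  zero_mem' := h0
  add_mem' := fun {a b} ha hb => hadd a b ha hb
  neg_mem' := by
    intro a ha
    have h1 : ∀ n : ℕ, p (n • a) := by
      intro n
      induction n with
      | zero => rw [zero_smul]; exact h0
      | succ n ih => rw [succ_nsmul]; exact hadd _ _ ih ha
    have h2 : (addOrderOf a - 1) • a = -a := by
      have h3 : 0 < addOrderOf a := addOrderOf_pos a
      have h4 : (addOrderOf a - 1) • a + a = 0 := by
        rw [← succ_nsmul]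
        have : addOrderOf a - 1 + 1 = addOrderOf a := by omega
        rw [this]
        exact addOrderOf_nsmul_eq_zero a
      exact eq_neg_of_add_eq_zero_left h4
    show p (-a)
    rw [← h2]
    exact h1 _

theorem mem_ofSub {R : Type u} [AddCommGroup R] [Finite R] {p : R → Prop} (h0 : p 0)
    (hadd : ∀ a b, p a → p b → p (a + b)) (a : R) : a ∈ ofSub p h0 hadd ↔ p a := Iff.rfl

theorem exists_field [Finite V] (hS : Spread S) (i0 i1 i2 : ι) (h01 : i0 ≠ i1) (h20 : i2 ≠ i0) (h21 : i2 ≠ i1)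
    (hT0 : Trans S i0 i1) (hT1 : Trans S i1 i0) :
    ∃ (F : Type) (_ : Field F) (_ : Fintype F) (φ : V ≃+ F × F),
      ∀ i, ∃ d : F × F, d ≠ 0 ∧ ∀ v, v ∈ S i ↔ ∃ a : F, φ v = (a * d.1, a * d.2) := by
  classical
  obtain ⟨g2, hg2, hg2'⟩ := hT0 i2 h20
  -- the identification
  have hθbij : Function.Bijective (hg2.toHom i1) := by
    constructor
    · rw [injective_iff_map_eq_zero]
      intro v hv
      have h1 : g2 v = v := by
        have := congrArg Subtype.val hv
        rw [hg2.toHom_coe] at this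
        exact sub_eq_zero.1 this
      have h2 := hg2' v v.2
      rw [h1] at h2
      exact Subtype.ext (hS.inf _ _ h21 _ h2 v.2)
    · intro w
      obtain ⟨a, ha, b, hb, hab⟩ := hS.sup i1 i2 h21.symm w
      refine ⟨⟨-a, (S i1).neg_mem ha⟩, ?_⟩
      apply Subtype.ext
      rw [hg2.toHom_coe]
      have h1 : g2 (-a) - (-a) - w ∈ S i0 := (S i0).sub_mem (hg2.mem _) w.2
      have h2 : g2 (-a) - (-a) - w ∈ S i2 := by
        have : g2 (-a) - (-a) - w = g2 (-a) - b := by rw [hab]; abel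
        rw [this]
        exact (S i2).sub_mem (hg2' _ ((S i1).neg_mem ha)) hb
      exact sub_eq_zero.1 (hS.inf _ _ h20 _ h2 h1)
  let θ : S i1 ≃+ S i0 := AddEquiv.ofBijective (hg2.toHom i1) hθbij
  have hθ : ∀ v, θ v = hg2.toHom i1 v := fun v => rfl
  have hfin : Finite (AddMonoid.End (S i0)) := DFunLike.finite (S i0 →+ S i0)
  -- the two additive sets
  let pA : AddMonoid.End (S i0) → Prop := fun a => ∃ (g : V ≃+ V) (hg : Shear S i0 g),
    ∀ v : S i1, a (θ v) = hg.toHom i1 v
  let pB : AddMonoid.End (S i0) → Prop := fun b => ∃ (h : V ≃+ V) (hh : Shear S i1 h),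
    ∀ w : S i0, b w = θ (hh.toHom i0 w)
  have hadd : ∀ {i j : ι} {g h : V ≃+ V} (hg : Shear S i g) (hh : Shear S i h) (v : S j),
      (hg.comp hh).toHom j v = hg.toHom j v + hh.toHom j v := by
    intro i j g h hg hh v
    apply Subtype.ext
    rw [AddSubgroup.coe_add, Shear.toHom_coe, Shear.toHom_coe, Shear.toHom_coe]
    show g (h v) - v = _
    have h1 : h v = v + (h v - v) := by abel
    have h2 : g (h v - v) = h v - v := hg.fix _ (hh.mem v)
    have h3 : g (h v) = g v + (h v - v) := by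
      conv_lhs => rw [h1]
      rw [map_add, h2]
    rw [h3]
    abel
  have hrefl : ∀ {i j : ι} (v : S j), (Shear.one (S := S) i).toHom j v = 0 := by
    intro i j v
    apply Subtype.ext
    rw [Shear.toHom_coe]
    show (v : V) - v = 0
    exact sub_self _
  let A : AddSubgroup (AddMonoid.End (S i0)) := ofSub pA
    ⟨_, Shear.one i0, fun v => by
      rw [hrefl]
      rfl⟩
    (fun a b => by
      rintro ⟨g, hg, ha⟩ ⟨h, hh, hb⟩
      exact ⟨_, hg.comp hh, fun v => by
        rw [hadd hg hh, ← ha, ← hb]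
        rfl⟩)
  let B : AddSubgroup (AddMonoid.End (S i0)) := ofSub pB
    ⟨_, Shear.one i1, fun v => by
      rw [hrefl, map_zero]
      rfl⟩
    (fun a b => by
      rintro ⟨g, hg, ha⟩ ⟨h, hh, hb⟩
      exact ⟨_, hg.comp hh, fun v => by
        rw [hadd hg hh, map_add, ← ha, ← hb]
        rfl⟩)
  have hA : ∀ a, a ∈ A ↔ pA a := fun a => Iff.rfl
  have hB : ∀ a, a ∈ B ↔ pB a := fun a => Iff.rfl
  -- operator of a shear
  have opA : ∀ {g : V ≃+ V} (hg : Shear S i0 g), ∃ a ∈ A, ∀ v : S i1, a (θ v) = hg.toHom i1 v := by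
    intro g hg
    have h1 : ∀ v : S i1, ((hg.toHom i1).comp θ.symm.toAddMonoidHom) (θ v) = hg.toHom i1 v := by
      intro v
      simp
    exact ⟨(hg.toHom i1).comp θ.symm.toAddMonoidHom, ⟨g, hg, h1⟩, h1⟩
  have opB : ∀ {h : V ≃+ V} (hh : Shear S i1 h), ∃ b ∈ B, ∀ w : S i0, b w = θ (hh.toHom i0 w) := by
    intro h hh
    have h1 : ∀ w : S i0, (θ.toAddMonoidHom.comp (hh.toHom i0)) w = θ (hh.toHom i0 w) := by
      intro v
      simp
    exact ⟨θ.toAddMonoidHom.comp (hh.toHom i0), ⟨h, hh, h1⟩, h1⟩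
  have hkey : ∀ {c : ι} (a b : AddMonoid.End (S i0)), c ≠ i0 → c ≠ i1 → ∀ {g h : V ≃+ V} (hg : Shear S i0 g)
      (hh : Shear S i1 h), (∀ v ∈ S i1, g v ∈ S c) → (∀ v ∈ S i0, h v ∈ S c) →
      (∀ v : S i1, a (θ v) = hg.toHom i1 v) → (∀ w : S i0, b w = θ (hh.toHom i0 w)) → a * b = 1 ∧ b * a = 1 := by
    intro c a b hc0 hc1 g h hg hh h1 h2 ha hb
    obtain ⟨k1, k2⟩ := key hS hc0 hc1 hg hh h1 h2
    constructor
    · ext w
      show ((a (b w) : S i0) : V) = w
      rw [hb, ha, k1]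
    · ext w
      show ((b (a w) : S i0) : V) = w
      obtain ⟨v, rfl⟩ := θ.surjective w
      rw [ha, hb, k2]
  obtain ⟨w1, hw1, hw10⟩ := hS.ne i0
  obtain ⟨F, _, _, ρ, hρA, -, hρ⟩ := OpField.exists_field A B
    ⟨g2, hg2, fun v => rfl⟩ ⟨⟨w1, hw1⟩, fun h => hw10 (congrArg Subtype.val h)⟩
    (by
      intro w w' hw
      obtain ⟨v, rfl⟩ := θ.surjective w
      have hv : v ≠ 0 := by
        rintro rfl
        exact hw (map_zero _)
      obtain ⟨c, hc⟩ := hS.cov ((v : V) + w')
      have hc0 : c ≠ i0 := by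
        rintro rfl
        apply hv
        have : (v : V) ∈ S c := by
          have h := (S c).sub_mem hc w'.2
          rwa [add_sub_cancel_right] at h
        exact Subtype.ext (hS.inf _ _ h01 _ this v.2)
      obtain ⟨g, hg, hg'⟩ := hT0 c hc0
      obtain ⟨a, ha, hag⟩ := opA hg
      refine ⟨a, ha, ?_⟩
      rw [hag]
      apply Subtype.ext
      rw [Shear.toHom_coe]
      have h1 : g v - v - w' ∈ S i0 := (S i0).sub_mem (hg.mem _) w'.2
      have h2 : g v - v - w' ∈ S c := by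
        have : g v - v - w' = g v - (v + w') := by abel
        rw [this]
        exact (S c).sub_mem (hg' _ v.2) hc
      exact sub_eq_zero.1 (hS.inf _ _ hc0 _ h2 h1))
    (by
      rintro a ⟨g, hg, ha⟩ ha0
      obtain ⟨c, hc⟩ := hg.perm i1
      have hc0 : c ≠ i0 := ne_of_map hS h01 hg hc
      have hc1 : c ≠ i1 := by
        rintro rfl
        apply ha0
        ext w
        obtain ⟨v, rfl⟩ := θ.surjective w
        rw [ha, Shear.toHom_coe]
        exact hS.inf _ _ h01 _ (hg.mem _) ((S c).sub_mem (hc _ v.2) v.2)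
      obtain ⟨h, hh, hh'⟩ := hT1 c hc1
      obtain ⟨b, hb, hbh⟩ := opB hh
      exact ⟨b, hb, hkey a b hc0 hc1 hg hh hc hh' ha hbh⟩)
    (by
      rintro b ⟨h, hh, hb⟩ hb0
      obtain ⟨c, hc⟩ := hh.perm i0
      have hc1 : c ≠ i1 := ne_of_map hS h01.symm hh hc
      have hc0 : c ≠ i0 := by
        rintro rfl
        apply hb0
        ext w
        rw [hb]
        have : hh.toHom c w = 0 := by
          apply Subtype.ext
          rw [Shear.toHom_coe]
          exact hS.inf _ _ h01 _ ((S c).sub_mem (hc _ w.2) w.2) (hh.mem _)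
        rw [this, map_zero]
        rfl
      obtain ⟨g, hg, hg'⟩ := hT0 c hc0
      obtain ⟨a, ha, hag⟩ := opA hg
      exact ⟨a, ha, hkey a b hc0 hc1 hg hh hg' hc hag hb⟩)
  let w0 : S i0 := ⟨w1, hw1⟩
  have hw0 : w0 ≠ 0 := fun h => hw10 (congrArg Subtype.val h)
  have hρ0 := hρ w0 hw0
  let ψ : F × F →+ V :=
    { toFun := fun p => (θ.symm (ρ p.1 w0) : V) + (ρ p.2 w0 : V)
      map_zero' := by
        simp
      map_add' := by
        intro p q
        have h1 : ρ (p.1 + q.1) w0 = ρ p.1 w0 + ρ q.1 w0 := by rw [map_add]; rfl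
        have h2 : ρ (p.2 + q.2) w0 = ρ p.2 w0 + ρ q.2 w0 := by rw [map_add]; rfl
        show ((θ.symm (ρ (p.1 + q.1) w0) : S i1) : V) + (ρ (p.2 + q.2) w0 : V) = _
        rw [h1, h2, map_add θ.symm, AddSubgroup.coe_add, AddSubgroup.coe_add]
        abel }
  have hψ : ∀ p, ψ p = (θ.symm (ρ p.1 w0) : V) + (ρ p.2 w0 : V) := fun p => rfl
  have hz : ∀ s, ρ s w0 = 0 → s = 0 := by
    intro s hs
    apply hρ0.1
    show ρ s w0 = ρ 0 w0
    rw [hs, map_zero]
    rfl
  have hψbij : Function.Bijective ψ := by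
    constructor
    · rw [injective_iff_map_eq_zero]
      intro p hp
      rw [hψ] at hp
      have h1 : ((θ.symm (ρ p.1 w0) : S i1) : V) = - (ρ p.2 w0 : V) := eq_neg_of_add_eq_zero_left hp
      have h2 : ((θ.symm (ρ p.1 w0) : S i1) : V) = 0 := by
        refine hS.inf _ _ h01 _ ?_ (θ.symm (ρ p.1 w0)).2
        rw [h1]
        exact (S i0).neg_mem (ρ p.2 w0).2
      have h3 : ρ p.1 w0 = 0 := by
        have : θ.symm (ρ p.1 w0) = 0 := Subtype.ext h2
        exact (map_eq_zero_iff _ θ.symm.injective).1 this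
      have h4 : ρ p.2 w0 = 0 := by
        apply Subtype.ext
        rw [h2, zero_add] at hp
        exact hp
      exact Prod.ext (hz _ h3) (hz _ h4)
    · intro v
      obtain ⟨a, ha, b, hb, rfl⟩ := hS.sup i1 i0 h01.symm v
      obtain ⟨x, hx⟩ := hρ0.2 (θ ⟨a, ha⟩)
      obtain ⟨y, hy⟩ := hρ0.2 ⟨b, hb⟩
      refine ⟨(x, y), ?_⟩
      rw [hψ]
      have hx' : ρ x w0 = θ ⟨a, ha⟩ := hx
      have hy' : ρ y w0 = ⟨b, hb⟩ := hy
      simp only [hx', hy', AddEquiv.symm_apply_apply]
  let Ψ : F × F ≃+ V := AddEquiv.ofBijective ψ hψbij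
  have hΨ : ∀ p, Ψ p = (θ.symm (ρ p.1 w0) : V) + (ρ p.2 w0 : V) := fun p => rfl
  refine ⟨F, inferInstance, inferInstance, Ψ.symm, ?_⟩
  intro i
  by_cases hi : i = i0
  · subst hi
    refine ⟨(0, 1), fun h => one_ne_zero (congrArg Prod.snd h), ?_⟩
    intro v
    obtain ⟨p, rfl⟩ := Ψ.surjective v
    rw [AddEquiv.symm_apply_apply]
    constructor
    · intro hv
      rw [hΨ] at hv
      have h1 : ((θ.symm (ρ p.1 w0) : S i1) : V) ∈ S i := by
        have := (S i).sub_mem hv (ρ p.2 w0).2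
        rwa [add_sub_cancel_right] at this
      have h2 := hS.inf _ _ h01 _ h1 (θ.symm (ρ p.1 w0)).2
      have h3 : ρ p.1 w0 = 0 := by
        have : θ.symm (ρ p.1 w0) = 0 := Subtype.ext h2
        exact (map_eq_zero_iff _ θ.symm.injective).1 this
      refine ⟨p.2, ?_⟩
      apply Prod.ext
      · rw [hz _ h3, mul_zero]
      · rw [mul_one]
    · rintro ⟨a, ha⟩
      rw [ha, hΨ]
      have : ρ (a * 0) w0 = 0 := by
        rw [mul_zero, map_zero]
        rfl
      simp only [this, map_zero, AddSubgroup.coe_zero, zero_add]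
      exact (ρ (a * 1) w0).2
  · obtain ⟨g, hg, hg'⟩ := hT0 i hi
    obtain ⟨a, ha, hag⟩ := opA hg
    obtain ⟨s, rfl⟩ := (hρA a).1 ha
    refine ⟨(1, s), fun h => one_ne_zero (congrArg Prod.fst h), ?_⟩
    intro v
    obtain ⟨p, rfl⟩ := Ψ.surjective v
    rw [AddEquiv.symm_apply_apply]
    have h1 : ((θ.symm (ρ p.1 w0) : S i1) : V) + (ρ (p.1 * s) w0 : V) ∈ S i := by
      have h2 := hag (θ.symm (ρ p.1 w0))
      rw [AddEquiv.apply_symm_apply] at h2
      have h3 := congrArg Subtype.val h2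
      rw [Shear.toHom_coe] at h3
      have h4 : ρ (p.1 * s) w0 = ρ s (ρ p.1 w0) := by
        rw [mul_comm, map_mul]
        rfl
      rw [h4, h3, add_sub_cancel]
      exact hg' _ (θ.symm (ρ p.1 w0)).2
    constructor
    · intro hv
      rw [hΨ] at hv
      have h2 : ((ρ p.2 w0 : S i0) : V) - (ρ (p.1 * s) w0 : V) ∈ S i := by
        have h3 := (S i).sub_mem hv h1
        have h4 : ((θ.symm (ρ p.1 w0) : S i1) : V) + (ρ p.2 w0 : V)
            - (((θ.symm (ρ p.1 w0) : S i1) : V) + (ρ (p.1 * s) w0 : V))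
            = ((ρ p.2 w0 : S i0) : V) - (ρ (p.1 * s) w0 : V) := by abel
        rwa [h4] at h3
      have h3 : ((ρ p.2 w0 : S i0) : V) - (ρ (p.1 * s) w0 : V) ∈ S i0 := (S i0).sub_mem (ρ _ w0).2 (ρ _ w0).2
      have h4 := sub_eq_zero.1 (hS.inf _ _ hi _ h2 h3)
      have h5 : p.2 = p.1 * s := hρ0.1 (Subtype.ext h4)
      refine ⟨p.1, ?_⟩
      apply Prod.ext
      · rw [mul_one]
      · exact h5
    · rintro ⟨b, hb⟩
      have h5 : p.2 = p.1 * s := by
        rw [hb]
        simp
      rw [hΨ, h5]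
      exact h1

end Cfsg.Agent.TitsThree.SpreadField
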