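import Mathlib
import Cfsg.Agent.TitsThree.A2Refl
import Cfsg.Agent.TitsThree.SpreadField

/-!
# Finite groups graded by the root system `A₂` are coordinatised by a field

`X : Fin 3 → Fin 3 → Subgroup G` graded (`AGraded.Graded X`), with reflections (`A2Refl.Rgd X`), `G` finite: there are a
finite field `F` and parametrisations `x i j : F → X i j` satisfying the Steinberg relations `AGraded.SteinRel x`.
-/

set_option autoImplicit false
set_option linter.style.haveILetI false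

namespace Cfsg.Agent.TitsThree.A2Field

open scoped commutatorElement
open Cfsg.Agent.AGraded A2Refl SpreadField

universe w

variable {G : Type w} [Group G] {X : Fin 3 → Fin 3 → Subgroup G}

/-- the first half: a field and parametrisations of `X 0 1`, `X 1 2`, `X 0 2` and `X 1 0` -/
theorem exists_half [Finite G] (h : Graded X) (hw : Rgd X) :
    ∃ (F : Type) (_ : Field F) (_ : Fintype F) (x01 x12 x02 x10 : F → G),
      ((∀ s, x01 s ∈ X 0 1) ∧ (∀ s, x12 s ∈ X 1 2) ∧ (∀ s, x02 s ∈ X 0 2) ∧ (∀ s, x10 s ∈ X 1 0)) ∧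
      ((∀ y ∈ X 0 1, ∃ s, x01 s = y) ∧ (∀ y ∈ X 1 2, ∃ s, x12 s = y) ∧ (∀ y ∈ X 0 2, ∃ s, x02 s = y) ∧
        (∀ y ∈ X 1 0, ∃ s, x10 s = y)) ∧
      ((∀ s t, x01 (s + t) = x01 s * x01 t) ∧ (∀ s t, x12 (s + t) = x12 s * x12 t) ∧
        (∀ s t, x02 (s + t) = x02 s * x02 t) ∧ (∀ s t, x10 (s + t) = x10 s * x10 t)) ∧
      x01 1 ≠ 1 ∧ x12 1 ≠ 1 ∧
      (∀ s t, ⁅x01 s, x12 t⁆ = x02 (s * t)) ∧ (∀ s t, ⁅x10 s, x02 t⁆ = x12 (s * t)) := by
  classical
  have h01 : (0 : Fin 3) ≠ 1 := by decide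
  have h02 : (0 : Fin 3) ≠ 2 := by decide
  have h12 : (1 : Fin 3) ≠ 2 := by decide
  obtain ⟨e, he, he1⟩ := h.ne_bot 0 1 h01
  obtain ⟨f, hf, hf1⟩ := h.ne_bot 1 2 h12
  letI : CommGroup (X 0 2) := { (inferInstance : Group (X 0 2)) with
    mul_comm := fun a b => Subtype.ext (h.mul_comm' h02 h01.symm h12 a.2 b.2) }
  have hφ : Function.Bijective (h.lhom h01 h12 h02 he) := by
    refine ⟨h.lhom_injective h01 h12 h02 he he1, fun c => ?_⟩
    obtain ⟨b, hb, hbc⟩ := h.lsurj h01 h12 h02 he he1 c.2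
    exact ⟨⟨b, hb⟩, Subtype.ext hbc⟩
  let φ : X 1 2 ≃* X 0 2 := MulEquiv.ofBijective _ hφ
  have hφc : ∀ b, ((φ b : X 0 2) : G) = ⁅e, (b : G)⁆ := fun b => rfl
  have hφs : ∀ c : X 0 2, ⁅e, ((φ.symm c : X 1 2) : G)⁆ = c := fun c => by
    rw [← hφc, MulEquiv.apply_symm_apply]
  let W := Additive (X 0 2)
  haveI : Finite W := inferInstanceAs (Finite (X 0 2))
  let pA : AddMonoid.End W → Prop := fun T => ∃ a ∈ X 0 1, ∀ b : X 1 2,
    ((T (Additive.ofMul (φ b))).toMul : G) = ⁅a, (b : G)⁆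
  let pB : AddMonoid.End W → Prop := fun T => ∃ y ∈ X 1 0, ∀ c : X 0 2,
    ((T (Additive.ofMul c)).toMul : G) = ⁅e, ⁅y, (c : G)⁆⁆
  haveI hfin : Finite (AddMonoid.End W) := DFunLike.finite (W →+ W)
  let A : AddSubgroup (AddMonoid.End W) := ofSub pA
    ⟨1, (X 0 1).one_mem, fun b => by
      rw [commutatorElement_one_left]
      rfl⟩
    (fun S T => by
      rintro ⟨a, ha, hS⟩ ⟨a', ha', hT⟩
      refine ⟨a * a', (X 0 1).mul_mem ha ha', fun b => ?_⟩
      rw [h.br_mul_left h01 h12 h02 ha ha' b.2, ← hS, ← hT]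
      rfl)
  let B : AddSubgroup (AddMonoid.End W) := ofSub pB
    ⟨1, (X 1 0).one_mem, fun c => by
      rw [commutatorElement_one_left, commutatorElement_one_right]
      rfl⟩
    (fun S T => by
      rintro ⟨y, hy, hS⟩ ⟨y', hy', hT⟩
      refine ⟨y * y', (X 1 0).mul_mem hy hy', fun c => ?_⟩
      rw [h.br_mul_left h01.symm h02 h12 hy hy' c.2,
        h.br_mul_right h01 h12 h02 he (h.br_mem 1 0 2 h01.symm h02 h12 y hy c c.2)
          (h.br_mem 1 0 2 h01.symm h02 h12 y' hy' c c.2), ← hS, ← hT]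
      rfl)
  have opA : ∀ a ∈ X 0 1, ∃ T ∈ A, ∀ b : X 1 2, ((T (Additive.ofMul (φ b))).toMul : G) = ⁅a, (b : G)⁆ := by
    intro a ha
    let T : W →+ W := MonoidHom.toAdditive ((h.lhom h01 h12 h02 ha).comp φ.symm.toMonoidHom)
    have hT : ∀ b : X 1 2, ((T (Additive.ofMul (φ b))).toMul : G) = ⁅a, (b : G)⁆ := by
      intro b
      show ((h.lhom h01 h12 h02 ha (φ.symm (φ b)) : X 0 2) : G) = _
      rw [MulEquiv.symm_apply_apply]
      rfl
    exact ⟨T, ⟨a, ha, hT⟩, hT⟩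
  have opB : ∀ y ∈ X 1 0, ∃ T ∈ B, ∀ c : X 0 2, ((T (Additive.ofMul c)).toMul : G) = ⁅e, ⁅y, (c : G)⁆⁆ := by
    intro y hy
    let T : W →+ W := MonoidHom.toAdditive ((h.lhom h01 h12 h02 he).comp (h.lhom h01.symm h02 h12 hy))
    have hT : ∀ c : X 0 2, ((T (Additive.ofMul c)).toMul : G) = ⁅e, ⁅y, (c : G)⁆⁆ := fun c => rfl
    exact ⟨T, ⟨y, hy, hT⟩, hT⟩
  have hW0 : ∀ w : W, ((w.toMul : X 0 2) : G) = 1 → w = 0 := by
    intro w hw
    exact Additive.toMul.injective (Subtype.ext hw)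
  -- extensionality of operators
  have extE : ∀ S T : AddMonoid.End W, (∀ b : X 1 2, ((S (Additive.ofMul (φ b))).toMul : G)
      = ((T (Additive.ofMul (φ b))).toMul : G)) → S = T := by
    intro S T hST
    refine AddMonoidHom.ext fun w => ?_
    obtain ⟨b, hb⟩ := φ.surjective w.toMul
    have hwb : w = Additive.ofMul (φ b) := by rw [hb]; rfl
    rw [hwb]
    exact Additive.toMul.injective (Subtype.ext (hST b))
  -- the inverse relation
  have hinvAB : ∀ {S T : AddMonoid.End W} {a y : G}, a ∈ X 0 1 → y ∈ X 1 0 →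
      (∀ b : X 1 2, ((S (Additive.ofMul (φ b))).toMul : G) = ⁅a, (b : G)⁆) →
      (∀ c : X 0 2, ((T (Additive.ofMul c)).toMul : G) = ⁅e, ⁅y, (c : G)⁆⁆) →
      (∀ b ∈ X 1 2, ⁅y, ⁅a, b⁆⁆ = b⁻¹) → (∀ c ∈ X 0 2, ⁅a, ⁅y, c⁆⁆ = c⁻¹) → S * (-T) = 1 ∧ (-T) * S = 1 := by
    intro S T a y ha hy hS hT h1 h2
    have e1 : T * S = -1 := by
      apply extE
      intro b
      have e2 : S (Additive.ofMul (φ b)) = Additive.ofMul (h.lhom h01 h12 h02 ha b) :=
        Additive.toMul.injective (Subtype.ext (hS b))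
      show ((T (S (Additive.ofMul (φ b)))).toMul : G) = _
      rw [e2, hT]
      show ⁅e, ⁅y, ⁅a, (b : G)⁆⁆⁆ = _
      rw [h1 b b.2]
      show ((φ b⁻¹ : X 0 2) : G) = _
      rw [map_inv]
      rfl
    have e3 : S * T = -1 := by
      apply extE
      intro b
      have e4 : T (Additive.ofMul (φ b)) = Additive.ofMul (φ (h.lhom h01.symm h02 h12 hy (φ b))) :=
        Additive.toMul.injective (Subtype.ext (hT _))
      show ((S (T (Additive.ofMul (φ b)))).toMul : G) = _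
      rw [e4, hS]
      show ⁅a, ⁅y, ((φ b : X 0 2) : G)⁆⁆ = _
      rw [h2 _ (φ b).2]
      rfl
    constructor
    · exact (mul_neg S T).trans ((congrArg Neg.neg e3).trans (neg_neg _))
    · exact (neg_mul T S).trans ((congrArg Neg.neg e1).trans (neg_neg _))
  obtain ⟨w0, hw0⟩ : ∃ w : W, w ≠ 0 := by
    refine ⟨Additive.ofMul (φ ⟨f, hf⟩), fun h0 => ?_⟩
    have h1 : φ ⟨f, hf⟩ = 1 := h0
    have h2 : (⟨f, hf⟩ : X 1 2) = 1 := (map_eq_one_iff φ φ.injective).1 h1
    exact hf1 (congrArg Subtype.val h2)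
  obtain ⟨F, _, _, ρ, hρA, hρB, hρ⟩ := OpField.exists_field A B
    ⟨e, he, fun b => rfl⟩ ⟨w0, hw0⟩
    (by
      intro w w' hw
      obtain ⟨b, hb⟩ := φ.surjective w.toMul
      have hwb : w = Additive.ofMul (φ b) := by rw [hb]; rfl
      have hb1 : (b : G) ≠ 1 := by
        intro hb1
        apply hw
        have : b = 1 := Subtype.ext hb1
        rw [hwb, this, map_one]
        rfl
      obtain ⟨a, ha, hab⟩ := h.rsurj h01 h12 h02 b.2 hb1 w'.toMul.2
      obtain ⟨T, hT, hT'⟩ := opA a ha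
      refine ⟨T, hT, ?_⟩
      apply Additive.toMul.injective
      apply Subtype.ext
      rw [hwb, hT', hab])
    (by
      rintro S ⟨a, ha, hS⟩ hS0
      have ha1 : a ≠ 1 := by
        rintro rfl
        apply hS0
        apply extE
        intro b
        rw [hS, commutatorElement_one_left]
        rfl
      obtain ⟨y, hy, y', hy', hn⟩ := hw 0 1 h01 a ha ha1
      have r1 : ∀ c ∈ X 0 2, ⁅a, ⁅y', c⁆⁆ = c⁻¹ := fun c hc => (refl_ik h h01 h02.symm h12.symm ha hy hy' hn hc).1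
      have r2 : ∀ b ∈ X 1 2, ⁅y, ⁅a, b⁆⁆ = b⁻¹ := fun b hb => (refl_jk h h01 h02.symm h12.symm ha hy hy' hn hb).1
      have hyy : y = y' := by
        -- both are determined by `a`
        have hab := h.br_mem 0 1 2 h01 h12 h02 a ha f hf
        have hab1 := h.br_ne 0 1 2 h01 h12 h02 a ha f hf ha1 hf1
        apply h.br_right_inj h01.symm h02 h12 hy hy' hab hab1
        rw [r2 f hf]
        have h3 := r1 _ hab
        have h4 : ⁅a, f⁻¹⁆ = ⁅a, f⁆⁻¹ := by
          have := h.br_mul_right h01 h12 h02 ha hf ((X 1 2).inv_mem hf)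
          rw [mul_inv_cancel, commutatorElement_one_right] at this
          exact (inv_eq_of_mul_eq_one_right this.symm).symm
        rw [← h4] at h3
        exact (h.br_left_inj h01 h12 h02 ha ha1 (h.br_mem 1 0 2 h01.symm h02 h12 y' hy' _ hab)
          ((X 1 2).inv_mem hf) h3).symm
      subst hyy
      obtain ⟨T, hT, hT'⟩ := opB y hy
      exact ⟨-T, B.neg_mem hT, hinvAB ha hy hS hT' r2 r1⟩)
    (by
      rintro T ⟨y, hy, hT⟩ hT0
      have hy1 : y ≠ 1 := by
        rintro rfl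
        apply hT0
        apply extE
        intro b
        rw [hT, commutatorElement_one_left, commutatorElement_one_right]
        rfl
      obtain ⟨a, ha, a', ha', hn⟩ := hw 1 0 h01.symm y hy hy1
      have r1 : ∀ b ∈ X 1 2, ⁅y, ⁅a', b⁆⁆ = b⁻¹ := fun b hb =>
        (refl_ik h h01.symm h12.symm h02.symm hy ha ha' hn hb).1
      have r2 : ∀ c ∈ X 0 2, ⁅a, ⁅y, c⁆⁆ = c⁻¹ := fun c hc =>
        (refl_jk h h01.symm h12.symm h02.symm hy ha ha' hn hc).1
      have haa : a = a' := by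
        have hyb : ⁅a', f⁆ ∈ X 0 2 := h.br_mem 0 1 2 h01 h12 h02 a' ha' f hf
        have h3 := r2 _ hyb
        rw [r1 f hf] at h3
        have h4 : ⁅a, f⁻¹⁆ = ⁅a, f⁆⁻¹ := by
          have := h.br_mul_right h01 h12 h02 ha hf ((X 1 2).inv_mem hf)
          rw [mul_inv_cancel, commutatorElement_one_right] at this
          exact (inv_eq_of_mul_eq_one_right this.symm).symm
        rw [h4] at h3
        exact h.br_right_inj h01 h12 h02 ha ha' hf hf1 (inv_injective h3)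
      subst haa
      obtain ⟨S, hS, hS'⟩ := opA a ha
      have := hinvAB ha hy hS' hT r1 r2
      refine ⟨-S, A.neg_mem hS, ?_, ?_⟩
      · exact (neg_mul_comm S T).trans this.1
      · exact (neg_mul_comm T S).symm.trans this.2)
  -- the parametrisations
  have hx01 : ∀ s, ∃ a ∈ X 0 1, ∀ b : X 1 2, ((ρ s (Additive.ofMul (φ b))).toMul : G) = ⁅a, (b : G)⁆ :=
    fun s => (hρA (ρ s)).2 ⟨s, rfl⟩
  have hx10 : ∀ s, ∃ y ∈ X 1 0, ∀ c : X 0 2, ((ρ s (Additive.ofMul c)).toMul : G) = ⁅e, ⁅y, (c : G)⁆⁆ :=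
    fun s => (hρB (ρ s)).2 ⟨s, rfl⟩
  choose x01 m01 r01 using hx01
  choose x10 m10 r10 using hx10
  let x02 : F → G := fun s => ((ρ s w0).toMul : X 0 2)
  let x12 : F → G := fun s => ((φ.symm (ρ s w0).toMul : X 1 2) : G)
  have m02 : ∀ s, x02 s ∈ X 0 2 := fun s => (ρ s w0).toMul.2
  have m12 : ∀ s, x12 s ∈ X 1 2 := fun s => (φ.symm (ρ s w0).toMul).2
  have br1 : ∀ s t, ⁅x01 s, x12 t⁆ = x02 (s * t) := by
    intro s t
    rw [← r01 s (φ.symm (ρ t w0).toMul), MulEquiv.apply_symm_apply]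
    show ((ρ s (ρ t w0)).toMul : G) = ((ρ (s * t) w0).toMul : G)
    rw [map_mul]
    rfl
  have br2 : ∀ s t, ⁅x10 s, x02 t⁆ = x12 (s * t) := by
    intro s t
    apply h.br_left_inj h01 h12 h02 he he1 (h.br_mem 1 0 2 h01.symm h02 h12 _ (m10 s) _ (m02 t)) (m12 (s * t))
    show ⁅e, ⁅x10 s, (((ρ t w0).toMul : X 0 2) : G)⁆⁆ = ⁅e, ((φ.symm (ρ (s * t) w0).toMul : X 1 2) : G)⁆
    rw [hφs, ← r10 s]
    show ((ρ s (ρ t w0)).toMul : G) = ((ρ (s * t) w0).toMul : G)
    rw [map_mul]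
    rfl
  have hρ0 := hρ w0 hw0
  have s02 : ∀ y ∈ X 0 2, ∃ s, x02 s = y := by
    intro y hy
    obtain ⟨s, hs⟩ := hρ0.2 (Additive.ofMul ⟨y, hy⟩)
    refine ⟨s, ?_⟩
    have hs' : ρ s w0 = Additive.ofMul ⟨y, hy⟩ := hs
    show (((ρ s w0).toMul : X 0 2) : G) = y
    rw [hs']
    rfl
  have s12 : ∀ y ∈ X 1 2, ∃ s, x12 s = y := by
    intro y hy
    obtain ⟨s, hs⟩ := hρ0.2 (Additive.ofMul (φ ⟨y, hy⟩))
    refine ⟨s, ?_⟩
    have hs' : ρ s w0 = Additive.ofMul (φ ⟨y, hy⟩) := hs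
    show ((φ.symm (ρ s w0).toMul : X 1 2) : G) = y
    rw [hs']
    show ((φ.symm (φ ⟨y, hy⟩) : X 1 2) : G) = y
    rw [MulEquiv.symm_apply_apply]
  have s01 : ∀ y ∈ X 0 1, ∃ s, x01 s = y := by
    intro y hy
    obtain ⟨T, hT, hT'⟩ := opA y hy
    obtain ⟨s, rfl⟩ := (hρA T).1 hT
    refine ⟨s, ?_⟩
    apply h.br_right_inj h01 h12 h02 (m01 s) hy hf hf1
    rw [← hT' ⟨f, hf⟩, ← r01 s ⟨f, hf⟩]
  have s10 : ∀ y ∈ X 1 0, ∃ s, x10 s = y := by
    intro y hy
    obtain ⟨T, hT, hT'⟩ := opB y hy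
    obtain ⟨s, rfl⟩ := (hρB T).1 hT
    refine ⟨s, ?_⟩
    obtain ⟨c, hc, hc1⟩ := h.ne_bot 0 2 h02
    apply h.br_right_inj h01.symm h02 h12 (m10 s) hy hc hc1
    apply h.br_left_inj h01 h12 h02 he he1 (h.br_mem 1 0 2 h01.symm h02 h12 _ (m10 s) _ hc)
      (h.br_mem 1 0 2 h01.symm h02 h12 _ hy _ hc)
    rw [← hT' ⟨c, hc⟩, ← r10 s ⟨c, hc⟩]
  have hz : ∀ s, ρ s w0 = 0 → s = 0 := by
    intro s hs
    apply hρ0.1
    show ρ s w0 = ρ 0 w0
    rw [hs, map_zero]
    rfl
  refine ⟨F, inferInstance, inferInstance, x01, x12, x02, x10, ⟨m01, m12, m02, m10⟩, ⟨s01, s12, s02, s10⟩,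
    ⟨?_, ?_, ?_, ?_⟩, ?_, ?_, br1, br2⟩
  · intro s t
    apply h.br_right_inj h01 h12 h02 (m01 _) ((X 0 1).mul_mem (m01 s) (m01 t)) hf hf1
    rw [h.br_mul_left h01 h12 h02 (m01 s) (m01 t) hf, ← r01 _ ⟨f, hf⟩, ← r01 _ ⟨f, hf⟩, ← r01 _ ⟨f, hf⟩, map_add]
    rfl
  · intro s t
    show ((φ.symm (ρ (s + t) w0).toMul : X 1 2) : G)
      = ((φ.symm (ρ s w0).toMul : X 1 2) : G) * ((φ.symm (ρ t w0).toMul : X 1 2) : G)
    have e1 : (ρ (s + t) w0).toMul = (ρ s w0).toMul * (ρ t w0).toMul := by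
      rw [map_add]
      rfl
    rw [e1, map_mul]
    rfl
  · intro s t
    show (((ρ (s + t) w0).toMul : X 0 2) : G) = (((ρ s w0).toMul : X 0 2) : G) * (((ρ t w0).toMul : X 0 2) : G)
    rw [map_add]
    rfl
  · intro s t
    obtain ⟨c, hc, hc1⟩ := h.ne_bot 0 2 h02
    apply h.br_right_inj h01.symm h02 h12 (m10 _) ((X 1 0).mul_mem (m10 s) (m10 t)) hc hc1
    have k1 := h.br_mem 1 0 2 h01.symm h02 h12 _ (m10 s) _ hc
    have k2 := h.br_mem 1 0 2 h01.symm h02 h12 _ (m10 t) _ hc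
    rw [h.br_mul_left h01.symm h02 h12 (m10 s) (m10 t) hc]
    apply h.br_left_inj h01 h12 h02 he he1 (h.br_mem 1 0 2 h01.symm h02 h12 _ (m10 _) _ hc)
      ((X 1 2).mul_mem k1 k2)
    rw [h.br_mul_right h01 h12 h02 he k1 k2, ← r10 _ ⟨c, hc⟩, ← r10 _ ⟨c, hc⟩, ← r10 _ ⟨c, hc⟩, map_add]
    rfl
  · intro h1
    have h2 := br1 1 1
    rw [h1, commutatorElement_one_left, mul_one] at h2
    apply one_ne_zero (α := F)
    exact hz 1 (hW0 _ h2.symm)
  · intro h1
    have h2 := br1 1 1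
    rw [h1, commutatorElement_one_right, mul_one] at h2
    apply one_ne_zero (α := F)
    exact hz 1 (hW0 _ h2.symm)

theorem inv_of_add {F : Type*} [Field F] {x : F → G} (hx : ∀ s t, x (s + t) = x s * x t) (s : F) :
    x (-s) = (x s)⁻¹ := by
  have h0 : x 0 = 1 := by
    have := hx 0 0
    rw [add_zero] at this
    simpa using this
  rw [eq_inv_iff_mul_eq_one, ← hx, neg_add_cancel, h0]

theorem inj_of_add {F : Type*} [Field F] {x : F → G} (hx : ∀ s t, x (s + t) = x s * x t)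
    (hk : ∀ s, x s = 1 → s = 0) {s t : F} (hst : x s = x t) : s = t := by
  rw [← sub_eq_zero]
  apply hk
  rw [sub_eq_add_neg, hx, inv_of_add hx, hst, mul_inv_cancel]

theorem conj_br (n a b : G) : n * ⁅a, b⁆ * n⁻¹ = ⁅n * a * n⁻¹, n * b * n⁻¹⁆ := by
  simp only [commutatorElement_def]
  group

/-- **Groups graded by `A₂`.** -/
theorem exists_field [Finite G] (h : Graded X) (hw : Rgd X) :
    ∃ (F : Type) (_ : Field F) (_ : Fintype F) (x : Fin 3 → Fin 3 → F → G),
      SteinRel x ∧ ∀ i j, i ≠ j → (∀ a, x i j a ∈ X i j) ∧ ∀ y ∈ X i j, ∃! a, x i j a = y := by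
  have h01 : (0 : Fin 3) ≠ 1 := by decide
  have h02 : (0 : Fin 3) ≠ 2 := by decide
  have h12 : (1 : Fin 3) ≠ 2 := by decide
  obtain ⟨F, _, _, x01, x12, x02, x10, ⟨m01, m12, m02, m10⟩, ⟨s01, s12, s02, s10⟩, ⟨a01, a12, a02, a10⟩,
    n01, n12, br1, br2⟩ := exists_half h hw
  have x02_ne : x02 1 ≠ 1 := by
    have := h.br_ne 0 1 2 h01 h12 h02 _ (m01 1) _ (m12 1) n01 n12
    rwa [br1, mul_one] at this
  have k01 : ∀ s, x01 s = 1 → s = 0 := by
    intro s hs
    by_contra h0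
    apply x02_ne
    rw [← mul_inv_cancel₀ h0, ← br1, hs, commutatorElement_one_left]
  have k12 : ∀ s, x12 s = 1 → s = 0 := by
    intro s hs
    by_contra h0
    apply x02_ne
    rw [← inv_mul_cancel₀ h0, ← br1, hs, commutatorElement_one_right]
  have k02 : ∀ s, x02 s = 1 → s = 0 := by
    intro s hs
    by_contra h0
    apply h.br_ne 0 1 2 h01 h12 h02 _ (m01 s) _ (m12 1) (fun h' => h0 (k01 s h')) n12
    rw [br1, mul_one, hs]
  have k10 : ∀ s, x10 s = 1 → s = 0 := by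
    intro s hs
    apply k12
    rw [← mul_one s, ← br2, hs, commutatorElement_one_left]
  have i01 := fun {s t : F} => inj_of_add (s := s) (t := t) a01 k01
  have i12 := fun {s t : F} => inj_of_add (s := s) (t := t) a12 k12
  have i02 := fun {s t : F} => inj_of_add (s := s) (t := t) a02 k02
  have i10 := fun {s t : F} => inj_of_add (s := s) (t := t) a10 k10
  -- `x21`
  have hx21 : ∀ s, ∃ z ∈ X 2 1, ⁅x02 1, z⁆ = x01 s := fun s => h.lsurj h02 h12.symm h01 (m02 1) x02_ne (m01 s)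
  choose x21 m21 r21 using hx21
  have inj21 : ∀ {z z' : G}, z ∈ X 2 1 → z' ∈ X 2 1 → ⁅x02 1, z⁆ = ⁅x02 1, z'⁆ → z = z' :=
    fun hz hz' heq => h.br_left_inj h02 h12.symm h01 (m02 1) x02_ne hz hz' heq
  have s21 : ∀ z ∈ X 2 1, ∃ s, x21 s = z := by
    intro z hz
    obtain ⟨s, hs⟩ := s01 _ (h.br_mem 0 2 1 h02 h12.symm h01 _ (m02 1) z hz)
    exact ⟨s, inj21 (m21 s) hz (by rw [r21, hs])⟩
  have a21 : ∀ s t, x21 (s + t) = x21 s * x21 t := by
    intro s t
    apply inj21 (m21 _) ((X 2 1).mul_mem (m21 s) (m21 t))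
    rw [r21, h.br_mul_right h02 h12.symm h01 (m02 1) (m21 s) (m21 t), r21, r21, a01]
  have k21 : ∀ s, x21 s = 1 → s = 0 := by
    intro s hs
    apply k01
    rw [← r21, hs, commutatorElement_one_right]
  have i21 := fun {s t : F} => inj_of_add (s := s) (t := t) a21 k21
  have br0 : ∀ r s, ⁅x02 r, x21 s⁆ = x01 (r * s) := by
    intro r s
    by_cases hs : s = 0
    · have h0 : x21 0 = 1 := by
        have := a21 0 0
        rw [add_zero] at this
        simpa using this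
      have h0' : x01 0 = 1 := by
        have := a01 0 0
        rw [add_zero] at this
        simpa using this
      rw [hs, h0, mul_zero, h0', commutatorElement_one_right]
    have hz1 : x21 s ≠ 1 := fun h' => hs (k21 s h')
    obtain ⟨u, hu, u', hu', hn⟩ := hw 2 1 h12.symm (x21 s) (m21 s) hz1
    have r4 : ∀ d ∈ X 0 1, ⁅⁅d, u'⁆, x21 s⁆ = d⁻¹ := fun d hd =>
      (refl_kj h h12.symm h02 h01 (m21 s) hu hu' hn hd).1
    obtain ⟨t, rfl⟩ := s12 u' hu'
    have r5 : ∀ v, ⁅x02 (v * t), x21 s⁆ = x01 (-v) := by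
      intro v
      rw [inv_of_add a01, ← r4 _ (m01 v), br1]
    have ht : t ≠ 0 := by
      rintro rfl
      have h0 : x02 0 = 1 := by
        have := a02 0 0
        rw [add_zero] at this
        simpa using this
      have := r5 1
      rw [mul_zero, h0, commutatorElement_one_left] at this
      have h1 := k01 _ this.symm
      exact one_ne_zero (neg_eq_zero.1 h1)
    have r6 : ∀ r, ⁅x02 r, x21 s⁆ = x01 (-(r * t⁻¹)) := by
      intro r
      rw [← r5, mul_assoc, inv_mul_cancel₀ ht, mul_one]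
    have h1 := r6 1
    rw [r21] at h1
    have h2 := i01 h1
    rw [r6, h2]
    congr 1
    ring
  -- the reflection `n` for the indices `1, 2`
  obtain ⟨y, hy, y', hy', hn⟩ := hw 1 2 h12 (x12 1) (m12 1) n12
  have c1 := fun {c : G} (hc : c ∈ X 0 1) => refl_ki h h12 h01 h02 (m12 1) hy hy' hn hc
  have c2 := fun {d : G} (hd : d ∈ X 0 2) => refl_kj h h12 h01 h02 (m12 1) hy hy' hn hd
  set n := y * x12 1 * y' with hndef
  have hy'1 : y' = x21 (-1) := by
    obtain ⟨s, rfl⟩ := s21 y' hy'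
    have h1 := (c2 (m02 1)).1
    rw [br0, br1, ← inv_of_add a02] at h1
    have h2 := i02 h1
    rw [one_mul, mul_one] at h2
    rw [h2]
  have N01 : ∀ t, n * x01 t * n⁻¹ = x02 (-t) := by
    intro t
    rw [(c1 (m01 t)).2, br1, mul_one, inv_of_add a02]
  have N02 : ∀ t, n * x02 t * n⁻¹ = x01 t := by
    intro t
    rw [(c2 (m02 t)).2, hy'1, br0, ← inv_of_add a01]
    congr 1
    ring
  have N12 : ∀ u, n * x12 u * n⁻¹ = x21 (-u) := by
    intro u
    obtain ⟨s, hs⟩ := s21 _ (hn.ij _ (m12 u))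
    have h1 := congrArg (fun g => n * g * n⁻¹) (br1 1 u)
    simp only [conj_br] at h1
    rw [N01, N02, ← hs, br0] at h1
    have h2 := i01 h1
    rw [← hs]
    congr 1
    linear_combination -h2
  have N21 : ∀ u, n * x21 u * n⁻¹ = x12 (-u) := by
    intro u
    obtain ⟨s, hs⟩ := s12 _ (hn.ji _ (m21 u))
    have h1 := congrArg (fun g => n * g * n⁻¹) (br0 1 u)
    simp only [conj_br] at h1
    rw [N01, N02, ← hs, br1] at h1
    have h2 := i02 h1
    rw [← hs]
    congr 1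
    linear_combination h2
  -- `x20`
  obtain ⟨x20, hx20⟩ : ∃ x20 : F → G, ∀ t, x20 t = n * x10 (-t) * n⁻¹ := ⟨_, fun t => rfl⟩
  have N10 : ∀ t, n * x10 t * n⁻¹ = x20 (-t) := fun t => by rw [hx20, neg_neg]
  have m20 : ∀ t, x20 t ∈ X 2 0 := fun t => by
    rw [hx20]
    exact hn.ik 0 h01 h02 _ (m10 _)
  have br5 : ∀ s r, ⁅x20 s, x01 r⁆ = x21 (s * r) := by
    intro s r
    have h1 := congrArg (fun g => n * g * n⁻¹) (br2 (-s) r)
    simp only [conj_br] at h1
    rw [N10, N02, N12, neg_neg] at h1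
    rw [h1]
    congr 1
    ring
  have N20 : ∀ t, n * x20 t * n⁻¹ = x10 t := by
    intro t
    obtain ⟨v, hv⟩ := s10 _ (hn.jk 0 h01 h02 _ (m20 t))
    have h1 := congrArg (fun g => n * g * n⁻¹) (br5 t 1)
    simp only [conj_br] at h1
    rw [← hv, N01, N21, br2] at h1
    have h2 := i12 h1
    rw [← hv]
    congr 1
    linear_combination -h2
  -- the reflection `n'` for the indices `0, 1`
  obtain ⟨z, hz, z', hz', hn'⟩ := hw 0 1 h01 (x01 1) (m01 1) n01
  have d1 := fun {c : G} (hc : c ∈ X 0 2) => refl_ik h h01 h02.symm h12.symm (m01 1) hz hz' hn' hc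
  have d2 := fun {b : G} (hb : b ∈ X 1 2) => refl_jk h h01 h02.symm h12.symm (m01 1) hz hz' hn' hb
  have d3 := fun {d : G} (hd : d ∈ X 2 1) => refl_kj h h01 h02.symm h12.symm (m01 1) hz hz' hn' hd
  set m := z * x01 1 * z' with hmdef
  have hz'1 : z' = x10 (-1) := by
    obtain ⟨s, rfl⟩ := s10 z' hz'
    have h1 := (d1 (m02 1)).1
    rw [br2, br1, ← inv_of_add a02] at h1
    have h2 := i02 h1
    rw [one_mul, mul_one] at h2
    rw [h2]
  have M12 : ∀ t, m * x12 t * m⁻¹ = x02 t := by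
    intro t
    rw [(d2 (m12 t)).2, br1, one_mul]
  have M02 : ∀ t, m * x02 t * m⁻¹ = x12 (-t) := by
    intro t
    rw [(d1 (m02 t)).2, hz'1, br2]
    congr 1
    ring
  have M01 : ∀ u, m * x01 u * m⁻¹ = x10 (-u) := by
    intro u
    obtain ⟨s, hs⟩ := s10 _ (hn'.ij _ (m01 u))
    have h1 := congrArg (fun g => m * g * m⁻¹) (br1 u 1)
    simp only [conj_br] at h1
    rw [← hs, M12, M02, br2] at h1
    have h2 := i12 h1
    rw [← hs]
    congr 1
    linear_combination h2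
  have M21 : ∀ s, m * x21 s * m⁻¹ = x20 s := by
    intro s
    have hmem := hn'.kj 2 h02.symm h12.symm _ (m21 s)
    apply h.br_right_inj h02.symm h01 h12.symm hmem (m20 s) (m01 1) n01
    rw [br5, mul_one]
    obtain ⟨h1, h2⟩ := d3 (m21 s)
    rw [h2]
    have hq := h.br_mem 2 1 0 h12.symm h01.symm h02.symm _ (m21 s) z' hz'
    have h3 := h.br_mul_left h02.symm h01 h12.symm ((X 2 0).inv_mem hq) hq (m01 1)
    rw [inv_mul_cancel, commutatorElement_one_left, h1] at h3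
    rw [eq_comm, mul_inv_eq_one] at h3
    exact h3
  have br3 : ∀ r s, ⁅x12 r, x20 s⁆ = x10 (r * s) := by
    intro r s
    have h1 := congrArg (fun g => m * g * m⁻¹) (br0 (-r) s)
    simp only [conj_br] at h1
    rw [M02, M21, M01, neg_neg] at h1
    rw [h1]
    congr 1
    ring
  have br4 : ∀ s t, ⁅x21 s, x10 t⁆ = x20 (s * t) := by
    intro s t
    have h1 := congrArg (fun g => n * g * n⁻¹) (br3 (-s) t)
    simp only [conj_br] at h1
    rw [N12, N20, N10, neg_neg] at h1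
    rw [h1]
    congr 1
    ring
  have a20 : ∀ s t, x20 (s + t) = x20 s * x20 t := by
    intro s t
    rw [hx20, hx20, hx20, neg_add, a10]
    group
  have k20 : ∀ s, x20 s = 1 → s = 0 := by
    intro s hs
    apply k21
    rw [← mul_one s, ← br5, hs, commutatorElement_one_left]
  have i20 := fun {s t : F} => inj_of_add (s := s) (t := t) a20 k20
  have s20 : ∀ z ∈ X 2 0, ∃ s, x20 s = z := by
    intro z hz
    obtain ⟨v, hv⟩ := s10 _ (hn.jk 0 h01 h02 _ hz)
    refine ⟨v, ?_⟩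
    have h1 := N20 v
    rw [hv] at h1
    exact mul_left_cancel (mul_right_cancel h1)
  refine ⟨F, inferInstance, inferInstance,
    ![![fun _ => 1, x01, x02], ![x10, fun _ => 1, x12], ![x20, x21, fun _ => 1]], ?_, ?_⟩
  · have mem : ∀ i j : Fin 3, i ≠ j → ∀ s, (![![fun _ => 1, x01, x02], ![x10, fun _ => 1, x12],
        ![x20, x21, fun _ => 1]] : Fin 3 → Fin 3 → F → G) i j s ∈ X i j := by
      intro i j hij s
      fin_cases i <;> fin_cases j
      · exact absurd rfl hij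
      · exact m01 s
      · exact m02 s
      · exact m10 s
      · exact absurd rfl hij
      · exact m12 s
      · exact m20 s
      · exact m21 s
      · exact absurd rfl hij
    refine ⟨?_, ?_, ?_⟩
    · intro i j hij
      fin_cases i <;> fin_cases j
      · exact absurd rfl hij
      · exact a01
      · exact a02
      · exact a10
      · exact absurd rfl hij
      · exact a12
      · exact a20
      · exact a21
      · exact absurd rfl hij
    · intro i j k l hij hkl hjk hil a b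
      exact h.comm i j k l hij hkl hjk hil _ (mem i j hij a) _ (mem k l hkl b)
    · intro i j k hij hjk hik
      fin_cases i <;> fin_cases j <;> fin_cases k <;>
        first
        | exact absurd rfl hij
        | exact absurd rfl hjk
        | exact absurd rfl hik
        | exact br1
        | exact br2
        | exact br0
        | exact br5
        | exact br3
        | exact br4
  · have uniq : ∀ {Y : Subgroup G} {x : F → G}, (∀ s, x s ∈ Y) → (∀ y ∈ Y, ∃ s, x s = y) →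
        (∀ {s t : F}, x s = x t → s = t) → (∀ a, x a ∈ Y) ∧ ∀ y ∈ Y, ∃! a, x a = y := by
      intro Y x h1 h2 h3
      refine ⟨h1, fun y hy => ?_⟩
      obtain ⟨s, hs⟩ := h2 y hy
      exact ⟨s, hs, fun t ht => h3 (ht.trans hs.symm)⟩
    intro i j hij
    fin_cases i <;> fin_cases j
    · exact absurd rfl hij
    · exact uniq m01 s01 i01
    · exact uniq m02 s02 i02
    · exact uniq m10 s10 i10
    · exact absurd rfl hij
    · exact uniq m12 s12 i12
    · exact uniq m20 s20 i20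
    · exact uniq m21 s21 i21
    · exact absurd rfl hij

end Cfsg.Agent.TitsThree.A2Field
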