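import Cfsg.Agent.AGraded.Steinberg

/-!
# Groups with root groups of type `C₃` (S1143)

`S = Fin 3 × Bool` signed indices, `op` the opposite.  `X x y` is the root group of `b_x + b_y`
(`x.1 ≠ y.1`), `Z x` the root group of `b_x`.

`Grp` : the axioms.  `Long` : coordinates of the long root groups, `E x y t ∈ X x (op y)`, with
`⁅E x y s, E y z t⁆ = E x z (s t)` and `E x y t = E (op y) (op x) (-(g x / g y) σ t)`,
`g (i, true) = ε`, `g (i, false) = 1`.  `exists_long` : they exist, extending given coordinates of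
the root groups `X (i,true) (j,false)` (method of helper636: conjugation with elements `n_i`
attached to the short roots).
-/

set_option autoImplicit false

namespace Cfsg.Agent.TitsThree.C3Grp

open scoped commutatorElement
open Cfsg.Agent.AGraded

/-- signed indices -/
abbrev S := Fin 3 × Bool

/-- the opposite index -/
def op (x : S) : S := (x.1, !x.2)

@[simp] theorem op_fst (x : S) : (op x).1 = x.1 := rfl
@[simp] theorem op_op (x : S) : op (op x) = x := by simp [op]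
@[simp] theorem op_mk (i : Fin 3) (b : Bool) : op (i, b) = (i, !b) := rfl

/-- the reflection of `b_x` -/
def rZ (x a : S) : S := if a.1 = x.1 then op a else a

/-- the reflection of `b_x + b_y` -/
def rX (x y a : S) : S :=
  if a = x then op y else if a = op x then y else if a = y then op x else if a = op y then x else a

variable {G : Type*} [Group G]

/-- `m` permutes the root groups by `r`. -/
structure Acts (X : S → S → Subgroup G) (Z : S → Subgroup G) (m : G) (r : S → S) : Prop where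
  X : ∀ a b, a.1 ≠ b.1 → ∀ g, g ∈ X a b ↔ m * g * m⁻¹ ∈ X (r a) (r b)
  Z : ∀ a g, g ∈ Z a ↔ m * g * m⁻¹ ∈ Z (r a)

/-- Root groups of type `C₃`. -/
structure Grp (G : Type*) [Group G] where
  X : S → S → Subgroup G
  Z : S → Subgroup G
  symm : ∀ x y, X x y = X y x
  xx60 : ∀ x y z, x.1 ≠ y.1 → x.1 ≠ z.1 → y.1 ≠ z.1 → ∀ a ∈ X x y, ∀ b ∈ X x z, a * b = b * a
  xx120 : ∀ x y z, x.1 ≠ y.1 → x.1 ≠ z.1 → y.1 ≠ z.1 → ∀ a ∈ X x y, ∀ b ∈ X (op y) z,
    ⁅a, b⁆ ∈ X x z
  xx90 : ∀ x y, x.1 ≠ y.1 → ∀ a ∈ X x y, ∀ b ∈ X x (op y), ⁅a, b⁆ ∈ Z x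
  zx45 : ∀ x y, x.1 ≠ y.1 → ∀ a ∈ Z x, ∀ b ∈ X x y, a * b = b * a
  zx90 : ∀ x y z, x.1 ≠ y.1 → x.1 ≠ z.1 → y.1 ≠ z.1 → ∀ a ∈ Z x, ∀ b ∈ X y z, a * b = b * a
  zx135 : ∀ x y, x.1 ≠ y.1 → ∀ a ∈ X x (op y), ∀ b ∈ Z y, ∃ p ∈ Z x, ∃ q ∈ X x y, ⁅a, b⁆ = p * q
  zz : ∀ x y, x.1 ≠ y.1 → ∀ a ∈ Z x, ∀ b ∈ Z y, ⁅a, b⁆ ∈ X x y
  u3 : ∀ x y z, x.1 ≠ y.1 → x.1 ≠ z.1 → y.1 ≠ z.1 → ∀ a ∈ Z x, ∀ b ∈ Z y, ∀ c ∈ Z z,
    ∀ d ∈ X x y, ∀ e ∈ X x z, ∀ f ∈ X y z, a * b * c * d * e * f = 1 →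
    a = 1 ∧ b = 1 ∧ c = 1 ∧ d = 1 ∧ e = 1 ∧ f = 1
  u2 : ∀ x y, x.1 ≠ y.1 → ∀ a ∈ Z x, ∀ b ∈ X x y, ∀ c ∈ X x (op y), a * b * c = 1 →
    a = 1 ∧ b = 1 ∧ c = 1
  nZ : ∀ x, ∀ u ∈ Z x, u ≠ 1 → ∃ v ∈ Z (op x), ∃ w ∈ Z (op x), Acts X Z (v * u * w) (rZ x)
  nX : ∀ x y, x.1 ≠ y.1 → ∀ u ∈ X x y, u ≠ 1 → ∃ v ∈ X (op x) (op y), ∃ w ∈ X (op x) (op y),
    Acts X Z (v * u * w) (rX x y)
  Z_ne : ∀ x, Z x ≠ ⊥

variable (C : Grp G) {F : Type*} [Field F]

/-- conjugation -/
def cg (g y : G) : G := g * y * g⁻¹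

theorem cg_mul (g y z : G) : cg g (y * z) = cg g y * cg g z := by simp [cg]
theorem cg_inv (g y : G) : cg g y⁻¹ = (cg g y)⁻¹ := by simp [cg, mul_assoc]
theorem cg_one (g : G) : cg g 1 = 1 := by simp [cg]
theorem mul_cg (g h y : G) : cg (g * h) y = cg g (cg h y) := by simp [cg, mul_assoc]
theorem cg_cg_inv (g y : G) : cg g (cg g⁻¹ y) = y := by simp [cg, mul_assoc]
theorem cg_inv_cg (g y : G) : cg g⁻¹ (cg g y) = y := by simp [cg, mul_assoc]
theorem cg_comm (g a b : G) : cg g ⁅a, b⁆ = ⁅cg g a, cg g b⁆ := by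
  simp [cg, commutatorElement_def, mul_assoc]
theorem cg_eq (g y : G) : cg g y = ⁅g, y⁆ * y := by simp [cg, commutatorElement_def]
theorem comm_eq (g y : G) : ⁅g, y⁆ = cg g y * y⁻¹ := by simp [cg, commutatorElement_def]
theorem cg_of_comm {g y : G} (h : g * y = y * g) : cg g y = y := by
  rw [cg, h, mul_inv_cancel_right]
theorem comm_of_cg {g y : G} (h : cg g y = y) : g * y = y * g := by
  rw [cg, mul_inv_eq_iff_eq_mul] at h; exact h
theorem cg_injective (g : G) : Function.Injective (cg g) := fun a b h => by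
  simpa [cg_inv_cg] using congrArg (cg g⁻¹) h
theorem cg_inv_of {g y y' : G} (h : cg g y = y') : cg g⁻¹ y' = y := by
  rw [← h, cg_inv_cg]

variable {C}

theorem acts_X {m : G} {r : S → S} (h : Acts C.X C.Z m r) {a b : S} (hab : a.1 ≠ b.1) {g : G} :
    g ∈ C.X a b ↔ cg m g ∈ C.X (r a) (r b) := h.X a b hab g

theorem acts_Z {m : G} {r : S → S} (h : Acts C.X C.Z m r) {a : S} {g : G} :
    g ∈ C.Z a ↔ cg m g ∈ C.Z (r a) := h.Z a g

/-! ### the elements `n_i` -/

/-- `n` is a family of elements realising the reflections of the short roots. -/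
structure Ns (C : Grp G) (n : Fin 3 → G) : Prop where
  acts : ∀ i, Acts C.X C.Z (n i) (rZ (i, true))
  fix : ∀ i a b, a.1 ≠ i → b.1 ≠ i → a.1 ≠ b.1 → ∀ g ∈ C.X a b, cg (n i) g = g

theorem exists_Ns (C : Grp G) : ∃ n, Ns C n := by
  have : ∀ i : Fin 3, ∃ m, Acts C.X C.Z m (rZ (i, true)) ∧
      ∀ a b : S, a.1 ≠ i → b.1 ≠ i → a.1 ≠ b.1 → ∀ g ∈ C.X a b, cg m g = g := by
    intro i
    obtain ⟨⟨u, hu⟩, hu'⟩ := (Subgroup.ne_bot_iff_exists_ne_one).1 (C.Z_ne (i, true))
    have hu1 : u ≠ 1 := fun h => hu' (Subtype.ext h)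
    obtain ⟨v, hv, w, hw, h⟩ := C.nZ (i, true) u hu hu1
    refine ⟨_, h, fun a b ha hb hab g hg => ?_⟩
    rw [mul_cg, mul_cg, cg_of_comm (C.zx90 _ a b (Ne.symm ha) (Ne.symm hb) hab w hw g hg),
      cg_of_comm (C.zx90 _ a b (Ne.symm ha) (Ne.symm hb) hab _ hu g hg),
      cg_of_comm (C.zx90 _ a b (Ne.symm ha) (Ne.symm hb) hab v hv g hg)]
  choose n hn using this
  exact ⟨n, fun i => (hn i).1, fun i => (hn i).2⟩

/-- `n_x` : `1` or `n_i` -/
def nx (n : Fin 3 → G) (x : S) : G := if x.2 then 1 else n x.1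

theorem nx_X {n : Fin 3 → G} (hn : Ns C n) {x a : S} (h : x.1 ≠ a.1) {g : G} :
    g ∈ C.X (x.1, true) a ↔ cg (nx n x) g ∈ C.X x a := by
  obtain ⟨i, b⟩ := x
  cases b
  · have h1 := acts_X (hn.acts i) (a := (i, true)) (b := a) h (g := g)
    simpa [nx, rZ, Ne.symm h] using h1
  · simp [nx, cg]

theorem nx_X' {n : Fin 3 → G} (hn : Ns C n) {x a : S} (h : x.1 ≠ a.1) {g : G} :
    g ∈ C.X a (x.1, false) ↔ cg (nx n x) g ∈ C.X a (op x) := by
  obtain ⟨i, b⟩ := x
  cases b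
  · have h1 := acts_X (hn.acts i) (a := a) (b := (i, false)) (Ne.symm h) (g := g)
    simpa [nx, rZ, Ne.symm h] using h1
  · simp [nx, cg]

theorem nx_fix {n : Fin 3 → G} (hn : Ns C n) {x a b : S} (ha : a.1 ≠ x.1) (hb : b.1 ≠ x.1)
    (hab : a.1 ≠ b.1) {g : G} (hg : g ∈ C.X a b) : cg (nx n x) g = g := by
  unfold nx
  split_ifs
  · simp [cg]
  · exact hn.fix _ a b ha hb hab g hg

/-! ### coordinates of the positive part -/

/-- coordinates of the root groups `X (i,true) (j,false)` -/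
structure Crd (C : Grp G) (x : Fin 3 → Fin 3 → F → G) : Prop where
  stein : SteinRel x
  mem : ∀ i j, i ≠ j → ∀ t, x i j t ∈ C.X (i, true) (j, false)
  surj : ∀ i j, i ≠ j → ∀ g ∈ C.X (i, true) (j, false), ∃ t, x i j t = g
  inj : ∀ i j, i ≠ j → Function.Injective (x i j)

/-- unnormalised coordinates of the long root groups -/
structure Raw (C : Grp G) (E : S → S → F → G) : Prop where
  add : ∀ x y, x.1 ≠ y.1 → ∀ s t, E x y (s + t) = E x y s * E x y t
  br : ∀ x y z, x.1 ≠ y.1 → x.1 ≠ z.1 → y.1 ≠ z.1 → ∀ s t, ⁅E x y s, E y z t⁆ = E x z (s * t)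
  mem : ∀ x y, x.1 ≠ y.1 → ∀ t, E x y t ∈ C.X x (op y)
  surj : ∀ x y, x.1 ≠ y.1 → ∀ g ∈ C.X x (op y), ∃ t, E x y t = g
  inj : ∀ x y, x.1 ≠ y.1 → Function.Injective (E x y)

theorem exists_raw {x : Fin 3 → Fin 3 → F → G} (hx : Crd C x) :
    ∃ E : S → S → F → G, Raw C E ∧ ∀ i j t, E (i, true) (j, true) t = x i j t := by
  obtain ⟨n, hn⟩ := exists_Ns C
  have hmem : ∀ a b : S, a.1 ≠ b.1 → ∀ g, g ∈ C.X (a.1, true) (b.1, false) ↔
      cg (nx n a * nx n b) g ∈ C.X a (op b) := by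
    intro a b hab g
    rw [mul_cg, ← nx_X hn (x := a) (a := op b) (by simpa using hab),
      ← nx_X' hn (x := b) (a := (a.1, true)) (Ne.symm hab)]
  refine ⟨fun a b t => cg (nx n a * nx n b) (x a.1 b.1 t), ⟨?_, ?_, ?_, ?_, ?_⟩, ?_⟩
  · intro a b hab s t
    rw [hx.stein.add _ _ hab, cg_mul]
  · intro a b c hab hac hbc s t
    have e1 : cg (nx n a * nx n b) (x a.1 b.1 s) = cg (nx n a * nx n b * nx n c) (x a.1 b.1 s) := by
      rw [mul_cg _ (nx n c)]
      congr 1
      exact (nx_fix hn (a := (a.1, true)) (b := (b.1, false)) hac hbc hab (hx.mem _ _ hab s)).symm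
    have h2 : cg (nx n b * nx n c) (x b.1 c.1 t) ∈ C.X b (op c) := (hmem b c hbc _).1 (hx.mem _ _ hbc t)
    have e2 : cg (nx n b * nx n c) (x b.1 c.1 t) = cg (nx n a * nx n b * nx n c) (x b.1 c.1 t) := by
      rw [mul_assoc, mul_cg (nx n a)]
      exact (nx_fix hn (Ne.symm hab) (by simpa using Ne.symm hac) (by simpa using hbc) h2).symm
    have h3 : cg (nx n c) (x a.1 c.1 (s * t)) ∈ C.X (a.1, true) (op c) :=
      (nx_X' hn (x := c) (a := (a.1, true)) (Ne.symm hac)).1 (hx.mem _ _ hac _)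
    have e3 : cg (nx n a * nx n c) (x a.1 c.1 (s * t)) =
        cg (nx n a * nx n b * nx n c) (x a.1 c.1 (s * t)) := by
      rw [mul_assoc, mul_cg (nx n a), mul_cg (nx n a), mul_cg (nx n b)]
      congr 1
      exact (nx_fix hn (a := (a.1, true)) (b := op c) hab (by simpa using Ne.symm hbc)
        (by simpa using hac) h3).symm
    rw [e1, e2, e3, ← cg_comm, hx.stein.br _ _ _ hab hbc hac]
  · intro a b hab t
    exact (hmem a b hab _).1 (hx.mem _ _ hab t)
  · intro a b hab g hg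
    have h1 : cg (nx n a * nx n b)⁻¹ g ∈ C.X (a.1, true) (b.1, false) := by
      rw [hmem a b hab, cg_cg_inv]; exact hg
    obtain ⟨t, ht⟩ := hx.surj _ _ hab _ h1
    refine ⟨t, ?_⟩
    rw [ht, cg_cg_inv]
  · intro a b hab s t hst
    exact hx.inj _ _ hab (cg_injective _ hst)
  · intro i j t
    simp [nx, cg]

/-! ### normalisation -/

/-- the scalars `g (i, true) = ε`, `g (i, false) = 1` -/
def gg (ε : F) (x : S) : F := if x.2 then ε else 1

@[simp] theorem gg_mk_true (ε : F) (i : Fin 3) : gg ε (i, true) = ε := rfl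
@[simp] theorem gg_mk_false (ε : F) (i : Fin 3) : gg ε (i, false) = 1 := rfl

/-- Normalised coordinates of the long root groups. -/
structure Long (C : Grp G) (F : Type*) [Field F] where
  E : S → S → F → G
  σ : F ≃+* F
  ε : F
  σσ : ∀ t, σ (σ t) = t
  ε_mul : ε * σ ε = 1
  add : ∀ x y, x.1 ≠ y.1 → ∀ s t, E x y (s + t) = E x y s * E x y t
  br : ∀ x y z, x.1 ≠ y.1 → x.1 ≠ z.1 → y.1 ≠ z.1 → ∀ s t, ⁅E x y s, E y z t⁆ = E x z (s * t)
  mem : ∀ x y, x.1 ≠ y.1 → ∀ t, E x y t ∈ C.X x (op y)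
  surj : ∀ x y, x.1 ≠ y.1 → ∀ g ∈ C.X x (op y), ∃ t, E x y t = g
  inj : ∀ x y, x.1 ≠ y.1 → Function.Injective (E x y)
  swap : ∀ x y, x.1 ≠ y.1 → ∀ t, E x y t = E (op y) (op x) (-(gg ε x * (gg ε y)⁻¹ * σ t))

private theorem n01 : (0 : Fin 3) ≠ 1 := by decide
private theorem n02 : (0 : Fin 3) ≠ 2 := by decide
private theorem n10 : (1 : Fin 3) ≠ 0 := by decide
private theorem n12 : (1 : Fin 3) ≠ 2 := by decide
private theorem n20 : (2 : Fin 3) ≠ 0 := by decide
private theorem n21 : (2 : Fin 3) ≠ 1 := by decide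

/-- A multiplicative cocycle on the signed indices is a coboundary. -/
theorem cocycle {a : S → S → F} (ha : ∀ x y z : S, x.1 ≠ y.1 → x.1 ≠ z.1 → y.1 ≠ z.1 →
    a x z = a x y * a y z) (h0 : ∀ x y : S, x.1 ≠ y.1 → a x y ≠ 0) :
    ∃ g : S → F, (∀ x, g x ≠ 0) ∧ (∀ x y : S, x.1 ≠ y.1 → a x y = g x * (g y)⁻¹) := by
  let g : S → F := fun x => if x.1 = 0 then a x (1, true) * a (1, true) (0, true) else a x (0, true)
  have g0 : ∀ x, g x ≠ 0 := by
    intro x
    change (if _ then _ else _) ≠ _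
    split_ifs with h
    · exact mul_ne_zero (h0 _ _ (by rw [h]; decide)) (h0 _ _ (by decide))
    · exact h0 _ _ h
  refine ⟨g, g0, fun x y hxy => ?_⟩
  rw [eq_mul_inv_iff_mul_eq₀ (g0 y)]
  have c10 : a (2, true) (0, true) = a (2, true) (1, true) * a (1, true) (0, true) :=
    ha _ _ _ n21 n20 n10
  obtain ⟨i, s⟩ := x
  obtain ⟨j, t⟩ := y
  have hij : i ≠ j := hxy
  change a (i, s) (j, t) * (if j = 0 then _ else _) = (if i = 0 then _ else _)
  fin_cases i <;> fin_cases j <;> simp at hij ⊢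
  · -- 0 1
    rw [ha (0, s) (2, true) (1, t) n02 n01 n21,
      ha (0, s) (2, true) (1, true) n02 n01 n21, mul_assoc, mul_assoc,
      ← ha (2, true) (1, t) (0, true) n21 n20 n10, c10]
  · -- 0 2
    rw [ha (2, t) (1, true) (0, true) n21 n20 n10, ← mul_assoc,
      ← ha (0, s) (2, t) (1, true) n02 n01 n21]
  · -- 1 0
    rw [ha (1, s) (2, true) (0, t) n12 n10 n20,
      ha (1, s) (2, true) (0, true) n12 n10 n20, c10,
      ha (2, true) (0, t) (1, true) n20 n21 n01]
    ring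
  · -- 1 2
    rw [← ha (1, s) (2, t) (0, true) n12 n10 n20]
  · -- 2 0
    rw [ha (2, s) (1, true) (0, true) n21 n20 n10,
      ha (2, s) (0, t) (1, true) n20 n21 n01]
    ring
  · -- 2 1
    rw [← ha (2, s) (1, t) (0, true) n21 n20 n10]

theorem exists_third (x y : S) : ∃ z : S, z.1 ≠ x.1 ∧ z.1 ≠ y.1 := by
  obtain ⟨i, s⟩ := x
  obtain ⟨j, t⟩ := y
  have : ∀ i j : Fin 3, ∃ k, k ≠ i ∧ k ≠ j := by decide
  obtain ⟨k, hk⟩ := this i j
  exact ⟨(k, true), hk⟩

namespace Raw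

variable {E : S → S → F → G} (h : Raw C E)
include h

theorem zero {x y : S} (hxy : x.1 ≠ y.1) : E x y 0 = 1 := by
  have := h.add x y hxy 0 0
  rw [add_zero] at this; simpa using this

theorem neg {x y : S} (hxy : x.1 ≠ y.1) (t : F) : E x y (-t) = (E x y t)⁻¹ := by
  rw [eq_inv_iff_mul_eq_one, ← h.add x y hxy, neg_add_cancel, h.zero hxy]

theorem exists_kap : ∃ κ : S → S → F → F, ∀ x y, x.1 ≠ y.1 → ∀ t, E x y t = E (op y) (op x) (κ x y t) := by
  classical
  have : ∀ x y : S, ∀ t : F, ∃ s, x.1 ≠ y.1 → E x y t = E (op y) (op x) s := by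
    intro x y t
    by_cases hxy : x.1 ≠ y.1
    · have h1 : E x y t ∈ C.X (op y) (op (op x)) := by
        rw [op_op, C.symm]; exact h.mem x y hxy t
      obtain ⟨s, hs⟩ := h.surj (op y) (op x) (by simpa using Ne.symm hxy) _ h1
      exact ⟨s, fun _ => hs.symm⟩
    · exact ⟨0, fun h => absurd h hxy⟩
  choose κ hκ using this
  exact ⟨κ, fun x y hxy t => hκ x y t hxy⟩

/-- The normalised coordinates. -/
theorem exists_long : ∃ L : Long C F, ∀ i j : Fin 3, i ≠ j → ∀ t,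
    L.E (i, true) (j, true) t = E (i, true) (j, true) t := by
  obtain ⟨κ, hκ⟩ := h.exists_kap
  have κadd : ∀ x y : S, x.1 ≠ y.1 → ∀ s t, κ x y (s + t) = κ x y s + κ x y t := by
    intro x y hxy s t
    apply h.inj (op y) (op x) (by simpa using Ne.symm hxy)
    rw [← hκ x y hxy, h.add (op y) (op x) (by simpa using Ne.symm hxy), ← hκ x y hxy,
      ← hκ x y hxy, h.add x y hxy]
  have κzero : ∀ x y : S, x.1 ≠ y.1 → κ x y 0 = 0 := by
    intro x y hxy
    have := κadd x y hxy 0 0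
    rw [add_zero] at this
    exact left_eq_add.1 this
  have κinj : ∀ x y : S, x.1 ≠ y.1 → Function.Injective (κ x y) := by
    intro x y hxy s t hst
    apply h.inj x y hxy
    rw [hκ x y hxy, hκ x y hxy, hst]
  have κsurj : ∀ x y : S, x.1 ≠ y.1 → Function.Surjective (κ x y) := by
    intro x y hxy s
    have h1 : E (op y) (op x) s ∈ C.X x (op y) := by
      rw [C.symm]
      have := h.mem (op y) (op x) (by simpa using Ne.symm hxy) s
      rwa [op_op] at this
    obtain ⟨t, ht⟩ := h.surj x y hxy _ h1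
    refine ⟨t, ?_⟩
    apply h.inj (op y) (op x) (by simpa using Ne.symm hxy)
    rw [← hκ x y hxy, ht]
  have κκ : ∀ x y : S, x.1 ≠ y.1 → ∀ t, κ (op y) (op x) (κ x y t) = t := by
    intro x y hxy t
    apply h.inj x y hxy
    have := hκ (op y) (op x) (by simpa using Ne.symm hxy) (κ x y t)
    rw [op_op, op_op, ← hκ x y hxy] at this
    exact this.symm
  -- the fundamental relation
  have κmul : ∀ x y z : S, x.1 ≠ y.1 → x.1 ≠ z.1 → y.1 ≠ z.1 → ∀ s t,
      κ x z (s * t) = -(κ x y s * κ y z t) := by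
    intro x y z hxy hxz hyz s t
    apply h.inj (op z) (op x) (by simpa using Ne.symm hxz)
    rw [← hκ x z hxz, ← h.br x y z hxy hxz hyz, hκ x y hxy, hκ y z hyz, ← commutatorElement_inv,
      h.br (op z) (op y) (op x) (by simpa using Ne.symm hyz) (by simpa using Ne.symm hxz)
        (by simpa using Ne.symm hxy), h.neg (by simpa using Ne.symm hxz), mul_comm]
  let a : S → S → F := fun x y => -κ x y 1
  have a_ne : ∀ x y : S, x.1 ≠ y.1 → a x y ≠ 0 := by
    intro x y hxy e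
    have : κ x y 1 = κ x y 0 := by rw [κzero x y hxy]; exact neg_eq_zero.1 e
    exact one_ne_zero (κinj x y hxy this)
  have a_co : ∀ x y z : S, x.1 ≠ y.1 → x.1 ≠ z.1 → y.1 ≠ z.1 → a x z = a x y * a y z := by
    intro x y z hxy hxz hyz
    have := κmul x y z hxy hxz hyz 1 1
    rw [mul_one] at this
    change -κ x z 1 = -κ x y 1 * -κ y z 1
    rw [this]; ring
  obtain ⟨g, g0, hg⟩ := cocycle a_co a_ne
  -- σ
  let τ : S → S → F → F := fun x y t => -(κ x y t) * (a x y)⁻¹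
  have τ_κ : ∀ x y : S, x.1 ≠ y.1 → ∀ t, κ x y t = -(a x y * τ x y t) := by
    intro x y hxy t
    change _ = -(a x y * (-(κ x y t) * (a x y)⁻¹))
    have := a_ne x y hxy
    field_simp
  have τ1 : ∀ x y z : S, x.1 ≠ y.1 → x.1 ≠ z.1 → y.1 ≠ z.1 → ∀ t, τ x z t = τ x y t := by
    intro x y z hxy hxz hyz t
    change -(κ x z t) * (a x z)⁻¹ = -(κ x y t) * (a x y)⁻¹
    have := κmul x y z hxy hxz hyz t 1
    rw [mul_one] at this
    have e : κ y z 1 = -a y z := (neg_neg _).symm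
    rw [this, a_co x y z hxy hxz hyz, e]
    have := a_ne x y hxy
    have := a_ne y z hyz
    field_simp
  have τ2 : ∀ x y z : S, x.1 ≠ y.1 → x.1 ≠ z.1 → y.1 ≠ z.1 → ∀ t, τ x z t = τ y z t := by
    intro x y z hxy hxz hyz t
    change -(κ x z t) * (a x z)⁻¹ = -(κ y z t) * (a y z)⁻¹
    have := κmul x y z hxy hxz hyz 1 t
    rw [one_mul] at this
    have e : κ x y 1 = -a x y := (neg_neg _).symm
    rw [this, a_co x y z hxy hxz hyz, e]
    have := a_ne x y hxy
    have := a_ne y z hyz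
    field_simp
  have τr : ∀ x y y' : S, x.1 ≠ y.1 → x.1 ≠ y'.1 → ∀ t, τ x y t = τ x y' t := by
    intro x y y' hxy hxy' t
    by_cases hyy : y.1 = y'.1
    · obtain ⟨z, hzx, hzy⟩ := exists_third x y
      rw [τ1 x z y (Ne.symm hzx) hxy hzy, τ1 x z y' (Ne.symm hzx) hxy' (hyy ▸ hzy)]
    · rw [τ1 x y' y hxy' hxy (Ne.symm hyy)]
  have τl : ∀ x x' y : S, x.1 ≠ y.1 → x'.1 ≠ y.1 → ∀ t, τ x y t = τ x' y t := by
    intro x x' y hxy hxy' t
    by_cases hxx : x.1 = x'.1
    · obtain ⟨z, hzx, hzy⟩ := exists_third x y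
      rw [τ2 x z y (Ne.symm hzx) hxy hzy, τ2 x' z y (hxx ▸ Ne.symm hzx) hxy' hzy]
    · rw [τ2 x x' y hxx hxy hxy']
  let σ0 : F → F := τ (0, true) (1, true)
  have hσ0 : ∀ x y : S, x.1 ≠ y.1 → ∀ t, τ x y t = σ0 t := by
    intro x y hxy t
    by_cases hx : x.1 = 0
    · rw [τr x y (1, true) hxy (by rw [hx]; decide), τl x (0, true) (1, true) (by rw [hx]; decide) (by decide)]
    · by_cases hy : y.1 = 0
      · obtain ⟨z, hzx, hzy⟩ := exists_third x (0, true)
        rw [τr x y z hxy (Ne.symm hzx), τl x (0, true) z (Ne.symm hzx) (Ne.symm hzy),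
          τr (0, true) z (1, true) (Ne.symm hzy) (by decide)]
      · rw [τl x (0, true) y hxy (Ne.symm hy), τr (0, true) y (1, true) (Ne.symm hy) (by decide)]
  have hκ' : ∀ x y : S, x.1 ≠ y.1 → ∀ t, κ x y t = -(g x * (g y)⁻¹ * σ0 t) := by
    intro x y hxy t
    rw [τ_κ x y hxy, hσ0 x y hxy, hg x y hxy]
  have hσadd : ∀ s t, σ0 (s + t) = σ0 s + σ0 t := by
    intro s t
    change -(κ _ _ (s + t)) * _ = -(κ _ _ s) * _ + -(κ _ _ t) * _
    rw [κadd _ _ (by decide)]; ring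
  have hσone : σ0 1 = 1 := by
    change -(κ _ _ 1) * (-(κ _ _ 1))⁻¹ = 1
    exact mul_inv_cancel₀ (a_ne (0, true) (1, true) (by decide))
  have hσmul : ∀ s t, σ0 (s * t) = σ0 s * σ0 t := by
    intro s t
    have h1 := κmul (0, true) (1, true) (2, true) (by decide) (by decide) (by decide) s t
    rw [hκ' _ _ (by decide), hκ' _ _ (by decide), hκ' _ _ (by decide)] at h1
    have := g0 (0, true)
    have := g0 (1, true)
    have := g0 (2, true)
    field_simp at h1
    linear_combination -h1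
  have hσbij : Function.Bijective σ0 := by
    constructor
    · intro s t hst
      apply κinj (0, true) (1, true) (by decide)
      rw [hκ' _ _ (by decide), hκ' _ _ (by decide), hst]
    · intro s
      obtain ⟨t, ht⟩ := κsurj (0, true) (1, true) (by decide) (-(g (0, true) * (g (1, true))⁻¹ * s))
      refine ⟨t, ?_⟩
      rw [hκ' _ _ (by decide)] at ht
      have := g0 (0, true)
      have := g0 (1, true)
      field_simp at ht
      linear_combination -ht
  have hσzero : σ0 0 = 0 := by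
    have := hσadd 0 0
    rw [add_zero] at this
    exact left_eq_add.1 this
  let σr : F →+* F := { toFun := σ0, map_one' := hσone, map_mul' := hσmul, map_zero' := hσzero,
                        map_add' := hσadd }
  let σ : F ≃+* F := RingEquiv.ofBijective σr hσbij
  have hσ : ∀ t, σ t = σ0 t := fun t => rfl
  simp only [← hσ] at hκ'
  -- involution
  have inv1 : ∀ x y : S, x.1 ≠ y.1 → ∀ t,
      g (op y) * (g (op x))⁻¹ * (σ (g x) * (σ (g y))⁻¹ * σ (σ t)) = t := by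
    intro x y hxy t
    have := κκ x y hxy t
    rw [hκ' (op y) (op x) (by simpa using Ne.symm hxy), hκ' x y hxy] at this
    simp only [map_neg, map_mul, map_inv₀] at this
    linear_combination this
  have inv2 : ∀ x y : S, x.1 ≠ y.1 → g (op y) * (g (op x))⁻¹ * (σ (g x) * (σ (g y))⁻¹) = 1 := by
    intro x y hxy
    have := inv1 x y hxy 1
    rwa [map_one, map_one, mul_one] at this
  have hσσ : ∀ t, σ (σ t) = t := by
    intro t
    have h1 := inv1 (0, true) (1, true) (by decide) t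
    have h2 := inv2 (0, true) (1, true) (by decide)
    linear_combination h1 - h2 * σ (σ t)
  have σg0 : ∀ x, σ (g x) ≠ 0 := fun x => (map_ne_zero_iff σ σ.injective).2 (g0 x)
  have inv3 : ∀ x y : S, x.1 ≠ y.1 → σ (g x) * (g (op x))⁻¹ = σ (g y) * (g (op y))⁻¹ := by
    intro x y hxy
    have h1 := inv2 x y hxy
    have := g0 (op x)
    have := g0 (op y)
    have := σg0 y
    field_simp at h1 ⊢
    linear_combination h1
  let c0 : F := σ (g (0, true)) * (g (0, false))⁻¹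
  have hc0 : ∀ x : S, σ (g x) = c0 * g (op x) := by
    intro x
    have key : σ (g x) * (g (op x))⁻¹ = c0 := by
      by_cases hx : x.1 = 0
      · rw [inv3 x (1, true) (by rw [hx]; decide), ← inv3 (0, true) (1, true) (by decide)]; rfl
      · rw [inv3 x (0, true) hx]; rfl
    rw [← key]
    have := g0 (op x)
    field_simp
  have c0_ne : c0 ≠ 0 := mul_ne_zero (σg0 _) (inv_ne_zero (g0 _))
  have c0_mul : c0 * σ c0 = 1 := by
    have h1 := hc0 (0, true)
    have h2 := congrArg σ h1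
    rw [hσσ, map_mul] at h2
    have h3 := hc0 (op (0, true))
    rw [op_op] at h3
    rw [h3] at h2
    have := g0 (0, true)
    have h4 : g (0, true) * (c0 * σ c0 - 1) = 0 := by linear_combination -h2
    rcases mul_eq_zero.1 h4 with h5 | h5
    · exact absurd h5 this
    · exact sub_eq_zero.1 h5
  let ε : F := σ c0
  have hε : ε * σ ε = 1 := by
    change σ c0 * σ (σ c0) = 1
    rw [hσσ, mul_comm]; exact c0_mul
  have ε0 : ε ≠ 0 := (map_ne_zero_iff σ σ.injective).2 c0_ne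
  have hc0ε : c0 = ε⁻¹ := eq_inv_of_mul_eq_one_left c0_mul
  have hσε : σ ε = ε⁻¹ := eq_inv_of_mul_eq_one_right hε
  let d : S → F := fun x => if x.2 then 1 else ε * (g (x.1, true))⁻¹
  have d0 : ∀ x, d x ≠ 0 := by
    intro x
    change (if _ then _ else _) ≠ _
    split_ifs
    · exact one_ne_zero
    · exact mul_ne_zero ε0 (inv_ne_zero (g0 _))
  have hd : ∀ x : S, g x * σ (d x) * d (op x) = gg ε x := by
    intro x
    obtain ⟨i, b⟩ := x
    cases b
    · have h1 := hc0 (i, true)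
      simp only [op_mk, Bool.not_true] at h1
      change g (i, false) * σ (ε * (g (i, true))⁻¹) * 1 = 1
      rw [map_mul, map_inv₀, h1, hσε, hc0ε]
      have := g0 (i, false)
      field_simp
    · change g (i, true) * σ 1 * (ε * (g (i, true))⁻¹) = ε
      rw [map_one]
      have := g0 (i, true)
      field_simp
  refine ⟨{ E := fun x y t => E x y (d x * t * (d y)⁻¹)
            σ := σ
            ε := ε
            σσ := hσσ
            ε_mul := hε
            add := ?_, br := ?_, mem := ?_, surj := ?_, inj := ?_, swap := ?_ }, ?_⟩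
  · intro x y hxy s t
    rw [← h.add x y hxy]
    congr 1
    ring
  · intro x y z hxy hxz hyz s t
    rw [h.br x y z hxy hxz hyz]
    congr 1
    have := d0 y
    field_simp
  · intro x y hxy t
    exact h.mem x y hxy _
  · intro x y hxy k hk
    obtain ⟨t, ht⟩ := h.surj x y hxy k hk
    refine ⟨(d x)⁻¹ * t * d y, ?_⟩
    rw [← ht]
    have := d0 x
    have := d0 y
    congr 1
    field_simp
  · intro x y hxy s t hst
    have h1 := h.inj x y hxy hst
    have h2 := d0 x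
    have h3 := d0 y
    have h4 : d x * s = d x * t := mul_right_cancel₀ (inv_ne_zero h3) h1
    exact mul_left_cancel₀ h2 h4
  · intro x y hxy t
    rw [hκ x y hxy, hκ' x y hxy]
    congr 1
    rw [← hd x, ← hd y]
    simp only [map_mul, map_inv₀]
    have := d0 (op x)
    have := d0 (op y)
    have h1 : σ (d y) ≠ 0 := (map_ne_zero_iff σ σ.injective).2 (d0 y)
    have := g0 y
    field_simp
  · intro i j hij t
    change E (i, true) (j, true) (1 * t * 1⁻¹) = _
    rw [inv_one, one_mul, mul_one]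

end Raw

theorem exists_long {x : Fin 3 → Fin 3 → F → G} (hx : Crd C x) :
    ∃ L : Long C F, ∀ i j : Fin 3, i ≠ j → ∀ t, L.E (i, true) (j, true) t = x i j t := by
  obtain ⟨E, hE, hE'⟩ := exists_raw hx
  obtain ⟨L, hL⟩ := hE.exists_long
  exact ⟨L, fun i j hij t => by rw [hL i j hij, hE']⟩

end Cfsg.Agent.TitsThree.C3Grp
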