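import Mathlib
import Cfsg.Agent.TitsThree.KSideDefs

/-!
# Rank one parametrisations and Hua's identity (S1143, tree gluing, part T1)

`SL2Par xp xm`: `xp, xm : F → G` are injective additive parametrisations of two subgroups such that
`n(t) = xp(t) xm(-t⁻¹) xp(t)` interchanges them in the way it does in `SL₂`, and no nontrivial
`xm s` normalises `{xp r}`.

`SL2Par.compare`: two such parametrisations (over finite fields `F`, `F'`) of the same pair of
subgroups differ by a field isomorphism and a scalar.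
-/

set_option autoImplicit false

namespace Cfsg.Agent.TitsThree.Hua

open Cfsg.Agent.AGraded Cfsg.Agent.TitsThree
open scoped commutatorElement

/-! ### Hua's identity -/

/-- `a - (a⁻¹ + (b⁻¹ - a)⁻¹)⁻¹ = a b a` -/
theorem hua_identity {F : Type*} [Field F] {a b : F} (ha : a ≠ 0) (hb : b ≠ 0) (hab : a * b ≠ 1) :
    a - (a⁻¹ + (b⁻¹ - a)⁻¹)⁻¹ = a * a * b := by
  have h1 : b⁻¹ - a ≠ 0 := by
    intro h
    apply hab
    have : a = b⁻¹ := (sub_eq_zero.1 h).symm
    rw [this, inv_mul_cancel₀ hb]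
  have h2 : 1 - a * b ≠ 0 := fun h => hab (sub_eq_zero.1 h).symm
  have h3 : b⁻¹ - a = (1 - a * b) * b⁻¹ := by
    field_simp
  have h4 : a⁻¹ + (b⁻¹ - a)⁻¹ = a⁻¹ * (1 - a * b)⁻¹ := by
    rw [h3, mul_inv, inv_inv]
    field_simp
    ring
  rw [h4, mul_inv, inv_inv, inv_inv]
  ring

section Hua

variable {F F' : Type*} [Field F] [Field F']

/-- Additive maps `σ, τ` with `τ (t⁻¹) = (σ t)⁻¹` satisfy `σ (a a b) = σ a σ a τ b`. -/
theorem hua_map (σ τ : F' →+ F) (hσ : Function.Injective σ)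
    (h : ∀ t, t ≠ 0 → τ (t⁻¹) = (σ t)⁻¹) (a b : F') : σ (a * a * b) = σ a * σ a * τ b := by
  by_cases ha : a = 0
  · simp [ha]
  by_cases hb : b = 0
  · simp [hb]
  have hσb : σ (b⁻¹) = (τ b)⁻¹ := by
    have := h b⁻¹ (inv_ne_zero hb)
    rw [inv_inv] at this
    rw [this, inv_inv]
  have hσa : σ a ≠ 0 := fun e => ha (hσ (by rw [e, map_zero]))
  have hτb : τ b ≠ 0 := by
    intro e
    rw [e, inv_zero] at hσb
    exact inv_ne_zero hb (hσ (by rw [hσb, map_zero]))
  by_cases hab : a * b = 1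
  · have hb' : b = a⁻¹ := eq_inv_of_mul_eq_one_right hab
    rw [hb', h a ha, mul_inv_cancel_right₀ ha, mul_inv_cancel_right₀ hσa]
  have h1 : b⁻¹ - a ≠ 0 := by
    intro e
    apply hab
    have : a = b⁻¹ := (sub_eq_zero.1 e).symm
    rw [this, inv_mul_cancel₀ hb]
  have h2 : a⁻¹ + (b⁻¹ - a)⁻¹ ≠ 0 := by
    intro e
    have h3 : (b⁻¹ - a)⁻¹ = -a⁻¹ := by rw [← sub_eq_zero, sub_neg_eq_add, add_comm]; exact e
    have h4 : b⁻¹ - a = -a := by rw [← inv_inv (b⁻¹ - a), h3, inv_neg, inv_inv]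
    have h5 : b⁻¹ = 0 := by
      have := congrArg (· + a) h4
      simpa using this
    exact inv_ne_zero hb h5
  have key : σ ((a⁻¹ + (b⁻¹ - a)⁻¹)⁻¹) = ((σ a)⁻¹ + ((τ b)⁻¹ - σ a)⁻¹)⁻¹ := by
    have e1 : σ ((a⁻¹ + (b⁻¹ - a)⁻¹)⁻¹) = (τ (a⁻¹ + (b⁻¹ - a)⁻¹))⁻¹ := by
      have := h ((a⁻¹ + (b⁻¹ - a)⁻¹)⁻¹) (inv_ne_zero h2)
      rw [inv_inv] at this
      rw [this, inv_inv]
    rw [e1, map_add, h a ha, h _ h1, map_sub, hσb]
  have hab' : σ a * τ b ≠ 1 := by
    intro e
    have : τ b = (σ a)⁻¹ := eq_inv_of_mul_eq_one_right e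
    rw [← h a ha] at this
    have h6 : σ (b⁻¹) = σ a := by rw [hσb, this, h a ha, inv_inv]
    exact h1 (sub_eq_zero.2 (hσ h6))
  rw [← hua_identity ha hb hab, map_sub, key, hua_identity hσa hτb hab']

/-- **Hua.** Additive maps `σ, τ : F' → F`, `σ` injective, `σ 1 = 1`, `τ (t⁻¹) = (σ t)⁻¹`, `F'` finite: then `σ = τ` is
multiplicative. -/
theorem hua_mul [Finite F'] (σ τ : F' →+ F) (hσ : Function.Injective σ) (h1 : σ 1 = 1)
    (h : ∀ t, t ≠ 0 → τ (t⁻¹) = (σ t)⁻¹) :
    (∀ t, τ t = σ t) ∧ ∀ a b, σ (a * b) = σ a * σ b := by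
  have hm := hua_map σ τ hσ h
  have hτ : ∀ t, τ t = σ t := by
    intro t
    have := hm 1 t
    rw [one_mul, one_mul, h1, one_mul, one_mul] at this
    exact this.symm
  refine ⟨hτ, ?_⟩
  simp only [hτ] at hm
  have hsq : ∀ a, σ (a * a) = σ a * σ a := by
    intro a
    have := hm a 1
    rwa [mul_one, h1, mul_one] at this
  intro a b
  by_cases h2 : (2 : F') = 0
  · -- characteristic two: every element is a square
    haveI := CharTwo.of_one_ne_zero_of_two_eq_zero (one_ne_zero : (1 : F') ≠ 0) h2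
    have hinj : Function.Injective (fun c : F' => c * c) := by
      intro c d hcd
      have hcd' : c * c = d * d := hcd
      have h3 : (c + d) * (c + d) = 0 := by
        have : (c + d) * (c + d) = c * c + d * d + 2 * (c * d) := by ring
        rw [this, hcd', h2, zero_mul, add_zero, ← two_mul, h2, zero_mul]
      have h4 : c + d = 0 := by simpa using h3
      rwa [CharTwo.add_eq_zero] at h4
    obtain ⟨c, hc⟩ := (Finite.injective_iff_surjective.1 hinj) a
    have hc' : c * c = a := hc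
    rw [← hc', hm, hsq]
  · have h3 := hm (a + 1) b
    have h4 := hm a b
    have e1 : (a + 1) * (a + 1) * b = a * a * b + (a * b + a * b) + b := by ring
    rw [e1, map_add, map_add, map_add, map_add, h1, h4] at h3
    have h5 : σ (a * b) + σ (a * b) = σ a * σ b + σ a * σ b := by linear_combination h3
    have h6 : σ (2 * (a * b)) = σ (2 : F') * (σ a * σ b) := by
      rw [two_mul, map_add, h5]
      have : σ (2 : F') = 2 := by
        rw [← one_add_one_eq_two, map_add, h1]; norm_num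
      rw [this]; ring
    have h7 : (2 : F) ≠ 0 := by
      intro e
      apply h2
      apply hσ
      rw [map_zero, ← one_add_one_eq_two, map_add, h1, one_add_one_eq_two, e]
    have h8 : (2 : F) * (σ (a * b) - σ a * σ b) = 0 := by linear_combination h5
    rcases mul_eq_zero.1 h8 with h9 | h9
    · exact absurd h9 h7
    · exact sub_eq_zero.1 h9

end Hua

/-! ### Rank one parametrisations -/

variable {F : Type*} [Field F] {G : Type*} [Group G]

/-- Parametrisations of two root groups of type `SL₂`. -/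
structure SL2Par (xp xm : F → G) : Prop where
  addp : ∀ s t, xp (s + t) = xp s * xp t
  addm : ∀ s t, xm (s + t) = xm s * xm t
  injp : Function.Injective xp
  injm : Function.Injective xm
  conjp : ∀ t, t ≠ 0 → ∀ s, nn xp xm t * xp s * (nn xp xm t)⁻¹ = xm (-(t⁻¹ * t⁻¹ * s))
  conjm : ∀ t, t ≠ 0 → ∀ s, nn xp xm t * xm s * (nn xp xm t)⁻¹ = xp (-(t * t * s))
  norm : ∀ s, (∀ r, ∃ r', xm s * xp r * (xm s)⁻¹ = xp r') → s = 0

namespace SL2Par

variable {xp xm : F → G} (h : SL2Par xp xm)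

include h

theorem zerop : xp 0 = 1 := by
  have := h.addp 0 0
  rw [add_zero] at this
  exact left_eq_mul.1 this

theorem zerom : xm 0 = 1 := by
  have := h.addm 0 0
  rw [add_zero] at this
  exact left_eq_mul.1 this

theorem negp (t : F) : xp (-t) = (xp t)⁻¹ := by
  rw [eq_inv_iff_mul_eq_one, ← h.addp, neg_add_cancel, h.zerop]

theorem negm (t : F) : xm (-t) = (xm t)⁻¹ := by
  rw [eq_inv_iff_mul_eq_one, ← h.addm, neg_add_cancel, h.zerom]

/-- The positive root group. -/
def Xp : Subgroup G where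
  carrier := Set.range xp
  mul_mem' := by
    rintro _ _ ⟨a, rfl⟩ ⟨b, rfl⟩
    exact ⟨a + b, h.addp a b⟩
  one_mem' := ⟨0, h.zerop⟩
  inv_mem' := by
    rintro _ ⟨a, rfl⟩
    exact ⟨-a, h.negp a⟩

/-- The middle factor of a swapping element `xp t * xm s * xp t` is determined. -/
theorem unique_mid {t s : F} (ht : t ≠ 0)
    (hs : ∀ r, ∃ r', (xp t * xm s * xp t) * xp r * (xp t * xm s * xp t)⁻¹ = xm r') : s = -t⁻¹ := by
  -- `n₁ = xp t * xm s * xp t`, `n = nn xp xm t`; `n⁻¹ n₁ = xp(-t) xm(t⁻¹ + s) xp t`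
  have key : -(-t⁻¹) + s = 0 := by
    apply h.norm
    intro r
    -- xm (t⁻¹+s) xp r xm(..)⁻¹ = xp t * n⁻¹ * n₁ * xp (-t) * xp r * ... 
    obtain ⟨r', hr'⟩ := hs r
    obtain ⟨r'', hr''⟩ : ∃ r'', (nn xp xm t)⁻¹ * xm r' * nn xp xm t = xp r'' := by
      refine ⟨-(t * t * r'), ?_⟩
      have := h.conjp t ht (-(t * t * r'))
      have e : -(t⁻¹ * t⁻¹ * -(t * t * r')) = r' := by field_simp
      rw [e] at this
      rw [← this]
      group
    refine ⟨r'', ?_⟩
    rw [h.addm, h.negm]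
    rw [← hr'', ← hr']
    unfold nn
    have e2 : xp t * xp r'' * (xp t)⁻¹ = xp r'' := by
      rw [← h.negp, ← h.addp, ← h.addp]
      congr 1
      ring
    have e3 : xp t * xp r * (xp t)⁻¹ = xp r := by
      rw [← h.negp, ← h.addp, ← h.addp]
      congr 1
      ring
    rw [← hr', ] at hr''
    unfold nn at hr''
    have e4 : xp r'' = (xm (-t⁻¹))⁻¹ * xm s * (xp t * xp r * (xp t)⁻¹) * ((xm (-t⁻¹))⁻¹ * xm s)⁻¹ := by
      rw [← e2, ← hr'']
      group
    rw [hr'', e4, e3]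
  rw [neg_neg] at key
  exact eq_neg_of_add_eq_zero_right key

end SL2Par

end Cfsg.Agent.TitsThree.Hua
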