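import Mathlib
import Cfsg.Agent.TitsThree.GlueA

/-!
# Gluing along a tree (S1143, tree gluing, part T3)

`EdgeA2 Xi Xi' Xj Xj'`: the root groups `Xi, Xi'` (node `i`) and `Xj, Xj'` (node `j`) are part of a
Steinberg system of type `A₂` over *some* finite field.

`Rooted adj r`: the graph `adj` is a tree with root `r` (every node `≠ r` has a parent).

`glueTree`: a parametrisation of the root groups of the root over `F` extends to
parametrisations of all root groups over the same `F`, such that every edge is (exactly) a Steinberg system.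
-/

set_option autoImplicit false

namespace Cfsg.Agent.TitsThree.Tree

open Cfsg.Agent.AGraded Cfsg.Agent.TitsThree Cfsg.Agent.TitsThree.Hua Cfsg.Agent.TitsThree.GlueA
open scoped commutatorElement

variable {G : Type*} [Group G]

/-- Two nodes joined by an edge of type `A₂`, over some finite field. -/
def EdgeA2 (Xi Xi' Xj Xj' : Set G) : Prop :=
  ∃ (F' : Type) (_ : Field F') (_ : Finite F') (x : Fin 3 → Fin 3 → F' → G), SteinRel x ∧
    (∀ a b, a ≠ b → Function.Injective (x a b)) ∧ Set.range (x 0 1) = Xi ∧ Set.range (x 1 0) = Xi' ∧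
    Set.range (x 1 2) = Xj ∧ Set.range (x 2 1) = Xj'

/-- Parametrised root groups of a node. -/
structure Par (F : Type*) [Field F] (Xi Xi' : Set G) where
  xp : F → G
  xm : F → G
  par : SL2Par xp xm
  rp : Set.range xp = Xi
  rm : Set.range xm = Xi'

variable {F : Type*} [Field F]

/-- The parametrised root groups of two nodes are part of a Steinberg system. -/
def Link {Xi Xi' Xj Xj' : Set G} (p : Par F Xi Xi') (q : Par F Xj Xj') : Prop :=
  ∃ x : Fin 3 → Fin 3 → F → G, SteinRel x ∧ (∀ a b, a ≠ b → Function.Injective (x a b)) ∧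
    x 0 1 = p.xp ∧ x 1 0 = p.xm ∧ x 1 2 = q.xp ∧ x 2 1 = q.xm

theorem sg3_injective (a b : Fin 3) : Function.Injective (sg3 (F := F) a b) := by
  intro s t h
  unfold sg3 at h
  split_ifs at h
  · exact neg_injective h
  · exact h

theorem flip_injective {x : Fin 3 → Fin 3 → F → G}
    (hinj : ∀ a b, a ≠ b → Function.Injective (x a b)) (a b : Fin 3) (hab : a ≠ b) :
    Function.Injective (fun t => x (Fin.rev b) (Fin.rev a) (sg3 a b t)) :=
  (hinj _ _ fun e => hab (Fin.rev_injective e).symm).comp (sg3_injective a b)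

theorem Link.symm {Xi Xi' Xj Xj' : Set G} {p : Par F Xi Xi'} {q : Par F Xj Xj'} (h : Link p q) :
    Link q p := by
  obtain ⟨x, hx, hinj, h1, h2, h3, h4⟩ := h
  refine ⟨_, SteinRel.flip hx, flip_injective hinj, ?_, ?_, ?_, ?_⟩
  · funext t; rw [← h3]; simp [sg3]
  · funext t; rw [← h4]; simp [sg3]
  · funext t; rw [← h1]; simp [sg3]
  · funext t; rw [← h2]; simp [sg3]

theorem EdgeA2.symm {Xi Xi' Xj Xj' : Set G} (h : EdgeA2 Xi Xi' Xj Xj') : EdgeA2 Xj Xj' Xi Xi' := by
  obtain ⟨F', i1, i2, x, hx, hinj, h1, h2, h3, h4⟩ := h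
  refine ⟨F', i1, i2, _, SteinRel.flip hx, flip_injective hinj, ?_, ?_, ?_, ?_⟩
  · rw [← h3]; congr 1
  · rw [← h4]; congr 1
  · rw [← h1]; congr 1
  · rw [← h2]; congr 1

theorem EdgeA2.step {Xi Xi' Xj Xj' : Set G} (h : EdgeA2 Xi Xi' Xj Xj') (p : Par F Xi Xi') :
    ∃ q : Par F Xj Xj', Link p q := by
  obtain ⟨F', i1, i2, x, hx, hinj, h1, h2, h3, h4⟩ := h
  obtain ⟨y, hy, e1, e2, hyinj, hr⟩ := glue p.par hx hinj (h1.trans p.rp.symm) (h2.trans p.rm.symm)
  exact ⟨⟨y 1 2, y 2 1, sl2Par hy hyinj (by decide), (hr 1 2 (by decide)).trans h3,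
    (hr 2 1 (by decide)).trans h4⟩, y, hy, hyinj, e1, e2, rfl, rfl⟩

/-- A node parametrised through an edge. -/
theorem EdgeA2.exists_par {Xi Xi' Xj Xj' : Set G} (h : EdgeA2 Xi Xi' Xj Xj') :
    ∃ (F' : Type) (_ : Field F') (_ : Finite F'), Nonempty (Par F' Xi Xi') := by
  obtain ⟨F', i1, i2, x, hx, hinj, h1, h2, h3, h4⟩ := h
  exact ⟨F', i1, i2, ⟨⟨x 0 1, x 1 0, sl2Par hx hinj (by decide), h1, h2⟩⟩⟩

/-! ### trees -/

/-- The graph `adj` is a tree with root `r`. -/
structure Rooted {I : Type*} (adj : I → I → Prop) (r : I) where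
  par : I → I
  rk : I → ℕ
  rk_par : ∀ i, i ≠ r → rk (par i) < rk i
  adj_par : ∀ i, i ≠ r → adj (par i) i ∨ adj i (par i)
  edge : ∀ i j, adj i j → (j ≠ r ∧ par j = i) ∨ (i ≠ r ∧ par i = j)

section Section

variable {I : Type*} {adj : I → I → Prop} {r : I} (T : Rooted adj r) {P : I → Type*}
  (C : ∀ i j, P i → P j → Prop)

theorem exists_section (p0 : P r)
    (hstep : ∀ i, i ≠ r → ∀ p : P (T.par i), ∃ q : P i, C (T.par i) i p q) :
    ∃ s : ∀ i, P i, s r = p0 ∧ ∀ i, i ≠ r → C (T.par i) i (s (T.par i)) (s i) := by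
  classical
  choose next hnext using hstep
  let f : ∀ n : ℕ, ∀ i, T.rk i < n → P i := fun n => Nat.rec (fun i hi => absurd hi (Nat.not_lt_zero _))
    (fun n ih i hi => if h : i = r then h ▸ p0 else
      next i h (ih (T.par i) (lt_of_lt_of_le (T.rk_par i h) (Nat.lt_succ_iff.1 hi)))) n
  have f_succ : ∀ n i (hi : T.rk i < n + 1), f (n + 1) i hi = if h : i = r then h ▸ p0 else
      next i h (f n (T.par i) (lt_of_lt_of_le (T.rk_par i h) (Nat.lt_succ_iff.1 hi))) := by
    intro n i hi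
    rfl
  have f_indep : ∀ n m i (hn : T.rk i < n) (hm : T.rk i < m), f n i hn = f m i hm := by
    intro n
    induction n with
    | zero => intro m i hn; exact absurd hn (Nat.not_lt_zero _)
    | succ n ih =>
      intro m i hn hm
      obtain ⟨m, rfl⟩ : ∃ m', m = m' + 1 := ⟨m - 1, by omega⟩
      rw [f_succ n i hn, f_succ m i hm]
      by_cases h : i = r
      · rw [dif_pos h, dif_pos h]
      · rw [dif_neg h, dif_neg h]
        exact congrArg (next i h) (ih _ _ _ _)
  refine ⟨fun i => f (T.rk i + 1) i (Nat.lt_succ_self _), ?_, ?_⟩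
  · have e := f_succ (T.rk r) r (Nat.lt_succ_self _)
    rw [dif_pos rfl] at e
    exact e
  · intro i hi
    have e := f_succ (T.rk i) i (Nat.lt_succ_self _)
    rw [dif_neg hi] at e
    have e2 := f_indep (T.rk (T.par i) + 1) (T.rk i) (T.par i) (Nat.lt_succ_self _) (T.rk_par i hi)
    simp only [e, e2]
    exact hnext _ _ _

end Section

/-- **Gluing along a tree.** -/
theorem glueTree {I : Type*} {adj : I → I → Prop} {r : I} (T : Rooted adj r) (Xp Xm : I → Set G)
    (hE : ∀ i j, adj i j → EdgeA2 (Xp i) (Xm i) (Xp j) (Xm j)) (p0 : Par F (Xp r) (Xm r)) :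
    ∃ s : ∀ i, Par F (Xp i) (Xm i), s r = p0 ∧ ∀ i j, adj i j ∨ adj j i → Link (s i) (s j) := by
  obtain ⟨s, h0, hs⟩ := exists_section T (P := fun i => Par F (Xp i) (Xm i))
    (C := fun i j p q => Link p q) p0 (fun i hi p => by
      rcases T.adj_par i hi with h | h
      · exact (hE _ _ h).step p
      · exact (hE _ _ h).symm.step p)
  have key : ∀ i j, adj i j → Link (s i) (s j) := by
    intro i j hij
    rcases T.edge i j hij with ⟨h1, h2⟩ | ⟨h1, h2⟩
    · subst h2; exact hs j h1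
    · subst h2; exact (hs i h1).symm
  refine ⟨s, h0, fun i j hij => ?_⟩
  rcases hij with h | h
  · exact key i j h
  · exact (key j i h).symm

/-- the same with functions `xp, xm : I → F → G` -/
theorem glueTree' {I : Type*} {adj : I → I → Prop} {r : I} (T : Rooted adj r) (Xp Xm : I → Set G)
    (hE : ∀ i j, adj i j → EdgeA2 (Xp i) (Xm i) (Xp j) (Xm j)) {up um : F → G}
    (h0 : SL2Par up um) (hp : Set.range up = Xp r) (hm : Set.range um = Xm r) :
    ∃ xp xm : I → F → G, xp r = up ∧ xm r = um ∧ (∀ i, SL2Par (xp i) (xm i)) ∧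
      (∀ i, Set.range (xp i) = Xp i) ∧ (∀ i, Set.range (xm i) = Xm i) ∧
      ∀ i j, adj i j ∨ adj j i → ∃ x : Fin 3 → Fin 3 → F → G, SteinRel x ∧
        (∀ a b, a ≠ b → Function.Injective (x a b)) ∧
        x 0 1 = xp i ∧ x 1 0 = xm i ∧ x 1 2 = xp j ∧ x 2 1 = xm j := by
  obtain ⟨s, h1, h2⟩ := glueTree T Xp Xm hE ⟨up, um, h0, hp, hm⟩
  exact ⟨fun i => (s i).xp, fun i => (s i).xm, by show (s r).xp = up; rw [h1],
    by show (s r).xm = um; rw [h1], fun i => (s i).par, fun i => (s i).rp, fun i => (s i).rm, h2⟩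

/-! ### The trees we need -/

/-- nodes `0, …, n`, every node `≠ 0` has a smaller neighbour -/
def rootedFin {n : ℕ} (adj : Fin (n + 1) → Fin (n + 1) → Prop) (par : Fin (n + 1) → Fin (n + 1))
    (hpar : ∀ i, i ≠ 0 → par i < i) (hadj : ∀ i, i ≠ 0 → adj (par i) i ∨ adj i (par i))
    (hedge : ∀ i j, adj i j → (j ≠ 0 ∧ par j = i) ∨ (i ≠ 0 ∧ par i = j)) : Rooted adj 0 where
  par := par
  rk := fun i => i
  rk_par := hpar
  adj_par := hadj
  edge := hedge

/-- Transport along a relabelling of the nodes. -/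
def Rooted.comap {I J : Type*} {adj : I → I → Prop} {r : J} (e : J ≃ I)
    (T : Rooted (fun a b : J => adj (e a) (e b)) r) : Rooted adj (e r) where
  par i := e (T.par (e.symm i))
  rk i := T.rk (e.symm i)
  rk_par i hi := by
    have h : e.symm i ≠ r := fun h => hi (by rw [← h, Equiv.apply_symm_apply])
    simpa using T.rk_par _ h
  adj_par i hi := by
    have h : e.symm i ≠ r := fun h => hi (by rw [← h, Equiv.apply_symm_apply])
    simpa using T.adj_par _ h
  edge i j hij := by
    have hij' : adj (e (e.symm i)) (e (e.symm j)) := by simpa using hij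
    rcases T.edge (e.symm i) (e.symm j) hij' with ⟨h1, h2⟩ | ⟨h1, h2⟩
    · exact Or.inl ⟨fun h => h1 (by rw [h, Equiv.symm_apply_apply]), by rw [h2, Equiv.apply_symm_apply]⟩
    · exact Or.inr ⟨fun h => h1 (by rw [h, Equiv.symm_apply_apply]), by rw [h2, Equiv.apply_symm_apply]⟩

end Cfsg.Agent.TitsThree.Tree
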