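import Cfsg.Agent.TitsThree.C3Sgn

/-!
# From the signed relations of type `C₃` to the package `B2Rel`
-/

set_option autoImplicit false

namespace Cfsg.Agent.TitsThree.C3B2

open scoped commutatorElement
open Cfsg.Agent.TitsThree.C3Grp Cfsg.Agent.TitsThree.PQAbs Cfsg.Agent.TitsThree.C3Sgn
open Cfsg.Agent.TitsThree.B2Pkg

variable {F : Type*} [Field F] {T : Type*} [Group T] {P : Sys F T} {G : Type*} [Group G]

/-! ### scalars -/

section scalars

variable (P)

theorem gg_ne (x : S) : gg P.ε x ≠ 0 := by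
  unfold gg; split_ifs
  · exact P.ε_ne
  · exact one_ne_zero

theorem σ_gg (x : S) : P.σ (gg P.ε x) = (gg P.ε x)⁻¹ := by
  unfold gg; split_ifs
  · exact eq_inv_of_mul_eq_one_right P.ε_mul
  · simp

theorem σε : P.σ P.ε = P.ε⁻¹ := eq_inv_of_mul_eq_one_right P.ε_mul

theorem gg_op (x : S) : gg P.ε (op x) = P.ε * (gg P.ε x)⁻¹ := by
  obtain ⟨i, b⟩ := x
  cases b
  · simp [op, gg]
  · simp [op, gg, mul_inv_cancel₀ P.ε_ne]

theorem σ_ne {a : F} (h : a ≠ 0) : P.σ a ≠ 0 := (map_ne_zero_iff P.σ P.σ.injective).2 h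

/-- `(-1) p * tr (-c p) * p = 1` -/
theorem neg_smul_rel (p : T) : P.smul (-1) p * P.tr (-P.c p) * p = 1 := by
  have h1 := P.add_smul (-1) 1 p
  rw [neg_add_cancel, P.zero_smul, P.one_smul, map_one] at h1
  have h2 : (-1 : F) * 1 * P.c p = -P.c p := by ring
  rw [h2, mul_assoc, ← P.tr_comm, ← mul_assoc] at h1
  exact h1.symm

theorem neg_smul_rel' (a : F) (p : T) :
    P.smul (-a) p * P.smul a p = P.tr (a * P.σ a * P.c p) := by
  have h1 := P.add_smul (-a) a p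
  rw [neg_add_cancel, P.zero_smul] at h1
  have h2 : -a * P.σ a * P.c p = -(a * P.σ a * P.c p) := by ring
  rw [h2, P.tr_neg] at h1
  exact (mul_inv_eq_one.mp h1.symm)

end scalars

variable (R : Sgn P G)

include R

/-! ### basic facts -/

theorem E_zero {x y : S} (hxy : x.1 ≠ y.1) : R.E x y 0 = 1 := by
  have := R.E_add x y hxy 0 0
  rw [add_zero] at this; simpa using this

theorem E_neg {x y : S} (hxy : x.1 ≠ y.1) (t : F) : R.E x y (-t) = (R.E x y t)⁻¹ := by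
  rw [eq_inv_iff_mul_eq_one, ← R.E_add x y hxy, neg_add_cancel, E_zero R hxy]

theorem Z_one (x : S) : R.Z x 1 = 1 := by
  have := R.Z_mul x 1 1
  rw [mul_one] at this; simpa using this

theorem Z_inv (x : S) (p : T) : R.Z x p⁻¹ = (R.Z x p)⁻¹ := by
  rw [eq_inv_iff_mul_eq_one, ← R.Z_mul, inv_mul_cancel, Z_one]

theorem cgE_Exz {x y z : S} (hxy : x.1 ≠ y.1) (hxz : x.1 ≠ z.1) (hyz : y.1 ≠ z.1) (s t : F) :
    cg (R.E x y s) (R.E x z t) = R.E x z t := cg_of_comm (R.E_comm x y z hxy hxz hyz s t)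

theorem cgE_Eyz {x y z : S} (hxy : x.1 ≠ y.1) (hxz : x.1 ≠ z.1) (hyz : y.1 ≠ z.1) (s t : F) :
    cg (R.E x y s) (R.E y z t) = R.E x z (s * t) * R.E y z t := by
  rw [cg_eq, R.E_E x y z hxy hxz hyz]

theorem cgE_Ezy {x y z : S} (hxy : x.1 ≠ y.1) (hxz : x.1 ≠ z.1) (hyz : y.1 ≠ z.1) (s t : F) :
    cg (R.E x y s) (R.E z y t) = R.E z y t := by
  rw [R.E_swap x y hxy, R.E_swap z y (Ne.symm hyz)]
  exact cgE_Exz R (by simpa using Ne.symm hxy) (by simpa using hyz) (by simpa using hxz) _ _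

theorem cgE_Ezx {x y z : S} (hxy : x.1 ≠ y.1) (hxz : x.1 ≠ z.1) (hyz : y.1 ≠ z.1) (s t : F) :
    cg (R.E x y s) (R.E z x t) = R.E z y (-(t * s)) * R.E z x t := by
  rw [cg_eq, ← commutatorElement_inv, R.E_E z x y (Ne.symm hxz) (Ne.symm hyz) hxy,
    E_neg R (Ne.symm hyz)]

theorem comm_Exz_Eyz {x y z : S} (hxy : x.1 ≠ y.1) (hxz : x.1 ≠ z.1) (hyz : y.1 ≠ z.1) (s t : F) :
    R.E x z s * R.E y z t = R.E y z t * R.E x z s :=
  comm_of_cg (cgE_Ezy R hxz hxy (Ne.symm hyz) s t)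

/-- `n x y = E x y 1 * E y x (-1) * E x y 1` -/
def n (x y : S) : G := R.E x y 1 * R.E y x (-1) * R.E x y 1

theorem n_Eyz {x y z : S} (hxy : x.1 ≠ y.1) (hxz : x.1 ≠ z.1) (hyz : y.1 ≠ z.1) (t : F) :
    cg (n R x y) (R.E y z t) = R.E x z t := by
  rw [n, mul_cg, mul_cg, cgE_Eyz R hxy hxz hyz, one_mul, cg_mul,
    cgE_Eyz R (Ne.symm hxy) hyz hxz, cgE_Exz R (Ne.symm hxy) hyz hxz, neg_one_mul,
    ← comm_Exz_Eyz R hxy hxz hyz, mul_assoc, ← R.E_add y z hyz, neg_add_cancel, E_zero R hyz,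
    mul_one, cgE_Exz R hxy hxz hyz]

theorem n_Exz {x y z : S} (hxy : x.1 ≠ y.1) (hxz : x.1 ≠ z.1) (hyz : y.1 ≠ z.1) (t : F) :
    cg (n R x y) (R.E x z t) = R.E y z (-t) := by
  rw [n, mul_cg, mul_cg, cgE_Exz R hxy hxz hyz, cgE_Eyz R (Ne.symm hxy) hyz hxz, neg_one_mul,
    cg_mul, cgE_Eyz R hxy hxz hyz, cgE_Exz R hxy hxz hyz, one_mul, mul_assoc,
    ← comm_Exz_Eyz R hxy hxz hyz, ← mul_assoc, ← R.E_add x z hxz, neg_add_cancel, E_zero R hxz,
    one_mul]

theorem comm_Ezx_Ezy {x y z : S} (hxy : x.1 ≠ y.1) (hxz : x.1 ≠ z.1) (hyz : y.1 ≠ z.1) (s t : F) :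
    R.E z x s * R.E z y t = R.E z y t * R.E z x s :=
  R.E_comm z x y (Ne.symm hxz) (Ne.symm hyz) hxy s t

theorem n_Ezx {x y z : S} (hxy : x.1 ≠ y.1) (hxz : x.1 ≠ z.1) (hyz : y.1 ≠ z.1) (t : F) :
    cg (n R x y) (R.E z x t) = R.E z y (-t) := by
  rw [n, mul_cg, mul_cg, cgE_Ezx R hxy hxz hyz, cg_mul, cgE_Ezx R (Ne.symm hxy) hyz hxz,
    cgE_Ezy R (Ne.symm hxy) hyz hxz, mul_one]
  have h1 : -(-t * -1) = -t := by ring
  rw [h1, comm_Ezx_Ezy R hxy hxz hyz, mul_assoc, ← R.E_add z x (Ne.symm hxz), neg_add_cancel,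
    E_zero R (Ne.symm hxz), mul_one, cgE_Ezy R hxy hxz hyz]

theorem n_Ezy {x y z : S} (hxy : x.1 ≠ y.1) (hxz : x.1 ≠ z.1) (hyz : y.1 ≠ z.1) (t : F) :
    cg (n R x y) (R.E z y t) = R.E z x t := by
  rw [n, mul_cg, mul_cg, cgE_Ezy R hxy hxz hyz, cgE_Ezx R (Ne.symm hxy) hyz hxz, cg_mul,
    cgE_Ezx R hxy hxz hyz, cgE_Ezy R hxy hxz hyz, mul_one]
  have h1 : -(t * -1) = t := by ring
  rw [h1, mul_assoc, comm_Ezx_Ezy R hxy hxz hyz, ← mul_assoc, ← R.E_add z y (Ne.symm hyz),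
    neg_add_cancel, E_zero R (Ne.symm hyz), one_mul]

/-- E x y t as a commutator -/
theorem E_split {x y z : S} (hxy : x.1 ≠ y.1) (hxz : x.1 ≠ z.1) (hyz : y.1 ≠ z.1) (t : F) :
    R.E x y t = ⁅R.E x z t, R.E z y 1⁆ := by
  rw [R.E_E x z y hxz hxy (Ne.symm hyz), mul_one]

theorem n_Exy {x y : S} (hxy : x.1 ≠ y.1) (t : F) :
    cg (n R x y) (R.E x y t) = R.E y x (-t) := by
  obtain ⟨z, hzx, hzy⟩ := exists_third x y
  rw [E_split R hxy (Ne.symm hzx) (Ne.symm hzy), cg_comm, n_Exz R hxy (Ne.symm hzx) (Ne.symm hzy),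
    n_Ezy R hxy (Ne.symm hzx) (Ne.symm hzy), R.E_E y z x (Ne.symm hzy) (Ne.symm hxy) hzx, mul_one]

theorem n_Eyx {x y : S} (hxy : x.1 ≠ y.1) (t : F) :
    cg (n R x y) (R.E y x t) = R.E x y (-t) := by
  obtain ⟨z, hzx, hzy⟩ := exists_third x y
  rw [E_split R (Ne.symm hxy) (Ne.symm hzy) (Ne.symm hzx), cg_comm,
    n_Eyz R hxy (Ne.symm hzx) (Ne.symm hzy),
    n_Ezx R hxy (Ne.symm hzx) (Ne.symm hzy), R.E_E x z y (Ne.symm hzx) hxy hzy]
  congr 1; ring

/-- `n x y = E y x (-1) * E x y 1 * E y x (-1)` -/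
theorem n_eq {x y : S} (hxy : x.1 ≠ y.1) :
    n R x y = R.E y x (-1) * R.E x y 1 * R.E y x (-1) := by
  have h1 : cg (n R x y) (n R x y) = n R x y := by simp [cg]
  rw [← h1]
  conv_lhs => rw [n]
  change cg (n R x y) _ = _
  rw [cg_mul, cg_mul, n_Exy R hxy, n_Eyx R hxy, neg_neg]

theorem n_neg {x y : S} (hxy : x.1 ≠ y.1) (hg : gg P.ε x = gg P.ε y) :
    n R x y = n R (op x) (op y) := by
  have h0 := gg_ne P y
  rw [n_eq R (x := op x) (y := op y) (by simpa using hxy), n, R.E_swap x y hxy,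
    R.E_swap y x (Ne.symm hxy), hg, mul_inv_cancel₀ h0, map_one, map_neg, map_one]
  norm_num

/-- conjugation of `E x (op y)` by `n x y` -/
theorem n_Exny {x y : S} (hxy : x.1 ≠ y.1) (t : F) :
    cg (n R x y) (R.E x (op y) t) =
      R.E x (op y) (gg P.ε y * gg P.ε y * P.ε⁻¹ * P.σ t) := by
  obtain ⟨z, hzx, hzy⟩ := exists_third x y
  have hxz := Ne.symm hzx
  have hyz := Ne.symm hzy
  rw [E_split R (y := op y) hxy hxz hyz, cg_comm, n_Exz R hxy hxz hyz]
  rw [R.E_swap z (op y) hzy, op_op, n_Eyz R (z := op z) hxy hxz hyz,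
    R.E_swap x (op z) hxz, op_op, R.E_E y z (op x) hyz (Ne.symm hxy) hzx,
    R.E_swap y (op x) (Ne.symm hxy), op_op]
  congr 1
  simp only [map_neg, map_mul, map_inv₀, gg_op, σ_gg, σε, map_one]
  have := gg_ne P x
  have := gg_ne P y
  have := gg_ne P z
  have := P.ε_ne
  field_simp

theorem n_Enxy {x y : S} (hxy : x.1 ≠ y.1) (t : F) :
    cg (n R x y) (R.E (op x) y t) =
      R.E (op x) y (P.ε * (gg P.ε x * gg P.ε x)⁻¹ * P.σ t) := by
  obtain ⟨z, hzx, hzy⟩ := exists_third x y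
  have hxz := Ne.symm hzx
  have hyz := Ne.symm hzy
  rw [E_split R (x := op x) hxy hxz hyz, cg_comm, n_Ezy R hxy hxz hyz]
  rw [R.E_swap (op x) z hxz, op_op, n_Ezx R (z := op z) hxy hxz hyz,
    R.E_swap (op z) y hzy, op_op, R.E_E (op y) z x hyz (Ne.symm hxy) hzx,
    R.E_swap (op y) x (Ne.symm hxy), op_op]
  congr 1
  simp only [map_neg, map_mul, map_inv₀, gg_op, σ_gg, σε, P.σσ, map_one]
  have := gg_ne P x
  have := gg_ne P y
  have := gg_ne P z
  have := P.ε_ne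
  field_simp

/-! ### short root elements -/

theorem Z_Exy {x y : S} (hxy : x.1 ≠ y.1) (p : T) (t : F) :
    R.Z x p * R.E x y t = R.E x y t * R.Z x p := R.Z_E x y hxy p t

theorem Z_Exny {x y : S} (hxy : x.1 ≠ y.1) (p : T) (t : F) :
    R.Z y p * R.E x (op y) t = R.E x (op y) t * R.Z y p := by
  rw [R.E_swap x (op y) hxy, op_op]
  exact R.Z_E y (op x) (Ne.symm hxy) p _

theorem Z_nE {x y : S} (hxy : x.1 ≠ y.1) (p : T) (t : F) :
    R.Z (op y) p * R.E x y t = R.E x y t * R.Z (op y) p := by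
  have := Z_Exny R (y := op y) hxy p t
  rwa [op_op] at this

theorem cgE_Zx {x y : S} (hxy : x.1 ≠ y.1) (a : F) (p : T) :
    cg (R.E x y a) (R.Z x p) = R.Z x p := cg_of_comm (R.Z_E x y hxy p a).symm

theorem cgE_Zny {x y : S} (hxy : x.1 ≠ y.1) (a : F) (p : T) :
    cg (R.E x y a) (R.Z (op y) p) = R.Z (op y) p := cg_of_comm (Z_nE R hxy p a).symm

theorem cgE_Zy {x y : S} (hxy : x.1 ≠ y.1) (a : F) (p : T) :
    cg (R.E x y a) (R.Z y p) =
      R.Z x (P.smul (P.σ a) p) * R.E x (op y) (-(a * gg P.ε y * P.σ (P.c p))) * R.Z y p := by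
  rw [cg, R.E_Z x y hxy]
  simp only [mul_assoc, mul_inv_cancel, mul_one]

theorem cgE_same {x y : S} (hxy : x.1 ≠ y.1) (a b : F) :
    cg (R.E x (op y) a) (R.E x y b) = R.Z x (P.tr (P.σ a * b * gg P.ε y)) * R.E x y b := by
  rw [cg, R.E_same x y hxy]
  simp only [mul_assoc, mul_inv_cancel, mul_one]

theorem cgE_same' {x y : S} (hxy : x.1 ≠ y.1) (a b : F) :
    cg (R.E x y a) (R.E x (op y) b) =
      R.Z x (P.tr (P.σ a * b * gg P.ε (op y))) * R.E x (op y) b := by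
  have := cgE_same R (y := op y) hxy a b
  rwa [op_op] at this

theorem Z_tr_Z {x y : S} (hxy : x.1 ≠ y.1) (m : F) (p : T) :
    R.Z x (P.tr m) * R.Z y p = R.Z y p * R.Z x (P.tr m) := by
  rw [R.Z_Z x y hxy, P.h_tr_right, mul_zero, neg_zero, E_zero R (y := op y) hxy, one_mul]

theorem Z_tr_Z' {x y : S} (hxy : x.1 ≠ y.1) (m : F) (p : T) :
    R.Z x p * R.Z y (P.tr m) = R.Z y (P.tr m) * R.Z x p := by
  rw [R.Z_Z x y hxy, P.h_tr, mul_zero, neg_zero, E_zero R (y := op y) hxy, one_mul]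

theorem Z_Z' {x y : S} (hxy : x.1 ≠ y.1) (p q : T) :
    R.Z y q * R.Z x p = R.E x (op y) (gg P.ε y * P.ε⁻¹ * P.h q p) * (R.Z x p * R.Z y q) := by
  rw [R.Z_Z x y hxy, ← mul_assoc, ← R.E_add x (op y) hxy, add_neg_cancel,
    E_zero R (y := op y) hxy, one_mul]

theorem n_Zx_aux {x y : S} (hxy : x.1 ≠ y.1) {a : F} (ha : a * a = 1) (haσ : P.σ a = a) (p : T) :
    cg (R.E x y a * R.E y x (-a) * R.E x y a) (R.Z x p) = R.Z y (P.smul (-a) p) := by
  have hyx := Ne.symm hxy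
  have := gg_ne P x
  have := gg_ne P y
  have hε := P.ε_ne
  rw [mul_cg, mul_cg, cgE_Zx R hxy, cgE_Zy R hyx, cg_mul, cg_mul, cgE_Zx R hxy, cgE_Zy R hxy,
    R.E_swap y (op x) hyx, op_op, cgE_same' R hxy]
  have e2 : P.σ (-a) = -a := by rw [map_neg, haσ]
  rw [e2, haσ]
  have e1 : P.smul a (P.smul (-a) p) = P.smul (-1) p := by
    rw [← P.mul_smul, mul_neg, ha]
  rw [e1]
  set w : F := -(gg P.ε y * (gg P.ε (op x))⁻¹ * P.σ (-(-a * gg P.ε x * P.σ (P.c p)))) with hw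
  have hw' : w = -(a * gg P.ε y * P.ε⁻¹ * P.c p) := by
    rw [hw]
    simp only [map_neg, map_mul, haσ, gg_op, σ_gg, P.σσ]
    field_simp
  have e3 : a * w * gg P.ε (op y) = -P.c p := by
    have : a * w * gg P.ε (op y) = -(a * a * P.c p) := by
      rw [hw', gg_op]; field_simp
    rw [this, ha, one_mul]
  rw [e3]
  have e4 : P.c (P.smul (-a) p) = P.c p := by
    rw [P.c_smul, e2]
    linear_combination P.c p * ha
  rw [e4]
  set q := P.smul (-a) p with hq
  have hqp : P.h q p = -(a * P.h p p) := by rw [hq, P.h_smul]; ring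
  have c1 : R.Z y q * (R.Z x (P.tr (-P.c p)) * R.E x (op y) w) =
      R.Z x (P.tr (-P.c p)) * R.E x (op y) w * R.Z y q := by
    rw [← mul_assoc, ← Z_tr_Z R hxy, mul_assoc, Z_Exny R hxy, ← mul_assoc]
  calc R.Z x (P.smul (-1) p) * R.E x (op y) (-(a * gg P.ε y * P.σ (P.c p))) * R.Z y q *
        (R.Z x (P.tr (-P.c p)) * R.E x (op y) w) * R.Z x p
      = R.Z x (P.smul (-1) p) * R.E x (op y) (-(a * gg P.ε y * P.σ (P.c p))) * (R.Z y q *
        (R.Z x (P.tr (-P.c p)) * R.E x (op y) w)) * R.Z x p := by group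
    _ = R.Z x (P.smul (-1) p) *
        (R.E x (op y) (-(a * gg P.ε y * P.σ (P.c p))) * R.Z x (P.tr (-P.c p))) *
        R.E x (op y) w * (R.Z y q * R.Z x p) := by rw [c1]; group
    _ = R.Z x (P.smul (-1) p) *
        (R.Z x (P.tr (-P.c p)) * R.E x (op y) (-(a * gg P.ε y * P.σ (P.c p)))) *
        R.E x (op y) w * (R.E x (op y) (gg P.ε y * P.ε⁻¹ * P.h q p) * (R.Z x p * R.Z y q)) := by
        rw [← R.Z_E x (op y) hxy, Z_Z' R hxy]
    _ = R.Z x (P.smul (-1) p) * R.Z x (P.tr (-P.c p)) *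
        (R.E x (op y) (-(a * gg P.ε y * P.σ (P.c p))) *
        R.E x (op y) w * R.E x (op y) (gg P.ε y * P.ε⁻¹ * P.h q p)) * R.Z x p * R.Z y q := by
        group
    _ = R.Z x (P.smul (-1) p) * R.Z x (P.tr (-P.c p)) * R.Z x p * R.Z y q := by
        rw [← R.E_add x (op y) hxy, ← R.E_add x (op y) hxy, hqp, hw']
        have h1 := P.c_herm p
        have h2 : -(a * gg P.ε y * P.σ (P.c p)) + -(a * gg P.ε y * P.ε⁻¹ * P.c p) +
            gg P.ε y * P.ε⁻¹ * -(a * P.h p p) = 0 := by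
          field_simp
          linear_combination (-a * gg P.ε y) * h1
        rw [h2, E_zero R (y := op y) hxy, mul_one]
    _ = R.Z y q := by
        rw [← R.Z_mul, ← R.Z_mul, neg_smul_rel, Z_one, one_mul]

/-- `n x y` maps `Z x` to `Z y`. -/
theorem n_Zx {x y : S} (hxy : x.1 ≠ y.1) (p : T) :
    cg (n R x y) (R.Z x p) = R.Z y (P.smul (-1) p) :=
  n_Zx_aux R hxy (one_mul 1) (map_one _) p

/-- `n x y` maps `Z y` to `Z x`. -/
theorem n_Zy {x y : S} (hxy : x.1 ≠ y.1) (p : T) :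
    cg (n R x y) (R.Z y p) = R.Z x p := by
  have h1 := n_Zx_aux R (Ne.symm hxy) (a := -1) (by ring) (by rw [map_neg, map_one]) p
  rw [neg_neg, ← n_eq R hxy, P.one_smul] at h1
  exact h1

/-! ### the elements `n_II` -/

/-- conjugation by `Z y p`, root `b_x - b_y` -/
theorem cgZ_Exy {x y : S} (hxy : x.1 ≠ y.1) (p : T) (a : F) :
    cg (R.Z y p) (R.E x y a) = R.E x (op y) (a * gg P.ε y * P.σ (P.c p)) *
      R.Z x (P.smul (P.σ a) p)⁻¹ * R.E x y a := by
  rw [Z_inv]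
  have h1 := R.E_Z x y hxy a p
  have h2 : R.Z y p * R.E x y a = (R.E x (op y) (-(a * gg P.ε y * P.σ (P.c p))))⁻¹ *
      (R.Z x (P.smul (P.σ a) p))⁻¹ * (R.E x y a * R.Z y p) := by
    rw [h1]; group
  rw [cg, h2, E_neg R (y := op y) hxy, inv_inv]
  group

/-- conjugation by `Z (op y) p`, root `b_x + b_y` -/
theorem cgZ_Exny {x y : S} (hxy : x.1 ≠ y.1) (p : T) (a : F) :
    cg (R.Z (op y) p) (R.E x (op y) a) = R.E x y (a * gg P.ε (op y) * P.σ (P.c p)) *
      R.Z x (P.smul (P.σ a) p)⁻¹ * R.E x (op y) a := by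
  have := cgZ_Exy R (y := op y) hxy p a
  rwa [op_op] at this

theorem cgZ_Zx {x y : S} (hxy : x.1 ≠ y.1) (p q : T) :
    cg (R.Z y q) (R.Z x p) = R.E x (op y) (gg P.ε y * P.ε⁻¹ * P.h q p) * R.Z x p := by
  rw [cg, Z_Z' R hxy]; group

theorem cgZ_Zx' {x y : S} (hxy : x.1 ≠ y.1) (p q : T) :
    cg (R.Z (op y) q) (R.Z x p) = R.E x y (gg P.ε (op y) * P.ε⁻¹ * P.h q p) * R.Z x p := by
  have := cgZ_Zx R (y := op y) hxy p q
  rwa [op_op] at this

/-- the element `n_II` -/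
def nn (y : S) (p : T) : G :=
  R.Z (op y) (P.smul (-(P.ε * (P.c p)⁻¹)) p) * R.Z y p *
    R.Z (op y) (P.smul (-(P.σ (P.c p))⁻¹) p)

omit R in
theorem tr_herm (a : F) (p : T) : P.tr (a * P.σ a * P.h p p) = 1 := by
  apply P.eq_one
  rw [P.c_tr]
  have h1 := P.h_swap p p
  simp only [map_mul, P.σσ]
  linear_combination a * P.σ a * h1

theorem nn_Exy {x y : S} (hxy : x.1 ≠ y.1) (hy : gg P.ε y = P.ε) {p : T} (hp : P.c p ≠ 0) (a : F) :
    cg (nn R y p) (R.E x y a) = R.E x (op y) (P.ε * P.σ (P.c p) * a) := by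
  have hε := P.ε_ne
  have hy' : gg P.ε (op y) = 1 := by rw [gg_op, hy, mul_inv_cancel₀ hε]
  have hσ := σ_ne P hp
  rw [nn, mul_cg, mul_cg, cg_of_comm (Z_nE R hxy _ a), cgZ_Exy R hxy, hy]
  set c := P.c p with hc
  set b := a * P.ε * P.σ c with hb
  set v := P.smul (-(P.ε * c⁻¹)) p with hv
  set s := P.σ a with hs
  have hcv : P.σ (P.c v) = c⁻¹ := by
    rw [hv, P.c_smul, ← hc]
    simp only [map_neg, map_mul, map_inv₀, P.σσ, σε]
    field_simp
  have hbv : P.smul (P.σ b) v = P.smul (-s) p := by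
    rw [hv, ← P.mul_smul]
    congr 1
    rw [hb, hs]
    simp only [map_mul, P.σσ, σε]
    field_simp
  have hvr : P.h v (P.smul s p)⁻¹ = P.ε * c⁻¹ * a * P.h p p := by
    rw [P.h_inv_right, hv, P.h_smul, P.h_smul_right, hs, P.σσ]; ring
  rw [cg_mul, cg_mul, cgZ_Exny R hxy, cgZ_Zx' R hxy, cg_of_comm (Z_nE R hxy _ a), hy',
    hcv, hbv, hvr]
  have e1 : 1 * P.ε⁻¹ * (P.ε * c⁻¹ * a * P.h p p) = c⁻¹ * a * P.h p p := by field_simp
  have e2 : b * 1 * c⁻¹ = b * c⁻¹ := by ring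
  rw [e1, e2]
  set a' := c⁻¹ * a * P.h p p with ha'
  have hsum : b * c⁻¹ + (a' + a) = 0 := by
    have h1 := P.c_herm p
    rw [← hc] at h1
    rw [hb, ha']
    field_simp
    linear_combination a * h1
  have hs2 : a' + a = -(b * c⁻¹) := by linear_combination hsum
  calc R.E x y (b * c⁻¹) * R.Z x (P.smul (-s) p)⁻¹ * R.E x (op y) b *
        (R.E x y a' * R.Z x (P.smul s p)⁻¹) * R.E x y a
      = R.E x y (b * c⁻¹) * R.Z x (P.smul (-s) p)⁻¹ * R.E x (op y) b *
        R.E x y a' * (R.Z x (P.smul s p)⁻¹ * R.E x y a) := by group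
    _ = R.E x y (b * c⁻¹) * R.Z x (P.smul (-s) p)⁻¹ * (R.E x (op y) b *
        (R.E x y a' * R.E x y a)) * R.Z x (P.smul s p)⁻¹ := by
        rw [R.Z_E x y hxy]; group
    _ = R.E x y (b * c⁻¹) * R.Z x (P.smul (-s) p)⁻¹ *
        (R.Z x (P.tr (P.σ b * (a' + a) * P.ε)) * (R.E x y (a' + a) * R.E x (op y) b)) *
        R.Z x (P.smul s p)⁻¹ := by
        rw [← R.E_add x y hxy, R.E_same x y hxy, hy]
    _ = R.E x y (b * c⁻¹) * R.Z x ((P.smul (-s) p)⁻¹ * P.tr (P.σ b * (a' + a) * P.ε)) *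
        R.E x y (a' + a) * (R.E x (op y) b * R.Z x (P.smul s p)⁻¹) := by
        rw [R.Z_mul]; group
    _ = R.Z x ((P.smul (-s) p)⁻¹ * P.tr (P.σ b * (a' + a) * P.ε)) *
        (R.E x y (b * c⁻¹) * R.E x y (a' + a)) * (R.Z x (P.smul s p)⁻¹ * R.E x (op y) b) := by
        rw [← R.Z_E x y hxy, ← R.Z_E x (op y) hxy]; group
    _ = R.Z x ((P.smul (-s) p)⁻¹ * P.tr (P.σ b * (a' + a) * P.ε) * (P.smul s p)⁻¹) *
        R.E x (op y) b := by
        rw [← R.E_add x y hxy, hsum, E_zero R hxy, R.Z_mul _ (_ * _)]; group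
    _ = R.E x (op y) (P.ε * P.σ c * a) := by
        have h3 : (P.smul (-s) p)⁻¹ * P.tr (P.σ b * (a' + a) * P.ε) * (P.smul s p)⁻¹ = 1 := by
          rw [mul_assoc, P.tr_comm, ← mul_assoc, ← mul_inv_rev]
          have h4 := neg_smul_rel' P (-s) p
          rw [neg_neg] at h4
          rw [h4, ← P.tr_neg, ← P.tr_add, hs2, ← tr_herm a p]
          congr 1
          have h1 := P.c_herm p
          rw [← hc] at h1
          rw [← hc, hb, hs]
          simp only [map_mul, map_neg, P.σσ, σε]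
          field_simp
          linear_combination (-a * P.σ a) * h1
        rw [h3, Z_one, one_mul, hb]
        congr 1; ring

theorem nn_Exny {x y : S} (hxy : x.1 ≠ y.1) (hy : gg P.ε y = P.ε) {p : T} (hp : P.c p ≠ 0)
    (b : F) : cg (nn R y p) (R.E x (op y) b) = R.E x y ((P.c p)⁻¹ * b) := by
  have hε := P.ε_ne
  have hy' : gg P.ε (op y) = 1 := by rw [gg_op, hy, mul_inv_cancel₀ hε]
  have hσ := σ_ne P hp
  rw [nn, mul_cg, mul_cg, cgZ_Exny R hxy, hy']
  set c := P.c p with hc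
  set v := P.smul (-(P.σ c)⁻¹) p with hv
  set a := c⁻¹ * b with ha
  set s := P.σ a with hs
  have hcv : P.σ (P.c v) = c⁻¹ := by
    rw [hv, P.c_smul, ← hc]
    simp only [map_neg, map_mul, map_inv₀, P.σσ]
    field_simp
  have hbv : P.smul (P.σ b) v = P.smul (-s) p := by
    rw [hv, ← P.mul_smul]
    congr 1
    rw [hs, ha]
    simp only [map_mul, map_inv₀]
    ring
  have hpr : P.h p (P.smul (-s) p)⁻¹ = a * P.h p p := by
    rw [P.h_inv_right, P.h_smul_right, map_neg, hs, P.σσ]; ring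
  have e1 : b * 1 * c⁻¹ = a := by rw [ha]; ring
  rw [hcv, hbv, e1, cg_mul (R.Z y p), cg_mul (R.Z y p)]
  rw [cgZ_Exy R hxy, cgZ_Zx R hxy, cg_of_comm (Z_Exny R hxy p b), ← hs, ← hc, hy, hpr]
  have e2 : P.ε * P.ε⁻¹ * (a * P.h p p) = a * P.h p p := by field_simp
  rw [e2]
  have hb : b = a * c := by rw [ha]; field_simp
  have hsum : a * P.ε * P.σ c + (a * P.h p p + b) = 0 := by
    have h1 := P.c_herm p
    rw [← hc] at h1
    rw [hb]
    linear_combination a * h1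
  have key : R.E x (op y) (a * P.ε * P.σ c) * R.Z x (P.smul s p)⁻¹ * R.E x y a *
        (R.E x (op y) (a * P.h p p) * R.Z x (P.smul (-s) p)⁻¹) * R.E x (op y) b = R.E x y a := by
    calc R.E x (op y) (a * P.ε * P.σ c) * R.Z x (P.smul s p)⁻¹ * R.E x y a *
        (R.E x (op y) (a * P.h p p) * R.Z x (P.smul (-s) p)⁻¹) * R.E x (op y) b
      = R.E x (op y) (a * P.ε * P.σ c) * R.Z x (P.smul s p)⁻¹ * R.E x y a *
        R.E x (op y) (a * P.h p p) * (R.Z x (P.smul (-s) p)⁻¹ * R.E x (op y) b) := by group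
    _ = R.E x (op y) (a * P.ε * P.σ c) * R.Z x (P.smul s p)⁻¹ * (R.E x y a *
        R.E x (op y) (a * P.h p p + b)) * R.Z x (P.smul (-s) p)⁻¹ := by
        rw [R.Z_E x (op y) hxy, R.E_add x (op y) hxy]; group
    _ = R.E x (op y) (a * P.ε * P.σ c) * R.Z x (P.smul s p)⁻¹ *
        (R.Z x (P.tr (P.σ a * (a * P.h p p + b))) * (R.E x (op y) (a * P.h p p + b) *
          R.E x y a)) * R.Z x (P.smul (-s) p)⁻¹ := by
        have := R.E_same x (op y) hxy a (a * P.h p p + b)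
        rw [op_op, hy', mul_one] at this
        rw [this]
    _ = R.E x (op y) (a * P.ε * P.σ c) * (R.Z x ((P.smul s p)⁻¹ *
        P.tr (P.σ a * (a * P.h p p + b))) * R.E x (op y) (a * P.h p p + b)) *
          (R.E x y a * R.Z x (P.smul (-s) p)⁻¹) := by
        rw [R.Z_mul]; group
    _ = (R.E x (op y) (a * P.ε * P.σ c) * R.E x (op y) (a * P.h p p + b)) *
        (R.Z x ((P.smul s p)⁻¹ * P.tr (P.σ a * (a * P.h p p + b))) *
          R.Z x (P.smul (-s) p)⁻¹) * R.E x y a := by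
        rw [R.Z_E x (op y) hxy, ← R.Z_E x y hxy]; group
    _ = R.E x y a := by
        rw [← R.E_add x (op y) hxy, hsum, E_zero R (y := op y) hxy, one_mul, ← R.Z_mul]
        have h3 : (P.smul s p)⁻¹ * P.tr (P.σ a * (a * P.h p p + b)) * (P.smul (-s) p)⁻¹ = 1 := by
          rw [mul_assoc, P.tr_comm, ← mul_assoc, ← mul_inv_rev, neg_smul_rel' P s p, ← P.tr_neg,
            ← P.tr_add, ← tr_herm a p]
          congr 1
          rw [← hc, hb, hs, P.σσ]
          ring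
        rw [h3, Z_one, one_mul]
  rw [key, cg_of_comm (Z_nE R hxy _ a)]

theorem nn_Zx {x y : S} (hxy : x.1 ≠ y.1) (hy : gg P.ε y = P.ε) {p : T} (hp : P.c p ≠ 0) (q : T) :
    cg (nn R y p) (R.Z x q) =
      R.Z x ((P.smul (-((P.c p)⁻¹ * P.h q p)) p)⁻¹ *
        P.tr (-((P.c p)⁻¹ * P.h q p) * P.h p q) * q) := by
  have hε := P.ε_ne
  have hy' : gg P.ε (op y) = 1 := by rw [gg_op, hy, mul_inv_cancel₀ hε]
  have hσ := σ_ne P hp
  rw [nn, mul_cg, mul_cg, cgZ_Zx' R hxy, hy', P.h_smul]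
  set c := P.c p with hc
  set a := 1 * P.ε⁻¹ * (-(P.σ c)⁻¹ * P.h p q) with ha
  have hσa : P.σ a = -(c⁻¹ * P.h q p) := by
    rw [ha, P.h_swap p q]
    simp only [map_neg, map_mul, map_inv₀, map_one, P.σσ, σε]
    field_simp
  have hak : a * P.ε * P.σ c = -P.h p q := by
    rw [ha]; field_simp
  rw [cg_mul, cgZ_Exy R hxy, cgZ_Zx R hxy, ← hc, hy, hak, ← hσa]
  have e2 : P.ε * P.ε⁻¹ * P.h p q = P.h p q := by field_simp
  rw [e2]
  set k := P.h p q with hk
  set r := (P.smul (P.σ a) p)⁻¹ * P.tr (P.σ a * k) * q with hr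
  have key : R.E x (op y) (-k) * R.Z x (P.smul (P.σ a) p)⁻¹ * R.E x y a *
      (R.E x (op y) k * R.Z x q) = R.Z x r * R.E x y a := by
    have h4 := R.E_same x (op y) hxy a k
    rw [op_op, hy', mul_one] at h4
    calc R.E x (op y) (-k) * R.Z x (P.smul (P.σ a) p)⁻¹ * R.E x y a *
        (R.E x (op y) k * R.Z x q)
      = R.E x (op y) (-k) * R.Z x (P.smul (P.σ a) p)⁻¹ * (R.E x y a * R.E x (op y) k) *
          R.Z x q := by group
    _ = R.E x (op y) (-k) * (R.Z x (P.smul (P.σ a) p)⁻¹ * R.Z x (P.tr (P.σ a * k))) *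
          R.E x (op y) k * (R.E x y a * R.Z x q) := by rw [h4]; group
    _ = R.E x (op y) (-k) * (R.Z x ((P.smul (P.σ a) p)⁻¹ * P.tr (P.σ a * k)) *
          R.E x (op y) k) * (R.Z x q * R.E x y a) := by
          rw [← R.Z_mul, R.Z_E x y hxy]; group
    _ = (R.E x (op y) (-k) * R.E x (op y) k) *
          (R.Z x ((P.smul (P.σ a) p)⁻¹ * P.tr (P.σ a * k)) * R.Z x q) * R.E x y a := by
          rw [R.Z_E x (op y) hxy]; group
    _ = R.Z x r * R.E x y a := by
          rw [← R.E_add x (op y) hxy, neg_add_cancel, E_zero R (y := op y) hxy, one_mul,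
            ← R.Z_mul]
  rw [key, cg_mul, cgZ_Zx' R hxy, cg_of_comm (Z_nE R hxy _ a), hy', P.h_smul]
  have e5 : P.h p r = k - a * P.h p p := by
    rw [hr, P.h_mul_right, P.h_mul_right, P.h_tr_right, P.h_inv_right, P.h_smul_right, P.σσ, hk]
    ring
  rw [e5, ← R.Z_E x y hxy, mul_assoc (R.Z x r), ← R.E_add x y hxy]
  have e6 : 1 * P.ε⁻¹ * (-(P.ε * c⁻¹) * (k - a * P.h p p)) + a = 0 := by
    have h1 := P.c_herm p
    rw [← hc] at h1
    rw [ha]
    field_simp
    linear_combination (-k) * h1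
  rw [e6, E_zero R hxy, mul_one]

/-! ### the package -/

section datum

variable (P)

omit R in
theorem c_symm (p : P.datum.T) : P.c (P.equiv.symm p) = p.c := by
  have := P.equiv_c (P.equiv.symm p)
  rwa [MulEquiv.apply_symm_apply, eq_comm] at this

omit R in
theorem symm_sc (a : F) (p : P.datum.T) :
    P.equiv.symm (P.datum.sc a p) = P.smul (P.σ a) (P.equiv.symm p) := by
  rw [MulEquiv.symm_apply_eq, P.equiv_smul, MulEquiv.apply_symm_apply]

omit R in
theorem symm_tr (a b : F) : P.equiv.symm (P.datum.tr a b) = P.tr (P.σ a * b) := by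
  rw [MulEquiv.symm_apply_eq, P.equiv_tr]

omit R in
theorem h_symm (p q : P.datum.T) :
    P.datum.h p.w q.w = P.h (P.equiv.symm p) (P.equiv.symm q) := by
  rw [← P.datum_h, MulEquiv.apply_symm_apply, MulEquiv.apply_symm_apply]

omit R in
theorem symm_refl (p : P.datum.T) (hp : p.c ≠ 0) (q : P.datum.T) :
    P.equiv.symm (P.datum.refl p hp q) =
      (P.smul (-(p.c⁻¹ * P.h (P.equiv.symm q) (P.equiv.symm p))) (P.equiv.symm p))⁻¹ *
        P.tr (-(p.c⁻¹ * P.h (P.equiv.symm q) (P.equiv.symm p)) *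
          P.h (P.equiv.symm p) (P.equiv.symm q)) * P.equiv.symm q := by
  set p' := P.equiv.symm p with hp'
  set q' := P.equiv.symm q with hq'
  have ep : p = P.equiv p' := by rw [hp', MulEquiv.apply_symm_apply]
  have eq : q = P.equiv q' := by rw [hq', MulEquiv.apply_symm_apply]
  have hc : p.c = P.c p' := (c_symm P p).symm
  have hqc : q.c = P.c q' := (c_symm P q).symm
  have hpc : P.c p' ≠ 0 := hc ▸ hp
  have hσ := σ_ne P hpc
  have hε := P.ε_ne
  rw [MulEquiv.symm_apply_eq]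
  have hh : P.datum.h q.w p.w = P.h q' p' := h_symm P q p
  set a := -(p.c⁻¹ * P.h q' p') with ha
  ext
  · rw [PQDatum.refl_w, P.equiv_w, P.cl_mul, P.cl_mul, P.cl_inv, P.cl_tr, add_zero, ← P.smul_cl,
      hh, ← P.equiv_w, ← P.equiv_w, ← ep, ← eq, ha, neg_smul, neg_neg, add_comm]
  · rw [PQDatum.refl_c, P.equiv_c, P.c_mul, P.c_mul, P.c_inv, P.c_smul, P.c_tr, P.h_tr,
      P.h_mul_right, P.h_inv_right, P.h_smul_right, P.h_tr_right, hqc]
    have h1 : P.ε * P.σ (a * P.h p' q') = P.σ a * P.h q' p' := by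
      rw [map_mul, P.h_swap p' q']; ring
    have h2 : a * P.c p' = -P.h q' p' := by
      rw [ha, hc]; field_simp
    have h3 : P.σ a * P.σ (P.c p') = -(P.ε⁻¹ * P.h p' q') := by
      rw [← map_mul, h2, map_neg, P.h_swap p' q', map_mul, P.σσ, σε]
    rw [h1]
    simp only [map_mul, P.σσ]
    have h4 : P.ε * P.ε⁻¹ = 1 := mul_inv_cancel₀ hε
    linear_combination (-(P.ε * a)) * h3 + a * P.h p' q' * h4

end datum

/-- the eight families -/
noncomputable def maps (i j : Fin 3) : B2Maps P.datum G where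
  x a := R.E (i, true) (j, true) a
  x' a := R.E (j, true) (i, true) a
  y b := R.E (i, true) (j, false) b
  y' b := R.E (i, false) (j, true) b
  z₁ p := R.Z (i, true) (P.equiv.symm p)
  z₂ p := R.Z (j, true) (P.equiv.symm p)
  z₁' p := R.Z (i, false) (P.smul P.ε (P.equiv.symm p))
  z₂' p := R.Z (j, false) (P.smul P.ε (P.equiv.symm p))

theorem maps_nI (i j : Fin 3) : (maps R i j).nI = n R (i, true) (j, true) := rfl

theorem maps_nII (i j : Fin 3) {p : P.datum.T} (hp : p.c ≠ 0) :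
    (maps R i j).nII p = nn R (j, true) (P.equiv.symm p) := by
  have hε := P.ε_ne
  have hσ := σ_ne P hp
  change R.Z (j, false) (P.smul P.ε (P.equiv.symm (P.datum.sc (-(P.σ p.c)⁻¹) p))) *
    R.Z (j, true) (P.equiv.symm p) *
    R.Z (j, false) (P.smul P.ε (P.equiv.symm (P.datum.sc (-(P.ε * p.c⁻¹)) p))) = _
  rw [nn, symm_sc, symm_sc, ← P.mul_smul, ← P.mul_smul, c_symm]
  have e1 : P.ε * P.σ (-(P.σ p.c)⁻¹) = -(P.ε * p.c⁻¹) := by
    simp only [map_neg, map_inv₀, P.σσ]; ring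
  have e2 : P.ε * P.σ (-(P.ε * p.c⁻¹)) = -(P.σ p.c)⁻¹ := by
    simp only [map_neg, map_mul, map_inv₀, σε]; field_simp
  rw [e1, e2]
  rfl

omit R in
/-- scaling commutes with the reflection -/
theorem refl_smul (p : P.datum.T) (hp : p.c ≠ 0) (b : F) (q : T) :
    P.equiv.symm (P.datum.refl p hp (P.equiv (P.smul b q))) =
      P.smul b (P.equiv.symm (P.datum.refl p hp (P.equiv q))) := by
  have hb : b = P.σ (P.σ b) := (P.σσ b).symm
  set a := P.σ b with ha
  rw [hb, P.equiv_smul, ← symm_sc]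
  congr 1
  ext
  · simp only [PQDatum.refl_w, PQDatum.sc_w, smul_add, P.datum.smul_left, smul_smul]
    congr 2
    ring
  · simp only [PQDatum.refl_c, PQDatum.sc_c]

theorem nn_Zx' {x : S} {j : Fin 3} (hxy : x.1 ≠ j) {p : P.datum.T} (hp : p.c ≠ 0)
    (q : P.datum.T) :
    cg (nn R (j, true) (P.equiv.symm p)) (R.Z x (P.equiv.symm q)) =
      R.Z x (P.equiv.symm (P.datum.refl p hp q)) := by
  have h1 : P.c (P.equiv.symm p) ≠ 0 := by rw [c_symm]; exact hp
  rw [nn_Zx R (y := (j, true)) hxy rfl h1, symm_refl, c_symm]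

theorem nn_Zx'' {x : S} {j : Fin 3} (hxy : x.1 ≠ j) {p : P.datum.T} (hp : p.c ≠ 0) (b : F)
    (q : P.datum.T) :
    cg (nn R (j, true) (P.equiv.symm p)) (R.Z x (P.smul b (P.equiv.symm q))) =
      R.Z x (P.smul b (P.equiv.symm (P.datum.refl p hp q))) := by
  have h1 := nn_Zx' R hxy hp (P.equiv (P.smul b (P.equiv.symm q)))
  rw [MulEquiv.symm_apply_apply, refl_smul, MulEquiv.apply_symm_apply] at h1
  exact h1

/-- `Z y q` in terms of `Z x q` -/
theorem Z_split {x y : S} (hxy : x.1 ≠ y.1) (q : T) :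
    R.Z y q = cg (R.E y x 1) (R.Z x q) * (R.Z x q)⁻¹ *
      R.E y (op x) (gg P.ε x * P.σ (P.c q)) := by
  rw [cgE_Zy R (Ne.symm hxy), map_one, P.one_smul, one_mul, E_neg R (y := op x) (Ne.symm hxy)]
  group

theorem nn_Eyx {x : S} {j : Fin 3} (hxy : x.1 ≠ j) {p : T} (hp : P.c p ≠ 0) (a : F) :
    cg (nn R (j, true) p) (R.E (j, true) x a) =
      R.E (j, false) x (P.ε⁻¹ * (P.σ (P.c p))⁻¹ * a) := by
  have hσ := σ_ne P hp
  have hε := P.ε_ne
  have hg := gg_ne P x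
  rw [R.E_swap (j, true) x (Ne.symm hxy)]
  have h1 := nn_Exny R (x := op x) (y := (j, true)) hxy rfl hp
    (-(gg P.ε (j, true) * (gg P.ε x)⁻¹ * P.σ a))
  have h2 := R.E_swap (op x) (j, true) hxy
    ((P.c p)⁻¹ * -(gg P.ε (j, true) * (gg P.ε x)⁻¹ * P.σ a))
  rw [op_op] at h2
  refine h1.trans (h2.trans ?_)
  congr 1
  simp only [map_neg, map_mul, map_inv₀, gg_op, σ_gg, σε, P.σσ, gg_mk_true]
  field_simp

theorem nn_Enyx {x : S} {j : Fin 3} (hxy : x.1 ≠ j) {p : T} (hp : P.c p ≠ 0) (a : F) :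
    cg (nn R (j, true) p) (R.E (j, false) x a) = R.E (j, true) x (P.c p * a) := by
  have hσ := σ_ne P hp
  have hε := P.ε_ne
  have hg := gg_ne P x
  rw [R.E_swap (j, false) x (Ne.symm hxy)]
  have h1 := nn_Exy R (x := op x) (y := (j, true)) hxy rfl hp
    (-(gg P.ε (j, false) * (gg P.ε x)⁻¹ * P.σ a))
  have h2 := R.E_swap (op x) (op (j, true)) hxy
    (P.ε * P.σ (P.c p) * -(gg P.ε (j, false) * (gg P.ε x)⁻¹ * P.σ a))
  rw [op_op, op_op] at h2
  refine h1.trans (h2.trans ?_)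
  congr 1
  simp only [map_neg, map_mul, map_inv₀, gg_op, σ_gg, σε, P.σσ, gg_mk_false, gg_mk_true]
  rw [map_one]
  field_simp

theorem nn_Zy {i j : Fin 3} (hij : i ≠ j) {p : P.datum.T} (hp : p.c ≠ 0) (q : P.datum.T) :
    cg (nn R (j, true) (P.equiv.symm p)) (R.Z (j, true) (P.equiv.symm q)) =
      R.Z (j, false) (P.smul (P.ε * p.c⁻¹) (P.equiv.symm (P.datum.refl p hp q))) := by
  have h1 : P.c (P.equiv.symm p) ≠ 0 := by rw [c_symm]; exact hp
  have hε := P.ε_ne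
  have hσ := σ_ne P hp
  have hq : P.σ (P.c (P.equiv.symm q)) = P.σ (P.c (P.equiv.symm (P.datum.refl p hp q))) := by
    rw [c_symm, c_symm, PQDatum.refl_c]
  rw [Z_split R (x := (i, true)) (y := (j, true)) hij, cg_mul, cg_mul, cg_inv]
  have e1 : ∀ y z, cg (nn R (j, true) (P.equiv.symm p)) (cg y z) =
      cg (cg (nn R (j, true) (P.equiv.symm p)) y) (cg (nn R (j, true) (P.equiv.symm p)) z) := by
    intro y z; simp [cg, mul_assoc]
  rw [e1, nn_Eyx R (x := (i, true)) hij h1, nn_Eyx R (x := op (i, true)) hij h1,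
    nn_Zx' R (x := (i, true)) hij hp,
    cgE_Zy R (x := (j, false)) (y := (i, true)) (Ne.symm hij), hq, c_symm P p]
  set r := P.equiv.symm (P.datum.refl p hp q)
  have e2 : P.σ (P.ε⁻¹ * (P.σ p.c)⁻¹ * 1) = P.ε * p.c⁻¹ := by
    simp only [map_mul, map_inv₀, σε, P.σσ, inv_inv, map_one]; ring
  rw [e2, E_neg R (x := (j, false)) (y := op (i, true)) (Ne.symm hij), mul_one,
    mul_assoc (P.ε⁻¹ * _)]
  group

theorem nn_Zny {i j : Fin 3} (hij : i ≠ j) {p : P.datum.T} (hp : p.c ≠ 0) (b : F)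
    (q : P.datum.T) :
    cg (nn R (j, true) (P.equiv.symm p)) (R.Z (j, false) (P.smul b (P.equiv.symm q))) =
      R.Z (j, true) (P.smul (P.σ p.c * b) (P.equiv.symm (P.datum.refl p hp q))) := by
  have h1 : P.c (P.equiv.symm p) ≠ 0 := by rw [c_symm]; exact hp
  have hε := P.ε_ne
  have hσ := σ_ne P hp
  have hq : P.σ (P.c (P.smul b (P.equiv.symm q))) =
      P.σ (P.c (P.smul b (P.equiv.symm (P.datum.refl p hp q)))) := by
    rw [P.c_smul, P.c_smul, c_symm, c_symm, PQDatum.refl_c]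
  rw [Z_split R (x := (i, true)) (y := (j, false)) hij, cg_mul, cg_mul, cg_inv]
  have e1 : ∀ y z, cg (nn R (j, true) (P.equiv.symm p)) (cg y z) =
      cg (cg (nn R (j, true) (P.equiv.symm p)) y) (cg (nn R (j, true) (P.equiv.symm p)) z) := by
    intro y z; simp [cg, mul_assoc]
  rw [e1, nn_Enyx R (x := (i, true)) hij h1, nn_Enyx R (x := op (i, true)) hij h1,
    nn_Zx'' R (x := (i, true)) hij hp,
    cgE_Zy R (x := (j, true)) (y := (i, true)) (Ne.symm hij), hq, c_symm P p]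
  set r := P.smul b (P.equiv.symm (P.datum.refl p hp q)) with hr
  rw [mul_one, E_neg R (x := (j, true)) (y := op (i, true)) (Ne.symm hij), mul_assoc p.c,
    P.mul_smul, ← hr]
  group

/-- **The signed relations give the package of type `B₂`.** -/
theorem b2Rel {i j : Fin 3} (hij : i ≠ j) : B2Rel (maps R i j) where
  x_add a b := R.E_add (i, true) (j, true) hij a b
  x'_add a b := R.E_add (j, true) (i, true) (Ne.symm hij) a b
  y_add a b := R.E_add (i, true) (j, false) hij a b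
  y'_add a b := R.E_add (i, false) (j, true) hij a b
  z₁_mul p q := by
    change R.Z _ (P.equiv.symm (p * q)) = _
    rw [map_mul, R.Z_mul]; rfl
  z₂_mul p q := by
    change R.Z _ (P.equiv.symm (p * q)) = _
    rw [map_mul, R.Z_mul]; rfl
  z₁'_mul p q := by
    change R.Z _ (P.smul P.ε (P.equiv.symm (p * q))) = _
    rw [map_mul, P.smul_mul, R.Z_mul]; rfl
  z₂'_mul p q := by
    change R.Z _ (P.smul P.ε (P.equiv.symm (p * q))) = _
    rw [map_mul, P.smul_mul, R.Z_mul]; rfl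
  x_z₂ a p := by
    change ⁅R.E (i, true) (j, true) a, R.Z (j, true) (P.equiv.symm p)⁆ =
      R.Z (i, true) (P.equiv.symm (P.datum.sc a p)) *
        R.E (i, true) (j, false) (-(P.ε * a * P.σ p.c))
    rw [comm_eq, cgE_Zy R (y := (j, true)) hij, symm_sc, c_symm, mul_inv_cancel_right]
    congr 2
    change -(a * P.ε * P.σ p.c) = _
    ring
  z₁_z₂ p q := by
    change ⁅R.Z (i, true) (P.equiv.symm p), R.Z (j, true) (P.equiv.symm q)⁆ =
      R.E (i, true) (j, false) (-(P.datum.h q.w p.w))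
    rw [commutatorElement_def, R.Z_Z (i, true) (j, true) hij, h_symm]
    have : -(gg P.ε (j, true) * P.ε⁻¹ * P.h (P.equiv.symm q) (P.equiv.symm p)) =
        -P.h (P.equiv.symm q) (P.equiv.symm p) := by
      rw [gg_mk_true, mul_inv_cancel₀ P.ε_ne, one_mul]
    rw [this]
    simp [mul_assoc]
  x_y a b := by
    change ⁅R.E (i, true) (j, true) a, R.E (i, true) (op (j, true)) b⁆ =
      R.Z (i, true) (P.equiv.symm (P.datum.tr a b))
    rw [comm_eq, cgE_same' R (x := (i, true)) (y := (j, true)) hij, symm_tr]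
    have : P.σ a * b * gg P.ε (op (j, true)) = P.σ a * b := by
      rw [op_mk, Bool.not_true, gg_mk_false, mul_one]
    rw [this]
    exact mul_inv_cancel_right _ _
  x_z₁ a p := (R.Z_E (i, true) (j, true) hij _ a).symm
  y_z₁ b p := (R.Z_E (i, true) (j, false) hij _ b).symm
  y_z₂ b p := (Z_Exny R (x := (i, true)) (y := (j, true)) hij _ b).symm
  nI_x a := n_Exy R (x := (i, true)) (y := (j, true)) hij a
  nI_x' a := n_Eyx R (x := (i, true)) (y := (j, true)) hij a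
  nI_y b := by
    refine (n_Exny R (x := (i, true)) (y := (j, true)) hij b).trans ?_
    change R.E (i, true) (j, false) _ = R.E (i, true) (j, false) _
    congr 1
    have := P.ε_ne
    rw [gg_mk_true]; field_simp
    rfl
  nI_y' b := by
    refine (n_Enxy R (x := (i, true)) (y := (j, true)) hij b).trans ?_
    change R.E (i, false) (j, true) _ = R.E (i, false) (j, true) _
    congr 1
    have := P.ε_ne
    rw [gg_mk_true]
    change _ = P.ε⁻¹ * P.σ b
    field_simp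
  nI_z₁ p := by
    refine (n_Zx R (x := (i, true)) (y := (j, true)) hij _).trans ?_
    change _ = R.Z (j, true) (P.equiv.symm (P.datum.sc (-1) p))
    rw [symm_sc, map_neg, map_one]
  nI_z₂ p := n_Zy R (x := (i, true)) (y := (j, true)) hij _
  nI_z₁' p := by
    change cg (n R (i, true) (j, true)) _ = _
    rw [n_neg R (x := (i, true)) (y := (j, true)) hij rfl]
    refine (n_Zx R (x := (i, false)) (y := (j, false)) hij _).trans ?_
    change _ = R.Z (j, false) (P.smul P.ε (P.equiv.symm (P.datum.sc (-1) p)))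
    rw [symm_sc, map_neg, map_one, ← P.mul_smul, ← P.mul_smul, mul_comm]
  nI_z₂' p := by
    change cg (n R (i, true) (j, true)) _ = _
    rw [n_neg R (x := (i, true)) (y := (j, true)) hij rfl]
    exact n_Zy R (x := (i, false)) (y := (j, false)) hij _
  nII_x p hp a := by
    rw [maps_nII R i j hp]
    refine (nn_Exy R (x := (i, true)) (y := (j, true)) hij rfl ?_ a).trans ?_
    · rw [c_symm]; exact hp
    · rw [c_symm]; rfl
  nII_y p hp b := by
    rw [maps_nII R i j hp]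
    refine (nn_Exny R (x := (i, true)) (y := (j, true)) hij rfl ?_ b).trans ?_
    · rw [c_symm]; exact hp
    · rw [c_symm]; rfl
  nII_x' p hp a := by
    rw [maps_nII R i j hp]
    have h1 : P.c (P.equiv.symm p) ≠ 0 := by rw [c_symm]; exact hp
    refine (nn_Eyx R (x := (i, true)) hij h1 a).trans ?_
    rw [c_symm, R.E_swap (j, false) (i, true) (Ne.symm hij)]
    change R.E (i, false) (j, true) _ = R.E (i, false) (j, true) _
    congr 1
    have := P.ε_ne
    simp only [map_mul, map_inv₀, P.σσ, σε, gg_mk_true, gg_mk_false]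
    change _ = -(p.c⁻¹ * P.σ a)
    field_simp
  nII_y' p hp b := by
    rw [maps_nII R i j hp]
    have h1 : P.c (P.equiv.symm p) ≠ 0 := by rw [c_symm]; exact hp
    refine (nn_Exy R (x := (i, false)) (y := (j, true)) hij rfl h1 b).trans ?_
    rw [c_symm, R.E_swap (i, false) (op (j, true)) hij]
    change R.E (j, true) (i, true) _ = R.E (j, true) (i, true) _
    congr 1
    have := P.ε_ne
    simp only [map_mul, P.σσ, σε, op_mk, Bool.not_true, gg_mk_false]
    change _ = -(P.ε⁻¹ * p.c * P.σ b)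
    field_simp
  nII_z₁ p hp q := by
    rw [maps_nII R i j hp]
    exact nn_Zx' R (x := (i, true)) hij hp q
  nII_z₁' p hp q := by
    rw [maps_nII R i j hp]
    exact nn_Zx'' R (x := (i, false)) hij hp P.ε q
  nII_z₂ p hp q := by
    rw [maps_nII R i j hp]
    refine (nn_Zy R hij hp q).trans ?_
    change _ = R.Z (j, false) (P.smul P.ε (P.equiv.symm (P.datum.sc (P.σ p.c)⁻¹
      (P.datum.refl p hp q))))
    rw [symm_sc, ← P.mul_smul, map_inv₀, P.σσ]
  nII_z₂' p hp q := by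
    rw [maps_nII R i j hp]
    refine (nn_Zny R hij hp P.ε q).trans ?_
    change _ = R.Z (j, true) (P.equiv.symm (P.datum.sc (P.ε⁻¹ * p.c) (P.datum.refl p hp q)))
    rw [symm_sc, map_mul, map_inv₀, σε, inv_inv, mul_comm]

/-! ### ranges -/

omit R in
theorem smulε_surj : Function.Surjective (P.smul P.ε) := by
  intro q
  refine ⟨P.smul P.ε⁻¹ q, ?_⟩
  rw [← P.mul_smul, mul_inv_cancel₀ P.ε_ne, P.one_smul]

theorem range_z₁ (i j : Fin 3) : Set.range (maps R i j).z₁ = Set.range (R.Z (i, true)) :=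
  P.equiv.symm.surjective.range_comp (R.Z (i, true))

theorem range_z₂ (i j : Fin 3) : Set.range (maps R i j).z₂ = Set.range (R.Z (j, true)) :=
  P.equiv.symm.surjective.range_comp (R.Z (j, true))

theorem range_z₁' (i j : Fin 3) : Set.range (maps R i j).z₁' = Set.range (R.Z (i, false)) :=
  (smulε_surj.comp P.equiv.symm.surjective).range_comp (R.Z (i, false))

theorem range_z₂' (i j : Fin 3) : Set.range (maps R i j).z₂' = Set.range (R.Z (j, false)) :=
  (smulε_surj.comp P.equiv.symm.surjective).range_comp (R.Z (j, false))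

end Cfsg.Agent.TitsThree.C3B2
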