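import Cfsg.Agent.TitsThree.B2Pkg
import Mathlib.GroupTheory.QuotientGroup.Defs
import Mathlib.Algebra.Group.TypeTags.Basic
import Mathlib.Tactic

/-!
# Abstract pseudo-quadratic systems

`Sys F T`: a group `T` with maps `c : T → F`, `h : T → T → F` such that `p` is determined by
`h p ·` and `c p`; it comes from an honest parameter system `Sys.datum : PQDatum F V`,
`V = T / tr(F)`, with `T ≃* datum.T`.
-/

set_option autoImplicit false

namespace Cfsg.Agent.TitsThree.PQAbs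

open Cfsg.Agent.TitsThree.Siegel Cfsg.Agent.TitsThree.B2Pkg

/-- Abstract pseudo-quadratic system. -/
structure Sys (F : Type*) [Field F] (T : Type*) [Group T] where
  σ : F ≃+* F
  σσ : ∀ x, σ (σ x) = x
  ε : F
  ε_mul : ε * σ ε = 1
  c : T → F
  h : T → T → F
  smul : F → T → T
  tr : F → T
  h_mul : ∀ p q r, h (p * q) r = h p r + h q r
  h_swap : ∀ p q, h q p = ε * σ (h p q)
  c_mul : ∀ p q, c (p * q) = c p + c q - h q p
  c_herm : ∀ p, c p + ε * σ (c p) = -h p p
  h_smul : ∀ a p q, h (smul a p) q = a * h p q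
  c_smul : ∀ a p, c (smul a p) = a * σ a * c p
  h_tr : ∀ m p, h (tr m) p = 0
  c_tr : ∀ m, c (tr m) = m - ε * σ m
  eq_one : ∀ p, c p = 0 → p = 1

namespace Sys

variable {F : Type*} [Field F] {T : Type*} [Group T] (P : Sys F T)

theorem ε_ne : P.ε ≠ 0 := by
  intro h
  have := P.ε_mul
  rw [h, zero_mul] at this
  exact zero_ne_one this

theorem h_mul_right (p q r : T) : P.h r (p * q) = P.h r p + P.h r q := by
  rw [P.h_swap (p * q) r, P.h_mul, map_add, mul_add, ← P.h_swap, ← P.h_swap]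

theorem h_one_left (r : T) : P.h 1 r = 0 := by
  have := P.h_mul 1 1 r
  rw [mul_one] at this
  linear_combination -this

theorem h_one_right (r : T) : P.h r 1 = 0 := by
  rw [P.h_swap 1 r, P.h_one_left, map_zero, mul_zero]

theorem h_inv_left (p r : T) : P.h p⁻¹ r = -P.h p r := by
  have := P.h_mul p p⁻¹ r
  rw [mul_inv_cancel, P.h_one_left] at this
  linear_combination -this

theorem h_inv_right (p r : T) : P.h r p⁻¹ = -P.h r p := by
  have := P.h_mul_right p p⁻¹ r
  rw [mul_inv_cancel, P.h_one_right] at this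
  linear_combination -this

theorem h_smul_right (a : F) (p r : T) : P.h r (P.smul a p) = P.σ a * P.h r p := by
  rw [P.h_swap (P.smul a p) r, P.h_smul, map_mul, P.h_swap p r]; ring

theorem h_tr_right (m : F) (p : T) : P.h p (P.tr m) = 0 := by
  rw [P.h_swap (P.tr m) p, P.h_tr, map_zero, mul_zero]

theorem c_one : P.c 1 = 0 := by
  have := P.c_mul 1 1
  rw [mul_one, P.h_one_left] at this
  linear_combination -this

theorem c_inv (p : T) : P.c p⁻¹ = P.ε * P.σ (P.c p) := by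
  have h1 := P.c_mul p p⁻¹
  rw [mul_inv_cancel, P.c_one, P.h_inv_left] at h1
  have h2 := P.c_herm p
  linear_combination -h1 - h2

/-- Elements are determined by `h p ·` and `c p`. -/
theorem ext_of {p q : T} (h1 : ∀ r, P.h p r = P.h q r) (h2 : P.c p = P.c q) : p = q := by
  have h3 : P.c (p * q⁻¹) = 0 := by
    rw [P.c_mul, P.c_inv, P.h_inv_left, h2]
    have h4 := P.c_herm q
    have h5 : P.h q p = P.h q q := by rw [P.h_swap p q, h1 q, ← P.h_swap]
    rw [h5]
    linear_combination h4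
  exact mul_inv_eq_one.mp (P.eq_one _ h3)

theorem tr_add (m n : F) : P.tr (m + n) = P.tr m * P.tr n := by
  apply P.ext_of
  · intro r; rw [P.h_tr, P.h_mul, P.h_tr, P.h_tr, add_zero]
  · rw [P.c_mul, P.h_tr, P.c_tr, P.c_tr, P.c_tr, map_add]; ring

theorem tr_zero : P.tr 0 = 1 := by
  apply P.ext_of
  · intro r; rw [P.h_tr, P.h_one_left]
  · rw [P.c_tr, P.c_one, map_zero]; ring

theorem tr_neg (m : F) : P.tr (-m) = (P.tr m)⁻¹ := by
  apply P.ext_of
  · intro r; rw [P.h_tr, P.h_inv_left, P.h_tr, neg_zero]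
  · have h1 : P.ε * P.σ P.ε = 1 := P.ε_mul
    rw [P.c_tr, P.c_inv, P.c_tr, map_sub, map_mul, P.σσ, map_neg]
    linear_combination m * h1

theorem tr_comm (m : F) (p : T) : P.tr m * p = p * P.tr m := by
  apply P.ext_of
  · intro r; rw [P.h_mul, P.h_mul, add_comm]
  · rw [P.c_mul, P.c_mul, P.h_tr, P.h_tr_right]; ring

theorem smul_mul (a : F) (p q : T) : P.smul a (p * q) = P.smul a p * P.smul a q := by
  apply P.ext_of
  · intro r; rw [P.h_mul, P.h_smul, P.h_smul, P.h_smul, P.h_mul]; ring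
  · rw [P.c_mul, P.c_smul, P.c_smul, P.c_smul, P.c_mul, P.h_smul, P.h_smul_right]; ring

theorem one_smul (p : T) : P.smul 1 p = p := by
  apply P.ext_of
  · intro r; rw [P.h_smul, one_mul]
  · rw [P.c_smul, map_one, one_mul, one_mul]

theorem mul_smul (a b : F) (p : T) : P.smul (a * b) p = P.smul a (P.smul b p) := by
  apply P.ext_of
  · intro r; rw [P.h_smul, P.h_smul, P.h_smul]; ring
  · rw [P.c_smul, P.c_smul, P.c_smul, map_mul]; ring

theorem zero_smul (p : T) : P.smul 0 p = 1 := by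
  apply P.eq_one; rw [P.c_smul]; ring

theorem smul_one (a : F) : P.smul a 1 = 1 := by
  apply P.eq_one; rw [P.c_smul, P.c_one]; ring

theorem smul_tr (a m : F) : P.smul a (P.tr m) = P.tr (a * P.σ a * m) := by
  apply P.ext_of
  · intro r; rw [P.h_smul, P.h_tr, P.h_tr, mul_zero]
  · rw [P.c_smul, P.c_tr, P.c_tr, map_mul, map_mul, P.σσ]; ring

theorem add_smul (a b : F) (p : T) :
    P.smul (a + b) p = P.smul a p * P.smul b p * P.tr (a * P.σ b * P.c p) := by
  apply P.ext_of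
  · intro r; rw [P.h_mul, P.h_mul, P.h_smul, P.h_smul, P.h_smul, P.h_tr]; ring
  · rw [P.c_mul, P.c_mul, P.c_smul, P.c_smul, P.c_smul, P.h_tr, P.h_smul, P.h_smul_right, P.c_tr,
      map_add, map_mul, map_mul, P.σσ]
    have h1 := P.c_herm p
    linear_combination b * P.σ a * h1

/-- The commutator of two elements is a trace element. -/
theorem comm_eq (p q : T) : p * q = q * p * P.tr (P.h p q) := by
  apply P.ext_of
  · intro r; rw [P.h_mul, P.h_mul, P.h_mul, P.h_tr]; ring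
  · rw [P.c_mul, P.c_mul, P.c_mul, P.h_tr, P.c_tr, P.h_swap p q]
    ring

/-- The subgroup of trace elements. -/
def trSub : Subgroup T where
  carrier := {p | ∃ m, p = P.tr m}
  mul_mem' := by
    rintro _ _ ⟨m, rfl⟩ ⟨n, rfl⟩
    exact ⟨m + n, (P.tr_add m n).symm⟩
  one_mem' := ⟨0, P.tr_zero.symm⟩
  inv_mem' := by
    rintro _ ⟨m, rfl⟩
    exact ⟨-m, (P.tr_neg m).symm⟩

theorem mem_trSub {p : T} : p ∈ P.trSub ↔ ∃ m, p = P.tr m := Iff.rfl

instance : P.trSub.Normal where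
  conj_mem := by
    rintro _ ⟨m, rfl⟩ g
    exact ⟨m, by rw [← P.tr_comm, mul_assoc, mul_inv_cancel, mul_one]⟩

/-- The vector space of the system. -/
def V : Type _ := Additive (T ⧸ P.trSub)

noncomputable instance : AddCommGroup P.V :=
  { (inferInstance : AddGroup (Additive (T ⧸ P.trSub))) with
    add_comm := by
      intro a b
      induction a using Additive.rec with | _ a => ?_
      induction b using Additive.rec with | _ b => ?_
      induction a using QuotientGroup.induction_on with | _ a => ?_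
      induction b using QuotientGroup.induction_on with | _ b => ?_
      change Additive.ofMul ((a * b : T) : T ⧸ P.trSub) = Additive.ofMul ((b * a : T) : T ⧸ P.trSub)
      congr 1
      rw [P.comm_eq a b]
      exact QuotientGroup.mk_mul_of_mem _ ⟨_, rfl⟩ }

/-- The class of an element. -/
def cl (p : T) : P.V := Additive.ofMul (p : T ⧸ P.trSub)

theorem cl_surj (v : P.V) : ∃ p, P.cl p = v := by
  induction v using Additive.rec with | _ a => ?_
  induction a using QuotientGroup.induction_on with | _ a => ?_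
  exact ⟨a, rfl⟩

theorem cl_mul (p q : T) : P.cl (p * q) = P.cl p + P.cl q := rfl
theorem cl_one : P.cl 1 = 0 := rfl
theorem cl_inv (p : T) : P.cl p⁻¹ = -P.cl p := rfl

theorem cl_eq {p q : T} : P.cl p = P.cl q ↔ ∃ m, q = p * P.tr m := by
  have h1 : P.cl p = P.cl q ↔ ((p : T ⧸ P.trSub) = (q : T ⧸ P.trSub)) :=
    Additive.ofMul.apply_eq_iff_eq
  rw [h1, QuotientGroup.eq]
  constructor
  · rintro ⟨m, hm⟩; exact ⟨m, by rw [← hm]; group⟩
  · rintro ⟨m, hm⟩; exact ⟨m, by rw [hm]; group⟩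

theorem cl_tr (m : F) : P.cl (P.tr m) = 0 := by
  rw [← P.cl_one, eq_comm, P.cl_eq]; exact ⟨m, (one_mul _).symm⟩

theorem cl_smul_congr (a : F) {p q : T} (h : P.cl p = P.cl q) :
    P.cl (P.smul a p) = P.cl (P.smul a q) := by
  obtain ⟨m, rfl⟩ := P.cl_eq.mp h
  rw [P.smul_mul, P.smul_tr, P.cl_mul, P.cl_tr, add_zero]

noncomputable instance : SMul F P.V := ⟨fun a v => P.cl (P.smul a (P.cl_surj v).choose)⟩

theorem smul_cl (a : F) (p : T) : a • P.cl p = P.cl (P.smul a p) :=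
  P.cl_smul_congr a (P.cl_surj (P.cl p)).choose_spec

noncomputable instance : Module F P.V where
  one_smul v := by
    obtain ⟨p, rfl⟩ := P.cl_surj v; rw [smul_cl, P.one_smul]
  mul_smul a b v := by
    obtain ⟨p, rfl⟩ := P.cl_surj v; rw [smul_cl, smul_cl, smul_cl, P.mul_smul]
  smul_zero a := by rw [← P.cl_one, smul_cl, P.smul_one]
  smul_add a v w := by
    obtain ⟨p, rfl⟩ := P.cl_surj v
    obtain ⟨q, rfl⟩ := P.cl_surj w
    rw [← P.cl_mul, smul_cl, smul_cl, smul_cl, P.smul_mul, P.cl_mul]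
  add_smul a b v := by
    obtain ⟨p, rfl⟩ := P.cl_surj v
    rw [smul_cl, smul_cl, smul_cl, P.add_smul, P.cl_mul, P.cl_mul, P.cl_tr, add_zero]
  zero_smul v := by
    obtain ⟨p, rfl⟩ := P.cl_surj v; rw [smul_cl, P.zero_smul, P.cl_one]

theorem h_congr {p p' q q' : T} (h1 : P.cl p = P.cl p') (h2 : P.cl q = P.cl q') :
    P.h p q = P.h p' q' := by
  obtain ⟨m, rfl⟩ := P.cl_eq.mp h1
  obtain ⟨n, rfl⟩ := P.cl_eq.mp h2
  rw [P.h_mul, P.h_mul_right, P.h_tr, P.h_tr_right, add_zero, add_zero]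

/-- The form on `V`. -/
noncomputable def hV (v w : P.V) : F := P.h (P.cl_surj v).choose (P.cl_surj w).choose

theorem hV_cl (p q : T) : P.hV (P.cl p) (P.cl q) = P.h p q :=
  P.h_congr (P.cl_surj _).choose_spec (P.cl_surj _).choose_spec

/-- The parameter system. -/
noncomputable def datum : PQDatum F P.V where
  σ := P.σ
  σσ := P.σσ
  ε := P.ε
  ε_mul := P.ε_mul
  h := P.hV
  add_left v v' w := by
    obtain ⟨p, rfl⟩ := P.cl_surj v
    obtain ⟨q, rfl⟩ := P.cl_surj v'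
    obtain ⟨r, rfl⟩ := P.cl_surj w
    rw [← P.cl_mul, P.hV_cl, P.hV_cl, P.hV_cl, P.h_mul]
  smul_left a v w := by
    obtain ⟨p, rfl⟩ := P.cl_surj v
    obtain ⟨q, rfl⟩ := P.cl_surj w
    rw [smul_cl, P.hV_cl, P.hV_cl, P.h_smul]
  swap v w := by
    obtain ⟨p, rfl⟩ := P.cl_surj v
    obtain ⟨q, rfl⟩ := P.cl_surj w
    rw [P.hV_cl, P.hV_cl, P.h_swap]
  ok w c := ∃ p, P.cl p = w ∧ P.c p = c
  ok_zero := ⟨1, P.cl_one, P.c_one⟩
  ok_mul := by
    rintro _ _ _ _ ⟨p, rfl, rfl⟩ ⟨q, rfl, rfl⟩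
    exact ⟨p * q, P.cl_mul p q, by rw [P.c_mul, P.hV_cl]⟩
  ok_inv := by
    rintro _ _ ⟨p, rfl, rfl⟩
    exact ⟨p⁻¹, P.cl_inv p, P.c_inv p⟩
  ok_sc := by
    rintro a _ _ ⟨p, rfl, rfl⟩
    exact ⟨P.smul (P.σ a) p, (smul_cl P _ p).symm, by rw [P.c_smul, P.σσ]; ring⟩
  ok_tr a b := ⟨P.tr (P.σ a * b), P.cl_tr _, by rw [P.c_tr, map_mul, P.σσ]; ring⟩
  ok_refl := by
    rintro _ _ _ _ ⟨p, rfl, rfl⟩ hp ⟨q, rfl, rfl⟩
    rw [P.hV_cl]
    set a := (P.c p)⁻¹ * P.h q p with ha
    have h1 : P.h q p = P.c p * a := by rw [ha]; field_simp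
    refine ⟨q * P.smul a p * P.tr (-(a * P.σ a * P.c p)), ?_, ?_⟩
    · rw [P.cl_mul, P.cl_mul, P.cl_tr, add_zero, smul_cl]
    · rw [P.c_mul, P.c_mul, P.h_tr, P.c_tr, P.c_smul, P.h_smul, P.h_swap q p, h1]
      simp only [map_mul, map_neg, P.σσ]
      ring
  ok_rel := by
    rintro _ _ ⟨p, rfl, rfl⟩
    rw [P.hV_cl, P.c_herm]
  ok_aniso := by
    rintro _ ⟨p, rfl, hp⟩
    rw [P.eq_one p hp, P.cl_one]

/-- `T` is the parameter group of the system. -/
noncomputable def equiv : T ≃* P.datum.T where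
  toFun p := ⟨P.cl p, P.c p, ⟨p, rfl, rfl⟩⟩
  invFun t := t.ok.choose
  left_inv p := by
    have h := (⟨p, rfl, rfl⟩ : P.datum.ok (P.cl p) (P.c p)).choose_spec
    exact P.ext_of (fun r => P.h_congr h.1 rfl) h.2
  right_inv t := by
    have h := t.ok.choose_spec
    ext
    · exact h.1
    · exact h.2
  map_mul' p q := by
    ext
    · exact P.cl_mul p q
    · change P.c (p * q) = P.c p + P.c q - P.hV (P.cl q) (P.cl p)
      rw [P.c_mul, P.hV_cl]

@[simp] theorem equiv_w (p : T) : (P.equiv p).w = P.cl p := rfl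
@[simp] theorem equiv_c (p : T) : (P.equiv p).c = P.c p := rfl

theorem equiv_smul (a : F) (p : T) : P.equiv (P.smul (P.σ a) p) = P.datum.sc a (P.equiv p) := by
  ext
  · change P.cl (P.smul (P.σ a) p) = P.σ a • P.cl p
    rw [smul_cl]
  · change P.c (P.smul (P.σ a) p) = a * P.σ a * P.c p
    rw [P.c_smul, P.σσ]; ring

theorem equiv_tr (a b : F) : P.equiv (P.tr (P.σ a * b)) = P.datum.tr a b := by
  ext
  · exact P.cl_tr _
  · change P.c (P.tr (P.σ a * b)) = P.σ a * b - P.ε * a * P.σ b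
    rw [P.c_tr, map_mul, P.σσ]; ring

theorem datum_h (p q : T) : P.datum.h (P.equiv p).w (P.equiv q).w = P.h p q := P.hV_cl p q

/-- In `datum`, the elements over `0` are the trace elements. -/
theorem datum_ok_zero {c : F} (h : P.datum.ok 0 c) : ∃ m, c = m - P.ε * P.σ m := by
  obtain ⟨p, hp, rfl⟩ := h
  obtain ⟨m, hm⟩ := P.cl_eq.mp (hp.trans P.cl_one.symm).symm
  exact ⟨m, by rw [hm, one_mul, P.c_tr]⟩

theorem datum_surj (w : P.V) : ∃ c, P.datum.ok w c := by
  obtain ⟨p, rfl⟩ := P.cl_surj w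
  exact ⟨P.c p, p, rfl, rfl⟩

end Sys

end Cfsg.Agent.TitsThree.PQAbs
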