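import Cfsg.Agent.TitsThree.C3Grp
import Cfsg.Agent.TitsThree.PQAbs

/-!
# Signed relations of type `C₃`

`Sgn P G`: long root elements `E x y t` (root `b_x - b_y`) and short root elements `Z x p`
(root `b_x`), for all signed indices of `Fin 3`, satisfying the uniform relations.  Here
`P : PQAbs.Sys F T`.

Dictionary: `a • p = smul (σ a) p`, `q p = -σ (c p)`, `f p q = ε⁻¹ h q p`, `φ r = tr (σ r)`.
-/

set_option autoImplicit false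

namespace Cfsg.Agent.TitsThree.C3Sgn

open scoped commutatorElement
open Cfsg.Agent.TitsThree.C3Grp Cfsg.Agent.TitsThree.PQAbs

/-- Signed relations. -/
structure Sgn {F : Type*} [Field F] {T : Type*} [Group T] (P : Sys F T) (G : Type*) [Group G] where
  E : S → S → F → G
  Z : S → T → G
  E_add : ∀ x y, x.1 ≠ y.1 → ∀ s t, E x y (s + t) = E x y s * E x y t
  E_comm : ∀ x y z, x.1 ≠ y.1 → x.1 ≠ z.1 → y.1 ≠ z.1 → ∀ s t,
    E x y s * E x z t = E x z t * E x y s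
  E_E : ∀ x y z, x.1 ≠ y.1 → x.1 ≠ z.1 → y.1 ≠ z.1 → ∀ s t, ⁅E x y s, E y z t⁆ = E x z (s * t)
  E_swap : ∀ x y, x.1 ≠ y.1 → ∀ t, E x y t =
    E (op y) (op x) (-(gg P.ε x * (gg P.ε y)⁻¹ * P.σ t))
  Z_mul : ∀ x p q, Z x (p * q) = Z x p * Z x q
  Z_E : ∀ x y, x.1 ≠ y.1 → ∀ p t, Z x p * E x y t = E x y t * Z x p
  Z_E3 : ∀ x y z, x.1 ≠ y.1 → x.1 ≠ z.1 → y.1 ≠ z.1 → ∀ p t, Z x p * E y z t = E y z t * Z x p
  E_same : ∀ x y, x.1 ≠ y.1 → ∀ a b,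
    E x (op y) a * E x y b = Z x (P.tr (P.σ a * b * gg P.ε y)) * (E x y b * E x (op y) a)
  E_Z : ∀ x y, x.1 ≠ y.1 → ∀ a p, E x y a * Z y p =
    Z x (P.smul (P.σ a) p) * (E x (op y) (-(a * gg P.ε y * P.σ (P.c p))) * (Z y p * E x y a))
  Z_Z : ∀ x y, x.1 ≠ y.1 → ∀ p q, Z x p * Z y q =
    E x (op y) (-(gg P.ε y * P.ε⁻¹ * P.h q p)) * (Z y q * Z x p)

end Cfsg.Agent.TitsThree.C3Sgn
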