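import Cfsg.Agent.TitsThree.C3Sys
import Cfsg.Agent.TitsThree.C3Sgn

/-!
# Output of the `C₃` coordinatisation (S1143)

`toSgn` : the signed relations `C3Sgn.Sgn` for a group with root groups of type `C₃`.
`exists_sgn` : the same, starting from coordinates of the root groups `X (i,true) (j,false)`.
-/

set_option autoImplicit false

namespace Cfsg.Agent.TitsThree.C3Out

open scoped commutatorElement
open Cfsg.Agent.AGraded Cfsg.Agent.TitsThree.C3Grp Cfsg.Agent.TitsThree.C3Short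
  Cfsg.Agent.TitsThree.C3Sys Cfsg.Agent.TitsThree.C3Sgn

variable {G : Type*} [Group G] {C : Grp G} {F : Type*} [Field F] {L : Long C F}

theorem ε_g (L : Long C F) (y : S) : L.ε * (g L (op y))⁻¹ = g L y := by
  obtain ⟨i, b⟩ := y
  have := ε_ne L
  cases b
  · simp [g, ε_ne L]
  · simp [g]

/-- The signed relations. -/
def toSgn (sh : Short L) : Sgn sh.sys G where
  E := L.E
  Z := fun x p => sh.ζ x p
  E_add := L.add
  E_comm x y z hxy hxz hyz s t := comm_of_cg (c_xx L hxy hxz hyz s t)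
  E_E := L.br
  E_swap x y hxy t := by rw [sh.hσ, sh.hε]; exact L.swap x y hxy t
  Z_mul x p q := map_mul _ _ _
  Z_E x y hxy p t := (comm_of_cg (c_z45 L hxy t (sh.mem x p))).symm
  Z_E3 x y z hxy hxz hyz p t := (comm_of_cg (c_z90 L hxy hxz hyz t (sh.mem x p))).symm
  E_same x y hxy a b := by
    have h1 := sh.xx x (op y) (by simpa) a b
    rw [op_op] at h1
    rw [sh.hσ, sh.hε]
    have e : L.ε * (g L (op y))⁻¹ * b * L.σ a = L.σ a * b * gg L.ε y := by
      rw [ε_g]; change gg L.ε y * b * L.σ a = _; ring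
    rw [e] at h1
    rw [← h1, commutatorElement_def]; group
  E_Z x y hxy a p := by
    have h1 := sh.xz x y hxy a p
    rw [sh.hσ, sh.hε]
    unfold cg at h1
    rw [mul_inv_eq_iff_eq_mul] at h1
    rw [h1]
    change _ = _ * (L.E x (op y) (-(a * g L y * L.σ (sh.sys.c p))) * _)
    group
  Z_Z x y hxy p q := by
    have h1 := sh.zz x y hxy p q
    rw [sh.hε]
    change _ = L.E x (op y) (-(g L y * L.ε⁻¹ * sh.sys.h q p)) * _
    rw [← h1, commutatorElement_def]; group

/-- Everything at once: from coordinates `x` of the root groups `X (i,true) (j,false)`. -/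
theorem exists_sgn {x : Fin 3 → Fin 3 → F → G} (hx : Crd C x) :
    ∃ (P : PQAbs.Sys F (C.Z (0, true))) (M : Sgn P G),
      (∀ i j : Fin 3, i ≠ j → ∀ t, M.E (i, true) (j, true) t = x i j t) ∧
      (∀ a b : S, a.1 ≠ b.1 → Set.range (M.E a b) = (C.X a (op b) : Set G)) ∧
      (∀ a b : S, a.1 ≠ b.1 → Function.Injective (M.E a b)) ∧
      (∀ a, Set.range (M.Z a) = (C.Z a : Set G)) ∧
      (∀ a, Function.Injective (M.Z a)) ∧
      (∀ p, M.Z (0, true) p = p) ∧ (∃ p, P.c p ≠ 0) := by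
  obtain ⟨L, hL⟩ := exists_long hx
  obtain ⟨sh⟩ := exists_short L
  refine ⟨sh.sys, toSgn sh, hL, ?_, L.inj, ?_, sh.inj, sh.zero, ?_⟩
  · intro a b hab
    ext g
    exact ⟨by rintro ⟨t, rfl⟩; exact L.mem a b hab t, fun hg => L.surj a b hab g hg⟩
  · intro a
    ext g
    exact ⟨by rintro ⟨p, rfl⟩; exact sh.mem a p, fun hg => sh.surj a g hg⟩
  · obtain ⟨p, hp⟩ := (Subgroup.ne_bot_iff_exists_ne_one).1 (C.Z_ne (0, true))
    exact ⟨p, fun h => hp (sh.sys.eq_one p h)⟩

end Cfsg.Agent.TitsThree.C3Out
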