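import Mathlib
import Cfsg.Agent.TitsThree.StdData

/-!
# Characteristic two: the package over `stdO1` is the package over `stdSp`
-/

set_option autoImplicit false

namespace Cfsg.Agent.TitsThree.EvenSp

open Cfsg.Agent.TitsThree.Siegel Cfsg.Agent.TitsThree.B2Pkg Cfsg.Agent.TitsThree.StdData

variable {F : Type*} [Field F]

theorem neg_eq_self (h2 : (2 : F) = 0) (x : F) : -x = x := by linear_combination -x * h2

theorem sq_inj (h2 : (2 : F) = 0) {x y : F} (h : x ^ 2 = y ^ 2) : x = y := by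
  have h1 : (x - y) ^ 2 = 0 := by linear_combination h - (x - y) * y * h2
  have h3 := pow_eq_zero_iff (two_ne_zero) |>.1 h1
  linear_combination h3

theorem exists_sqrt [Finite F] (h2 : (2 : F) = 0) : ∃ s : F → F, ∀ c, (s c) ^ 2 = c := by
  classical
  have := Fintype.ofFinite F
  have hchar : ringChar F = 2 := by
    apply ringChar.eq_iff.2
    exact CharTwo.of_one_ne_zero_of_two_eq_zero one_ne_zero h2
  have : ∀ c : F, ∃ x, x ^ 2 = c := fun c => by
    obtain ⟨x, hx⟩ := FiniteField.isSquare_of_char_two hchar c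
    exact ⟨x, by rw [hx, pow_two]⟩
  choose s hs using this
  exact ⟨s, hs⟩

/-- `(0, c) ↦ (√c, -c)` -/
noncomputable def theta [Finite F] (h2 : (2 : F) = 0) : (stdSp F).T ≃* (stdO1 F).T where
  toFun p := ⟨(exists_sqrt h2).choose p.c, -((exists_sqrt h2).choose p.c) ^ 2, rfl⟩
  invFun q := ⟨(), q.w ^ 2, trivial⟩
  left_inv p := by
    ext
    · exact (exists_sqrt h2).choose_spec p.c
  right_inv q := by
    have h1 : (exists_sqrt h2).choose (q.w ^ 2) = q.w :=
      sq_inj h2 ((exists_sqrt h2).choose_spec _)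
    ext
    · exact h1
    · simp only [h1]
      exact (q.ok).symm
  map_mul' p q := by
    have hs := (exists_sqrt h2).choose_spec
    have h1 : (exists_sqrt h2).choose (p.c + q.c) = (exists_sqrt h2).choose p.c +
        (exists_sqrt h2).choose q.c := by
      apply sq_inj h2
      rw [hs]
      have e1 := hs p.c
      have e2 := hs q.c
      linear_combination -e1 - e2 -
        (exists_sqrt h2).choose p.c * (exists_sqrt h2).choose q.c * h2
    have h3 : (p * q).c = p.c + q.c := by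
      rw [PQDatum.T.mul_c]
      change p.c + q.c - 0 = _
      rw [sub_zero]
    ext
    · simp only [h3, h1, PQDatum.T.mul_w]
    · simp only [h3, h1, PQDatum.T.mul_c]
      change _ = _ - 2 * _ * _
      ring

theorem theta_c [Finite F] (h2 : (2 : F) = 0) (p : (stdSp F).T) : (theta h2 p).c = p.c := by
  change -((exists_sqrt h2).choose p.c) ^ 2 = p.c
  rw [(exists_sqrt h2).choose_spec, neg_eq_self h2]

theorem o1_ext {p q : (stdO1 F).T} (h2 : (2 : F) = 0) (h : p.c = q.c) : p = q := by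
  have h1 : p.c = -p.w ^ 2 := p.ok
  have h3 : q.c = -q.w ^ 2 := q.ok
  have h4 : p.w = q.w := by
    apply sq_inj h2
    linear_combination h1 - h3 - h
  ext
  · exact h4
  · exact h

theorem theta_sc [Finite F] (h2 : (2 : F) = 0) (a : F) (p : (stdSp F).T) :
    theta h2 ((stdSp F).sc a p) = (stdO1 F).sc a (theta h2 p) := by
  apply o1_ext h2
  rw [theta_c, PQDatum.sc_c, PQDatum.sc_c, theta_c]
  rfl

theorem theta_tr [Finite F] (h2 : (2 : F) = 0) (a b : F) :
    theta h2 ((stdSp F).tr a b) = (stdO1 F).tr a b := by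
  apply o1_ext h2
  rw [theta_c, PQDatum.tr_c, PQDatum.tr_c]
  change a * b - -1 * a * b = a * b - 1 * a * b
  linear_combination a * b * h2

theorem theta_refl [Finite F] (h2 : (2 : F) = 0) (p : (stdSp F).T) (hp : p.c ≠ 0)
    (hp' : (theta h2 p).c ≠ 0) (q : (stdSp F).T) :
    theta h2 ((stdSp F).refl p hp q) = (stdO1 F).refl (theta h2 p) hp' (theta h2 q) := by
  apply o1_ext h2
  rw [theta_c, PQDatum.refl_c, PQDatum.refl_c, theta_c]

/-- The package over `stdSp`. -/
noncomputable def spMaps [Finite F] (h2 : (2 : F) = 0) {Y : Type*} (m : B2Maps (stdO1 F) Y) :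
    B2Maps (stdSp F) Y where
  x := m.x
  x' := m.x'
  y := m.y
  y' := m.y'
  z₁ p := m.z₁ (theta h2 p)
  z₂ p := m.z₂ (theta h2 p)
  z₁' p := m.z₁' (theta h2 p)
  z₂' p := m.z₂' (theta h2 p)

theorem spMaps_nI [Finite F] (h2 : (2 : F) = 0) {Y : Type*} [Group Y] (m : B2Maps (stdO1 F) Y) :
    (spMaps h2 m).nI = m.nI := rfl

theorem spMaps_nII [Finite F] (h2 : (2 : F) = 0) {Y : Type*} [Group Y] (m : B2Maps (stdO1 F) Y)
    (p : (stdSp F).T) : (spMaps h2 m).nII p = m.nII (theta h2 p) := by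
  unfold B2Maps.nII
  change m.z₂' (theta h2 _) * m.z₂ (theta h2 _) * m.z₂' (theta h2 _) = _
  rw [theta_sc, theta_sc, theta_c]
  have h3 : -((stdSp F).ε * p.c⁻¹) = -((stdO1 F).ε * p.c⁻¹) := by
    change -(-1 * p.c⁻¹) = -(1 * p.c⁻¹)
    linear_combination p.c⁻¹ * h2
  rw [h3]
  rfl

theorem spRel [Finite F] (h2 : (2 : F) = 0) {Y : Type*} [Group Y] {m : B2Maps (stdO1 F) Y}
    (hm : B2Rel m) : B2Rel (spMaps h2 m) where
  x_add := hm.x_add
  x'_add := hm.x'_add
  y_add := hm.y_add
  y'_add := hm.y'_add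
  z₁_mul p q := by
    change m.z₁ (theta h2 (p * q)) = _
    rw [map_mul]; exact hm.z₁_mul _ _
  z₂_mul p q := by
    change m.z₂ (theta h2 (p * q)) = _
    rw [map_mul]; exact hm.z₂_mul _ _
  z₁'_mul p q := by
    change m.z₁' (theta h2 (p * q)) = _
    rw [map_mul]; exact hm.z₁'_mul _ _
  z₂'_mul p q := by
    change m.z₂' (theta h2 (p * q)) = _
    rw [map_mul]; exact hm.z₂'_mul _ _
  x_z₂ a p := by
    have h1 := hm.x_z₂ a (theta h2 p)
    have h3 : -((stdO1 F).ε * a * (stdO1 F).σ (theta h2 p).c) =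
        -((stdSp F).ε * a * (stdSp F).σ p.c) := by
      rw [theta_c]
      change -(1 * a * p.c) = -(-1 * a * p.c)
      linear_combination -a * p.c * h2
    rw [h3, ← theta_sc] at h1
    exact h1
  z₁_z₂ p q := by
    have h1 := hm.z₁_z₂ (theta h2 p) (theta h2 q)
    have h3 : -(stdO1 F).h (theta h2 q).w (theta h2 p).w = -(stdSp F).h q.w p.w := by
      change -(2 * _ * _) = -0
      rw [h2]; ring
    rw [h3] at h1
    exact h1
  x_y a b := by
    have h1 := hm.x_y a b
    rw [← theta_tr h2] at h1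
    exact h1
  x_z₁ a p := hm.x_z₁ a _
  y_z₁ b p := hm.y_z₁ b _
  y_z₂ b p := hm.y_z₂ b _
  nI_x a := hm.nI_x a
  nI_x' a := hm.nI_x' a
  nI_y b := by
    have h1 := hm.nI_y b
    have h3 : (stdO1 F).ε * (stdO1 F).σ b = (stdSp F).ε * (stdSp F).σ b := by
      change 1 * b = -1 * b
      linear_combination b * h2
    rw [h3] at h1
    exact h1
  nI_y' b := by
    have h1 := hm.nI_y' b
    have h3 : (stdO1 F).ε⁻¹ * (stdO1 F).σ b = (stdSp F).ε⁻¹ * (stdSp F).σ b := by
      change (1 : F)⁻¹ * b = (-1 : F)⁻¹ * b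
      rw [inv_one, inv_neg, inv_one]
      linear_combination b * h2
    rw [h3] at h1
    exact h1
  nI_z₁ p := by
    have h1 := hm.nI_z₁ (theta h2 p)
    rw [← theta_sc] at h1
    exact h1
  nI_z₂ p := hm.nI_z₂ (theta h2 p)
  nI_z₁' p := by
    have h1 := hm.nI_z₁' (theta h2 p)
    rw [← theta_sc] at h1
    exact h1
  nI_z₂' p := hm.nI_z₂' (theta h2 p)
  nII_x p hp a := by
    rw [spMaps_nII]
    have h1 := hm.nII_x (theta h2 p) (by rw [theta_c]; exact hp) a
    have h3 : (stdO1 F).ε * (stdO1 F).σ (theta h2 p).c * a = (stdSp F).ε * (stdSp F).σ p.c * a := by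
      rw [theta_c]
      change 1 * p.c * a = -1 * p.c * a
      linear_combination p.c * a * h2
    rw [h3] at h1
    exact h1
  nII_y p hp b := by
    rw [spMaps_nII]
    have h1 := hm.nII_y (theta h2 p) (by rw [theta_c]; exact hp) b
    rw [theta_c] at h1
    exact h1
  nII_x' p hp a := by
    rw [spMaps_nII]
    have h1 := hm.nII_x' (theta h2 p) (by rw [theta_c]; exact hp) a
    rw [theta_c] at h1
    exact h1
  nII_y' p hp b := by
    rw [spMaps_nII]
    have h1 := hm.nII_y' (theta h2 p) (by rw [theta_c]; exact hp) b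
    have h3 : -((stdO1 F).ε⁻¹ * (theta h2 p).c * (stdO1 F).σ b) =
        -((stdSp F).ε⁻¹ * p.c * (stdSp F).σ b) := by
      rw [theta_c]
      change -((1 : F)⁻¹ * p.c * b) = -((-1 : F)⁻¹ * p.c * b)
      rw [inv_one, inv_neg, inv_one]
      linear_combination -p.c * b * h2
    rw [h3] at h1
    exact h1
  nII_z₁ p hp q := by
    have hp' : (theta h2 p).c ≠ 0 := by rw [theta_c]; exact hp
    rw [spMaps_nII]
    have h1 := hm.nII_z₁ (theta h2 p) hp' (theta h2 q)
    rw [← theta_refl h2 p hp hp'] at h1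
    exact h1
  nII_z₁' p hp q := by
    have hp' : (theta h2 p).c ≠ 0 := by rw [theta_c]; exact hp
    rw [spMaps_nII]
    have h1 := hm.nII_z₁' (theta h2 p) hp' (theta h2 q)
    rw [← theta_refl h2 p hp hp'] at h1
    exact h1
  nII_z₂ p hp q := by
    have hp' : (theta h2 p).c ≠ 0 := by rw [theta_c]; exact hp
    rw [spMaps_nII]
    have h1 := hm.nII_z₂ (theta h2 p) hp' (theta h2 q)
    rw [← theta_refl h2 p hp hp', ← theta_sc, theta_c] at h1
    exact h1
  nII_z₂' p hp q := by
    have hp' : (theta h2 p).c ≠ 0 := by rw [theta_c]; exact hp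
    rw [spMaps_nII]
    have h1 := hm.nII_z₂' (theta h2 p) hp' (theta h2 q)
    have h3 : (stdO1 F).ε⁻¹ * (theta h2 p).c = (stdSp F).ε⁻¹ * p.c := by
      rw [theta_c]
      change (1 : F)⁻¹ * p.c = (-1 : F)⁻¹ * p.c
      rw [inv_one, inv_neg, inv_one]
      linear_combination p.c * h2
    rw [← theta_refl h2 p hp hp', ← theta_sc, h3] at h1
    exact h1

end Cfsg.Agent.TitsThree.EvenSp
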