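import Mathlib
import Cfsg.Agent.TitsThree.Pack
import Cfsg.Agent.TitsThree.Tree
/-!
# The G side of type `C_{n+1}` (S1143, piece G2)

`gcn_of`: from the root groups of the simple roots (acting on the panels of the base chamber), the `B₂` package of the
double bond, the `A₂` edges over *some* field and the commuting pairs to the record `Pack.GCN`.
-/

set_option autoImplicit false

namespace Cfsg.Agent.TitsThree.GSideCN

open Cfsg.Agent.Tits.Core Cfsg.Agent.AGraded Cfsg.Agent.TitsThree.B2Pkg Cfsg.Agent.TitsThree.Pack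
  Cfsg.Agent.TitsThree.Tree Cfsg.Agent.TitsThree.Hua

/-- The action of the root groups `X, X'` of the node `i` on the `i`-panel of the base chamber. -/
structure PanAct {I : Type*} {M : CoxeterMatrix I} {W : Type*} [Group W] {cs : CoxeterSystem M W}
    {C : Type*} (Δ : Bldg cs C) {G : Type*} [Group G] [MulAction G C] (c : C) (i : I) (ci : C)
    (X X' : Set G) : Prop where
  mem : ci ∈ Δ.Pan i c
  ne : ci ≠ c
  fix : ∀ g ∈ X, g • c = c
  fix' : ∀ g ∈ X', g • ci = ci
  trans : ∀ y ∈ Δ.Pan i c, y ≠ c → ∃ g ∈ X, g • ci = y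
  trans' : ∀ y ∈ Δ.Pan i c, y ≠ ci → ∃ g ∈ X', g • c = y

section NodeAct

variable {I : Type*} {M : CoxeterMatrix I} {W : Type*} [Group W] {cs : CoxeterSystem M W}
  {C : Type*} {Δ : Bldg cs C} {G : Type*} [Group G] [MulAction G C] {c : C} {i : I} {ci : C}
  {X X' : Set G}

theorem PanAct.nodeAct (h : PanAct Δ c i ci X X') {P : Type*} {xp xm : P → G}
    (hp : Set.range xp = X) (hm : Set.range xm = X') : NodeAct Δ c i ci xp xm where
  mem := h.mem
  ne := h.ne
  fix t := h.fix _ (hp ▸ ⟨t, rfl⟩)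
  fix' t := h.fix' _ (hm ▸ ⟨t, rfl⟩)
  trans y hy hne := by
    obtain ⟨g, hg, e⟩ := h.trans y hy hne
    rw [← hp] at hg
    obtain ⟨t, rfl⟩ := hg
    exact ⟨t, e⟩
  trans' y hy hne := by
    obtain ⟨g, hg, e⟩ := h.trans' y hy hne
    rw [← hm] at hg
    obtain ⟨t, rfl⟩ := hg
    exact ⟨t, e⟩

end NodeAct

/-- The path `0, …, k` rooted at `k`. -/
def pathRooted (k : ℕ) : Rooted (fun i j : Fin (k + 1) => i.1 + 1 = j.1) (Fin.last k) where
  par i := if h : i.1 < k then ⟨i.1 + 1, by omega⟩ else i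
  rk i := k - i.1
  rk_par i hi := by
    have h1 : i.1 < k := by
      have := i.2
      have h2 : i.1 ≠ k := fun h => hi (Fin.ext h)
      omega
    simp only [h1, dif_pos]
    omega
  adj_par i hi := by
    have h1 : i.1 < k := by
      have := i.2
      have h2 : i.1 ≠ k := fun h => hi (Fin.ext h)
      omega
    right
    simp only [h1, dif_pos]
  edge i j hij := by
    right
    have hj := j.2
    have h1 : i.1 < k := by omega
    refine ⟨fun h => ?_, ?_⟩
    · rw [h, Fin.val_last] at h1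
      omega
    · simp only [h1, dif_pos]
      exact Fin.ext hij

section Main

variable {k : ℕ} {M : CoxeterMatrix (Fin (k + 2))} {W : Type*} [Group W] {cs : CoxeterSystem M W}
  {C : Type*} (Δ : Bldg cs C) {G : Type*} [Group G] [MulAction G C]
  {F : Type*} [Field F] {V : Type*} [AddCommGroup V] [Module F V] {D : PQDatum F V}

/-- **G2, abstract form.** -/
theorem gcn_of (c : C) (ci : Fin (k + 2) → C) (X X' : Fin (k + 2) → Set G)
    (hact : ∀ i, PanAct Δ c i (ci i) (X i) (X' i))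
    (hgen : Subgroup.closure (⋃ i, (X i ∪ X' i)) = ⊤)
    (hcomm : ∀ i j : Fin (k + 2), i.1 + 1 < j.1 → ∀ g ∈ X i ∪ X' i, ∀ g' ∈ X j ∪ X' j, Commute g g')
    (hE : ∀ i j : Fin (k + 1), i.1 + 1 = j.1 →
      EdgeA2 (X i.castSucc) (X' i.castSucc) (X j.castSucc) (X' j.castSucc))
    (m : B2Maps D G) (hm : B2Rel m) (hpar : SL2Par m.x m.x')
    (rx : Set.range m.x = X (Fin.last k).castSucc) (rx' : Set.range m.x' = X' (Fin.last k).castSucc)
    (rz : Set.range m.z₂ = X (Fin.last (k + 1))) (rz' : Set.range m.z₂' = X' (Fin.last (k + 1)))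
    (hy : ∀ b, m.y b • c = c) : Nonempty (GCN Δ G D (n := k + 1)) := by
  obtain ⟨xp, xm, h1, h2, -, h4, h5, h6⟩ := glueTree' (pathRooted k)
    (fun i => X i.castSucc) (fun i => X' i.castSucc) hE hpar rx rx'
  have hcomm' : ∀ i j : Fin (k + 1), i.1 + 1 < j.1 → Comm4 (xp i) (xm i) (xp j) (xm j) := by
    intro i j hij s t
    have e1 : xp i s ∈ X i.castSucc := h4 i ▸ ⟨s, rfl⟩
    have e2 : xm i s ∈ X' i.castSucc := h5 i ▸ ⟨s, rfl⟩
    have e3 : xp j t ∈ X j.castSucc := h4 j ▸ ⟨t, rfl⟩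
    have e4 : xm j t ∈ X' j.castSucc := h5 j ▸ ⟨t, rfl⟩
    have hc := hcomm i.castSucc j.castSucc hij
    exact ⟨hc _ (Or.inl e1) _ (Or.inl e3), hc _ (Or.inl e1) _ (Or.inr e4),
      hc _ (Or.inr e2) _ (Or.inl e3), hc _ (Or.inr e2) _ (Or.inr e4)⟩
  have hcommT : ∀ i : Fin (k + 1), i.1 + 1 < k + 1 → Comm4 (xp i) (xm i) m.z₂ m.z₂' := by
    intro i hij s t
    have e1 : xp i s ∈ X i.castSucc := h4 i ▸ ⟨s, rfl⟩
    have e2 : xm i s ∈ X' i.castSucc := h5 i ▸ ⟨s, rfl⟩
    have e3 : m.z₂ t ∈ X (Fin.last (k + 1)) := rz ▸ ⟨t, rfl⟩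
    have e4 : m.z₂' t ∈ X' (Fin.last (k + 1)) := rz' ▸ ⟨t, rfl⟩
    have hc := hcomm i.castSucc (Fin.last (k + 1)) (by simpa using hij)
    exact ⟨hc _ (Or.inl e1) _ (Or.inl e3), hc _ (Or.inl e1) _ (Or.inr e4),
      hc _ (Or.inr e2) _ (Or.inl e3), hc _ (Or.inr e2) _ (Or.inr e4)⟩
  refine ⟨{ xp := xp, xm := xm, b2 := m, rel := hm, st3 := ?_, comm := hcomm', commT := hcommT,
            last := ?_, c := c, ci := ci, act := ?_, actT := ?_, y_fix := hy, gen := ?_ }⟩
  · intro i j hij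
    obtain ⟨x, hx, -, e1, e2, e3, e4⟩ := h6 i j (Or.inl hij)
    exact ⟨x, hx, e1, e2, e3, e4⟩
  · intro i hi
    have : i = Fin.last k := Fin.ext (by rw [Fin.val_last]; omega)
    rw [this, h1, h2]
    exact ⟨rfl, rfl⟩
  · intro i
    exact (hact i.castSucc).nodeAct (h4 i) (h5 i)
  · exact (hact (Fin.last (k + 1))).nodeAct rz rz'
  · rw [eq_top_iff, ← hgen, Subgroup.closure_le]
    intro g hg
    obtain ⟨i, hg⟩ := Set.mem_iUnion.1 hg
    apply Subgroup.subset_closure
    induction i using Fin.lastCases with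
    | last =>
      right
      rcases hg with hg | hg
      · rw [← rz] at hg
        obtain ⟨p, rfl⟩ := hg
        exact ⟨p, Or.inl rfl⟩
      · rw [← rz'] at hg
        obtain ⟨p, rfl⟩ := hg
        exact ⟨p, Or.inr rfl⟩
    | cast i =>
      left
      rcases hg with hg | hg
      · rw [← h4 i] at hg
        obtain ⟨t, rfl⟩ := hg
        exact ⟨i, t, Or.inl rfl⟩
      · rw [← h5 i] at hg
        obtain ⟨t, rfl⟩ := hg
        exact ⟨i, t, Or.inr rfl⟩

end Main

end Cfsg.Agent.TitsThree.GSideCN
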