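import Mathlib
import Cfsg.Agent.TitsThree.GSideCN
import Cfsg.Agent.Tits.Mou
/-!
# From the root groups of a building to the hypotheses of the G side (S1143)

`rootGrp Δ σ` : the group generated by the root groups of the simple roots and their negatives.
For a group `G` with an injective homomorphism `ρ : G →* Equiv.Perm C` onto `rootGrp Δ σ`, acting on `C` through `ρ`:
`panAct`, `gen_preimage`, pull back of `EdgeA2`, `SL2Par`, `B2Rel` along `ρ`.
-/

set_option autoImplicit false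

namespace Cfsg.Agent.TitsThree.GSideMou

open Cfsg.Agent.Tits.Core Cfsg.Agent.Tits.Core.Bldg Cfsg.Agent.AGraded Cfsg.Agent.TitsThree.B2Pkg
  Cfsg.Agent.TitsThree.Pack Cfsg.Agent.TitsThree.Tree Cfsg.Agent.TitsThree.Hua
  Cfsg.Agent.TitsThree.GSideCN Cfsg.Agent.Tits.MouDefs
open scoped commutatorElement

/-! ### Pulling packages back along an injective homomorphism -/

section Pull

variable {G Y : Type*} [Group G] [Group Y] {ρ : G →* Y} (hρ : Function.Injective ρ)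

include hρ

theorem SL2Par.pull {F : Type*} [Field F] {xp xm : F → G}
    (h : SL2Par (fun t => ρ (xp t)) (fun t => ρ (xm t))) : SL2Par xp xm where
  addp s t := hρ (by rw [map_mul]; exact h.addp s t)
  addm s t := hρ (by rw [map_mul]; exact h.addm s t)
  injp s t hst := h.injp (by simp only [hst])
  injm s t hst := h.injm (by simp only [hst])
  conjp t ht s := hρ (by
    have := h.conjp t ht s
    simpa [KSideDefs.nn] using this)
  conjm t ht s := hρ (by
    have := h.conjm t ht s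
    simpa [KSideDefs.nn] using this)
  norm s hs := h.norm s fun r => by
    obtain ⟨r', hr'⟩ := hs r
    exact ⟨r', by rw [← hr']; simp⟩

theorem SteinRel.pull {F : Type*} [Field F] {x : Fin 3 → Fin 3 → F → G}
    (h : SteinRel fun a b t => ρ (x a b t)) : SteinRel x where
  add i j hij a b := hρ (by rw [map_mul]; exact h.add i j hij a b)
  comm i j k l hij hkl hjk hil a b := hρ (by
    have := h.comm i j k l hij hkl hjk hil a b
    simpa only [map_mul] using this)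
  br i j k hij hjk hik a b := hρ (by
    have := h.br i j k hij hjk hik a b
    rw [map_commutatorElement]
    exact this)

omit hρ in
/-- The root groups `02`, `20` of a Steinberg system lie in the group generated by the others. -/
theorem mem_range_of_stein {F : Type*} [Field F] {x : Fin 3 → Fin 3 → F → Y} (h : SteinRel x) {N : Subgroup Y}
    (h01 : ∀ t, x 0 1 t ∈ N) (h10 : ∀ t, x 1 0 t ∈ N) (h12 : ∀ t, x 1 2 t ∈ N) (h21 : ∀ t, x 2 1 t ∈ N) :
    ∀ a b, a ≠ b → ∀ t, x a b t ∈ N := by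
  have hcomm : ∀ {a b : Y}, a ∈ N → b ∈ N → ⁅a, b⁆ ∈ N := by
    intro a b ha hb
    rw [commutatorElement_def]
    exact mul_mem (mul_mem (mul_mem ha hb) (inv_mem ha)) (inv_mem hb)
  have h02 : ∀ t, x 0 2 t ∈ N := by
    intro t
    have := h.br 0 1 2 (by decide) (by decide) (by decide) t 1
    rw [mul_one] at this
    rw [← this]
    exact hcomm (h01 t) (h12 1)
  have h20 : ∀ t, x 2 0 t ∈ N := by
    intro t
    have := h.br 2 1 0 (by decide) (by decide) (by decide) t 1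
    rw [mul_one] at this
    rw [← this]
    exact hcomm (h21 t) (h10 1)
  intro a b hab t
  fin_cases a <;> fin_cases b
  · exact absurd rfl hab
  · exact h01 t
  · exact h02 t
  · exact h10 t
  · exact absurd rfl hab
  · exact h12 t
  · exact h20 t
  · exact h21 t
  · exact absurd rfl hab

theorem EdgeA2.pull {Xi Xi' Xj Xj' : Set Y} (h : EdgeA2 Xi Xi' Xj Xj') (h1 : Xi ⊆ ρ.range)
    (h2 : Xi' ⊆ ρ.range) (h3 : Xj ⊆ ρ.range) (h4 : Xj' ⊆ ρ.range) :
    EdgeA2 (ρ ⁻¹' Xi) (ρ ⁻¹' Xi') (ρ ⁻¹' Xj) (ρ ⁻¹' Xj') := by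
  obtain ⟨F', i1, i2, x, hx, hinj, r01, r10, r12, r21⟩ := h
  have hmem := mem_range_of_stein hx (N := ρ.range) (fun t => h1 (r01 ▸ ⟨t, rfl⟩))
    (fun t => h2 (r10 ▸ ⟨t, rfl⟩)) (fun t => h3 (r12 ▸ ⟨t, rfl⟩)) (fun t => h4 (r21 ▸ ⟨t, rfl⟩))
  have hex : ∀ a b : Fin 3, ∀ t : F', ∃ g : G, a ≠ b → ρ g = x a b t := by
    intro a b t
    by_cases hab : a = b
    · exact ⟨1, fun h => absurd hab h⟩
    · obtain ⟨g, hg⟩ := hmem a b hab t
      exact ⟨g, fun _ => hg⟩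
  choose y hy using hex
  have hran : ∀ a b, a ≠ b → Set.range (y a b) = ρ ⁻¹' (Set.range (x a b)) := by
    intro a b hab
    ext g
    constructor
    · rintro ⟨t, rfl⟩
      exact ⟨t, (hy a b t hab).symm⟩
    · rintro ⟨t, ht⟩
      exact ⟨t, hρ (by rw [hy a b t hab, ht])⟩
  refine ⟨F', i1, i2, y, ?_, ?_, ?_, ?_, ?_, ?_⟩
  · refine ⟨fun i j hij a b => hρ ?_, fun i j k l hij hkl hjk hil a b => hρ ?_,
      fun i j k hij hjk hik a b => hρ ?_⟩
    · rw [map_mul, hy i j _ hij, hy i j _ hij, hy i j _ hij]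
      exact hx.add i j hij a b
    · have := hx.comm i j k l hij hkl hjk hil a b
      rw [map_mul, map_mul, hy i j _ hij, hy k l _ hkl]
      exact this
    · rw [map_commutatorElement, hy i j _ hij, hy j k _ hjk, hy i k _ hik]
      exact hx.br i j k hij hjk hik a b
  · intro a b hab s t hst
    apply hinj a b hab
    rw [← hy a b s hab, ← hy a b t hab, hst]
  · rw [hran 0 1 (by decide), r01]
  · rw [hran 1 0 (by decide), r10]
  · rw [hran 1 2 (by decide), r12]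
  · rw [hran 2 1 (by decide), r21]

end Pull

section B2

variable {F : Type*} [Field F] {V : Type*} [AddCommGroup V] [Module F V] {D : PQDatum F V}
  {Y : Type*} [Group Y]

/-- All eight families lie in the group generated by `x, x', z₂, z₂'`. -/
theorem b2_mem {m : B2Maps D Y} (h : B2Rel m) {N : Subgroup Y} (hp : ∃ p : D.T, p.c ≠ 0)
    (hx : ∀ a, m.x a ∈ N) (hx' : ∀ a, m.x' a ∈ N) (hz : ∀ p, m.z₂ p ∈ N) (hz' : ∀ p, m.z₂' p ∈ N) :
    (∀ b, m.y b ∈ N) ∧ (∀ b, m.y' b ∈ N) ∧ (∀ p, m.z₁ p ∈ N) ∧ ∀ p, m.z₁' p ∈ N := by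
  have hσ : ∀ x : F, D.σ x = 0 → x = 0 := fun x hx => by
    have := congrArg D.σ.symm hx
    simpa using this
  have hε : D.ε ≠ 0 := by
    intro h0
    have := D.ε_mul
    rw [h0, zero_mul] at this
    exact zero_ne_one this
  obtain ⟨p, hp⟩ := hp
  have hn : m.nII p ∈ N := mul_mem (mul_mem (hz' _) (hz _)) (hz' _)
  have hnI : m.nI ∈ N := mul_mem (mul_mem (hx _) (hx' _)) (hx _)
  refine ⟨fun b => ?_, fun b => ?_, fun q => ?_, fun q => ?_⟩
  · have h0 : D.ε * D.σ p.c ≠ 0 := mul_ne_zero hε fun h1 => hp (hσ _ h1)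
    have h1 := h.nII_x p hp ((D.ε * D.σ p.c)⁻¹ * b)
    rw [mul_inv_cancel_left₀ h0] at h1
    rw [← h1]
    exact mul_mem (mul_mem hn (hx _)) (inv_mem hn)
  · have h1 := h.nII_x' p hp (-(D.σ (p.c * b)))
    have e : -(p.c⁻¹ * D.σ (-(D.σ (p.c * b)))) = b := by
      rw [map_neg, D.σσ]
      field_simp
    rw [e] at h1
    rw [← h1]
    exact mul_mem (mul_mem hn (hx' _)) (inv_mem hn)
  · rw [← h.nI_z₂ q]
    exact mul_mem (mul_mem hnI (hz _)) (inv_mem hnI)
  · rw [← h.nI_z₂' q]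
    exact mul_mem (mul_mem hnI (hz' _)) (inv_mem hnI)

/-- A `B₂` package over the datum `D` on given subsets (root groups of the nodes `j` (type I), `k` (type II)). -/
def Bond (D : PQDatum F V) (Xj Xj' Xk Xk' Bc : Set Y) : Prop :=
  ∃ m : B2Maps D Y, B2Rel m ∧ SL2Par m.x m.x' ∧ Set.range m.x = Xj ∧ Set.range m.x' = Xj' ∧
    Set.range m.z₂ = Xk ∧ Set.range m.z₂' = Xk' ∧ ∀ b, m.y b ∈ Bc

theorem Bond.pull {G : Type*} [Group G] {ρ : G →* Y} (hρ : Function.Injective ρ)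
    {Xj Xj' Xk Xk' Bc : Set Y} (hp : ∃ p : D.T, p.c ≠ 0) (h : Bond D Xj Xj' Xk Xk' Bc)
    (h1 : Xj ⊆ ρ.range) (h2 : Xj' ⊆ ρ.range) (h3 : Xk ⊆ ρ.range) (h4 : Xk' ⊆ ρ.range) :
    Bond D (ρ ⁻¹' Xj) (ρ ⁻¹' Xj') (ρ ⁻¹' Xk) (ρ ⁻¹' Xk') (ρ ⁻¹' Bc) := by
  obtain ⟨m, hm, hpar, r1, r2, r3, r4, hy⟩ := h
  have e1 : ∀ t, m.x t ∈ ρ.range := fun t => h1 (r1 ▸ ⟨t, rfl⟩)
  have e2 : ∀ t, m.x' t ∈ ρ.range := fun t => h2 (r2 ▸ ⟨t, rfl⟩)
  have e3 : ∀ t, m.z₂ t ∈ ρ.range := fun t => h3 (r3 ▸ ⟨t, rfl⟩)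
  have e4 : ∀ t, m.z₂' t ∈ ρ.range := fun t => h4 (r4 ▸ ⟨t, rfl⟩)
  obtain ⟨e5, e6, e7, e8⟩ := b2_mem hm hp e1 e2 e3 e4
  choose x hx using e1
  choose x' hx' using e2
  choose z₂ hz₂ using e3
  choose z₂' hz₂' using e4
  choose y hy0 using e5
  choose y' hy' using e6
  choose z₁ hz₁ using e7
  choose z₁' hz₁' using e8
  have hm' : B2Rel ((⟨x, x', y, y', z₁, z₂, z₁', z₂'⟩ : B2Maps D G).map ρ) := by
    have : (⟨x, x', y, y', z₁, z₂, z₁', z₂'⟩ : B2Maps D G).map ρ = m := by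
      cases m
      simp only [B2Maps.map, B2Maps.mk.injEq]
      exact ⟨funext hx, funext hx', funext hy0, funext hy', funext hz₁, funext hz₂, funext hz₁', funext hz₂'⟩
    rw [this]; exact hm
  have hran : ∀ {P : Type _} (f : P → Y) (g : P → G) (_ : ∀ t, ρ (g t) = f t),
      Set.range g = ρ ⁻¹' (Set.range f) := by
    intro P f g hfg
    ext a
    constructor
    · rintro ⟨t, rfl⟩
      exact ⟨t, (hfg t).symm⟩
    · rintro ⟨t, ht⟩
      exact ⟨t, hρ (by rw [hfg, ht])⟩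
  refine ⟨⟨x, x', y, y', z₁, z₂, z₁', z₂'⟩, hm'.of_map hρ, ?_, ?_, ?_, ?_, ?_, ?_⟩
  · apply SL2Par.pull hρ
    simp only [hx, hx']
    exact hpar
  · rw [hran _ _ hx, r1]
  · rw [hran _ _ hx', r2]
  · ext a
    constructor
    · rintro ⟨t, rfl⟩
      show ρ (z₂ t) ∈ Xk
      rw [hz₂, ← r3]
      exact ⟨t, rfl⟩
    · intro ha
      have ha' : ρ a ∈ Xk := ha
      rw [← r3] at ha'
      obtain ⟨t, ht⟩ := ha'
      exact ⟨t, hρ (by rw [hz₂, ht])⟩
  · ext a
    constructor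
    · rintro ⟨t, rfl⟩
      show ρ (z₂' t) ∈ Xk'
      rw [hz₂', ← r4]
      exact ⟨t, rfl⟩
    · intro ha
      have ha' : ρ a ∈ Xk' := ha
      rw [← r4] at ha'
      obtain ⟨t, ht⟩ := ha'
      exact ⟨t, hρ (by rw [hz₂', ht])⟩
  · intro b
    show ρ (y b) ∈ Bc
    rw [hy0]
    exact hy b

end B2

/-! ### The group generated by the root groups -/

section Root

variable {I : Type*} {M : CoxeterMatrix I} {W : Type*} [Group W] {cs : CoxeterSystem M W}
variable {C : Type*}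

/-- The root group of the simple root `α_i` (it fixes `σ 1`). -/
def XP (Δ : Bldg cs C) (σ : W → C) (i : I) : Subgroup (Equiv.Perm C) := U Δ σ (rt cs 1 i)

/-- The root group of the root `-α_i`. -/
def XM (Δ : Bldg cs C) (σ : W → C) (i : I) : Subgroup (Equiv.Perm C) := U Δ σ (rt cs (cs.simple i) i)

/-- The group generated by the root groups of the simple roots and their negatives. -/
def rootGrp (Δ : Bldg cs C) (σ : W → C) : Subgroup (Equiv.Perm C) :=
  Subgroup.closure (⋃ i, ((XP Δ σ i : Set (Equiv.Perm C)) ∪ (XM Δ σ i : Set (Equiv.Perm C))))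

theorem XP_le (Δ : Bldg cs C) (σ : W → C) (i : I) : XP Δ σ i ≤ rootGrp Δ σ := fun _ hg =>
  Subgroup.subset_closure (Set.mem_iUnion.2 ⟨i, Or.inl hg⟩)

theorem XM_le (Δ : Bldg cs C) (σ : W → C) (i : I) : XM Δ σ i ≤ rootGrp Δ σ := fun _ hg =>
  Subgroup.subset_closure (Set.mem_iUnion.2 ⟨i, Or.inr hg⟩)

variable {Δ : Bldg cs C} {σ : W → C}

section Act

variable {G : Type*} [Group G] [MulAction G C] {ρ : G →* Equiv.Perm C} (hρ : Function.Injective ρ)
  (hr : ρ.range = rootGrp Δ σ) (hact : ∀ (g : G) (x : C), g • x = ρ g x)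

include hρ hr in
theorem gen_preimage :
    Subgroup.closure (⋃ i, (ρ ⁻¹' (XP Δ σ i : Set (Equiv.Perm C)) ∪ ρ ⁻¹' (XM Δ σ i : Set (Equiv.Perm C)))) =
      (⊤ : Subgroup G) := by
  apply Subgroup.map_injective hρ
  rw [MonoidHom.map_closure, ← MonoidHom.range_eq_map, hr, rootGrp]
  congr 1
  ext g
  constructor
  · rintro ⟨a, ha, rfl⟩
    obtain ⟨i, ha⟩ := Set.mem_iUnion.1 ha
    exact Set.mem_iUnion.2 ⟨i, ha⟩
  · intro hg
    have hg' : g ∈ ρ.range := by
      rw [hr]; exact Subgroup.subset_closure hg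
    obtain ⟨a, rfl⟩ := hg'
    obtain ⟨i, hg⟩ := Set.mem_iUnion.1 hg
    exact ⟨a, Set.mem_iUnion.2 ⟨i, hg⟩, rfl⟩

variable [Tits.OppRes.Cox cs] [Finite C] (hth : Δ.Thick) (hext : Ext Δ Δ) (hc : Comb cs) (hσ : Chart Δ σ)

include hr hact hth hext hc hσ in
theorem panAct (i : I) : PanAct Δ (σ 1) i (σ (cs.simple i)) (ρ ⁻¹' (XP Δ σ i : Set (Equiv.Perm C)))
    (ρ ⁻¹' (XM Δ σ i : Set (Equiv.Perm C))) := by
  have h1 : σ (cs.simple i) ∈ Δ.Pan i (σ 1) := by
    have := Tits.Mou.mem_pan_chart hσ 1 i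
    rwa [one_mul] at this
  have hss : cs.simple i * cs.simple i = 1 := cs.simple_mul_simple_self i
  refine ⟨h1, ?_, ?_, ?_, ?_, ?_⟩
  · intro h
    have := hσ.injective h
    have h2 := cs.length_simple i
    rw [this, cs.length_one] at h2
    exact zero_ne_one h2
  · intro g hg
    rw [hact]
    exact hg.2.1 1 (mem_rt_self 1 i)
  · intro g hg
    rw [hact]
    exact hg.2.1 (cs.simple i) (mem_rt_self _ i)
  · intro y hy hne
    obtain ⟨g, hg, e⟩ := Tits.Mou.exists_root_elt hth hext hc hσ (v := 1) (i := i) hy hne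
    rw [one_mul] at e
    obtain ⟨a, rfl⟩ : g ∈ ρ.range := by rw [hr]; exact XP_le Δ σ i hg
    exact ⟨a, hg, by rw [hact, e]⟩
  · intro y hy hne
    have hy' : y ∈ Δ.Pan i (σ (cs.simple i)) := by
      rw [Tits.Mou.pan_eq h1]; exact hy
    obtain ⟨g, hg, e⟩ := Tits.Mou.exists_root_elt hth hext hc hσ (v := cs.simple i) (i := i) hy' hne
    rw [hss] at e
    obtain ⟨a, rfl⟩ : g ∈ ρ.range := by rw [hr]; exact XM_le Δ σ i hg
    exact ⟨a, hg, by rw [hact, e]⟩

end Act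

end Root

/-! ### Type `C_{k+2}` -/

section TypeC

variable {k : ℕ} {M : CoxeterMatrix (Fin (k + 2))} {W : Type*} [Group W] {cs : CoxeterSystem M W}
  {C : Type*} [Finite C] {Δ : Bldg cs C} {σ : W → C} [Tits.OppRes.Cox cs]
  {G : Type*} [Group G] [MulAction G C] {ρ : G →* Equiv.Perm C}
  {F : Type*} [Field F] {V : Type*} [AddCommGroup V] [Module F V] {D : PQDatum F V}

/-- **G2**: the record `GCN` from the `B₂` package of the double bond, the `A₂` edges and the commuting pairs of root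
groups of the building `Δ`. -/
theorem gcn_of_bond (hρ : Function.Injective ρ)
    (hr : ρ.range = rootGrp Δ σ) (hact : ∀ (g : G) (x : C), g • x = ρ g x)
    (hth : Δ.Thick) (hext : Ext Δ Δ) (hc : Comb cs) (hσ : Chart Δ σ)
    (hcomm : ∀ i j : Fin (k + 2), i.1 + 1 < j.1 →
      ∀ g ∈ (XP Δ σ i : Set (Equiv.Perm C)) ∪ (XM Δ σ i : Set (Equiv.Perm C)),
      ∀ g' ∈ (XP Δ σ j : Set (Equiv.Perm C)) ∪ (XM Δ σ j : Set (Equiv.Perm C)), Commute g g')
    (hE : ∀ i j : Fin (k + 1), i.1 + 1 = j.1 →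
      EdgeA2 (XP Δ σ i.castSucc : Set (Equiv.Perm C)) (XM Δ σ i.castSucc) (XP Δ σ j.castSucc) (XM Δ σ j.castSucc))
    (hp : ∃ p : D.T, p.c ≠ 0)
    (hB : Bond D (XP Δ σ (Fin.last k).castSucc : Set (Equiv.Perm C)) (XM Δ σ (Fin.last k).castSucc)
      (XP Δ σ (Fin.last (k + 1))) (XM Δ σ (Fin.last (k + 1))) {g | g (σ 1) = σ 1}) :
    Nonempty (GCN Δ G D (n := k + 1)) := by
  have hP : ∀ i, (XP Δ σ i : Set (Equiv.Perm C)) ⊆ ρ.range := fun i => by rw [hr]; exact XP_le Δ σ i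
  have hM : ∀ i, (XM Δ σ i : Set (Equiv.Perm C)) ⊆ ρ.range := fun i => by rw [hr]; exact XM_le Δ σ i
  obtain ⟨m, hm, hpar, r1, r2, r3, r4, hy⟩ := hB.pull hρ hp (hP _) (hM _) (hP _) (hM _)
  refine gcn_of Δ (σ 1) (fun i => σ (cs.simple i)) (fun i => ρ ⁻¹' (XP Δ σ i : Set (Equiv.Perm C)))
    (fun i => ρ ⁻¹' (XM Δ σ i : Set (Equiv.Perm C))) (fun i => panAct hr hact hth hext hc hσ i)
    (gen_preimage hρ hr) ?_ ?_ m hm hpar r1 r2 r3 r4 ?_
  · intro i j hij g hg g' hg'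
    have := hcomm i j hij (ρ g) hg (ρ g') hg'
    exact hρ (by rw [map_mul, map_mul]; exact this)
  · intro i j hij
    exact EdgeA2.pull hρ (hE i j hij) (hP _) (hM _) (hP _) (hM _)
  · intro b
    rw [hact]
    exact hy b

end TypeC

end Cfsg.Agent.TitsThree.GSideMou
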