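import Cfsg.Agent.TitsThree.B2Transport
import Cfsg.Agent.TitsThree.EvenSp
import Cfsg.Agent.TitsThree.PQClass
import Cfsg.Agent.TitsThree.GSideMou

/-!
# From an arbitrary finite parameter system to a standard one

`bond_std`, `gcn_std`: a `Bond D …` (`GCN Δ G D`) with `F`, `V` finite gives one over a standard parameter system.
-/

set_option autoImplicit false

namespace Cfsg.Agent.TitsThree.GCNTransport

open Cfsg.Agent.Tits.Core Cfsg.Agent.TitsThree.B2Pkg Cfsg.Agent.TitsThree.StdData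
  Cfsg.Agent.TitsThree.Pack Cfsg.Agent.TitsThree.GSideMou Cfsg.Agent.TitsThree.Hua

variable {F : Type*} [Field F] {V V' : Type*} [AddCommGroup V] [Module F V] [AddCommGroup V']
  [Module F V'] {D : PQDatum F V} {D' : PQDatum F V'}

/-! ### Root groups instead of parametrisations -/

theorem comm4_congr {X X' X₁ X₁' Y : Type*} [Group Y] {xp xm : X → Y} {yp ym : X' → Y}
    {xp' xm' : X₁ → Y} {yp' ym' : X₁' → Y} (h : Comm4 xp xm yp ym)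
    (h1 : Set.range xp' ⊆ Set.range xp) (h2 : Set.range xm' ⊆ Set.range xm)
    (h3 : Set.range yp' ⊆ Set.range yp) (h4 : Set.range ym' ⊆ Set.range ym) :
    Comm4 xp' xm' yp' ym' := by
  intro s t
  obtain ⟨a, ha⟩ := h1 ⟨s, rfl⟩
  obtain ⟨b, hb⟩ := h2 ⟨s, rfl⟩
  obtain ⟨c, hc⟩ := h3 ⟨t, rfl⟩
  obtain ⟨d, hd⟩ := h4 ⟨t, rfl⟩
  rw [← ha, ← hb, ← hc, ← hd]
  exact ⟨(h a c).1, (h a d).2.1, (h b c).2.2.1, (h b d).2.2.2⟩

theorem nodeAct_congr {I : Type*} {M : CoxeterMatrix I} {W : Type*} [Group W]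
    {cs : CoxeterSystem M W} {C : Type*} {Δ : Bldg cs C} {G : Type*} [Group G] [MulAction G C]
    {c : C} {i : I} {ci : C} {X X' : Type*} {xp xm : X → G} {xp' xm' : X' → G}
    (h : NodeAct Δ c i ci xp xm) (h1 : Set.range xp' = Set.range xp)
    (h2 : Set.range xm' = Set.range xm) : NodeAct Δ c i ci xp' xm' where
  mem := h.mem
  ne := h.ne
  fix t := by
    obtain ⟨a, ha⟩ : xp' t ∈ Set.range xp := h1 ▸ ⟨t, rfl⟩
    rw [← ha]; exact h.fix a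
  fix' t := by
    obtain ⟨a, ha⟩ : xm' t ∈ Set.range xm := h2 ▸ ⟨t, rfl⟩
    rw [← ha]; exact h.fix' a
  trans y hy hne := by
    obtain ⟨t, ht⟩ := h.trans y hy hne
    obtain ⟨a, ha⟩ : xp t ∈ Set.range xp' := h1 ▸ ⟨t, rfl⟩
    exact ⟨a, by rw [ha, ht]⟩
  trans' y hy hne := by
    obtain ⟨t, ht⟩ := h.trans' y hy hne
    obtain ⟨a, ha⟩ : xm t ∈ Set.range xm' := h2 ▸ ⟨t, rfl⟩
    exact ⟨a, by rw [ha, ht]⟩

section

variable {n : ℕ} {M : CoxeterMatrix (Fin (n + 1))} {W : Type*} [Group W] {cs : CoxeterSystem M W}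
  {C : Type*} {Δ : Bldg cs C} {G : Type*} [Group G] [MulAction G C]

/-- Change of the `B₂` package, same root groups. -/
def changeB2 (g : GCN Δ G D) (b : B2Maps D' G) (hb : B2Rel b) (hx : b.x = g.b2.x)
    (hx' : b.x' = g.b2.x') (h2 : Set.range b.z₂ = Set.range g.b2.z₂)
    (h2' : Set.range b.z₂' = Set.range g.b2.z₂') (hy : Set.range b.y ⊆ Set.range g.b2.y) :
    GCN Δ G D' where
  xp := g.xp
  xm := g.xm
  b2 := b
  rel := hb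
  st3 := g.st3
  comm := g.comm
  commT i hi := comm4_congr (g.commT i hi) subset_rfl subset_rfl h2.subset h2'.subset
  last i hi := ⟨hx.trans (g.last i hi).1, hx'.trans (g.last i hi).2⟩
  c := g.c
  ci := g.ci
  act := g.act
  actT := nodeAct_congr g.actT h2 h2'
  y_fix t := by
    obtain ⟨a, ha⟩ : b.y t ∈ Set.range g.b2.y := hy ⟨t, rfl⟩
    rw [← ha]; exact g.y_fix a
  gen := by
    have e : {x : G | (∃ i t, x = g.xp i t ∨ x = g.xm i t) ∨ ∃ p, x = b.z₂ p ∨ x = b.z₂' p} =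
        {x : G | (∃ i t, x = g.xp i t ∨ x = g.xm i t) ∨ ∃ p, x = g.b2.z₂ p ∨ x = g.b2.z₂' p} := by
      ext x
      have e1 : (∃ p, x = b.z₂ p ∨ x = b.z₂' p) ↔ (∃ p, x = g.b2.z₂ p ∨ x = g.b2.z₂' p) := by
        constructor
        · rintro ⟨p, hp | hp⟩
          · obtain ⟨a, ha⟩ : b.z₂ p ∈ Set.range g.b2.z₂ := h2 ▸ ⟨p, rfl⟩
            exact ⟨a, Or.inl (by rw [hp, ha])⟩
          · obtain ⟨a, ha⟩ : b.z₂' p ∈ Set.range g.b2.z₂' := h2' ▸ ⟨p, rfl⟩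
            exact ⟨a, Or.inr (by rw [hp, ha])⟩
        · rintro ⟨p, hp | hp⟩
          · obtain ⟨a, ha⟩ : g.b2.z₂ p ∈ Set.range b.z₂ := h2 ▸ ⟨p, rfl⟩
            exact ⟨a, Or.inl (by rw [hp, ha])⟩
          · obtain ⟨a, ha⟩ : g.b2.z₂' p ∈ Set.range b.z₂' := h2' ▸ ⟨p, rfl⟩
            exact ⟨a, Or.inr (by rw [hp, ha])⟩
      exact or_congr Iff.rfl e1
    rw [e]
    exact g.gen

/-- `GCN` along a similarity. -/
def gcnSim (s : Sim D D') (g : GCN Δ G D) : GCN Δ G D' :=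
  changeB2 g (B2Transport.maps s g.b2) (B2Transport.rel s g.rel) rfl rfl
    (B2Transport.range_z₂ s g.b2) (B2Transport.range_z₂' s g.b2) (B2Transport.range_y s g.b2).subset

/-- `GCN` over `stdSp` from `GCN` over `stdO1`, characteristic two. -/
noncomputable def gcnEven [Finite F] (h2 : (2 : F) = 0) (g : GCN Δ G (stdO1 F)) :
    GCN Δ G (stdSp F) :=
  changeB2 g (EvenSp.spMaps h2 g.b2) (EvenSp.spRel h2 g.rel) rfl rfl
    ((EvenSp.theta h2).surjective.range_comp g.b2.z₂)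
    ((EvenSp.theta h2).surjective.range_comp g.b2.z₂') subset_rfl

/-- **`GCN` over an arbitrary finite parameter system gives `GCN` over a standard one.** -/
theorem gcn_std [Finite F] [Finite V] (h0 : ∀ c, D.ok 0 c → ∃ m, c = m - D.ε * D.σ m)
    (hs : ∀ w, ∃ c, D.ok w c) (hne : ∃ w c, D.ok w c ∧ c ≠ 0) (g : GCN Δ G D) :
    Nonempty (GCN Δ G (stdSp F)) ∨ ((2 : F) ≠ 0 ∧ Nonempty (GCN Δ G (stdO1 F))) ∨
      (∃ a b hab, Nonempty (GCN Δ G (stdO2 F a b hab))) ∨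
      ((∃ x, D.σ x ≠ x) ∧ Nonempty (GCN Δ G (stdU0 F D.σ D.σσ))) ∨
      ((∃ x, D.σ x ≠ x) ∧ Nonempty (GCN Δ G (stdU1 F D.σ D.σσ))) := by
  rcases PQClass.classify D h0 hs hne with ⟨-, ⟨s⟩⟩ | ⟨⟨s⟩⟩ | ⟨a, b, hab, ⟨s⟩⟩ | ⟨hx, ⟨s⟩⟩ | ⟨hx, ⟨s⟩⟩
  · exact Or.inl ⟨gcnSim s g⟩
  · by_cases h2 : (2 : F) = 0
    · exact Or.inl ⟨gcnEven h2 (gcnSim s g)⟩
    · exact Or.inr (Or.inl ⟨h2, ⟨gcnSim s g⟩⟩)
  · exact Or.inr (Or.inr (Or.inl ⟨a, b, hab, ⟨gcnSim s g⟩⟩))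
  · exact Or.inr (Or.inr (Or.inr (Or.inl ⟨hx, ⟨gcnSim s g⟩⟩)))
  · exact Or.inr (Or.inr (Or.inr (Or.inr ⟨hx, ⟨gcnSim s g⟩⟩)))

end

section

variable {Y : Type*} [Group Y] {Xj Xj' Xk Xk' Bc : Set Y}

theorem bondSim (s : Sim D D') (h : Bond D Xj Xj' Xk Xk' Bc) : Bond D' Xj Xj' Xk Xk' Bc := by
  obtain ⟨m, hm, hpar, r1, r2, r3, r4, hy⟩ := h
  exact ⟨B2Transport.maps s m, B2Transport.rel s hm, hpar, r1, r2,
    (B2Transport.range_z₂ s m).trans r3, (B2Transport.range_z₂' s m).trans r4, fun b => hy _⟩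

theorem bondEven [Finite F] (h2 : (2 : F) = 0) (h : Bond (stdO1 F) Xj Xj' Xk Xk' Bc) :
    Bond (stdSp F) Xj Xj' Xk Xk' Bc := by
  obtain ⟨m, hm, hpar, r1, r2, r3, r4, hy⟩ := h
  exact ⟨EvenSp.spMaps h2 m, EvenSp.spRel h2 hm, hpar, r1, r2,
    ((EvenSp.theta h2).surjective.range_comp m.z₂).trans r3,
    ((EvenSp.theta h2).surjective.range_comp m.z₂').trans r4, hy⟩

/-- **`Bond` over an arbitrary finite parameter system gives `Bond` over a standard one.** -/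
theorem bond_std [Finite F] [Finite V] (h0 : ∀ c, D.ok 0 c → ∃ m, c = m - D.ε * D.σ m)
    (hs : ∀ w, ∃ c, D.ok w c) (hne : ∃ w c, D.ok w c ∧ c ≠ 0) (g : Bond D Xj Xj' Xk Xk' Bc) :
    Bond (stdSp F) Xj Xj' Xk Xk' Bc ∨ ((2 : F) ≠ 0 ∧ Bond (stdO1 F) Xj Xj' Xk Xk' Bc) ∨
      (∃ a b hab, Bond (stdO2 F a b hab) Xj Xj' Xk Xk' Bc) ∨
      ((∃ x, D.σ x ≠ x) ∧ Bond (stdU0 F D.σ D.σσ) Xj Xj' Xk Xk' Bc) ∨
      ((∃ x, D.σ x ≠ x) ∧ Bond (stdU1 F D.σ D.σσ) Xj Xj' Xk Xk' Bc) := by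
  rcases PQClass.classify D h0 hs hne with ⟨-, ⟨s⟩⟩ | ⟨⟨s⟩⟩ | ⟨a, b, hab, ⟨s⟩⟩ | ⟨hx, ⟨s⟩⟩ | ⟨hx, ⟨s⟩⟩
  · exact Or.inl (bondSim s g)
  · by_cases h2 : (2 : F) = 0
    · exact Or.inl (bondEven h2 (bondSim s g))
    · exact Or.inr (Or.inl ⟨h2, bondSim s g⟩)
  · exact Or.inr (Or.inr (Or.inl ⟨a, b, hab, bondSim s g⟩))
  · exact Or.inr (Or.inr (Or.inr (Or.inl ⟨hx, bondSim s g⟩)))
  · exact Or.inr (Or.inr (Or.inr (Or.inr ⟨hx, bondSim s g⟩)))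

end

end Cfsg.Agent.TitsThree.GCNTransport
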