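import Cfsg.Agent.TitsThree.RankTwoIdx
import Cfsg.Agent.AGraded.Steinberg

/-!
# Layer 1 for `A₂` (S1143)

`x : Fin 3 → Fin 3 → F → Y` with the Steinberg relations (`SteinRel x`), `n x a b t = x a b t * x b a (-t⁻¹) * x a b t`.
Conjugation formulas (for any index type), the root datum `core : Core 3 Y`, and
`stab_eq`: a subgroup `S` of the group generated by the `x a b t` which contains `x 0 1 t`, `x 1 2 t`,
`n 0 1 s (n 0 1 t)⁻¹`, `n 1 2 s (n 1 2 t)⁻¹` but neither `n 0 1 1` nor `n 1 2 1` is generated by these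
elements.
-/

set_option autoImplicit false
set_option linter.unusedVariables false

namespace Cfsg.Agent.TitsThree.RankTwoA2

open Cfsg.Agent.TitsThree.RankTwoRGD Cfsg.Agent.TitsThree.RankTwoIdx Cfsg.Agent.AGraded
open scoped commutatorElement

universe u v w

variable {ι : Type u} {F : Type v} [Field F] {Y : Type w} [Group Y]

/-- The reflection elements. -/
def n (x : ι → ι → F → Y) (a b : ι) (t : F) : Y := x a b t * x b a (-t⁻¹) * x a b t

/-- `x ↦ g x g⁻¹` for a product -/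
theorem conj_mul {g a b a' b' : Y} (h1 : g * a * g⁻¹ = a') (h2 : g * b * g⁻¹ = b') :
    g * (a * b) * g⁻¹ = a' * b' := by
  rw [← h1, ← h2]; group

theorem conj_comp {g h a a' a'' : Y} (h1 : h * a * h⁻¹ = a') (h2 : g * a' * g⁻¹ = a'') :
    (g * h) * a * (g * h)⁻¹ = a'' := by
  rw [← h2, ← h1]; group

theorem conj_of_comm {g a : Y} (h : g * a = a * g) : g * a * g⁻¹ = a := by
  rw [h]; group

theorem conj_inv' {g a b : Y} (h : g * a * g⁻¹ = b) : g⁻¹ * b * g = a := by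
  rw [← h]; group

theorem conj_commutator (g a b : Y) : g * ⁅a, b⁆ * g⁻¹ = ⁅g * a * g⁻¹, g * b * g⁻¹⁆ := by
  rw [commutatorElement_def, commutatorElement_def]; group

/-- Conjugating `n_cd(t)`, given the action on the two root groups. -/
theorem n_of_conj {x : ι → ι → F → Y} {g : Y} {c d c' d' : ι} {r t : F}
    (h1 : g * x c d t * g⁻¹ = x c' d' r) (h2 : g * x d c (-t⁻¹) * g⁻¹ = x d' c' (-r⁻¹)) :
    g * n x c d t * g⁻¹ = n x c' d' r := by
  rw [n, n]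
  exact conj_mul (conj_mul h1 h2) h1

section Formulas

variable [Fintype ι] [DecidableEq ι] {x : ι → ι → F → Y} (hx : SteinRel x)

include hx

/-- conjugation of `x b c` by `x a b` -/
theorem conj_left {a b c : ι} (hab : a ≠ b) (hbc : b ≠ c) (hac : a ≠ c) (s t : F) :
    x a b t * x b c s * (x a b t)⁻¹ = x a c (t * s) * x b c s := by
  rw [← hx.br a b c hab hbc hac, commutatorElement_def]; group

/-- conjugation of `x c a` by `x a b` -/
theorem conj_right {a b c : ι} (hab : a ≠ b) (hbc : b ≠ c) (hac : a ≠ c) (s t : F) :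
    x a b t * x c a s * (x a b t)⁻¹ = x c b (-(s * t)) * x c a s := by
  rw [hx.neg hbc.symm, ← hx.br c a b hac.symm hab hbc.symm, commutatorElement_def]; group

theorem conj_comm {a b c d : ι} (hab : a ≠ b) (hcd : c ≠ d) (hbc : b ≠ c) (had : a ≠ d) (s t : F) :
    x a b t * x c d s * (x a b t)⁻¹ = x c d s :=
  conj_of_comm (hx.comm a b c d hab hcd hbc had t s)

/-- `n_ab(t) x_ac(s) n_ab(t)⁻¹ = x_bc(-t⁻¹ s)` -/
theorem n_ac {a b c : ι} (hab : a ≠ b) (hbc : b ≠ c) (hac : a ≠ c) {t : F} (ht : t ≠ 0) (s : F) :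
    n x a b t * x a c s * (n x a b t)⁻¹ = x b c (-(t⁻¹ * s)) := by
  have h1 : x a b t * x a c s * (x a b t)⁻¹ = x a c s := conj_comm hx hab hac hab.symm hac s t
  have h2 := conj_left hx hab.symm hac hbc s (-t⁻¹)
  have h3 := conj_left hx hab hbc hac (-t⁻¹ * s) t
  have h4 := conj_comp (conj_comp h1 h2) (conj_mul h3 h1)
  have e : n x a b t = x a b t * (x b a (-t⁻¹) * x a b t) := by rw [n, mul_assoc]
  rw [e, h4]
  have e1 : t * (-t⁻¹ * s) = -s := by field_simp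
  rw [e1, hx.neg hac, show -t⁻¹ * s = -(t⁻¹ * s) by ring]
  rw [mul_assoc, hx.comm b c a c hbc hac hac.symm hbc, ← mul_assoc, inv_mul_cancel, one_mul]

/-- `n_ab(t) x_bc(s) n_ab(t)⁻¹ = x_ac(t s)` -/
theorem n_bc {a b c : ι} (hab : a ≠ b) (hbc : b ≠ c) (hac : a ≠ c) {t : F} (ht : t ≠ 0) (s : F) :
    n x a b t * x b c s * (n x a b t)⁻¹ = x a c (t * s) := by
  have h1 := conj_left hx hab hbc hac s t
  have h2 := conj_left hx hab.symm hac hbc (t * s) (-t⁻¹)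
  have h3 : x b a (-t⁻¹) * x b c s * (x b a (-t⁻¹))⁻¹ = x b c s :=
    conj_comm hx hab.symm hbc hab hbc s (-t⁻¹)
  have h4 : x a b t * x a c (t * s) * (x a b t)⁻¹ = x a c (t * s) :=
    conj_comm hx hab hac hab.symm hac (t * s) t
  have e1 : -t⁻¹ * (t * s) = -s := by field_simp
  rw [e1] at h2
  have h5 : x b c (-s) * x a c (t * s) * x b c s = x a c (t * s) := by
    rw [hx.comm b c a c hbc hac hac.symm hbc, hx.neg hbc]; group
  have h6 := conj_comp h1 (conj_mul h2 h3)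
  rw [h5] at h6
  have e : n x a b t = x a b t * (x b a (-t⁻¹) * x a b t) := by rw [n, mul_assoc]
  rw [e]
  exact conj_comp h6 h4

/-- `n_ab(t) x_ca(s) n_ab(t)⁻¹ = x_cb(-s t)` -/
theorem n_ca {a b c : ι} (hab : a ≠ b) (hbc : b ≠ c) (hac : a ≠ c) {t : F} (ht : t ≠ 0) (s : F) :
    n x a b t * x c a s * (n x a b t)⁻¹ = x c b (-(s * t)) := by
  have h1 := conj_right hx hab hbc hac s t
  have h2 := conj_right hx hab.symm hac hbc (-(s * t)) (-t⁻¹)
  have h3 : x b a (-t⁻¹) * x c a s * (x b a (-t⁻¹))⁻¹ = x c a s :=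
    conj_comm hx hab.symm hac.symm hac hab.symm s (-t⁻¹)
  have h4 : x a b t * x c b (-(s * t)) * (x a b t)⁻¹ = x c b (-(s * t)) :=
    conj_comm hx hab hbc.symm hbc hab (-(s * t)) t
  have e1 : -(-(s * t) * -t⁻¹) = -s := by field_simp
  rw [e1] at h2
  have h5 : x c a (-s) * x c b (-(s * t)) * x c a s = x c b (-(s * t)) := by
    rw [hx.comm c a c b hac.symm hbc.symm hac hbc.symm, hx.neg hac.symm]; group
  have h6 := conj_comp h1 (conj_mul h2 h3)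
  rw [h5] at h6
  have e : n x a b t = x a b t * (x b a (-t⁻¹) * x a b t) := by rw [n, mul_assoc]
  rw [e]
  exact conj_comp h6 h4

/-- `n_ab(t) x_cb(s) n_ab(t)⁻¹ = x_ca(s t⁻¹)` -/
theorem n_cb {a b c : ι} (hab : a ≠ b) (hbc : b ≠ c) (hac : a ≠ c) {t : F} (ht : t ≠ 0) (s : F) :
    n x a b t * x c b s * (n x a b t)⁻¹ = x c a (s * t⁻¹) := by
  have h1 : x a b t * x c b s * (x a b t)⁻¹ = x c b s := conj_comm hx hab hbc.symm hbc hab s t
  have h2 := conj_right hx hab.symm hac hbc s (-t⁻¹)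
  have e1 : -(s * -t⁻¹) = s * t⁻¹ := by ring
  rw [e1] at h2
  have h3 := conj_right hx hab hbc hac (s * t⁻¹) t
  have e2 : s * t⁻¹ * t = s := by field_simp
  rw [e2] at h3
  have h4 := conj_comp (conj_comp h1 h2) (conj_mul h3 h1)
  have e : n x a b t = x a b t * (x b a (-t⁻¹) * x a b t) := by rw [n, mul_assoc]
  rw [e, h4, hx.comm c b c a hbc.symm hac.symm hbc hac.symm, hx.neg hbc.symm]
  group

/-- `n_ab(t) x_ab(s) n_ab(t)⁻¹ = x_ba(-t⁻¹ s t⁻¹)` -/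
theorem n_ab {a b c : ι} (hab : a ≠ b) (hbc : b ≠ c) (hac : a ≠ c) {t : F} (ht : t ≠ 0) (s : F) :
    n x a b t * x a b s * (n x a b t)⁻¹ = x b a (-(t⁻¹ * s * t⁻¹)) := by
  have e : x a b s = ⁅x a c s, x c b 1⁆ := by rw [hx.br a c b hac hbc.symm hab, mul_one]
  rw [e, conj_commutator, n_ac hx hab hbc hac ht, n_cb hx hab hbc hac ht,
    hx.br b c a hbc hac.symm hab.symm]
  congr 1
  ring

/-- `n_ab(t) x_ba(s) n_ab(t)⁻¹ = x_ab(-t s t)` -/
theorem n_ba {a b c : ι} (hab : a ≠ b) (hbc : b ≠ c) (hac : a ≠ c) {t : F} (ht : t ≠ 0) (s : F) :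
    n x a b t * x b a s * (n x a b t)⁻¹ = x a b (-(t * s * t)) := by
  have e : x b a s = ⁅x b c s, x c a 1⁆ := by rw [hx.br b c a hbc hac.symm hab.symm, mul_one]
  rw [e, conj_commutator, n_bc hx hab hbc hac ht, n_ca hx hab hbc hac ht,
    hx.br a c b hac hbc.symm hab]
  congr 1
  ring

/-- `n_ab(t)⁻¹ = n_ab(-t)` -/
theorem n_inv {a b : ι} (hab : a ≠ b) (t : F) : (n x a b t)⁻¹ = n x a b (-t) := by
  rw [n, n, mul_inv_rev, mul_inv_rev, ← hx.neg hab, ← hx.neg hab.symm, ← mul_assoc]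
  congr 3
  rw [inv_neg]

/-- rank one formula -/
theorem rank_one {a b : ι} (hab : a ≠ b) {s : F} (hs : s ≠ 0) :
    x b a s = x a b s⁻¹ * n x a b (-s⁻¹) * x a b s⁻¹ := by
  have e : -(-s⁻¹)⁻¹ = s := by rw [inv_neg, neg_neg, inv_inv]
  rw [n, e, hx.neg hab]
  group

/-- The root group as a subgroup. -/
def X (hx : SteinRel x) (a b : ι) : Subgroup Y := (hx.rt a b).range

omit hx in
theorem mem_X (hx : SteinRel x) {a b : ι} (hab : a ≠ b) {g : Y} : g ∈ X hx a b ↔ ∃ t, x a b t = g := by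
  constructor
  · rintro ⟨t, rfl⟩
    refine ⟨t.toAdd, ?_⟩
    rw [← hx.rt_apply hab, ofAdd_toAdd]
  · rintro ⟨t, rfl⟩
    exact ⟨Multiplicative.ofAdd t, hx.rt_apply hab t⟩

omit hx in
/-- Elements acting on the root groups like a torus. -/
def Tor (x : ι → ι → F → Y) (h : Y) : Prop :=
  ∀ p q, p ≠ q → ∃ r : F, r ≠ 0 ∧ (∀ u, h * x p q u * h⁻¹ = x p q (r * u)) ∧
    ∀ u, h * x q p u * h⁻¹ = x q p (r⁻¹ * u)

omit [Fintype ι] [DecidableEq ι] hx in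
theorem Tor.mul {g h : Y} (hg : Tor x g) (hh : Tor x h) : Tor x (g * h) := by
  intro p q hpq
  obtain ⟨r, hr, h1, h2⟩ := hg p q hpq
  obtain ⟨r', hr', h1', h2'⟩ := hh p q hpq
  refine ⟨r * r', mul_ne_zero hr hr', fun u => ?_, fun u => ?_⟩
  · rw [conj_comp (h1' u) (h1 _), mul_assoc]
  · rw [conj_comp (h2' u) (h2 _), mul_inv, mul_assoc]

omit [Fintype ι] [DecidableEq ι] hx in
theorem Tor.inv {h : Y} (hh : Tor x h) : Tor x h⁻¹ := by
  intro p q hpq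
  obtain ⟨r, hr, h1, h2⟩ := hh p q hpq
  refine ⟨r⁻¹, inv_ne_zero hr, fun u => ?_, fun u => ?_⟩
  · have := conj_inv' (h1 (r⁻¹ * u))
    rw [mul_inv_cancel_left₀ hr] at this
    rw [inv_inv]
    exact this
  · have := conj_inv' (h2 (r * u))
    rw [inv_mul_cancel_left₀ hr] at this
    rw [inv_inv, inv_inv]
    exact this

omit [Fintype ι] [DecidableEq ι] hx in
theorem Tor.one : Tor x (1 : Y) := by
  intro p q _
  exact ⟨1, one_ne_zero, by simp, by simp⟩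

theorem tor_ac {a b c : ι} (hab : a ≠ b) (hbc : b ≠ c) (hac : a ≠ c) {s t : F} (hs : s ≠ 0) (ht : t ≠ 0)
    (u : F) : (n x a b s * (n x a b t)⁻¹) * x a c u * (n x a b s * (n x a b t)⁻¹)⁻¹ =
      x a c (s * t⁻¹ * u) := by
  rw [n_inv hx hab t, conj_comp (n_ac hx hab hbc hac (neg_ne_zero.2 ht) u)
    (n_bc hx hab hbc hac hs _)]
  congr 1
  rw [inv_neg]; ring

theorem tor_ca {a b c : ι} (hab : a ≠ b) (hbc : b ≠ c) (hac : a ≠ c) {s t : F} (hs : s ≠ 0) (ht : t ≠ 0)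
    (u : F) : (n x a b s * (n x a b t)⁻¹) * x c a u * (n x a b s * (n x a b t)⁻¹)⁻¹ =
      x c a ((s * t⁻¹)⁻¹ * u) := by
  rw [n_inv hx hab t, conj_comp (n_ca hx hab hbc hac (neg_ne_zero.2 ht) u)
    (n_cb hx hab hbc hac hs _)]
  congr 1
  field_simp

theorem tor_bc {a b c : ι} (hab : a ≠ b) (hbc : b ≠ c) (hac : a ≠ c) {s t : F} (hs : s ≠ 0) (ht : t ≠ 0)
    (u : F) : (n x a b s * (n x a b t)⁻¹) * x b c u * (n x a b s * (n x a b t)⁻¹)⁻¹ =
      x b c ((s * t⁻¹)⁻¹ * u) := by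
  rw [n_inv hx hab t, conj_comp (n_bc hx hab hbc hac (neg_ne_zero.2 ht) u)
    (n_ac hx hab hbc hac hs _)]
  congr 1
  field_simp

theorem tor_cb {a b c : ι} (hab : a ≠ b) (hbc : b ≠ c) (hac : a ≠ c) {s t : F} (hs : s ≠ 0) (ht : t ≠ 0)
    (u : F) : (n x a b s * (n x a b t)⁻¹) * x c b u * (n x a b s * (n x a b t)⁻¹)⁻¹ =
      x c b (s * t⁻¹ * u) := by
  rw [n_inv hx hab t, conj_comp (n_cb hx hab hbc hac (neg_ne_zero.2 ht) u)
    (n_ca hx hab hbc hac hs _)]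
  congr 1
  rw [inv_neg]; ring

theorem tor_ab {a b c : ι} (hab : a ≠ b) (hbc : b ≠ c) (hac : a ≠ c) {s t : F} (hs : s ≠ 0) (ht : t ≠ 0)
    (u : F) : (n x a b s * (n x a b t)⁻¹) * x a b u * (n x a b s * (n x a b t)⁻¹)⁻¹ =
      x a b ((s * t⁻¹) * (s * t⁻¹) * u) := by
  rw [n_inv hx hab t, conj_comp (n_ab hx hab hbc hac (neg_ne_zero.2 ht) u)
    (n_ba hx hab hbc hac hs _)]
  congr 1
  rw [inv_neg]; ring

theorem tor_ba {a b c : ι} (hab : a ≠ b) (hbc : b ≠ c) (hac : a ≠ c) {s t : F} (hs : s ≠ 0) (ht : t ≠ 0)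
    (u : F) : (n x a b s * (n x a b t)⁻¹) * x b a u * (n x a b s * (n x a b t)⁻¹)⁻¹ =
      x b a (((s * t⁻¹) * (s * t⁻¹))⁻¹ * u) := by
  rw [n_inv hx hab t, conj_comp (n_ba hx hab hbc hac (neg_ne_zero.2 ht) u)
    (n_ab hx hab hbc hac hs _)]
  congr 1
  field_simp

end Formulas

section Three

variable {x : Fin 3 → Fin 3 → F → Y} (hx : SteinRel x)

include hx

theorem tor_n {a b c : Fin 3} (hab : a ≠ b) (hbc : b ≠ c) (hac : a ≠ c) {s t : F} (hs : s ≠ 0)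
    (ht : t ≠ 0) : Tor x (n x a b s * (n x a b t)⁻¹) := by
  have hr : s * t⁻¹ ≠ 0 := mul_ne_zero hs (inv_ne_zero ht)
  intro p q hpq
  have hp : p = a ∨ p = b ∨ p = c := by omega
  have hq : q = a ∨ q = b ∨ q = c := by omega
  rcases hp with rfl | rfl | rfl <;> rcases hq with rfl | rfl | rfl
  · exact absurd rfl hpq
  · exact ⟨_, mul_ne_zero hr hr, tor_ab hx hab hbc hac hs ht, tor_ba hx hab hbc hac hs ht⟩
  · exact ⟨_, hr, tor_ac hx hab hbc hac hs ht, tor_ca hx hab hbc hac hs ht⟩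
  · refine ⟨_, inv_ne_zero (mul_ne_zero hr hr), tor_ba hx hab hbc hac hs ht, ?_⟩
    simpa only [inv_inv] using tor_ab hx hab hbc hac hs ht
  · exact absurd rfl hpq
  · refine ⟨_, inv_ne_zero hr, tor_bc hx hab hbc hac hs ht, ?_⟩
    simpa only [inv_inv] using tor_cb hx hab hbc hac hs ht
  · refine ⟨_, inv_ne_zero hr, tor_ca hx hab hbc hac hs ht, ?_⟩
    simpa only [inv_inv] using tor_ac hx hab hbc hac hs ht
  · exact ⟨_, hr, tor_cb hx hab hbc hac hs ht, tor_bc hx hab hbc hac hs ht⟩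
  · exact absurd rfl hpq

omit hx in
/-- The generators of the torus at the pair `(a, b)`. -/
def gens (x : Fin 3 → Fin 3 → F → Y) (a b : Fin 3) : Set Y :=
  {g | ∃ s t : F, s ≠ 0 ∧ t ≠ 0 ∧ g = n x a b s * (n x a b t)⁻¹}

omit hx in
/-- The torus. -/
def H (x : Fin 3 → Fin 3 → F → Y) : Subgroup Y := Subgroup.closure (gens x 0 1 ∪ gens x 1 2)

omit hx in
theorem mem_H01 {x : Fin 3 → Fin 3 → F → Y} {s t : F} (hs : s ≠ 0) (ht : t ≠ 0) :
    n x 0 1 s * (n x 0 1 t)⁻¹ ∈ H x :=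
  Subgroup.subset_closure (Or.inl ⟨s, t, hs, ht, rfl⟩)

omit hx in
theorem mem_H12 {x : Fin 3 → Fin 3 → F → Y} {s t : F} (hs : s ≠ 0) (ht : t ≠ 0) :
    n x 1 2 s * (n x 1 2 t)⁻¹ ∈ H x :=
  Subgroup.subset_closure (Or.inr ⟨s, t, hs, ht, rfl⟩)

theorem tor_of_mem {h : Y} (hh : h ∈ H x) : Tor x h := by
  induction hh using Subgroup.closure_induction with
  | mem g hg =>
    rcases hg with ⟨s, t, hs, ht, rfl⟩ | ⟨s, t, hs, ht, rfl⟩
    · exact tor_n hx (c := 2) (by decide) (by decide) (by decide) hs ht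
    · exact tor_n hx (c := 0) (by decide) (by decide) (by decide) hs ht
  | one => exact Tor.one
  | mul a b _ _ ha hb => exact ha.mul hb
  | inv a _ ha => exact ha.inv

theorem HX {h : Y} (hh : h ∈ H x) {a b : Fin 3} (hab : a ≠ b) {g : Y} (hg : g ∈ X hx a b) :
    h * g * h⁻¹ ∈ X hx a b := by
  obtain ⟨t, rfl⟩ := (mem_X hx hab).1 hg
  obtain ⟨r, hr, h1, h2⟩ := tor_of_mem hx hh a b hab
  rw [h1]
  exact (mem_X hx hab).2 ⟨_, rfl⟩

/-- `n_ab(1) h n_ab(1)⁻¹ = n_ab(1) n_ab(r)⁻¹ h` for some `r` -/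
theorem n_tor {h : Y} (hh : Tor x h) {a b : Fin 3} (hab : a ≠ b) :
    ∃ r : F, r ≠ 0 ∧ n x a b 1 * h * (n x a b 1)⁻¹ = n x a b 1 * (n x a b r)⁻¹ * h := by
  obtain ⟨r, hr, h1, h2⟩ := hh a b hab
  refine ⟨r, hr, ?_⟩
  have h3 : h * n x a b 1 * h⁻¹ = n x a b r := by
    apply n_of_conj
    · rw [h1, mul_one]
    · rw [h2]
      congr 1
      ring
  rw [← h3]
  group

theorem nI_H {h : Y} (hh : h ∈ H x) : n x 0 1 1 * h * (n x 0 1 1)⁻¹ ∈ H x := by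
  obtain ⟨r, hr, e⟩ := n_tor hx (tor_of_mem hx hh) (show (0 : Fin 3) ≠ 1 by decide)
  rw [e]
  exact mul_mem (mem_H01 one_ne_zero hr) hh

theorem nJ_H {h : Y} (hh : h ∈ H x) : n x 1 2 1 * h * (n x 1 2 1)⁻¹ ∈ H x := by
  obtain ⟨r, hr, e⟩ := n_tor hx (tor_of_mem hx hh) (show (1 : Fin 3) ≠ 2 by decide)
  rw [e]
  exact mul_mem (mem_H12 one_ne_zero hr) hh

theorem nI_sq : n x 0 1 1 * n x 0 1 1 ∈ H x := by
  have h := mem_H01 (x := x) (one_ne_zero) (neg_ne_zero.2 (one_ne_zero : (1 : F) ≠ 0))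
  rw [n_inv hx (by decide), neg_neg] at h
  exact h

theorem nJ_sq : n x 1 2 1 * n x 1 2 1 ∈ H x := by
  have h := mem_H12 (x := x) (one_ne_zero) (neg_ne_zero.2 (one_ne_zero : (1 : F) ≠ 0))
  rw [n_inv hx (by decide), neg_neg] at h
  exact h

/-- the second reflection `n_02(1)` -/
theorem nI_nJ : n x 0 1 1 * n x 1 2 1 * (n x 0 1 1)⁻¹ = n x 0 2 1 := by
  apply n_of_conj
  · rw [n_bc hx (by decide) (by decide) (by decide) one_ne_zero, one_mul]
  · rw [n_cb hx (by decide) (by decide) (by decide) one_ne_zero, inv_one, mul_one]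

theorem nJ_nI : n x 1 2 1 * n x 0 1 1 * (n x 1 2 1)⁻¹ = n x 0 2 (-1) := by
  apply n_of_conj
  · rw [n_ca hx (by decide) (by decide) (by decide) one_ne_zero, one_mul]
  · rw [n_ac hx (by decide) (by decide) (by decide) one_ne_zero, inv_one, one_mul, inv_neg, inv_one]

theorem braid : ∃ h ∈ H x, alt (n x 0 1 1) (n x 1 2 1) 3 = alt (n x 1 2 1) (n x 0 1 1) 3 * h := by
  refine ⟨(alt (n x 1 2 1) (n x 0 1 1) 3)⁻¹ * alt (n x 0 1 1) (n x 1 2 1) 3, ?_, by group⟩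
  have h1 := nI_nJ hx
  have h2 := nJ_nI hx
  have h3 := n_inv hx (show (0 : Fin 3) ≠ 2 by decide) (-1)
  rw [neg_neg] at h3
  have e1 : alt (n x 0 1 1) (n x 1 2 1) 3 = n x 0 2 1 * (n x 0 1 1 * n x 0 1 1) := by
    rw [← h1]; simp only [alt]; group
  have e2 : alt (n x 1 2 1) (n x 0 1 1) 3 = n x 0 2 (-1) * (n x 1 2 1 * n x 1 2 1) := by
    rw [← h2]; simp only [alt]; group
  have e3 : (alt (n x 1 2 1) (n x 0 1 1) 3)⁻¹ * alt (n x 0 1 1) (n x 1 2 1) 3 =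
      (n x 1 2 1 * n x 1 2 1)⁻¹ * (n x 0 2 1 * n x 0 2 1) * (n x 0 1 1 * n x 0 1 1) := by
    rw [e1, e2, mul_inv_rev, h3]; group
  have e4 : n x 0 2 1 * n x 0 2 1 = n x 0 1 1 * (n x 1 2 1 * n x 1 2 1) * (n x 0 1 1)⁻¹ := by
    rw [← h1]; group
  rw [e3, e4]
  exact mul_mem (mul_mem (inv_mem (nJ_sq hx)) (nI_H hx (nJ_sq hx))) (nI_sq hx)

/-- The family of positive root groups. -/
def XX : ℕ → Subgroup Y
  | 1 => X hx 0 1
  | 2 => X hx 0 2
  | 3 => X hx 1 2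
  | _ => ⊥

omit hx in
theorem mem_X' (hx : SteinRel x) {a b : Fin 3} (hab : a ≠ b) (t : F) : x a b t ∈ X hx a b :=
  (mem_X hx hab).2 ⟨t, rfl⟩

/-- The root datum. -/
def r2 : R2 3 Y where
  X := XX hx
  XI' := X hx 1 0
  XJ' := X hx 2 1
  H := H x
  nI := n x 0 1 1
  nJ := n x 1 2 1
  one_le := by norm_num
  comm := by
    intro k l h1 h2 h3 g hg g' hg'
    have hk : (k = 1 ∧ l = 2) ∨ (k = 1 ∧ l = 3) ∨ (k = 2 ∧ l = 3) := by omega
    rcases hk with ⟨rfl, rfl⟩ | ⟨rfl, rfl⟩ | ⟨rfl, rfl⟩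
    · obtain ⟨s, rfl⟩ := (mem_X hx (by decide)).1 hg
      obtain ⟨t, rfl⟩ := (mem_X hx (by decide)).1 hg'
      have e := hx.comm 0 1 0 2 (by decide) (by decide) (by decide) (by decide) s t
      rw [commutatorElement_eq_one_iff_mul_comm.2 e]
      exact one_mem _
    · obtain ⟨s, rfl⟩ := (mem_X hx (by decide)).1 hg
      obtain ⟨t, rfl⟩ := (mem_X hx (by decide)).1 hg'
      rw [hx.br 0 1 2 (by decide) (by decide) (by decide)]
      have h4 : XX hx 2 ≤ ⨆ r ∈ Set.Ioo 1 3, XX hx r := le_iSup₂_of_le 2 ⟨by norm_num, by norm_num⟩ le_rfl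
      exact h4 (mem_X' hx (by decide) _)
    · obtain ⟨s, rfl⟩ := (mem_X hx (by decide)).1 hg
      obtain ⟨t, rfl⟩ := (mem_X hx (by decide)).1 hg'
      have e := hx.comm 0 2 1 2 (by decide) (by decide) (by decide) (by decide) s t
      rw [commutatorElement_eq_one_iff_mul_comm.2 e]
      exact one_mem _
  HX := by
    intro h hh k h1 h2 g hg
    have hk : k = 1 ∨ k = 2 ∨ k = 3 := by omega
    rcases hk with rfl | rfl | rfl
    · exact HX hx hh (by decide) hg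
    · exact HX hx hh (by decide) hg
    · exact HX hx hh (by decide) hg
  nI_X := by
    intro k h1 h2 g hg
    have hk : k = 2 ∨ k = 3 := by omega
    rcases hk with rfl | rfl
    · obtain ⟨s, rfl⟩ := (mem_X hx (by decide)).1 hg
      rw [n_ac hx (by decide) (by decide) (by decide) one_ne_zero]
      exact mem_X' hx (by decide) _
    · obtain ⟨s, rfl⟩ := (mem_X hx (by decide)).1 hg
      rw [n_bc hx (by decide) (by decide) (by decide) one_ne_zero]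
      exact mem_X' hx (by decide) _
  nJ_X := by
    intro k h1 h2 g hg
    have hk : k = 1 ∨ k = 2 := by omega
    rcases hk with rfl | rfl
    · obtain ⟨s, rfl⟩ := (mem_X hx (by decide)).1 hg
      rw [n_ca hx (by decide) (by decide) (by decide) one_ne_zero]
      exact mem_X' hx (by decide) _
    · obtain ⟨s, rfl⟩ := (mem_X hx (by decide)).1 hg
      rw [n_cb hx (by decide) (by decide) (by decide) one_ne_zero]
      exact mem_X' hx (by decide) _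
  nI_pos := by
    intro g hg
    obtain ⟨s, rfl⟩ := (mem_X hx (by decide)).1 hg
    rw [n_ab hx (c := 2) (by decide) (by decide) (by decide) one_ne_zero]
    exact mem_X' hx (by decide) _
  nI_neg := by
    intro g hg
    obtain ⟨s, rfl⟩ := (mem_X hx (by decide)).1 hg
    rw [n_ba hx (c := 2) (by decide) (by decide) (by decide) one_ne_zero]
    exact mem_X' hx (by decide) _
  nJ_pos := by
    intro g hg
    obtain ⟨s, rfl⟩ := (mem_X hx (by decide)).1 hg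
    rw [n_ab hx (c := 0) (by decide) (by decide) (by decide) one_ne_zero]
    exact mem_X' hx (by decide) _
  nJ_neg := by
    intro g hg
    obtain ⟨s, rfl⟩ := (mem_X hx (by decide)).1 hg
    rw [n_ba hx (c := 0) (by decide) (by decide) (by decide) one_ne_zero]
    exact mem_X' hx (by decide) _
  nI_sq := nI_sq hx
  nJ_sq := nJ_sq hx
  nI_H := fun h hh => nI_H hx hh
  nJ_H := fun h hh => nJ_H hx hh
  rank_oneI := by
    intro g hg h1
    obtain ⟨s, rfl⟩ := (mem_X hx (by decide)).1 hg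
    have hs : s ≠ 0 := by
      rintro rfl
      exact h1 (hx.zero (by decide))
    refine ⟨_, mem_X' hx (by decide) s⁻¹, (n x 0 1 1)⁻¹ * n x 0 1 (-s⁻¹), ?_, _,
      mem_X' hx (by decide) s⁻¹, ?_⟩
    · have h2 := mem_H01 (x := x) (neg_ne_zero.2 (one_ne_zero : (1 : F) ≠ 0)) (inv_ne_zero hs)
      rwa [n_inv hx (by decide) s⁻¹, ← n_inv hx (by decide) 1] at h2
    · rw [rank_one hx (show (0 : Fin 3) ≠ 1 by decide) hs]; group
  rank_oneJ := by
    intro g hg h1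
    obtain ⟨s, rfl⟩ := (mem_X hx (by decide)).1 hg
    have hs : s ≠ 0 := by
      rintro rfl
      exact h1 (hx.zero (by decide))
    refine ⟨_, mem_X' hx (by decide) s⁻¹, (n x 1 2 1)⁻¹ * n x 1 2 (-s⁻¹), ?_, _,
      mem_X' hx (by decide) s⁻¹, ?_⟩
    · have h2 := mem_H12 (x := x) (neg_ne_zero.2 (one_ne_zero : (1 : F) ≠ 0)) (inv_ne_zero hs)
      rwa [n_inv hx (by decide) s⁻¹, ← n_inv hx (by decide) 1] at h2
    · rw [rank_one hx (show (1 : Fin 3) ≠ 2 by decide) hs]; group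
  memI := by
    have h1 : X hx 0 1 ≤ X hx 0 1 ⊔ X hx 1 0 := le_sup_left
    have h2 : X hx 1 0 ≤ X hx 0 1 ⊔ X hx 1 0 := le_sup_right
    exact mul_mem (mul_mem (h1 (mem_X' hx (by decide) _)) (h2 (mem_X' hx (by decide) _)))
      (h1 (mem_X' hx (by decide) _))
  memJ := by
    have h1 : X hx 1 2 ≤ X hx 1 2 ⊔ X hx 2 1 := le_sup_left
    have h2 : X hx 2 1 ≤ X hx 1 2 ⊔ X hx 2 1 := le_sup_right
    exact mul_mem (mul_mem (h1 (mem_X' hx (by decide) _)) (h2 (mem_X' hx (by decide) _)))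
      (h1 (mem_X' hx (by decide) _))
  braid := braid hx

omit hx in
/-- Generators of the Borel subgroup. -/
def gensB (x : Fin 3 → Fin 3 → F → Y) : Set Y :=
  ({g | ∃ t, g = x 0 1 t} ∪ {g | ∃ t, g = x 1 2 t}) ∪ (gens x 0 1 ∪ gens x 1 2)

/-- The Borel subgroup is generated by `gensB`. -/
theorem borel_eq : (r2 hx).U ⊔ (r2 hx).H = Subgroup.closure (gensB x) := by
  apply le_antisymm
  · refine sup_le (iSup₂_le fun k hk => ?_) ?_
    · have hk' : k = 1 ∨ k = 2 ∨ k = 3 := by have := hk.1; have := hk.2; omega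
      have h1 : ∀ t, x 0 1 t ∈ Subgroup.closure (gensB x) := fun t =>
        Subgroup.subset_closure (Or.inl (Or.inl ⟨t, rfl⟩))
      have h2 : ∀ t, x 1 2 t ∈ Subgroup.closure (gensB x) := fun t =>
        Subgroup.subset_closure (Or.inl (Or.inr ⟨t, rfl⟩))
      rcases hk' with rfl | rfl | rfl
      · intro g hg
        obtain ⟨t, rfl⟩ := (mem_X hx (by decide)).1 hg
        exact h1 t
      · intro g hg
        obtain ⟨t, rfl⟩ := (mem_X hx (by decide)).1 hg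
        have e := hx.br 0 1 2 (by decide) (by decide) (by decide) t 1
        rw [mul_one] at e
        rw [← e]
        rw [commutatorElement_def]
        exact mul_mem (mul_mem (mul_mem (h1 t) (h2 1)) (inv_mem (h1 t))) (inv_mem (h2 1))
      · intro g hg
        obtain ⟨t, rfl⟩ := (mem_X hx (by decide)).1 hg
        exact h2 t
    · exact Subgroup.closure_mono (Set.subset_union_right)
  · rw [Subgroup.closure_le]
    rintro g ((⟨t, rfl⟩ | ⟨t, rfl⟩) | hg)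
    · exact (le_sup_left : (r2 hx).U ≤ _) ((r2 hx).X_le le_rfl (by norm_num) (mem_X' hx (by decide) t))
    · exact (le_sup_left : (r2 hx).U ≤ _) ((r2 hx).X_le (by norm_num) le_rfl (mem_X' hx (by decide) t))
    · exact (le_sup_right : (r2 hx).H ≤ _) (Subgroup.subset_closure hg)

/-- All root elements lie in the group generated by the rank one groups of the simple roots. -/
theorem le_G {a b : Fin 3} (hab : a ≠ b) (t : F) : x a b t ∈ (r2 hx).U ⊔ (r2 hx).H ⊔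
    ((r2 hx).XI' ⊔ (r2 hx).XJ') := by
  have h0 : (r2 hx).U ≤ (r2 hx).U ⊔ (r2 hx).H ⊔ ((r2 hx).XI' ⊔ (r2 hx).XJ') :=
    le_trans le_sup_left le_sup_left
  have h01 : ∀ t, x 0 1 t ∈ (r2 hx).U ⊔ (r2 hx).H ⊔ ((r2 hx).XI' ⊔ (r2 hx).XJ') := fun t =>
    h0 ((r2 hx).X_le le_rfl (by norm_num) (mem_X' hx (by decide) t))
  have h02 : ∀ t, x 0 2 t ∈ (r2 hx).U ⊔ (r2 hx).H ⊔ ((r2 hx).XI' ⊔ (r2 hx).XJ') := fun t =>
    h0 ((r2 hx).X_le (k := 2) (by norm_num) (by norm_num) (mem_X' hx (by decide) t))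
  have h12 : ∀ t, x 1 2 t ∈ (r2 hx).U ⊔ (r2 hx).H ⊔ ((r2 hx).XI' ⊔ (r2 hx).XJ') := fun t =>
    h0 ((r2 hx).X_le (by norm_num) le_rfl (mem_X' hx (by decide) t))
  have h10 : ∀ t, x 1 0 t ∈ (r2 hx).U ⊔ (r2 hx).H ⊔ ((r2 hx).XI' ⊔ (r2 hx).XJ') := fun t =>
    (le_trans le_sup_left le_sup_right : (r2 hx).XI' ≤ _) (mem_X' hx (by decide) t)
  have h21 : ∀ t, x 2 1 t ∈ (r2 hx).U ⊔ (r2 hx).H ⊔ ((r2 hx).XI' ⊔ (r2 hx).XJ') := fun t =>
    (le_trans le_sup_right le_sup_right : (r2 hx).XJ' ≤ _) (mem_X' hx (by decide) t)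
  have h20 : ∀ t, x 2 0 t ∈ (r2 hx).U ⊔ (r2 hx).H ⊔ ((r2 hx).XI' ⊔ (r2 hx).XJ') := by
    intro t
    have e := hx.br 2 1 0 (by decide) (by decide) (by decide) t 1
    rw [mul_one] at e
    rw [← e, commutatorElement_def]
    exact mul_mem (mul_mem (mul_mem (h21 t) (h10 1)) (inv_mem (h21 t))) (inv_mem (h10 1))
  fin_cases a <;> fin_cases b
  · exact absurd rfl hab
  · exact h01 t
  · exact h02 t
  · exact h10 t
  · exact absurd rfl hab
  · exact h12 t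
  · exact h20 t
  · exact h21 t
  · exact absurd rfl hab

/-- **Layer 1 for `A₂`**: a subgroup of `⟨x a b t⟩` containing `x 0 1 t`, `x 1 2 t`, `n 0 1 s (n 0 1 t)⁻¹`,
`n 1 2 s (n 1 2 t)⁻¹`, but neither `n 0 1 1` nor `n 1 2 1`, is generated by these elements. -/
theorem stab_eq {S : Subgroup Y} (hS : S ≤ Subgroup.closure {g | ∃ a b t, a ≠ b ∧ g = x a b t})
    (h01 : ∀ t, x 0 1 t ∈ S) (h12 : ∀ t, x 1 2 t ∈ S)
    (k01 : ∀ s t : F, s ≠ 0 → t ≠ 0 → n x 0 1 s * (n x 0 1 t)⁻¹ ∈ S)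
    (k12 : ∀ s t : F, s ≠ 0 → t ≠ 0 → n x 1 2 s * (n x 1 2 t)⁻¹ ∈ S)
    (m01 : n x 0 1 1 ∉ S) (m12 : n x 1 2 1 ∉ S) : S = Subgroup.closure (gensB x) := by
  rw [← borel_eq hx]
  apply (r2 hx).eq_D _ _ m01 m12
  · refine hS.trans ?_
    rw [Subgroup.closure_le]
    rintro g ⟨a, b, t, hab, rfl⟩
    exact le_G hx hab t
  · rw [borel_eq hx, Subgroup.closure_le]
    rintro g ((⟨t, rfl⟩ | ⟨t, rfl⟩) | (⟨s, t, hs, ht, rfl⟩ | ⟨s, t, hs, ht, rfl⟩))
    · exact h01 t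
    · exact h12 t
    · exact k01 s t hs ht
    · exact k12 s t hs ht

omit hx in
/-- The rank one group of the roots `(a, b)`, `(b, a)`. -/
def Gam (x : Fin 3 → Fin 3 → F → Y) (a b : Fin 3) : Subgroup Y :=
  Subgroup.closure ({g | ∃ t, g = x a b t} ∪ {g | ∃ t, g = x b a t})

omit hx in
theorem mem_Gam (a b : Fin 3) (t : F) : x a b t ∈ Gam x a b :=
  Subgroup.subset_closure (Or.inl ⟨t, rfl⟩)

omit hx in
theorem mem_Gam' (a b : Fin 3) (t : F) : x b a t ∈ Gam x a b :=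
  Subgroup.subset_closure (Or.inr ⟨t, rfl⟩)

omit hx in
theorem n_mem_Gam (a b : Fin 3) (t : F) : n x a b t ∈ Gam x a b :=
  mul_mem (mul_mem (mem_Gam a b _) (mem_Gam' a b _)) (mem_Gam a b _)

/-- (Gen) for `A₂`: with `T` the stabiliser of `c`,
`(Γ₀₁ ⊔ Γ₁₂) ⊓ T ≤ (Γ₀₁ ⊓ T) ⊔ (Γ₁₂ ⊓ T)`. -/
theorem gen {T : Subgroup Y}
    (h01 : ∀ t, x 0 1 t ∈ T) (h12 : ∀ t, x 1 2 t ∈ T)
    (k01 : ∀ s t : F, s ≠ 0 → t ≠ 0 → n x 0 1 s * (n x 0 1 t)⁻¹ ∈ T)
    (k12 : ∀ s t : F, s ≠ 0 → t ≠ 0 → n x 1 2 s * (n x 1 2 t)⁻¹ ∈ T)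
    (m01 : n x 0 1 1 ∉ T) (m12 : n x 1 2 1 ∉ T) :
    (Gam x 0 1 ⊔ Gam x 1 2) ⊓ T ≤ (Gam x 0 1 ⊓ T) ⊔ (Gam x 1 2 ⊓ T) := by
  have hle1 : Gam x 0 1 ≤ Gam x 0 1 ⊔ Gam x 1 2 := le_sup_left
  have hle2 : Gam x 1 2 ≤ Gam x 0 1 ⊔ Gam x 1 2 := le_sup_right
  have e : (Gam x 0 1 ⊔ Gam x 1 2) ⊓ T = Subgroup.closure (gensB x) := by
    apply stab_eq hx
    · refine le_trans inf_le_left (sup_le ?_ ?_)
      · rw [Gam, Subgroup.closure_le]
        rintro g (⟨t, rfl⟩ | ⟨t, rfl⟩)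
        · exact Subgroup.subset_closure ⟨0, 1, t, by decide, rfl⟩
        · exact Subgroup.subset_closure ⟨1, 0, t, by decide, rfl⟩
      · rw [Gam, Subgroup.closure_le]
        rintro g (⟨t, rfl⟩ | ⟨t, rfl⟩)
        · exact Subgroup.subset_closure ⟨1, 2, t, by decide, rfl⟩
        · exact Subgroup.subset_closure ⟨2, 1, t, by decide, rfl⟩
    · exact fun t => ⟨hle1 (mem_Gam 0 1 t), h01 t⟩
    · exact fun t => ⟨hle2 (mem_Gam 1 2 t), h12 t⟩
    · exact fun s t hs ht => ⟨hle1 (mul_mem (n_mem_Gam 0 1 s) (inv_mem (n_mem_Gam 0 1 t))), k01 s t hs ht⟩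
    · exact fun s t hs ht => ⟨hle2 (mul_mem (n_mem_Gam 1 2 s) (inv_mem (n_mem_Gam 1 2 t))), k12 s t hs ht⟩
    · exact fun h => m01 h.2
    · exact fun h => m12 h.2
  rw [e, Subgroup.closure_le]
  have l1 : Gam x 0 1 ⊓ T ≤ (Gam x 0 1 ⊓ T) ⊔ (Gam x 1 2 ⊓ T) := le_sup_left
  have l2 : Gam x 1 2 ⊓ T ≤ (Gam x 0 1 ⊓ T) ⊔ (Gam x 1 2 ⊓ T) := le_sup_right
  rintro g ((⟨t, rfl⟩ | ⟨t, rfl⟩) | (⟨s, t, hs, ht, rfl⟩ | ⟨s, t, hs, ht, rfl⟩))
  · exact l1 ⟨mem_Gam 0 1 t, h01 t⟩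
  · exact l2 ⟨mem_Gam 1 2 t, h12 t⟩
  · exact l1 ⟨(Gam x 0 1).mul_mem (n_mem_Gam 0 1 s) ((Gam x 0 1).inv_mem (n_mem_Gam 0 1 t)),
      k01 s t hs ht⟩
  · exact l2 ⟨(Gam x 1 2).mul_mem (n_mem_Gam 1 2 s) ((Gam x 1 2).inv_mem (n_mem_Gam 1 2 t)),
      k12 s t hs ht⟩

end Three

end Cfsg.Agent.TitsThree.RankTwoA2
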