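import Cfsg.Agent.TitsThree.Pack
import Cfsg.Agent.TitsThree.RankTwoA2
import Cfsg.Agent.TitsThree.CoreB2
import Cfsg.Agent.TitsThree.GlueA
import Cfsg.Agent.TitsThree.B2NI

/-!
# The torus acts on the root groups by scalars (S1143, END hypotheses)

`Scal x h`: `h x(t) h⁻¹ = x(k t)` for some `k ≠ 0`.  The elements `hh xp xm t` and `nII p (nII q)⁻¹` of the packages
`Edge3`, `Comm4`, `B2Rel`, `CN`, `FF` act in this way on all root groups of type I (and, for `FF`, on those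
parametrised by `E`).
-/

set_option autoImplicit false
set_option linter.unusedSectionVars false

namespace Cfsg.Agent.TitsThree.TorusAct

open Cfsg.Agent.TitsThree Cfsg.Agent.AGraded Cfsg.Agent.TitsThree.Pack Cfsg.Agent.TitsThree.B2Pkg
open Cfsg.Agent.TitsThree.RankTwoA2 (Tor conj_comp conj_inv' conj_commutator)
open scoped commutatorElement

universe u v

variable {F : Type*} [Field F] {Y : Type u} [Group Y]

/-- `h` acts on the root group `x` by a scalar. -/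
def Scal (x : F → Y) (h : Y) : Prop := ∃ k : F, k ≠ 0 ∧ ∀ t, h * x t * h⁻¹ = x (k * t)

namespace Scal

variable {x : F → Y}

theorem one : Scal x 1 := ⟨1, one_ne_zero, fun t => by simp⟩

theorem mul {g h : Y} (hg : Scal x g) (hh : Scal x h) : Scal x (g * h) := by
  obtain ⟨k, hk, h1⟩ := hg
  obtain ⟨l, hl, h2⟩ := hh
  exact ⟨k * l, mul_ne_zero hk hl, fun t => by rw [conj_comp (h2 t) (h1 _), mul_assoc]⟩

theorem inv {h : Y} (hh : Scal x h) : Scal x h⁻¹ := by
  obtain ⟨k, hk, h1⟩ := hh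
  refine ⟨k⁻¹, inv_ne_zero hk, fun t => ?_⟩
  have := conj_inv' (h1 (k⁻¹ * t))
  rw [mul_inv_cancel_left₀ hk] at this
  rw [inv_inv]
  exact this

theorem of_comm {h : Y} (hc : ∀ t, Commute h (x t)) : Scal x h :=
  ⟨1, one_ne_zero, fun t => by rw [(hc t).eq, mul_inv_cancel_right, one_mul]⟩

/-- The subgroup of all elements acting by scalars. -/
def sub (x : F → Y) : Subgroup Y where
  carrier := {h | Scal x h}
  mul_mem' := fun ha hb => ha.mul hb
  one_mem' := Scal.one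
  inv_mem' := fun ha => ha.inv

theorem mem_sub {h : Y} : h ∈ sub x ↔ Scal x h := Iff.rfl

/-- An element of order dividing `p` acting by a scalar centralises the root group, in characteristic `p`. -/
theorem eq_of_pow {p : ℕ} [Fact p.Prime] [CharP F p] (hinj : Function.Injective x) {h : Y}
    (hh : Scal x h) (hp : h ^ p = 1) (t : F) : h * x t * h⁻¹ = x t := by
  obtain ⟨k, hk, h1⟩ := hh
  have h2 : ∀ (j : ℕ) (t : F), h ^ j * x t * (h ^ j)⁻¹ = x (k ^ j * t) := by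
    intro j
    induction j with
    | zero => intro t; simp
    | succ j ih =>
      intro t
      rw [pow_succ, conj_comp (h1 t) (ih _), pow_succ, mul_assoc]
  have h3 := h2 p 1
  rw [hp, one_mul, inv_one, mul_one] at h3
  have h4 := hinj h3
  rw [mul_one] at h4
  have h5 : k = 1 := by
    have h6 : (k - 1) ^ p = 0 := by
      rw [sub_pow_char, ← h4, one_pow, sub_self]
    exact sub_eq_zero.1 (pow_eq_zero_iff (Fact.out : p.Prime).ne_zero |>.1 h6)
  rw [h1, h5, one_mul]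

end Scal

/-! ### Commuting pairs -/

section Comm

variable {X : Type*} {xp xm : F → Y} {yp ym : X → Y}

theorem comm_nn (h : Comm4 xp xm yp ym) (t : F) (s : X) :
    Commute (nn xp xm t) (yp s) ∧ Commute (nn xp xm t) (ym s) := by
  have a := h t s
  have b := h (-t⁻¹) s
  exact ⟨(a.1.mul_left b.2.2.1).mul_left a.1, (a.2.1.mul_left b.2.2.2).mul_left a.2.1⟩

theorem comm_hh (h : Comm4 xp xm yp ym) (t : F) (s : X) :
    Commute (hh xp xm t) (yp s) ∧ Commute (hh xp xm t) (ym s) :=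
  ⟨(comm_nn h t s).1.mul_left (comm_nn h 1 s).1.inv_left,
    (comm_nn h t s).2.mul_left (comm_nn h 1 s).2.inv_left⟩

theorem Comm4.symm' {X' : Type*} {xp xm : X' → Y} {yp ym : X → Y} (h : Comm4 xp xm yp ym) :
    Comm4 yp ym xp xm := fun s t =>
  ⟨(h t s).1.symm, (h t s).2.2.1.symm, (h t s).2.1.symm, (h t s).2.2.2.symm⟩

end Comm

theorem scal_of_comm4 {F' : Type*} [Field F'] {xp xm : F → Y} {yp ym : F' → Y} (h : Comm4 xp xm yp ym)
    (t : F) : Scal yp (hh xp xm t) ∧ Scal ym (hh xp xm t) :=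
  ⟨Scal.of_comm fun s => (comm_hh h t s).1, Scal.of_comm fun s => (comm_hh h t s).2⟩

/-! ### Edges of type `A₂` -/

section Edge

theorem hh_eq (x : Fin 3 → Fin 3 → F → Y) (a b : Fin 3) (t : F) :
    hh (x a b) (x b a) t = RankTwoA2.n x a b t * (RankTwoA2.n x a b 1)⁻¹ := rfl

theorem scal_hh {x : Fin 3 → Fin 3 → F → Y} (hx : SteinRel x) {a b : Fin 3} (hab : a ≠ b) {t : F}
    (ht : t ≠ 0) {p q : Fin 3} (hpq : p ≠ q) : Scal (x p q) (hh (x a b) (x b a) t) := by
  obtain ⟨c, hca, hcb⟩ : ∃ c : Fin 3, c ≠ a ∧ c ≠ b := by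
    revert hab; revert a b; decide
  rw [hh_eq]
  obtain ⟨r, hr, h1, -⟩ := RankTwoA2.tor_n hx hab hcb.symm hca.symm ht one_ne_zero p q hpq
  exact ⟨r, hr, h1⟩

variable {xp xm yp ym : F → Y}

theorem edge_scal (e : Edge3 xp xm yp ym) {t : F} (ht : t ≠ 0) :
    Scal xp (hh xp xm t) ∧ Scal yp (hh xp xm t) ∧ Scal xp (hh yp ym t) ∧ Scal yp (hh yp ym t) := by
  obtain ⟨x, hx, rfl, rfl, rfl, rfl⟩ := e
  exact ⟨scal_hh hx (by decide) ht (by decide), scal_hh hx (by decide) ht (by decide),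
    scal_hh hx (by decide) ht (by decide), scal_hh hx (by decide) ht (by decide)⟩

/-- injectivity is transported by conjugation -/
theorem inj_of_conj {x y : F → Y} {g : Y} {k : F} (hk : k ≠ 0) (h : ∀ s, g * x s * g⁻¹ = y (k * s))
    (hx : Function.Injective x) : Function.Injective y := by
  intro a b hab
  have h1 : ∀ c, y c = g * x (k⁻¹ * c) * g⁻¹ := fun c => by
    rw [h, mul_inv_cancel_left₀ hk]
  rw [h1 a, h1 b] at hab
  have h2 : x (k⁻¹ * a) = x (k⁻¹ * b) := mul_left_cancel (mul_right_cancel hab)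
  exact mul_left_cancel₀ (inv_ne_zero hk) (hx h2)

theorem stein_inj {x : Fin 3 → Fin 3 → F → Y} (hx : SteinRel x) (h01 : Function.Injective (x 0 1)) :
    ∀ a b, a ≠ b → Function.Injective (x a b) := by
  have one : (1 : F) ≠ 0 := one_ne_zero
  have h02 : Function.Injective (x 0 2) := inj_of_conj (k := -1) (neg_ne_zero.2 one)
    (fun s => by rw [RankTwoA2.n_ca hx (a := 1) (b := 2) (c := 0) (by decide) (by decide) (by decide) one]
                 congr 1; ring) h01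
  have h12 : Function.Injective (x 1 2) := inj_of_conj (k := -1) (neg_ne_zero.2 one)
    (fun s => by rw [RankTwoA2.n_ac hx (a := 0) (b := 1) (c := 2) (by decide) (by decide) (by decide) one]
                 congr 1; ring) h02
  have h10 : Function.Injective (x 1 0) := inj_of_conj (k := -1) (neg_ne_zero.2 one)
    (fun s => by rw [RankTwoA2.n_ab hx (a := 0) (b := 1) (c := 2) (by decide) (by decide) (by decide) one]
                 congr 1; ring) h01
  have h21 : Function.Injective (x 2 1) := inj_of_conj (k := -1) (neg_ne_zero.2 one)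
    (fun s => by rw [RankTwoA2.n_ab hx (a := 1) (b := 2) (c := 0) (by decide) (by decide) (by decide) one]
                 congr 1; ring) h12
  have h20 : Function.Injective (x 2 0) := inj_of_conj (k := -1) (neg_ne_zero.2 one)
    (fun s => by rw [RankTwoA2.n_ab hx (a := 0) (b := 2) (c := 1) (by decide) (by decide) (by decide) one]
                 congr 1; ring) h02
  intro a b hab
  fin_cases a <;> fin_cases b <;> first | exact absurd rfl hab | assumption

/-- The root groups of an `A₂` edge are parametrised as in `SL₂`. -/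
theorem edge_sl2 (e : Edge3 xp xm yp ym) (hinj : Function.Injective xp) :
    Hua.SL2Par xp xm ∧ Hua.SL2Par yp ym := by
  obtain ⟨x, hx, rfl, rfl, rfl, rfl⟩ := e
  have h := stein_inj hx hinj
  exact ⟨GlueA.sl2Par hx h (by decide), GlueA.sl2Par hx h (by decide)⟩

theorem edge_symm (e : Edge3 xp xm yp ym) : Edge3 yp ym xp xm := by
  obtain ⟨x, hx, rfl, rfl, rfl, rfl⟩ := e
  refine ⟨_, Cfsg.Agent.TitsThree.SteinRel.flip hx, ?_, ?_, ?_, ?_⟩ <;> funext t <;>
    simp [sg3]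

/-- An element normalising the first root group of an edge and centralising the second acts by a scalar. -/
theorem scal_of_edge (e : Edge3 xp xm yp ym) (hinj : Function.Injective xp) {h : Y}
    (h1 : ∀ s, ∃ s', h * xp s * h⁻¹ = xp s') (h2 : ∀ s, Commute h (yp s)) : Scal xp h := by
  obtain ⟨x, hx, rfl, rfl, rfl, rfl⟩ := e
  have inj02 := stein_inj hx hinj 0 2 (by decide)
  choose φ hφ using h1
  have key : ∀ s t, h * x 0 2 (s * t) * h⁻¹ = x 0 2 (φ s * t) := by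
    intro s t
    have e2 : h * x 1 2 t * h⁻¹ = x 1 2 t := by rw [(h2 t).eq, mul_inv_cancel_right]
    rw [← hx.br 0 1 2 (by decide) (by decide) (by decide) s t, conj_commutator, hφ, e2,
      hx.br 0 1 2 (by decide) (by decide) (by decide)]
  have h3 : ∀ s, φ s = φ 1 * s := by
    intro s
    apply inj02
    have e1 := key s 1
    have e2 := key 1 s
    rw [mul_one, mul_one] at e1
    rw [one_mul] at e2
    rw [← e1, ← e2]
  refine ⟨φ 1, ?_, fun t => by rw [hφ, h3]⟩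
  intro h0
  have e1 := hφ 1
  rw [h0, hx.zero (by decide), mul_inv_eq_one, mul_eq_left, ← hx.zero (show (0 : Fin 3) ≠ 1 by decide)]
    at e1
  exact one_ne_zero (hinj e1)

end Edge

/-! ### The double bond -/

section Bond

variable {V : Type*} [AddCommGroup V] [Module F V] {D : PQDatum F V} {m : B2Maps D Y}

/-- `n_II(p) n_II(q)⁻¹` acts on the type I root group by a scalar. -/
theorem scal_nII (h : B2Rel m) {p q : D.T} (hp : p.c ≠ 0) (hq : q.c ≠ 0) :
    Scal m.x (m.nII p * (m.nII q)⁻¹) := by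
  have hq' := CoreB2.inv_c_ne hq
  refine ⟨p.c⁻¹ * (D.ε * D.σ (q⁻¹).c), ?_, fun t => ?_⟩
  · refine mul_ne_zero (inv_ne_zero hp) (mul_ne_zero ?_ ?_)
    · intro h0
      have := D.ε_mul
      rw [h0, zero_mul] at this
      exact zero_ne_one this
    · intro h0
      exact hq' ((map_eq_zero D.σ).1 h0)
  · rw [CoreB2.nII_inv h q, conj_comp (h.nII_x _ hq' t) (h.nII_y _ hp _)]
    congr 1
    ring

/-- the torus element `h_I(t)` maps the type II root group into itself -/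
theorem hh_z₂ (h : B2Rel m) {p₀ : D.T} (hp : p₀.c ≠ 0) {t : F} (ht : t ≠ 0) (p : D.T) :
    ∃ q, hh m.x m.x' t * m.z₂ p * (hh m.x m.x' t)⁻¹ = m.z₂ q := by
  have hn := B2NI.nirel h hp
  have e : hh m.x m.x' t = nn m.x m.x' t * nn m.x m.x' (-1) := by
    have h1 : nn m.x m.x' (-1) = (nn m.x m.x' 1)⁻¹ := CoreB2.nt_neg h 1
    rw [hh, h1]
  have h1 : nn m.x m.x' (-1) * m.z₂ p * (nn m.x m.x' (-1))⁻¹ = m.z₁ (D.sc (-1) p) :=
    hn.z₂ (-1) (neg_ne_zero.2 one_ne_zero) p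
  refine ⟨D.sc (-t⁻¹) (D.sc (-1) p), ?_⟩
  rw [e]
  exact conj_comp h1 (hn.z₁ t ht _)

end Bond

/-! ### Uniqueness of the reflection elements -/

section Unique

variable {xp xm : F → Y}

theorem nn_mid (h : Hua.SL2Par xp xm) {t : F} (ht : t ≠ 0) :
    nn xp xm t = xm (-t⁻¹) * xp t * xm (-t⁻¹) := by
  have h1 := h.conjp t ht t
  have h2 := h.conjm t ht (-t⁻¹)
  have e1 : -(t⁻¹ * t⁻¹ * t) = -t⁻¹ := by rw [mul_assoc, inv_mul_cancel₀ ht, mul_one]
  have e2 : -(t * t * -t⁻¹) = t := by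
    rw [mul_neg, neg_neg, mul_assoc, mul_inv_cancel₀ ht, mul_one]
  rw [e1] at h1
  rw [e2] at h2
  calc nn xp xm t = nn xp xm t * nn xp xm t * (nn xp xm t)⁻¹ := by group
    _ = nn xp xm t * (xp t * xm (-t⁻¹) * xp t) * (nn xp xm t)⁻¹ := rfl
    _ = (nn xp xm t * xp t * (nn xp xm t)⁻¹) * (nn xp xm t * xm (-t⁻¹) * (nn xp xm t)⁻¹) *
        (nn xp xm t * xp t * (nn xp xm t)⁻¹) := by group
    _ = _ := by rw [h1, h2]

/-- The reflection element attached to `xp t` is unique. -/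
theorem mu_unique (h : Hua.SL2Par xp xm) {t a b : F} (ht : t ≠ 0)
    (h1 : ∀ s, ∃ s', (xm a * xp t * xm b) * xp s * (xm a * xp t * xm b)⁻¹ = xm s')
    (h2 : ∀ s, ∃ s', (xm a * xp t * xm b) * xm s * (xm a * xp t * xm b)⁻¹ = xp s') :
    xm a * xp t * xm b = nn xp xm t := by
  set n := nn xp xm t with hn
  have hmid := nn_mid h ht
  rw [← hn] at hmid
  have e : xm a * xp t * xm b = xm (a + t⁻¹) * n * xm (b + t⁻¹) := by
    rw [hmid]
    have e1 : xm (a + t⁻¹) * (xm (-t⁻¹) * xp t * xm (-t⁻¹)) * xm (b + t⁻¹) =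
        (xm (a + t⁻¹) * xm (-t⁻¹)) * xp t * (xm (-t⁻¹) * xm (b + t⁻¹)) := by group
    rw [e1, ← h.addm, ← h.addm]
    congr 3
    · congr 1
      ring
    · ring
  set α := a + t⁻¹
  set β := b + t⁻¹
  have hβ : β = 0 := by
    apply h.norm
    intro r
    obtain ⟨s', hs'⟩ := h1 r
    rw [e] at hs'
    refine ⟨-(t * t * s'), ?_⟩
    have h3 := h.conjp t ht (-(t * t * s'))
    have e3 : -(t⁻¹ * t⁻¹ * -(t * t * s')) = s' := by field_simp
    rw [e3, ← hn] at h3
    have h4 : xm β * xp r * (xm β)⁻¹ = n⁻¹ * ((xm α)⁻¹ * xm s' * xm α) * n := by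
      rw [← hs']; group
    have h5 : (xm α)⁻¹ * xm s' * xm α = xm s' := by
      rw [← h.negm, ← h.addm, ← h.addm]
      congr 1
      ring
    rw [h4, h5, ← h3]
    group
  rw [hβ, h.zerom, mul_one] at e
  have hα : α = 0 := by
    apply h.norm
    intro r
    have h3 := h.conjm t ht (-(t⁻¹ * t⁻¹ * r))
    have e3 : -(t * t * -(t⁻¹ * t⁻¹ * r)) = r := by field_simp
    rw [e3, ← hn] at h3
    obtain ⟨s', hs'⟩ := h2 (-(t⁻¹ * t⁻¹ * r))
    refine ⟨s', ?_⟩
    rw [← hs', e, ← h3]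
    group
  rw [e, hα, h.zerom, one_mul]

end Unique

/-! ### Type `C_n` -/

section CN

variable {V : Type*} [AddCommGroup V] [Module F V] {D : PQDatum F V} {n : ℕ}

/-- The torus of a package of type `C_{n+1}`. -/
def torusCN (P : CN Y D n) : Subgroup Y :=
  Subgroup.closure ({g | ∃ i t, t ≠ 0 ∧ g = hh (P.xp i) (P.xm i) t} ∪
    {g | ∃ p q : D.T, p.c ≠ 0 ∧ q.c ≠ 0 ∧ g = P.b2.nII p * (P.b2.nII q)⁻¹})

theorem hh_mem_torusCN (P : CN Y D n) (i : Fin n) {t : F} (ht : t ≠ 0) :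
    hh (P.xp i) (P.xm i) t ∈ torusCN P := Subgroup.subset_closure (Or.inl ⟨i, t, ht, rfl⟩)

theorem nII_mem_torusCN (P : CN Y D n) {p q : D.T} (hp : p.c ≠ 0) (hq : q.c ≠ 0) :
    P.b2.nII p * (P.b2.nII q)⁻¹ ∈ torusCN P := Subgroup.subset_closure (Or.inr ⟨p, q, hp, hq, rfl⟩)

theorem comm_nII {m : B2Maps D Y} {xp xm : F → Y} (h : Comm4 xp xm m.z₂ m.z₂') (p : D.T) (s : F) :
    Commute (m.nII p) (xp s) ∧ Commute (m.nII p) (xm s) := by
  have a := fun q => (h s q)
  exact ⟨(((a _).2.1.symm).mul_left (a _).1.symm).mul_left (a _).2.1.symm,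
    (((a _).2.2.2.symm).mul_left (a _).2.2.1.symm).mul_left (a _).2.2.2.symm⟩

/-- The torus acts on the type I root groups by scalars. -/
theorem scalCN (hn : 2 ≤ n) (P : CN Y D n) (j : Fin n) {h : Y} (hh' : h ∈ torusCN P) :
    Scal (P.xp j) h := by
  have hle : torusCN P ≤ Scal.sub (P.xp j) := by
    rw [torusCN, Subgroup.closure_le]
    rintro g (⟨i, t, ht, rfl⟩ | ⟨p, q, hp, hq, rfl⟩)
    · change Scal (P.xp j) _
      rcases lt_trichotomy i.1 j.1 with hij | hij | hij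
      · rcases Nat.lt_or_ge (i.1 + 1) j.1 with h2 | h2
        · exact (scal_of_comm4 (P.comm i j h2) t).1
        · exact (edge_scal (P.st3 i j (by omega)) ht).2.1
      · obtain rfl : i = j := Fin.ext hij
        -- a neighbour
        rcases Nat.lt_or_ge (i.1 + 1) n with h2 | h2
        · exact (edge_scal (P.st3 i ⟨i.1 + 1, h2⟩ rfl) ht).1
        · have h3 : 1 ≤ i.1 := by omega
          exact (edge_scal (P.st3 ⟨i.1 - 1, by omega⟩ i (by simp; omega)) ht).2.2.2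
      · rcases Nat.lt_or_ge (j.1 + 1) i.1 with h2 | h2
        · exact (scal_of_comm4 (Comm4.symm' (P.comm j i h2)) t).1
        · exact (edge_scal (P.st3 j i (by omega)) ht).2.2.1
    · change Scal (P.xp j) _
      rcases Nat.lt_or_ge (j.1 + 1) n with h2 | h2
      · refine Scal.of_comm fun s => ?_
        exact (comm_nII (P.commT j h2) p s).1.mul_left (comm_nII (P.commT j h2) q s).1.inv_left
      · have h3 := P.last j (by have := j.2; omega)
        rw [← h3.1]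
        exact scal_nII P.rel hp hq
  exact hle hh'

end CN

/-! ### Type `F₄` -/

section FF

variable {V : Type*} [AddCommGroup V] [Module F V] {D : PQDatum F V} {E : Type*} [Field E]
  {τ τ' : E → D.T}

/-- The torus of a package of type `F₄`. -/
def torusFF (P : FF Y D τ τ') : Subgroup Y :=
  Subgroup.closure (({g | ∃ t, t ≠ 0 ∧ g = hh P.x0 P.y0 t} ∪ {g | ∃ t, t ≠ 0 ∧ g = hh P.x1 P.y1 t}) ∪
    ({g | ∃ t, t ≠ 0 ∧ g = hh P.x2 P.y2 t} ∪ {g | ∃ t, t ≠ 0 ∧ g = hh P.x3 P.y3 t}))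

variable (P : FF Y D τ τ')

theorem hh0_mem {t : F} (ht : t ≠ 0) : hh P.x0 P.y0 t ∈ torusFF P :=
  Subgroup.subset_closure (Or.inl (Or.inl ⟨t, ht, rfl⟩))

theorem hh1_mem {t : F} (ht : t ≠ 0) : hh P.x1 P.y1 t ∈ torusFF P :=
  Subgroup.subset_closure (Or.inl (Or.inr ⟨t, ht, rfl⟩))

theorem hh2_mem {t : E} (ht : t ≠ 0) : hh P.x2 P.y2 t ∈ torusFF P :=
  Subgroup.subset_closure (Or.inr (Or.inl ⟨t, ht, rfl⟩))

theorem hh3_mem {t : E} (ht : t ≠ 0) : hh P.x3 P.y3 t ∈ torusFF P :=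
  Subgroup.subset_closure (Or.inr (Or.inr ⟨t, ht, rfl⟩))

theorem tau_c_ne (hinj : Function.Injective P.x2) {t : E} (ht : t ≠ 0) : (τ t).c ≠ 0 := by
  intro h0
  have h1 : τ t = 1 := PQDatum.T.c_eq_zero_iff.1 h0
  have h2 := P.hz t
  rw [h1, CoreB2.z₂_one P.rel] at h2
  obtain ⟨x, hx, e, -⟩ := P.e23
  have h3 : P.x2 0 = 1 := by rw [← e]; exact hx.zero (by decide)
  exact ht (hinj (by rw [← h2, h3]))

/-- `n_II(τ t) = n_2(t)` -/
theorem nII_eq (hτ : Function.Surjective τ) (hτ' : Function.Surjective τ')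
    (hinj : Function.Injective P.x2) {t : E} (ht : t ≠ 0) : P.b2.nII (τ t) = nn P.x2 P.y2 t := by
  have hc := tau_c_ne P hinj ht
  have hSL := (edge_sl2 P.e23 hinj).1
  obtain ⟨a, ha⟩ := hτ' (D.sc (-(D.σ (τ t).c)⁻¹) (τ t))
  obtain ⟨b, hb⟩ := hτ' (D.sc (-(D.ε * (τ t).c⁻¹)) (τ t))
  have e : P.b2.nII (τ t) = P.y2 a * P.x2 t * P.y2 b := by
    rw [B2Maps.nII, ← ha, ← hb, P.hz', P.hz', P.hz]
  rw [e]
  apply mu_unique hSL ht
  · intro s
    rw [← e, ← P.hz, P.rel.nII_z₂ _ hc]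
    obtain ⟨s', hs'⟩ := hτ' (D.sc (D.σ (τ t).c)⁻¹ (D.refl (τ t) hc (τ s)))
    exact ⟨s', by rw [← hs', P.hz']⟩
  · intro s
    rw [← e, ← P.hz', P.rel.nII_z₂' _ hc]
    obtain ⟨s', hs'⟩ := hτ (D.sc (D.ε⁻¹ * (τ t).c) (D.refl (τ t) hc (τ' s)))
    exact ⟨s', by rw [← hs', P.hz]⟩

theorem nII_mem_torusFF (hτ : Function.Surjective τ) (hτ' : Function.Surjective τ')
    (hinj : Function.Injective P.x2) {p q : D.T} (hp : p.c ≠ 0) (hq : q.c ≠ 0) :
    P.b2.nII p * (P.b2.nII q)⁻¹ ∈ torusFF P := by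
  obtain ⟨s, rfl⟩ := hτ p
  obtain ⟨t, rfl⟩ := hτ q
  have h0 : ∀ r : E, (τ r).c ≠ 0 → r ≠ 0 := by
    rintro _ hr rfl
    apply hr
    obtain ⟨x, hx, e, -⟩ := P.e23
    have h3 : P.x2 0 = 1 := by rw [← e]; exact hx.zero (by decide)
    -- `τ 0 = 1`
    by_contra hne
    have hs : ∃ r : E, τ r = 1 := hτ 1
    obtain ⟨r, hr'⟩ := hs
    have h4 : P.x2 r = 1 := by rw [← P.hz, hr', CoreB2.z₂_one P.rel]
    have h5 : r = 0 := hinj (by rw [h4, h3])
    rw [h5] at hr'
    rw [hr'] at hne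
    exact hne rfl
  have hs := h0 s hp
  have ht := h0 t hq
  rw [nII_eq P hτ hτ' hinj hs, nII_eq P hτ hτ' hinj ht]
  have e : nn P.x2 P.y2 s * (nn P.x2 P.y2 t)⁻¹ = hh P.x2 P.y2 s * (hh P.x2 P.y2 t)⁻¹ := by
    rw [hh, hh]; group
  rw [e]
  exact mul_mem (hh2_mem P hs) (inv_mem (hh2_mem P ht))

/-- The torus acts on all simple root groups by scalars. -/
theorem scalFF (hτ : Function.Surjective τ) (hτ' : Function.Surjective τ')
    (hinj : Function.Injective P.x2) {h : Y} (hh' : h ∈ torusFF P) :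
    Scal P.x0 h ∧ Scal P.x1 h ∧ Scal P.x2 h ∧ Scal P.x3 h := by
  have hc1 := tau_c_ne P hinj (one_ne_zero : (1 : E) ≠ 0)
  have hle : torusFF P ≤ Scal.sub P.x0 ⊓ (Scal.sub P.x1 ⊓ (Scal.sub P.x2 ⊓ Scal.sub P.x3)) := by
    rw [torusFF, Subgroup.closure_le]
    rintro g ((⟨t, ht, rfl⟩ | ⟨t, ht, rfl⟩) | (⟨t, ht, rfl⟩ | ⟨t, ht, rfl⟩))
    · exact ⟨(edge_scal P.e01 ht).1, (edge_scal P.e01 ht).2.1, (scal_of_comm4 P.c02 t).1,
        (scal_of_comm4 P.c03 t).1⟩
    · refine ⟨(edge_scal P.e01 ht).2.2.1, (edge_scal P.e01 ht).2.2.2, ?_, (scal_of_comm4 P.c13 t).1⟩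
      refine scal_of_edge P.e23 hinj (fun s => ?_) fun s => (comm_hh P.c13 t s).1
      obtain ⟨q, hq⟩ := hh_z₂ P.rel hc1 ht (τ s)
      rw [P.hx, P.hx', P.hz] at hq
      obtain ⟨s', rfl⟩ := hτ q
      exact ⟨s', by rw [hq, P.hz]⟩
    · refine ⟨(scal_of_comm4 (Comm4.symm' P.c02) t).1, ?_, (edge_scal P.e23 ht).1,
        (edge_scal P.e23 ht).2.1⟩
      change Scal P.x1 (hh P.x2 P.y2 t)
      rw [hh, ← nII_eq P hτ hτ' hinj ht, ← nII_eq P hτ hτ' hinj one_ne_zero, ← P.hx]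
      exact scal_nII P.rel (tau_c_ne P hinj ht) hc1
    · exact ⟨(scal_of_comm4 (Comm4.symm' P.c03) t).1, (scal_of_comm4 (Comm4.symm' P.c13) t).1,
        (edge_scal P.e23 ht).2.2.1, (edge_scal P.e23 ht).2.2.2⟩
  have h1 := hle hh'
  exact ⟨h1.1, h1.2.1, h1.2.2.1, h1.2.2.2⟩

end FF

end Cfsg.Agent.TitsThree.TorusAct
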