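import Cfsg.Agent.TitsThree.EndGen
import Cfsg.Agent.TitsThree.TorusAct

/-!
# Ranges of the root elements, and the common part of `EndCN`, `EndFF` (S1143)
-/

set_option autoImplicit false

namespace Cfsg.Agent.TitsThree.EndRange

open Cfsg.Agent.Tits.Core Cfsg.Agent.Tits.Core.Bldg Cfsg.Agent.Tits
open Cfsg.Agent.Tits.MouDefs (rt)
open Cfsg.Agent.Tits.MouOut
open Cfsg.Agent.TitsThree.Hua Cfsg.Agent.TitsThree.EndGen Cfsg.Agent.TitsThree.TorusAct

variable {I : Type*} {M : CoxeterMatrix I} {W : Type*} [Group W] {cs : CoxeterSystem M W}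
variable {C A : Type*} [Group A] [MulAction A C] {Δ : Bldg cs C}
variable {σ : W → C} {U : Set W → Subgroup A}

/-- The root elements of the node `i` exhaust the root groups `U (rt 1 i)`, `U (rt s_i i)`. -/
def NodeRange (U : Set W → Subgroup A) (i : I) {X : Type*} (xp xm : X → ↥(Gg cs U)) : Prop :=
  Set.range (fun t => (xp t : A)) = U (rt cs 1 i) ∧
    Set.range (fun t => (xm t : A)) = U (rt cs (cs.simple i) i)

namespace NodeRange

variable {i : I} {X : Type*} {xp xm : X → ↥(Gg cs U)}

theorem mem (h : NodeRange U i xp xm) (t : X) : (xp t : A) ∈ U (rt cs 1 i) := by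
  have : (xp t : A) ∈ Set.range (fun t => (xp t : A)) := ⟨t, rfl⟩
  rw [h.1] at this
  exact this

theorem mem' (h : NodeRange U i xp xm) (t : X) : (xm t : A) ∈ U (rt cs (cs.simple i) i) := by
  have : (xm t : A) ∈ Set.range (fun t => (xm t : A)) := ⟨t, rfl⟩
  rw [h.2] at this
  exact this

theorem exists_eq (h : NodeRange U i xp xm) {g : A} (hg : g ∈ U (rt cs 1 i)) : ∃ t, (xp t : A) = g := by
  have : g ∈ (U (rt cs 1 i) : Set A) := hg
  rw [← h.1] at this
  exact this

theorem exists_eq' (h : NodeRange U i xp xm) {g : A} (hg : g ∈ U (rt cs (cs.simple i) i)) :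
    ∃ t, (xm t : A) = g := by
  have : g ∈ (U (rt cs (cs.simple i) i) : Set A) := hg
  rw [← h.2] at this
  exact this

end NodeRange

/-- `SL2Par` is preserved by injective homomorphisms. -/
theorem sl2_map {G Y : Type*} [Group G] [Group Y] {f : G →* Y} (hf : Function.Injective f)
    {F : Type*} [Field F] {xp xm : F → G} (h : SL2Par xp xm) :
    SL2Par (fun t => f (xp t)) (fun t => f (xm t)) where
  addp s t := by rw [h.addp, map_mul]
  addm s t := by rw [h.addm, map_mul]
  injp := hf.comp h.injp
  injm := hf.comp h.injm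
  conjp t ht s := by
    have := congrArg f (h.conjp t ht s)
    simpa [nn] using this
  conjm t ht s := by
    have := congrArg f (h.conjm t ht s)
    simpa [nn] using this
  norm s hs := h.norm s fun r => by
    obtain ⟨r', hr'⟩ := hs r
    exact ⟨r', hf (by simpa using hr')⟩

/-- The homomorphism `A_{c,d} → ΓL₁(F)` of a field node. -/
theorem hom_of_node [Finite W] (H : Sys Δ A σ U) {F : Type*} [Field F] [Finite F] {i : I}
    {xp xm : F → ↥(Gg cs U)} (hr : NodeRange U i xp xm) (par : SL2Par xp xm) :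
    ∃ f : ↥(Tor cs A σ) →* GL1 F, ∀ h : ↥(Tor cs A σ), f h = 1 →
      ∀ u ∈ U (rt cs 1 i), (h : A) * u = u * h :=
  exists_hom_solvable H (sl2_map (f := (Gg cs U).subtype) (Subgroup.subtype_injective _) par) hr.1 hr.2

/-- An element of order `p` acting by a scalar on a node centralises the root group. -/
theorem comm_of_scal {F : Type*} [Field F] {p : ℕ} [Fact p.Prime] [CharP F p] {i : I}
    {xp xm : F → ↥(Gg cs U)} (hr : NodeRange U i xp xm) (hinj : Function.Injective xp)
    {h : ↥(Gg cs U)} (hs : Scal xp h) (hp : h ^ p = 1) :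
    ∀ u ∈ U (rt cs 1 i), (h : A) * u = u * h := by
  intro u hu
  obtain ⟨t, rfl⟩ := hr.exists_eq hu
  have h1 := Scal.eq_of_pow hinj hs hp t
  have h2 : h * xp t = xp t * h := by
    rw [mul_inv_eq_iff_eq_mul] at h1
    exact h1
  exact congrArg (Subgroup.subtype _) h2

end Cfsg.Agent.TitsThree.EndRange
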