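import Mathlib
import Cfsg.Agent.TitsThree.GCNTransport
import Cfsg.Agent.TitsThree.EndRange
import Cfsg.Agent.Tits.RGOut
/-!
# The G side of type `C_n` from the Moufang property (S1143, G6)

`Out Δ σ D`: the group `G' = Gg cs (UU Δ σ)` of a building of type `C_{k+2}` has the record `GCN` over `D`, with base
chamber `σ 1`, and the root elements exhaust the root groups.
`out_of_bond`: this holds as soon as the root groups of the double bond carry a package `Bond D`.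
`Std Q`: `Q` holds for one of the standard data over a finite field.
-/

set_option autoImplicit false

namespace Cfsg.Agent.TitsThree.GCNOfSys

open Cfsg.Agent.Tits.Core Cfsg.Agent.Tits.Core.Bldg Cfsg.Agent.AGraded Cfsg.Agent.TitsThree.B2Pkg
  Cfsg.Agent.TitsThree.Pack Cfsg.Agent.TitsThree.Tree Cfsg.Agent.TitsThree.Hua
  Cfsg.Agent.TitsThree.GSideCN Cfsg.Agent.TitsThree.GSideMou Cfsg.Agent.TitsThree.StdData
open Cfsg.Agent.Tits.MouOut Cfsg.Agent.Tits.RGOut Cfsg.Agent.TitsThree.EndRange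
open Cfsg.Agent.Tits.MouDefs (rt Aut Chart)
open Cfsg.Agent.Tits.RootComb (Diag)
open Cfsg.Agent.Tits.MouAll (Lab234)

section General

variable {I : Type*} {M : CoxeterMatrix I} {W : Type*} [Group W] {cs : CoxeterSystem M W}
  {C : Type*} {Δ : Bldg cs C} {σ : W → C}

/-- The root groups of a node act on the panel of the base chamber. -/
theorem panAct (H : Sys Δ (Aut Δ) σ (UU Δ σ)) (i : I) :
    PanAct Δ (σ 1) i (σ (cs.simple i)) (RX Δ σ (rt cs 1 i) : Set ↥(Gg cs (UU Δ σ)))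
      (RX Δ σ (rt cs (cs.simple i) i)) := by
  have key := H.nodeAct (i := i)
    (X := ↥(RX Δ σ (rt cs 1 i)) × ↥(RX Δ σ (rt cs (cs.simple i) i)))
    (xp := fun t => t.1.1) (xm := fun t => t.2.1) (fun t => t.1.2)
    (fun g hg => ⟨(⟨⟨g, H.rt_le _ _ hg⟩, hg⟩, 1), rfl⟩) (fun t => t.2.2)
    (fun g hg => ⟨(1, ⟨⟨g, H.rt_le _ _ hg⟩, hg⟩), rfl⟩)
  refine ⟨key.mem, key.ne, fun g hg => key.fix (⟨g, hg⟩, 1), fun g hg => key.fix' (1, ⟨g, hg⟩),
    fun y hy hne => ?_, fun y hy hne => ?_⟩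
  · obtain ⟨t, ht⟩ := key.trans y hy hne
    exact ⟨t.1.1, t.1.2, ht⟩
  · obtain ⟨t, ht⟩ := key.trans' y hy hne
    exact ⟨t.2.1, t.2.2, ht⟩

theorem gen (H : Sys Δ (Aut Δ) σ (UU Δ σ)) :
    Subgroup.closure (⋃ i, ((RX Δ σ (rt cs 1 i) : Set ↥(Gg cs (UU Δ σ))) ∪
      RX Δ σ (rt cs (cs.simple i) i))) = ⊤ := by
  apply H.closure_eq_top
  · intro i g hg
    exact ⟨⟨g, H.rt_le _ _ hg⟩, Set.mem_iUnion.2 ⟨i, Or.inl hg⟩, rfl⟩
  · intro i g hg
    exact ⟨⟨g, H.rt_le _ _ hg⟩, Set.mem_iUnion.2 ⟨i, Or.inr hg⟩, rfl⟩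

theorem nodeRange (H : Sys Δ (Aut Δ) σ (UU Δ σ)) {i : I} {X : Type*} {xp xm : X → ↥(Gg cs (UU Δ σ))}
    (hp : Set.range xp = RX Δ σ (rt cs 1 i)) (hm : Set.range xm = RX Δ σ (rt cs (cs.simple i) i)) :
    NodeRange (UU Δ σ) i xp xm := by
  have key : ∀ (w : W) {x : X → ↥(Gg cs (UU Δ σ))}, Set.range x = RX Δ σ (rt cs w i) →
      Set.range (fun t => (x t : Aut Δ)) = UU Δ σ (rt cs w i) := by
    intro w x hx
    ext g
    constructor
    · rintro ⟨t, rfl⟩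
      have : x t ∈ (RX Δ σ (rt cs w i) : Set ↥(Gg cs (UU Δ σ))) := hx ▸ ⟨t, rfl⟩
      exact this
    · intro hg
      have : (⟨g, H.rt_le w i hg⟩ : ↥(Gg cs (UU Δ σ))) ∈
          (RX Δ σ (rt cs w i) : Set ↥(Gg cs (UU Δ σ))) := hg
      rw [← hx] at this
      obtain ⟨t, ht⟩ := this
      exact ⟨t, congrArg Subtype.val ht⟩
  exact ⟨key 1 hp, key _ hm⟩

/-- `z₂` is injective if `x` is. -/
theorem z₂_injective {F : Type*} [Field F] {V : Type*} [AddCommGroup V] [Module F V] {D : PQDatum F V}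
    {Y : Type*} [Group Y] {m : B2Maps D Y} (h : B2Rel m) (hx : Function.Injective m.x) :
    Function.Injective m.z₂ := by
  have hσ : ∀ x : F, D.σ x = 0 → x = 0 := fun x hx => by
    have := congrArg D.σ.symm hx
    simpa using this
  have key : ∀ p, m.z₂ p = 1 → p = 1 := by
    intro p hp
    by_contra hne
    have hc : p.c ≠ 0 := fun h0 => hne (PQDatum.T.c_eq_zero_iff.1 h0)
    have h1 : ∀ a, m.z₁ (D.sc a p) * m.y (-(D.ε * a * D.σ p.c)) = 1 := fun a => by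
      rw [← h.x_z₂ a p, hp, commutatorElement_one_right]
    have h2 : m.z₁ p = 1 := by
      rw [← h.nI_z₂ p, hp, mul_one, mul_inv_cancel]
    have h3 : D.sc 1 p = p := by
      ext
      · simp
      · simp
    have h4 := h1 1
    rw [h3, h2, one_mul] at h4
    have h5 := h.nII_y p hc (-(D.ε * 1 * D.σ p.c))
    rw [h4, mul_one, mul_inv_cancel] at h5
    have h6 : m.x 0 = 1 := by
      have := h.x_add 0 0
      rwa [add_zero, left_eq_mul] at this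
    have h7 := hx (h6.trans h5)
    have h8 : D.ε * D.σ p.c ≠ 0 := mul_ne_zero D.ε_ne fun h0 => hc (hσ _ h0)
    have h9 : p.c⁻¹ * -(D.ε * 1 * D.σ p.c) ≠ 0 := by
      rw [mul_one]
      exact mul_ne_zero (inv_ne_zero hc) (neg_ne_zero.2 h8)
    exact h9 h7.symm
  intro p q hpq
  have h1 : m.z₂ (p * q⁻¹) = 1 := by
    have h2 := h.z₂_mul q q⁻¹
    have h3 : m.z₂ 1 = 1 := by
      have := h.z₂_mul 1 1
      rwa [mul_one, left_eq_mul] at this
    rw [mul_inv_cancel, h3, ← hpq] at h2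
    rw [h.z₂_mul, ← h2]
  exact mul_inv_eq_one.1 (key _ h1)

end General

section TypeC

variable {k : ℕ} {M : CoxeterMatrix (Fin (k + 2))} {W : Type*} [Group W] {cs : CoxeterSystem M W}
  {C : Type*}

/-- The output of the G side for the datum `D`. -/
def Out {F : Type*} [Field F] {V : Type*} [AddCommGroup V] [Module F V] (Δ : Bldg cs C) (σ : W → C)
    (D : PQDatum F V) : Prop :=
  ∃ P : GCN Δ ↥(Gg cs (UU Δ σ)) D (n := k + 1), P.c = σ 1 ∧ (∀ i, P.ci i = σ (cs.simple i)) ∧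
    (∀ i : Fin (k + 1), NodeRange (UU Δ σ) i.castSucc (P.xp i) (P.xm i)) ∧
    NodeRange (UU Δ σ) (Fin.last (k + 1)) P.b2.z₂ P.b2.z₂' ∧
    (∀ i, SL2Par (P.xp i) (P.xm i)) ∧ Function.Injective P.b2.z₂

/-- `Q` holds for one of the standard data over a finite field. -/
def Std (Q : ∀ (F : Type) [Field F] (V : Type) [AddCommGroup V] [Module F V], PQDatum F V → Prop) :
    Prop :=
  ∃ (F : Type) (_ : Field F) (_ : Finite F),
    Q F Unit (stdSp F) ∨ ((2 : F) ≠ 0 ∧ Q F F (stdO1 F)) ∨ (∃ a b hab, Q F (F × F) (stdO2 F a b hab)) ∨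
      (∃ (τ : F ≃+* F) (hτ : ∀ x, τ (τ x) = x), (∃ x, τ x ≠ x) ∧ Q F Unit (stdU0 F τ hτ)) ∨
      (∃ (τ : F ≃+* F) (hτ : ∀ x, τ (τ x) = x), (∃ x, τ x ≠ x) ∧ Q F F (stdU1 F τ hτ))

theorem Std.imp {Q Q' : ∀ (F : Type) [Field F] (V : Type) [AddCommGroup V] [Module F V], PQDatum F V → Prop}
    (h : Std Q) (hQ : ∀ (F : Type) [Field F] (V : Type) [AddCommGroup V] [Module F V] (D : PQDatum F V),
      Q F V D → Q' F V D) : Std Q' := by
  obtain ⟨F, i1, i2, h | ⟨h2, h⟩ | ⟨a, b, hab, h⟩ | ⟨τ, hτ, hx, h⟩ | ⟨τ, hτ, hx, h⟩⟩ := h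
  · exact ⟨F, i1, i2, Or.inl (hQ _ _ _ h)⟩
  · exact ⟨F, i1, i2, Or.inr (Or.inl ⟨h2, hQ _ _ _ h⟩)⟩
  · exact ⟨F, i1, i2, Or.inr (Or.inr (Or.inl ⟨a, b, hab, hQ _ _ _ h⟩))⟩
  · exact ⟨F, i1, i2, Or.inr (Or.inr (Or.inr (Or.inl ⟨τ, hτ, hx, hQ _ _ _ h⟩)))⟩
  · exact ⟨F, i1, i2, Or.inr (Or.inr (Or.inr (Or.inr ⟨τ, hτ, hx, hQ _ _ _ h⟩)))⟩

variable [Finite W] [Finite C] {Δ : Bldg cs C} {σ : W → C}

/-- The record `GCN` from the package of the double bond. -/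
theorem out_of_bond {F : Type*} [Field F] {V : Type*} [AddCommGroup V] [Module F V] {D : PQDatum F V}
    (hM : Lab234 M) (hD : Diag M) (hth : Δ.Thick) (hσ : Chart Δ σ)
    (h3 : ∀ i j : Fin (k + 1), i.1 + 1 = j.1 → M i.castSucc j.castSucc = 3)
    (h2 : ∀ i j : Fin (k + 2), i.1 + 1 < j.1 → M i j = 2)
    (hB : Bond D (RX Δ σ (rt cs 1 (Fin.last k).castSucc) : Set ↥(Gg cs (UU Δ σ)))
      (RX Δ σ (rt cs (cs.simple (Fin.last k).castSucc) (Fin.last k).castSucc))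
      (RX Δ σ (rt cs 1 (Fin.last (k + 1))))
      (RX Δ σ (rt cs (cs.simple (Fin.last (k + 1))) (Fin.last (k + 1)))) {g | g • σ 1 = σ 1}) :
    Out Δ σ D := by
  have H := Cfsg.Agent.Tits.MouAll.sys hM hD hth hσ
  obtain ⟨m, hm, hpar, rx, rx', rz, rz', hy⟩ := hB
  obtain ⟨xp, xm, h1, h2', h3', h4, h5, h6⟩ := glueTree' (pathRooted k)
    (fun i => (RX Δ σ (rt cs 1 i.castSucc) : Set ↥(Gg cs (UU Δ σ))))
    (fun i => (RX Δ σ (rt cs (cs.simple i.castSucc) i.castSucc) : Set ↥(Gg cs (UU Δ σ))))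
    (fun i j hij => edgeA2 hM hD hth hσ (h3 i j hij)) hpar rx rx'
  have hcomm : ∀ i j : Fin (k + 2), i.1 + 1 < j.1 →
      ∀ g ∈ (RX Δ σ (rt cs 1 i) : Set ↥(Gg cs (UU Δ σ))) ∪ RX Δ σ (rt cs (cs.simple i) i),
      ∀ g' ∈ (RX Δ σ (rt cs 1 j) : Set ↥(Gg cs (UU Δ σ))) ∪ RX Δ σ (rt cs (cs.simple j) j),
      Commute g g' := by
    intro i j hij g hg g' hg'
    rcases hg with hg | hg <;> rcases hg' with hg' | hg'
    · exact comm_two hM hD hth hσ (h2 i j hij) (Or.inl rfl) (Or.inl rfl) hg hg'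
    · exact comm_two hM hD hth hσ (h2 i j hij) (Or.inl rfl) (Or.inr rfl) hg hg'
    · exact comm_two hM hD hth hσ (h2 i j hij) (Or.inr rfl) (Or.inl rfl) hg hg'
    · exact comm_two hM hD hth hσ (h2 i j hij) (Or.inr rfl) (Or.inr rfl) hg hg'
  have ep : ∀ i t, xp i t ∈ (RX Δ σ (rt cs 1 i.castSucc) : Set ↥(Gg cs (UU Δ σ))) := fun i t =>
    h4 i ▸ ⟨t, rfl⟩
  have em : ∀ i t, xm i t ∈ (RX Δ σ (rt cs (cs.simple i.castSucc) i.castSucc) :
      Set ↥(Gg cs (UU Δ σ))) := fun i t => h5 i ▸ ⟨t, rfl⟩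
  have ez : ∀ t, m.z₂ t ∈ (RX Δ σ (rt cs 1 (Fin.last (k + 1))) : Set ↥(Gg cs (UU Δ σ))) := fun t =>
    rz ▸ ⟨t, rfl⟩
  have ez' : ∀ t, m.z₂' t ∈ (RX Δ σ (rt cs (cs.simple (Fin.last (k + 1))) (Fin.last (k + 1))) :
      Set ↥(Gg cs (UU Δ σ))) := fun t => rz' ▸ ⟨t, rfl⟩
  refine ⟨{ xp := xp, xm := xm, b2 := m, rel := hm, st3 := ?_, comm := ?_, commT := ?_,
            last := ?_, c := σ 1, ci := fun i => σ (cs.simple i), act := ?_, actT := ?_,
            y_fix := hy, gen := ?_ }, rfl, fun i => rfl, ?_, ?_, h3', ?_⟩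
  · intro i j hij
    obtain ⟨x, hx, -, e1, e2, e3, e4⟩ := h6 i j (Or.inl hij)
    exact ⟨x, hx, e1, e2, e3, e4⟩
  · intro i j hij s t
    have hc := hcomm i.castSucc j.castSucc hij
    exact ⟨hc _ (Or.inl (ep i s)) _ (Or.inl (ep j t)), hc _ (Or.inl (ep i s)) _ (Or.inr (em j t)),
      hc _ (Or.inr (em i s)) _ (Or.inl (ep j t)), hc _ (Or.inr (em i s)) _ (Or.inr (em j t))⟩
  · intro i hij s t
    have hc := hcomm i.castSucc (Fin.last (k + 1)) (by simpa using hij)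
    exact ⟨hc _ (Or.inl (ep i s)) _ (Or.inl (ez t)), hc _ (Or.inl (ep i s)) _ (Or.inr (ez' t)),
      hc _ (Or.inr (em i s)) _ (Or.inl (ez t)), hc _ (Or.inr (em i s)) _ (Or.inr (ez' t))⟩
  · intro i hi
    have : i = Fin.last k := Fin.ext (by rw [Fin.val_last]; omega)
    rw [this, h1, h2']
    exact ⟨rfl, rfl⟩
  · intro i
    exact (panAct H i.castSucc).nodeAct (h4 i) (h5 i)
  · exact (panAct H (Fin.last (k + 1))).nodeAct rz rz'
  · rw [eq_top_iff, ← gen H, Subgroup.closure_le]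
    intro g hg
    obtain ⟨i, hg⟩ := Set.mem_iUnion.1 hg
    apply Subgroup.subset_closure
    induction i using Fin.lastCases with
    | last =>
      right
      rcases hg with hg | hg
      · rw [← rz] at hg
        obtain ⟨p, rfl⟩ := hg
        exact ⟨p, Or.inl rfl⟩
      · rw [← rz'] at hg
        obtain ⟨p, rfl⟩ := hg
        exact ⟨p, Or.inr rfl⟩
    | cast i =>
      left
      rcases hg with hg | hg
      · rw [← h4 i] at hg
        obtain ⟨t, rfl⟩ := hg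
        exact ⟨i, t, Or.inl rfl⟩
      · rw [← h5 i] at hg
        obtain ⟨t, rfl⟩ := hg
        exact ⟨i, t, Or.inr rfl⟩
  · intro i
    exact nodeRange H (h4 i) (h5 i)
  · exact nodeRange H rz rz'
  · exact z₂_injective hm hpar.injp

theorem std_out (hM : Lab234 M) (hD : Diag M) (hth : Δ.Thick) (hσ : Chart Δ σ)
    (h3 : ∀ i j : Fin (k + 1), i.1 + 1 = j.1 → M i.castSucc j.castSucc = 3)
    (h2 : ∀ i j : Fin (k + 2), i.1 + 1 < j.1 → M i j = 2)
    (hB : Std fun F _ V _ _ D => Bond D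
      (RX Δ σ (rt cs 1 (Fin.last k).castSucc) : Set ↥(Gg cs (UU Δ σ)))
      (RX Δ σ (rt cs (cs.simple (Fin.last k).castSucc) (Fin.last k).castSucc))
      (RX Δ σ (rt cs 1 (Fin.last (k + 1))))
      (RX Δ σ (rt cs (cs.simple (Fin.last (k + 1))) (Fin.last (k + 1)))) {g | g • σ 1 = σ 1}) :
    Std fun F _ V _ _ D => Out Δ σ D :=
  hB.imp fun _ _ _ _ _ _ h => out_of_bond hM hD hth hσ h3 h2 h

end TypeC

end Cfsg.Agent.TitsThree.GCNOfSys
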