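import Mathlib
import Cfsg.Agent.TitsThree.GCNOfSys
import Cfsg.Agent.Tits.RGBond
/-!
# The G side of type `C_n`, final form (S1143, G6)

`exists_out`: for every thick building of type `C_{k+3}` the group `G'` has the record `GCN` over one of the standard
data.
-/

set_option autoImplicit false

namespace Cfsg.Agent.TitsThree.GCNMain

open Cfsg.Agent.Tits.Core Cfsg.Agent.Tits.Core.Bldg Cfsg.Agent.TitsThree.B2Pkg
  Cfsg.Agent.TitsThree.GSideMou Cfsg.Agent.TitsThree.StdData Cfsg.Agent.TitsThree.GCNOfSys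
open Cfsg.Agent.Tits Cfsg.Agent.Tits.MouOut Cfsg.Agent.Tits.RGOut
open Cfsg.Agent.Tits.MouDefs (rt Aut Chart)
open Cfsg.Agent.Tits.RootComb (Diag)
open Cfsg.Agent.Tits.MouAll (Lab234 lab_C)
open Cfsg.Agent.Tits.CombInst (diag_C)
open Cfsg.Agent.LieRecognition.BNCox Cfsg.Agent.LieRecognition.CoxClass

variable {k : ℕ} {W : Type*} [Group W] [Finite W] {cs : CoxeterSystem (cC (k + 3)) W}
  {C : Type*} [Finite C] {Δ : Bldg cs C} {σ : W → C}

/-- **The G side of type `C_{k+3}`.** -/
theorem exists_out (hth : Δ.Thick) (hσ : Chart Δ σ) :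
    Std fun F _ V _ _ D => Out (k := k + 1) Δ σ D := by
  have hM : Lab234 (cC (k + 3)) := lab_C _
  have hD : Diag (cC (k + 3)) := diag_C (by omega)
  refine std_out (k := k + 1) hM hD hth hσ ?_ ?_ ?_
  · intro i j hij
    rw [cC_apply, mC]
    have hj := j.2
    simp only [Fin.val_castSucc]
    rw [if_neg (by omega), if_pos hij, if_neg (by omega)]
  · intro i j hij
    rw [cC_apply, mC, if_neg (by omega), if_neg (by omega), if_neg (by omega)]
  · have h01 : cC (k + 3) (Fin.last k).castSucc.castSucc (Fin.last (k + 1)).castSucc = 3 := by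
      rw [cC_apply, mC]
      simp
    have h12 : cC (k + 3) (Fin.last (k + 1)).castSucc (Fin.last (k + 2)) = 4 := by
      rw [cC_apply, mC]
      simp
    have h02 : cC (k + 3) (Fin.last k).castSucc.castSucc (Fin.last (k + 2)) = 2 := by
      rw [cC_apply, mC]
      simp
      omega
    exact RGBond.stdBond hM hD hth hσ h01 h12 h02

end Cfsg.Agent.TitsThree.GCNMain
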