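import Cfsg.Agent.TitsThree.CnModel
import Cfsg.Agent.TitsThree.AssembleCN
import Cfsg.Agent.TitsThree.EndHyp
import Cfsg.Agent.Tits.MouAll
import Cfsg.Agent.Tits.Opp
import Cfsg.Agent.TitsThree.GCNMain
import Cfsg.Agent.TitsThree.EndCN

/-!
# S1143, type `C_n`: the buildings of type `cC n` are solved
-/

set_option autoImplicit false

namespace Cfsg.Agent.TitsThree.SolvedCN

open Cfsg.Agent.Tits.Core Cfsg.Agent.Tits.Core.Bldg Cfsg.Agent.Tits
open Cfsg.Agent.LieRecognition.BNCox Cfsg.Agent.LieRecognition.CoxClass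
open Cfsg.Agent.TitsThree.B2Pkg Cfsg.Agent.TitsThree.Pack Cfsg.Agent.TitsThree.StdData
  Cfsg.Agent.TitsThree.Top Cfsg.Agent.TitsThree.CnModel

/-- A path is connected. -/
theorem conn_of_path {n : ℕ} {M : CoxeterMatrix (Fin n)}
    (h : ∀ i j : Fin n, i.1 + 1 = j.1 → M i j ≠ 2) : NormalTrans.Conn M := by
  intro J hJ hJ'
  by_contra hcon
  push Not at hcon
  obtain ⟨a, ha⟩ := hJ
  obtain ⟨b, hb⟩ := hJ'
  have up : ∀ (k : ℕ) (i j : Fin n), i ∈ J → i.1 + k = j.1 → j ∈ J := by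
    intro k
    induction k with
    | zero =>
      intro i j hi hij
      have : i = j := Fin.ext (by simpa using hij)
      rwa [← this]
    | succ k ih =>
      intro i j hi hij
      have hj := j.2
      have h1 : (⟨i.1 + k, by omega⟩ : Fin n) ∈ J := ih i _ hi rfl
      by_contra hjJ
      exact h _ j (by simp only; omega) (hcon _ h1 j hjJ)
  have dn : ∀ (k : ℕ) (i j : Fin n), i ∈ J → j.1 + k = i.1 → j ∈ J := by
    intro k
    induction k with
    | zero =>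
      intro i j hi hij
      have : i = j := Fin.ext (by simpa using hij.symm)
      rwa [← this]
    | succ k ih =>
      intro i j hi hij
      have hi' := i.2
      have h1 : (⟨j.1 + 1, by omega⟩ : Fin n) ∈ J := ih i _ hi (by simp only; omega)
      by_contra hjJ
      have h2 := hcon _ h1 j hjJ
      rw [M.symmetric] at h2
      exact h j _ rfl h2
  apply hb
  rcases le_total a.1 b.1 with hab | hab
  · exact up (b.1 - a.1) a b ha (by omega)
  · exact dn (a.1 - b.1) a b ha (by omega)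

theorem conn_cC (n : ℕ) : NormalTrans.Conn (cC n) := by
  apply conn_of_path
  intro i j hij
  have hj := j.2
  rw [cC_apply, mC, if_neg (by omega), if_pos hij]
  split_ifs <;> omega

/-- **Identification**: a group with a strongly transitive action on a thick building of type
`C_{n+2}`, `n ≥ 1`, with root elements over a datum which has a model. -/
theorem lieConcl_of_gcn {W : Type*} [Group W] [Finite W] {C : Type*} {n : ℕ} (hn : 1 ≤ n)
    {cs : CoxeterSystem (cC (n + 2)) W} {Δ : Bldg cs C} (hth : Δ.Thick) {G : Type*} [Group G]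
    [MulAction G C] (hA : Δ.StrongAct G) {F : Type*} [Field F] {V : Type*} [AddCommGroup V]
    [Module F V] {D : PQDatum F V} (ex : ∃ p : D.T, p.c ≠ 0) (g : GCN (n := n + 1) Δ G D)
    (h : HasModel D n) : LieConcl G := by
  obtain ⟨K, i1, i2, h1, ⟨k⟩⟩ := h
  obtain ⟨e⟩ := AssembleCN.nonempty_mulEquiv' hth hA (conn_cC (n + 2)) (by omega) ex g k
  exact h1.of_equiv e

/-! ### The output of the G side -/

open Cfsg.Agent.Tits.MouOut Cfsg.Agent.TitsThree.GCNOfSys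
open Cfsg.Agent.Tits.MouDefs (rt Aut Chart)

/-- The identification of `G'`. -/
theorem lieConcl_of_out {W : Type*} [Group W] [Finite W] {C : Type*} [Finite C] {k : ℕ}
    {cs : CoxeterSystem (cC (k + 3)) W} {Δ : Bldg cs C} (hth : Δ.Thick) {σ : W → C}
    (H : Sys Δ (Aut Δ) σ (UU Δ σ)) {F : Type*} [Field F] {V : Type*} [AddCommGroup V] [Module F V]
    {D : PQDatum F V} (ex : ∃ p : D.T, p.c ≠ 0) (h : Out (k := k + 1) Δ σ D)
    (hm : HasModel D (k + 1)) : LieConcl ↥(Gg cs (UU Δ σ)) := by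
  obtain ⟨P, -⟩ := h
  exact lieConcl_of_gcn (n := k + 1) (by omega) hth H.Gg_strongAct ex P hm

theorem ex_sp (F : Type*) [Field F] : ∃ p : (stdSp F).T, p.c ≠ 0 :=
  ⟨⟨(), 1, trivial⟩, one_ne_zero⟩

theorem ex_o1 (F : Type*) [Field F] : ∃ p : (stdO1 F).T, p.c ≠ 0 :=
  ⟨⟨1, -1 ^ 2, rfl⟩, by simp⟩

theorem ex_o2 (F : Type*) [Field F] (a b : F) (hab) : ∃ p : (stdO2 F a b hab).T, p.c ≠ 0 :=
  ⟨⟨(1, 0), -nf a b (1, 0), rfl⟩, by simp [nf]⟩

theorem ex_u0 {F : Type*} [Field F] (τ : F ≃+* F) (hτ : ∀ x, τ (τ x) = x) (hne : ∃ x, τ x ≠ x) :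
    ∃ p : (stdU0 F τ hτ).T, p.c ≠ 0 := by
  obtain ⟨x, hx⟩ := hne
  refine ⟨⟨(), x - τ x, ?_⟩, sub_ne_zero.2 (Ne.symm hx)⟩
  change x - τ x + τ (x - τ x) = 0
  rw [map_sub, hτ]
  ring

theorem ex_u1 {F : Type*} [Field F] (τ : F ≃+* F) (hτ : ∀ x, τ (τ x) = x) (hne : ∃ x, τ x ≠ x) :
    ∃ p : (stdU1 F τ hτ).T, p.c ≠ 0 := by
  obtain ⟨x, hx⟩ := hne
  refine ⟨⟨0, x - τ x, ?_⟩, sub_ne_zero.2 (Ne.symm hx)⟩
  change x - τ x + τ (x - τ x) = -(0 * τ 0)
  rw [map_sub, hτ]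
  ring

/-! ### END -/

open Cfsg.Agent.TitsThree.EndII in
/-- `Solved Δ` from the G side over a good datum with a model. -/
theorem solved_of_out {W : Type*} [Group W] [Finite W] {C : Type*} [Finite C] {k : ℕ}
    {cs : CoxeterSystem (cC (k + 3)) W} {Δ : Bldg cs C} (hth : Δ.Thick) {σ : W → C}
    (H : Sys Δ (Aut Δ) σ (UU Δ σ)) {F : Type*} [Field F] [Finite F] {V : Type*} [AddCommGroup V]
    [Module F V] [Finite V] {D : PQDatum F V} (good : Good D) (ex : ∃ p : D.T, p.c ≠ 0)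
    (h : Out (k := k + 1) Δ σ D) (hm : HasModel D (k + 1)) : Solved Δ := by
  obtain ⟨P, -, -, r, rT, sl, injT⟩ := id h
  obtain ⟨p, hp⟩ := CharP.exists F
  have : Fact p.Prime := ⟨CharP.char_is_prime F p⟩
  exact EndCN.solved H (by omega) (p := p) (P := P.toCN) ⟨r, rT, sl, injT⟩ good ex
    fun _ => lieConcl_of_out hth H ex h hm

open Cfsg.Agent.TitsThree.EndII in
/-- Every finite thick building of type `C_{k+3}` is solved. -/
theorem solved {W : Type*} [Group W] [Finite W] {C : Type*} [Finite C] [Nonempty C] {k : ℕ}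
    {cs : CoxeterSystem (cC (k + 3)) W} {Δ : Bldg cs C} (hth : Δ.Thick) : Solved Δ := by
  obtain ⟨x⟩ := (inferInstance : Nonempty C)
  obtain ⟨y, hxy⟩ : ∃ y, Δ.Opp x y := Δ.exists_δ x (w0 cs)
  obtain ⟨σ, hσ, -⟩ := MouDefs.exists_chart hxy (1 : W)
  have H := MouAll.sys (MouAll.lab_C (k + 3)) (CombInst.diag_C (by omega)) hth hσ
  obtain ⟨F, i1, i2, h⟩ := GCNMain.exists_out hth hσ
  have : Fintype F := Fintype.ofFinite F
  rcases h with h | ⟨h2, h⟩ | ⟨a, b, hab, h⟩ | ⟨τ, hτ, hne, h⟩ | ⟨τ, hτ, hne, h⟩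
  · exact solved_of_out hth H good_sp (ex_sp F) h (hasModel_Sp (k + 1) (by omega))
  · exact solved_of_out hth H good_o1 (ex_o1 F) h (hasModel_O1 h2 (k + 1))
  · exact solved_of_out hth H (good_o2 hab) (ex_o2 F a b hab) h (hasModel_O2 a b hab (k + 1))
  · exact solved_of_out hth H (good_u0 τ hτ hne) (ex_u0 τ hτ hne) h (hasModel_U0 τ hτ hne (k + 1))
  · exact solved_of_out hth H (good_u1 τ hτ hne) (ex_u1 τ hτ hne) h (hasModel_U1 τ hτ hne (k + 1))

universe u

/-- **Type `C_n`, `n ≥ 3`.** -/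
theorem allSolved (n : ℕ) (hn : 3 ≤ n) : AllSolved.{u} (cC n) := by
  obtain ⟨k, rfl⟩ : ∃ k, n = k + 3 := ⟨n - 3, by omega⟩
  intro W C _ _ _ _ cs Δ hth
  exact solved hth

end Cfsg.Agent.TitsThree.SolvedCN
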