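import Cfsg.Agent.TitsThree.KExcGen
import Cfsg.Agent.TitsThree.KSideDefs

/-!
# The Chevalley groups of type E₆, E₇, E₈ as `SLData` (S1143, K side)

The nodes are numbered as the fundamental roots of the Prelude: edges `0-2`, `1-3`, `2-3`, `3-4`, `4-5`, `5-6`, `6-7`.
-/

set_option autoImplicit false

namespace Cfsg.Agent.TitsThree.KExcBase

open Cfsg.Lie Cfsg.Agent.ChevalleyStructure.Elts Cfsg.Agent.ChevalleyStructure Cfsg.Agent.AGraded
open Cfsg.Agent.TitsThree
open scoped commutatorElement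

universe u

variable {F : Type u} [Field F] {D : ChevalleyDatum}

/-- The table check for two roots whose root elements commute. -/
def NilTab (D : ChevalleyDatum) (r s : ℕ) : Prop :=
  r < D.nroots ∧ s < D.nroots ∧ s ≠ r ∧ s ≠ D.neg r ∧ D.commTerms r s = []

instance (D : ChevalleyDatum) (r s : ℕ) : Decidable (NilTab D r s) := by
  unfold NilTab; infer_instance

theorem X_commute (hD : InList D) {r s : ℕ} (h : NilTab D r s) (t u : F) :
    Commute (X hD r t) (X hD s u) :=
  Subtype.ext (comm_nil hD h.1 h.2.1 h.2.2.1 h.2.2.2.1 h.2.2.2.2 t u)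

/-- The Steinberg system of type `A₂` on the roots `±i`, `±j`, `±k`, `k = i + j`. -/
noncomputable def x3 (hD : InList D) (i j k : ℕ) (a b : Fin 3) (t : F) : ↥(D.group F) :=
  X hD (rt D i j k a b) ((sg a b : F) * t)

theorem coe_x3 (hD : InList D) (i j k : ℕ) (a b : Fin 3) (t : F) :
    ((x3 hD i j k a b t : ↥(D.group F)) : GL D.Idx F) = x2 hD i j k a b t := rfl

theorem x3_stein (hD : InList D) {i j k : ℕ} (T : A2Tab D i j k) :
    SteinRel (x3 (F := F) hD i j k) where
  add a b _ s t := Subtype.ext (x2_add hD a b s t)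
  comm a b c d hab hcd hbc had s t := Subtype.ext (x2_comm hD T hab hcd hbc had s t)
  br a b c hab hbc hac s t := by
    apply Subtype.ext
    have h := x2_commutator hD T hab hbc hac s t
    rw [commutatorElement_def] at h ⊢
    exact h

theorem x3_01 (hD : InList D) (i j k : ℕ) : x3 (F := F) hD i j k 0 1 = X hD i := by
  funext t; simp [x3, rt, sg]

theorem x3_12 (hD : InList D) (i j k : ℕ) : x3 (F := F) hD i j k 1 2 = X hD j := by
  funext t; simp [x3, rt, sg]

theorem x3_10 (hD : InList D) (i j k : ℕ) : x3 (F := F) hD i j k 1 0 = X hD (D.neg i) := by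
  funext t; simp [x3, rt, sg]

theorem x3_21 (hD : InList D) (i j k : ℕ) : x3 (F := F) hD i j k 2 1 = X hD (D.neg j) := by
  funext t; simp [x3, rt, sg]

/-- The tables of a simply laced datum. -/
structure SLTab (D : ChevalleyDatum) (n : ℕ) (adj : Fin n → Fin n → Prop) : Prop where
  rank : D.rank = n
  pos : 0 < n
  edge : ∀ i j : Fin n, adj i j → ∃ k, A2Tab D (D.simple i) (D.simple j) k
  non : ∀ i j : Fin n, i ≠ j → ¬ adj i j → ¬ adj j i →
    NilTab D (D.simple i) (D.simple j) ∧ NilTab D (D.simple i) (D.neg (D.simple j)) ∧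
    NilTab D (D.neg (D.simple i)) (D.simple j) ∧ NilTab D (D.neg (D.simple i)) (D.neg (D.simple j))

/-- The Chevalley group of a simply laced datum as `SLData`. -/
noncomputable def slData (hD : InList D) {n : ℕ} {adj : Fin n → Fin n → Prop} (T : SLTab D n adj)
    (F : Type u) [Field F] : SLData ↥(D.group F) F n adj where
  xp i t := X hD (D.simple i) t
  xm i t := X hD (D.neg (D.simple i)) t
  st3 i j hij := by
    obtain ⟨k, hk⟩ := T.edge i j hij
    exact ⟨x3 hD _ _ k, x3_stein hD hk, x3_01 hD _ _ k, x3_10 hD _ _ k, x3_12 hD _ _ k, x3_21 hD _ _ k⟩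
  comm i j hij h1 h2 s t := by
    obtain ⟨a, b, c, d⟩ := T.non i j hij h1 h2
    exact ⟨X_commute hD a s t, X_commute hD b s t, X_commute hD c s t, X_commute hD d s t⟩
  gen := by
    have hr := T.rank
    apply closure_simple hD
    · intro i hi t
      exact Subgroup.subset_closure ⟨⟨i, hr ▸ hi⟩, t, Or.inl rfl⟩
    · intro i hi t
      exact Subgroup.subset_closure ⟨⟨i, hr ▸ hi⟩, t, Or.inr rfl⟩
  Bor := B F D
  Bor_ne := B_ne_top hD (by rw [T.rank]; exact T.pos)
  xp_mem i t := X_simple_mem hD (by rw [T.rank]; exact i.2) t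
  hh_mem i t ht := by
    have := h_mem (F := F) hD (i := i) (by rw [T.rank]; exact i.2) ht one_ne_zero
    simpa [hh, nn] using this

/-- The edges of the diagrams `E_n`. -/
def adjE (n : ℕ) (i j : Fin n) : Prop :=
  ((i : ℕ), (j : ℕ)) ∈ [(0, 2), (1, 3), (2, 3), (3, 4), (4, 5), (5, 6), (6, 7)]

instance (n : ℕ) (i j : Fin n) : Decidable (adjE n i j) := by
  unfold adjE; infer_instance

theorem E6_non : ∀ i j : Fin 6, i ≠ j → ¬ adjE 6 i j → ¬ adjE 6 j i →
    NilTab chevE6 (chevE6.simple i) (chevE6.simple j) ∧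
    NilTab chevE6 (chevE6.simple i) (chevE6.neg (chevE6.simple j)) ∧
    NilTab chevE6 (chevE6.neg (chevE6.simple i)) (chevE6.simple j) ∧
    NilTab chevE6 (chevE6.neg (chevE6.simple i)) (chevE6.neg (chevE6.simple j)) := by
  decide +kernel

theorem E7_non : ∀ i j : Fin 7, i ≠ j → ¬ adjE 7 i j → ¬ adjE 7 j i →
    NilTab chevE7 (chevE7.simple i) (chevE7.simple j) ∧
    NilTab chevE7 (chevE7.simple i) (chevE7.neg (chevE7.simple j)) ∧
    NilTab chevE7 (chevE7.neg (chevE7.simple i)) (chevE7.simple j) ∧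
    NilTab chevE7 (chevE7.neg (chevE7.simple i)) (chevE7.neg (chevE7.simple j)) := by
  decide +kernel

theorem E8_non : ∀ i j : Fin 8, i ≠ j → ¬ adjE 8 i j → ¬ adjE 8 j i →
    NilTab chevE8 (chevE8.simple i) (chevE8.simple j) ∧
    NilTab chevE8 (chevE8.simple i) (chevE8.neg (chevE8.simple j)) ∧
    NilTab chevE8 (chevE8.neg (chevE8.simple i)) (chevE8.simple j) ∧
    NilTab chevE8 (chevE8.neg (chevE8.simple i)) (chevE8.neg (chevE8.simple j)) := by
  decide +kernel

/-- First part of `A2Tab`. -/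
def A2a (D : ChevalleyDatum) (i j k : ℕ) : Prop := 
  (∀ a b : Fin 3, a ≠ b → rt D i j k a b < D.nroots)
/-- Second part of `A2Tab`. -/
def A2b (D : ChevalleyDatum) (i j k : ℕ) : Prop := 
  (∀ a b c : Fin 3, a ≠ b ∧ b ≠ c ∧ a ≠ c →
    rt D i j k b c ≠ rt D i j k a b ∧ rt D i j k b c ≠ D.neg (rt D i j k a b) ∧
    D.commTerms (rt D i j k a b) (rt D i j k b c) = [(rt D i j k a c, sg a b * sg b c * sg a c, 1, 1)])
/-- Third part of `A2Tab`. -/
def A2c (D : ChevalleyDatum) (i j k : ℕ) : Prop := 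
  (∀ a b c d : Fin 3, a ≠ b ∧ c ≠ d ∧ b ≠ c ∧ a ≠ d ∧ ¬ (a = c ∧ b = d) →
    rt D i j k c d ≠ rt D i j k a b ∧ rt D i j k c d ≠ D.neg (rt D i j k a b) ∧
    D.commTerms (rt D i j k a b) (rt D i j k c d) = [])

instance (D : ChevalleyDatum) (i j k : ℕ) : Decidable (A2a D i j k) := by unfold A2a; infer_instance
instance (D : ChevalleyDatum) (i j k : ℕ) : Decidable (A2b D i j k) := by unfold A2b; infer_instance
instance (D : ChevalleyDatum) (i j k : ℕ) : Decidable (A2c D i j k) := by unfold A2c; infer_instance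

theorem A2Tab_iff (D : ChevalleyDatum) (i j k : ℕ) : A2a D i j k ∧ A2b D i j k ∧ A2c D i j k ↔ A2Tab D i j k := Iff.rfl

instance (D : ChevalleyDatum) (i j k : ℕ) : Decidable (A2Tab D i j k) :=
  decidable_of_iff _ (A2Tab_iff D i j k)

/-- The third roots `k = i + j` of the edges (indexed by the first node of the edge). -/
def kE6 (i : ℕ) : ℕ := [57, 47, 43, 40, 38].getD i 0
/-- See `kE6`. -/
def kE7 (i : ℕ) : ℕ := [94, 79, 74, 70, 67, 65].getD i 0
/-- See `kE6`. -/
def kE8 (i : ℕ) : ℕ := [163, 142, 136, 131, 127, 124, 122].getD i 0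

theorem E6_edge : ∀ i j : Fin 6, adjE 6 i j → A2Tab chevE6 (chevE6.simple i) (chevE6.simple j) (kE6 i) := by
  decide +kernel

theorem E7_edge : ∀ i j : Fin 7, adjE 7 i j → A2Tab chevE7 (chevE7.simple i) (chevE7.simple j) (kE7 i) := by
  decide +kernel

theorem E8_edge : ∀ i j : Fin 8, adjE 8 i j → A2Tab chevE8 (chevE8.simple i) (chevE8.simple j) (kE8 i) := by
  decide +kernel

theorem E6_tab : SLTab chevE6 6 (adjE 6) := ⟨rfl, by decide, fun i j h => ⟨_, E6_edge i j h⟩, E6_non⟩
theorem E7_tab : SLTab chevE7 7 (adjE 7) := ⟨rfl, by decide, fun i j h => ⟨_, E7_edge i j h⟩, E7_non⟩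
theorem E8_tab : SLTab chevE8 8 (adjE 8) := ⟨rfl, by decide, fun i j h => ⟨_, E8_edge i j h⟩, E8_non⟩

theorem E6_mem : InList chevE6 := by simp [InList]
theorem E7_mem : InList chevE7 := by simp [InList]
theorem E8_mem : InList chevE8 := by simp [InList]

/-- `E₆(F)` as a model. -/
noncomputable def dataE6 (F : Type u) [Field F] : SLData ↥(chevE6.group F) F 6 (adjE 6) := slData E6_mem E6_tab F

/-- `E₇(F)` as a model. -/
noncomputable def dataE7 (F : Type u) [Field F] : SLData ↥(chevE7.group F) F 7 (adjE 7) := slData E7_mem E7_tab F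

/-- `E₈(F)` as a model. -/
noncomputable def dataE8 (F : Type u) [Field F] : SLData ↥(chevE8.group F) F 8 (adjE 8) := slData E8_mem E8_tab F

theorem simpleE6 (F : Type u) [Field F] : IsSimpleGroup ↥(chevE6.group F) :=
  (Cfsg.Agent.S1054.result chevE6 (by simp)).1

theorem simpleE7 (F : Type u) [Field F] : IsSimpleGroup ↥(chevE7.group F) :=
  (Cfsg.Agent.S1054.result chevE7 (by simp)).1

theorem simpleE8 (F : Type u) [Field F] : IsSimpleGroup ↥(chevE8.group F) :=
  (Cfsg.Agent.S1054.result chevE8 (by simp)).1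

end Cfsg.Agent.TitsThree.KExcBase
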