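import Cfsg.Agent.LieClassical.SLGen
/-!
K side of type `A_n` (S1143, PART 6): root elements of `PSL_{n+1}(F)`, the Steinberg relations,
generation by the simple root elements, and a proper subgroup (the image of the group of upper
triangular matrices) containing all positive root elements and all the `h` elements.
-/

set_option autoImplicit false

namespace Cfsg.Agent.TitsThree.KSideA

open Matrix
open scoped commutatorElement
open Cfsg.Agent.LieClassical.SLGen

section SL

variable {ι F : Type*} [Field F] [DecidableEq ι] [Fintype ι]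

/-- The element `1 + t E_ab` of `SL ι F` (`1` if `a = b`). -/
noncomputable def tv (a b : ι) (t : F) : SpecialLinearGroup ι F :=
  if h : a ≠ b then SpecialLinearGroup.transvection h t else 1

theorem tv_of_ne {a b : ι} (h : a ≠ b) (t : F) : tv a b t = SpecialLinearGroup.transvection h t :=
  dif_pos h

theorem tv_add (a b : ι) (s t : F) : tv a b (s + t) = tv a b s * tv a b t := by
  by_cases h : a = b
  · simp [tv, h]
  · rw [tv_of_ne h, tv_of_ne h, tv_of_ne h]
    apply smul_ext
    intro v
    simp only [mul_smul, transvection_smul]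
    ext l
    by_cases hl : l = a
    · subst hl
      simp [Ne.symm h]
      ring
    · simp [hl, Ne.symm h]

@[simp] theorem tv_zero (a b : ι) : tv a b (0 : F) = 1 := by
  have := tv_add a b (0 : F) 0
  rw [add_zero] at this
  exact left_eq_mul.1 this

theorem tv_neg (a b : ι) (t : F) : tv a b (-t) = (tv a b t)⁻¹ := by
  rw [eq_inv_iff_mul_eq_one, ← tv_add, neg_add_cancel, tv_zero]

theorem tv_comm {a b c : ι} (hab : a ≠ b) (hbc : b ≠ c) (hac : a ≠ c) (s t : F) :
    ⁅tv a b s, tv b c t⁆ = tv a c (s * t) := by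
  rw [tv_of_ne hab, tv_of_ne hbc, tv_of_ne hac]
  exact commutator_transvection hac hab hbc s t

theorem tv_commute {a b c d : ι} (hbc : b ≠ c) (had : a ≠ d) (s t : F) :
    Commute (tv a b s) (tv c d t) := by
  by_cases hab : a = b
  · subst hab; simp [tv]
  by_cases hcd : c = d
  · subst hcd; simp [tv]
  rw [tv_of_ne hab, tv_of_ne hcd]
  apply smul_ext
  intro v
  simp only [mul_smul, transvection_smul]
  ext l
  simp only [Pi.add_apply, Pi.smul_apply, smul_eq_mul, Pi.single_apply, hbc, Ne.symm had,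
    if_false, mul_zero, add_zero]
  ring

theorem tv_mem_closure (S : Set (SpecialLinearGroup ι F)) (h : ∀ a b t, tv a b t ∈ Subgroup.closure S) :
    Subgroup.closure S = ⊤ := by
  rw [eq_top_iff, ← closure_transvections (ι := ι) (F := F), Subgroup.closure_le]
  rintro A ⟨i, j, hij, c, rfl⟩
  rw [← tv_of_ne hij]
  exact h i j c

theorem diag2n_eq {a b : ι} (h : a ≠ b) (t : F) (ht : t ≠ 0) :
    SpecialLinearGroup.diag2n h t ht =
      (tv a b t * tv b a (-t⁻¹) * tv a b t) * (tv a b 1 * tv b a (-1) * tv a b 1)⁻¹ := by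
  rw [diag2n_decompose, _root_.mul_inv_rev, _root_.mul_inv_rev, ← tv_neg, ← tv_neg]
  simp only [tv_of_ne h, tv_of_ne h.symm, neg_neg, mul_assoc]

end SL

section Gen

variable {n : ℕ} {F G : Type*} [Field F] [Group G]

/-- A subgroup containing the simple root elements contains all root elements. -/
theorem mem_of_simple (X : Fin (n + 1) → Fin (n + 1) → F → G)
    (hc : ∀ a b c, a ≠ b → b ≠ c → a ≠ c → ∀ s t, ⁅X a b s, X b c t⁆ = X a c (s * t))
    (H : Subgroup G) (hp : ∀ (i : Fin n) t, X i.castSucc i.succ t ∈ H)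
    (hm : ∀ (i : Fin n) t, X i.succ i.castSucc t ∈ H) (a b : Fin (n + 1)) (hab : a ≠ b) (t : F) :
    X a b t ∈ H := by
  have hcH : ∀ a b c, a ≠ b → b ≠ c → a ≠ c → (∀ t, X a b t ∈ H) → (∀ t, X b c t ∈ H) →
      ∀ t, X a c t ∈ H := by
    intro a b c h1 h2 h3 hx hy t
    rw [← one_mul t, ← hc a b c h1 h2 h3 1 t, commutatorElement_def]
    exact H.mul_mem (H.mul_mem (H.mul_mem (hx _) (hy _)) (H.inv_mem (hx _))) (H.inv_mem (hy _))
  have key : ∀ (d : ℕ) (a b : Fin (n + 1)), (a : ℕ) + d + 1 = b →
      (∀ t, X a b t ∈ H) ∧ (∀ t, X b a t ∈ H) := by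
    intro d
    induction d with
    | zero =>
      intro a b h
      have ha : (a : ℕ) < n := by omega
      have e1 : a = (⟨a, ha⟩ : Fin n).castSucc := rfl
      have e2 : b = (⟨a, ha⟩ : Fin n).succ := by
        apply Fin.ext
        simp
        omega
      rw [e2]
      constructor
      · intro t
        have := hp ⟨a, ha⟩ t
        rwa [← e1] at this
      · intro t
        have := hm ⟨a, ha⟩ t
        rwa [← e1] at this
    | succ d ih =>
      intro a b h
      have hb : (a : ℕ) + d + 1 < n + 1 := by omega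
      let c : Fin (n + 1) := ⟨(a : ℕ) + d + 1, hb⟩
      have h1 := ih a c rfl
      have hb' : (b : ℕ) < n + 1 := b.2
      have hcn : (c : ℕ) < n := by
        change (a : ℕ) + d + 1 < n
        omega
      have e1 : c = (⟨c, hcn⟩ : Fin n).castSucc := rfl
      have e2 : b = (⟨c, hcn⟩ : Fin n).succ := by
        apply Fin.ext
        simp [c]
        omega
      have hac : a ≠ c := by
        intro hh
        have := congrArg Fin.val hh
        simp [c] at this
        omega
      have hcb : c ≠ b := by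
        intro hh
        have := congrArg Fin.val hh
        simp [c] at this
        omega
      have hab : a ≠ b := by
        intro hh
        have := congrArg Fin.val hh
        omega
      have h2 : (∀ t, X c b t ∈ H) ∧ (∀ t, X b c t ∈ H) := by
        rw [e2]
        constructor
        · intro t
          have := hp ⟨c, hcn⟩ t
          rwa [← e1] at this
        · intro t
          have := hm ⟨c, hcn⟩ t
          rwa [← e1] at this
      exact ⟨hcH a c b hac hcb hab h1.1 h2.1, hcH b c a hcb.symm hac.symm hab.symm h2.2 h1.2⟩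
  rcases lt_or_gt_of_ne hab with h | h
  · exact (key (b - a - 1) a b (by have : (a : ℕ) < b := h; omega)).1 t
  · exact (key (a - b - 1) b a (by have : (b : ℕ) < a := h; omega)).2 t

end Gen

section Borel

variable {n : ℕ} {F : Type*} [Field F]

/-- Upper triangular matrices of determinant one. -/
def upperSL (n : ℕ) (F : Type*) [Field F] : Subgroup (SpecialLinearGroup (Fin (n + 1)) F) where
  carrier := {A | A.1.BlockTriangular id}
  mul_mem' {A B} hA hB := by
    change (A.1 * B.1).BlockTriangular id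
    exact hA.mul hB
  one_mem' := Matrix.blockTriangular_one
  inv_mem' {A} hA := by
    change (A⁻¹).1.BlockTriangular id
    have h1 : (A⁻¹).1 = A.1⁻¹ := by
      have : A.1 * (A⁻¹).1 = 1 := by
        have h0 := congrArg Subtype.val (mul_inv_cancel A)
        exact h0
      exact (Matrix.inv_eq_right_inv this).symm
    rw [h1]
    have : Invertible A.1 := Matrix.invertibleOfIsUnitDet _ (by rw [A.2]; exact isUnit_one)
    exact Matrix.blockTriangular_inv_of_blockTriangular hA

theorem mem_upperSL {A : SpecialLinearGroup (Fin (n + 1)) F} :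
    A ∈ upperSL n F ↔ ∀ i j, j < i → A.1 i j = 0 := Iff.rfl

theorem center_le_upperSL :
    Subgroup.center (SpecialLinearGroup (Fin (n + 1)) F) ≤ upperSL n F := by
  intro A hA
  obtain ⟨r, _, hr⟩ := Matrix.SpecialLinearGroup.mem_center_iff.1 hA
  rw [mem_upperSL]
  intro i j hij
  rw [← hr]
  simp [Matrix.scalar_apply, (ne_of_lt hij).symm]

theorem tv_mem_upperSL {a b : Fin (n + 1)} (h : a < b) (t : F) : tv a b t ∈ upperSL n F := by
  rw [tv_of_ne (ne_of_lt h), mem_upperSL]
  intro i j hij
  change ((1 : Matrix (Fin (n + 1)) (Fin (n + 1)) F) + single a b t) i j = 0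
  rw [Matrix.add_apply, Matrix.one_apply_ne (ne_of_lt hij).symm, zero_add, Matrix.single_apply]
  rw [if_neg]
  rintro ⟨rfl, rfl⟩
  exact absurd hij (not_lt.2 h.le)

theorem tv_mem_upperSL_iff {a b : Fin (n + 1)} (h : a < b) (t : F) :
    tv b a t ∈ upperSL n F ↔ t = 0 := by
  constructor
  · intro hm
    rw [tv_of_ne (ne_of_lt h).symm, mem_upperSL] at hm
    have h1 := hm b a h
    have h2 : ((1 : Matrix (Fin (n + 1)) (Fin (n + 1)) F) + single b a t) b a = 0 := h1
    rw [Matrix.add_apply, Matrix.one_apply_ne (ne_of_lt h).symm, zero_add,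
      Matrix.single_apply_same] at h2
    exact h2
  · rintro rfl
    rw [tv_zero]
    exact one_mem _

theorem diag2n_mem_upperSL {a b : Fin (n + 1)} (h : a ≠ b) (t : F) (ht : t ≠ 0) :
    SpecialLinearGroup.diag2n h t ht ∈ upperSL n F := by
  rw [mem_upperSL]
  intro i j hij
  exact Matrix.diagonal_apply_ne _ (ne_of_lt hij).symm

end Borel

section PSL

variable {n : ℕ} {F : Type*} [Field F]

/-- The root elements of `PSL_{n+1}(F)`. -/
noncomputable def X (a b : Fin (n + 1)) (t : F) : ProjectiveSpecialLinearGroup (Fin (n + 1)) F :=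
  QuotientGroup.mk (tv a b t)

theorem X_add (a b : Fin (n + 1)) (s t : F) : X a b (s + t) = X a b s * X a b t := by
  rw [X, tv_add]
  rfl

@[simp] theorem X_zero (a b : Fin (n + 1)) : X a b (0 : F) = 1 := by
  rw [X, tv_zero]
  rfl

theorem X_neg (a b : Fin (n + 1)) (t : F) : X a b (-t) = (X a b t)⁻¹ := by
  rw [X, tv_neg]
  rfl

theorem X_comm {a b c : Fin (n + 1)} (hab : a ≠ b) (hbc : b ≠ c) (hac : a ≠ c) (s t : F) :
    ⁅X a b s, X b c t⁆ = X a c (s * t) := by
  rw [X, X, X, ← tv_comm hab hbc hac]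
  rfl

theorem X_commute {a b c d : Fin (n + 1)} (hbc : b ≠ c) (had : a ≠ d) (s t : F) :
    Commute (X a b s) (X c d t) := by
  have h := (tv_commute hbc had s t).eq
  change X a b s * X c d t = X c d t * X a b s
  exact congrArg (QuotientGroup.mk) h

theorem X_comm_eq_one {a b c d : Fin (n + 1)} (hbc : b ≠ c) (had : a ≠ d) (s t : F) :
    ⁅X a b s, X c d t⁆ = 1 :=
  commutatorElement_eq_one_iff_commute.2 (X_commute hbc had s t)

theorem X_injective {a b : Fin (n + 1)} (h : a ≠ b) {s t : F} (hst : X a b s = X a b t) :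
    s = t := by
  have h1 : X a b (s - t) = 1 := by rw [sub_eq_add_neg, X_add, X_neg, hst, mul_inv_cancel]
  have h2 : tv a b (s - t) ∈ Subgroup.center (SpecialLinearGroup (Fin (n + 1)) F) :=
    (QuotientGroup.eq_one_iff _).1 h1
  rw [tv_of_ne h, SpecialLinearGroup.transvection_mem_center_iff] at h2
  exact sub_eq_zero.1 h2

theorem closure_X (H : Subgroup (ProjectiveSpecialLinearGroup (Fin (n + 1)) F))
    (hp : ∀ (i : Fin n) t, X i.castSucc i.succ t ∈ H)
    (hm : ∀ (i : Fin n) t, X i.succ i.castSucc t ∈ H) : H = ⊤ := by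
  have hall := mem_of_simple (X (F := F)) (fun a b c h1 h2 h3 => X_comm h1 h2 h3) H hp hm
  have h1 : H.comap (QuotientGroup.mk' (Subgroup.center (SpecialLinearGroup (Fin (n + 1)) F))) = ⊤ := by
    rw [eq_top_iff, ← closure_transvections (ι := Fin (n + 1)) (F := F), Subgroup.closure_le]
    rintro A ⟨i, j, hij, c, rfl⟩
    rw [← tv_of_ne hij]
    exact hall i j hij c
  rw [eq_top_iff]
  intro g _
  obtain ⟨A, rfl⟩ := QuotientGroup.mk_surjective g
  have h2 : A ∈ H.comap (QuotientGroup.mk' (Subgroup.center (SpecialLinearGroup (Fin (n + 1)) F))) := by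
    rw [h1]; exact Subgroup.mem_top _
  exact h2

/-- The standard Borel subgroup of `PSL_{n+1}(F)`. -/
def borel (n : ℕ) (F : Type*) [Field F] :
    Subgroup (ProjectiveSpecialLinearGroup (Fin (n + 1)) F) :=
  (upperSL n F).map (QuotientGroup.mk' _)

theorem mk_mem_borel {A : SpecialLinearGroup (Fin (n + 1)) F} :
    (QuotientGroup.mk A : ProjectiveSpecialLinearGroup (Fin (n + 1)) F) ∈ borel n F ↔
      A ∈ upperSL n F := by
  constructor
  · rintro ⟨B, hB, h⟩
    have h1 : B⁻¹ * A ∈ Subgroup.center (SpecialLinearGroup (Fin (n + 1)) F) :=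
      QuotientGroup.eq.1 h
    have h2 := (upperSL n F).mul_mem hB (center_le_upperSL h1)
    rwa [mul_inv_cancel_left] at h2
  · intro h
    exact ⟨A, h, rfl⟩

theorem X_mem_borel {a b : Fin (n + 1)} (h : a < b) (t : F) : X a b t ∈ borel n F :=
  mk_mem_borel.2 (tv_mem_upperSL h t)

theorem X_mem_borel_iff {a b : Fin (n + 1)} (h : a < b) (t : F) :
    X b a t ∈ borel n F ↔ t = 0 :=
  mk_mem_borel.trans (tv_mem_upperSL_iff h t)

/-- The elements `h_{ab}(t)` lie in the Borel subgroup. -/
theorem h_mem_borel {a b : Fin (n + 1)} (h : a ≠ b) (t : F) (ht : t ≠ 0) :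
    (X a b t * X b a (-t⁻¹) * X a b t) * (X a b 1 * X b a (-1) * X a b 1)⁻¹ ∈ borel n F := by
  have h1 := mk_mem_borel.2 (diag2n_mem_upperSL h t ht)
  rw [diag2n_eq] at h1
  exact h1

theorem borel_ne_top (hn : 1 ≤ n) : borel n F ≠ ⊤ := by
  intro h
  have h01 : (⟨0, by omega⟩ : Fin (n + 1)) < ⟨1, by omega⟩ := by
    rw [Fin.lt_def]
    exact Nat.zero_lt_one
  have h1 : X (⟨1, by omega⟩ : Fin (n + 1)) ⟨0, by omega⟩ (1 : F) ∈ borel n F := by
    rw [h]; exact Subgroup.mem_top _
  exact one_ne_zero ((X_mem_borel_iff h01 1).1 h1)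

theorem isSimpleGroup (hn : 2 ≤ n) :
    IsSimpleGroup (ProjectiveSpecialLinearGroup (Fin (n + 1)) F) :=
  psl_isSimpleGroup (by rw [Fintype.card_fin]; omega)

end PSL

end Cfsg.Agent.TitsThree.KSideA
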