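import Mathlib
import Cfsg.Agent.TitsThree.KSideA
import Cfsg.Agent.TitsThree.KSideDefs

/-!
# The model `PSL (n+1) F` of type `A_n` as `SLData`
-/

set_option autoImplicit false
set_option linter.unusedVariables false

namespace Cfsg.Agent.TitsThree.KSideInstA

open Cfsg.Agent.TitsThree.KSideDefs Cfsg.Agent.AGraded Matrix Cfsg.Agent.TitsThree.KSideA
open scoped commutatorElement

variable {F : Type*} [Field F]

/-- The diagram `A_n` (oriented edges `i → i+1`). -/
def adjA (n : ℕ) (i j : Fin n) : Prop := (i : ℕ) + 1 = j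

theorem stein (n : ℕ) : SteinRel (X : Fin (n + 1) → Fin (n + 1) → F → _) where
  add i j _ := X_add i j
  comm i j k l _ _ hjk hil a b := (X_commute hjk hil a b).eq
  br i j k hij hjk hik := X_comm hij hjk hik

/-- `PSL (n+1) F` as a model of type `A_n`. -/
noncomputable def data (n : ℕ) (hn : 1 ≤ n) (F : Type*) [Field F] :
    SLData (ProjectiveSpecialLinearGroup (Fin (n + 1)) F) F n (adjA n) where
  xp i t := X i.castSucc i.succ t
  xm i t := X i.succ i.castSucc t
  st3 i j hij := by
    have hij' : (i : ℕ) + 1 = j := hij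
    have hj := j.2
    let f : Fin 3 → Fin (n + 1) := fun a => ⟨i + a, by omega⟩
    have hf : Function.Injective f := by
      intro a b hab
      have := congrArg Fin.val hab
      exact Fin.ext (by simpa [f] using this)
    have e0 : f 0 = i.castSucc := Fin.ext (by simp [f])
    have e1 : f 1 = i.succ := Fin.ext (by simp [f])
    have e1' : f 1 = j.castSucc := Fin.ext (by simp [f, hij'])
    have e2 : f 2 = j.succ := Fin.ext (by simp [f]; omega)
    refine ⟨_, SteinRel.comap (stein (F := F) n) hf, ?_, ?_, ?_, ?_⟩
    · simp only [e0, e1]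
    · simp only [e0, e1]
    · simp only [e1', e2]
    · simp only [e1', e2]
  comm i j hij h1 h2 s t := by
    have h3 : (i : ℕ) ≠ j := fun e => hij (Fin.ext e)
    have h1' : (i : ℕ) + 1 ≠ j := h1
    have h2' : (j : ℕ) + 1 ≠ i := h2
    have a1 : i.castSucc ≠ j.castSucc := fun e => h3 (by simpa using congrArg Fin.val e)
    have a2 : i.castSucc ≠ j.succ := fun e => h2' (by simpa using (congrArg Fin.val e).symm)
    have a3 : i.succ ≠ j.castSucc := fun e => h1' (by simpa using congrArg Fin.val e)
    have a4 : i.succ ≠ j.succ := fun e => h3 (by simpa using congrArg Fin.val e)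
    exact ⟨X_commute a3 a2 _ _, X_commute a4 a1 _ _, X_commute a1 a4 _ _, X_commute a2 a3 _ _⟩
  gen := by
    apply closure_X
    · intro i t
      exact Subgroup.subset_closure ⟨i, t, Or.inl rfl⟩
    · intro i t
      exact Subgroup.subset_closure ⟨i, t, Or.inr rfl⟩
  Bor := borel n F
  Bor_ne := borel_ne_top hn
  xp_mem i t := X_mem_borel (Fin.castSucc_lt_succ) t
  hh_mem i t ht := by
    have := h_mem_borel (n := n) (F := F) (Fin.castSucc_lt_succ (i := i)).ne t ht
    simpa [hh, nn] using this

end Cfsg.Agent.TitsThree.KSideInstA
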