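import Mathlib
import Cfsg.Agent.ChevalleyStructure.OrthHyp
import Cfsg.Agent.TitsThree.KSideDefs

/-!
# Root elements of orthogonal groups with hyperbolic coordinate pairs, and the model `PΩ⁺` of type `D_n`

`rt H a b t : v ↦ v + t v_b e_a - t v_{ā} e_{b̄}` for indices `a`, `b` of hyperbolic coordinate vectors, `b ≠ a, ā`.
-/

set_option autoImplicit false
set_option linter.unusedVariables false
set_option linter.unusedSimpArgs false

namespace Cfsg.Agent.TitsThree.KSideD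

open Cfsg.Agent.TitsThree.KSideDefs Cfsg.Agent.AGraded Matrix Cfsg.Agent.ChevalleyStructure.OrthHyp
open scoped commutatorElement

variable {ι : Type} [Fintype ι] [DecidableEq ι] {F : Type*} [Field F] (H : HypForm ι F)

/-- The pair `(a, b)` of indices defines a root `a - b`. -/
def Ok (a b : ι) : Prop := a ∈ H.P ∧ b ∈ H.P ∧ b ≠ a ∧ b ≠ H.bar a

variable {H}

theorem Ok.bar_ne {a b : ι} (h : Ok H a b) : H.bar b ≠ a := by
  rintro rfl
  exact h.2.2.2 (H.bar_bar b h.2.1).symm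

theorem Ok.bar_ne' {a b : ι} (h : Ok H a b) : H.bar b ≠ H.bar a := by
  intro e
  apply h.2.2.1
  rw [← H.bar_bar b h.2.1, e, H.bar_bar a h.1]

theorem Ok.flip {a b : ι} (h : Ok H a b) : Ok H (H.bar b) (H.bar a) :=
  ⟨H.bar_mem b h.2.1, H.bar_mem a h.1, h.bar_ne'.symm, by rw [H.bar_bar b h.2.1]; exact h.2.2.2.symm⟩

theorem Ok.swap {a b : ι} (h : Ok H a b) : Ok H b a := ⟨h.2.1, h.1, h.2.2.1.symm, h.bar_ne.symm⟩

theorem Ok.hB {a b : ι} (h : Ok H a b) (t : F) :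
    H.B (Pi.single a 1) ((-t) • Pi.single (H.bar b) 1) = 0 := H.B_single_smul_single h.1 h.bar_ne' (-t)

variable (H)

open Classical in
/-- The root elements. -/
noncomputable def rt (a b : ι) (t : F) : GL ι F :=
  if h : Ok H a b then H.sieg (Pi.single a 1) ((-t) • Pi.single (H.bar b) 1) (H.Q_single a h.1) (h.hB t) else 1

variable {H}

theorem rt_act {a b : ι} (h : Ok H a b) (t : F) (v : ι → F) :
    (rt H a b t : Matrix ι ι F) *ᵥ v = v + (t * v b) • Pi.single a 1 - (t * v (H.bar a)) • Pi.single (H.bar b) 1 := by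
  rw [rt, dif_pos h, H.sieg_act, H.sgl_def, H.B_single a h.1, H.B_smul, H.B_single _ (H.bar_mem b h.2.1),
    H.bar_bar b h.2.1, H.Q_smul, H.Q_single _ (H.bar_mem b h.2.1)]
  ext k
  simp only [Pi.add_apply, Pi.sub_apply, Pi.smul_apply, smul_eq_mul]
  ring

theorem rt_mem_O (a b : ι) (t : F) : rt H a b t ∈ H.O := by
  by_cases h : Ok H a b
  · rw [rt, dif_pos h]
    exact H.sieg_mem_O _ _
  · rw [rt, dif_neg h]
    exact one_mem _

theorem rt_mem_E (a b : ι) (t : F) : rt H a b t ∈ H.E := by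
  by_cases h : Ok H a b
  · apply Subgroup.subset_closure
    refine ⟨a, h.1, Set.notMem_empty a, H.bar b, Set.notMem_empty _, h.bar_ne, h.bar_ne', -t, ?_⟩
    intro v
    rw [rt, dif_pos h, H.sieg_act]
  · rw [rt, dif_neg h]
    exact one_mem _

theorem rt_flip {a b : ι} (h : Ok H a b) (t : F) : rt H a b t = rt H (H.bar b) (H.bar a) (-t) := by
  apply ext_act
  intro v
  rw [rt_act h, rt_act h.flip, H.bar_bar b h.2.1, H.bar_bar a h.1]
  ext k
  simp only [Pi.add_apply, Pi.sub_apply, Pi.smul_apply, smul_eq_mul]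
  ring

theorem rt_add (a b : ι) (s t : F) : rt H a b (s + t) = rt H a b s * rt H a b t := by
  by_cases h : Ok H a b
  · apply ext_act
    intro v
    have h1 : H.bar a ≠ a := H.bar_ne a h.1
    have h2 : H.bar b ≠ b := H.bar_ne b h.2.1
    rw [act_mul, rt_act h, rt_act h, rt_act h]
    ext k
    simp only [Pi.add_apply, Pi.sub_apply, Pi.smul_apply, smul_eq_mul, Pi.single_eq_of_ne h.2.2.1,
      Pi.single_eq_of_ne h2.symm, Pi.single_eq_of_ne h1, Pi.single_eq_of_ne h.bar_ne'.symm]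
    ring
  · rw [rt, rt, rt, dif_neg h, dif_neg h, dif_neg h, one_mul]

theorem rt_zero (a b : ι) : rt H a b 0 = 1 := by
  have h := rt_add (H := H) a b 0 0
  rw [add_zero] at h
  exact (left_eq_mul.1 h)

theorem rt_neg (a b : ι) (t : F) : rt H a b (-t) = (rt H a b t)⁻¹ := by
  rw [eq_inv_iff_mul_eq_one, ← rt_add, neg_add_cancel, rt_zero]

theorem rt_commute {a b c d : ι} (hbc : b ≠ c) (had : a ≠ d) (hac : a ≠ H.bar c) (hbd : b ≠ H.bar d) (s t : F) :
    Commute (rt H a b s) (rt H c d t) := by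
  by_cases h : Ok H a b
  swap
  · rw [rt, dif_neg h]; exact Commute.one_left _
  by_cases h' : Ok H c d
  swap
  · rw [rt, rt, dif_neg h']; exact Commute.one_right _
  have hbar : ∀ {x y : ι}, x ∈ H.P → y ∈ H.P → x ≠ y → H.bar x ≠ H.bar y := by
    intro x y hx hy hxy e
    apply hxy
    rw [← H.bar_bar x hx, e, H.bar_bar y hy]
  have hbar2 : ∀ {x y : ι}, x ∈ H.P → y ∈ H.P → x ≠ H.bar y → H.bar x ≠ y := by
    intro x y hx hy hxy e
    apply hxy
    rw [← e, H.bar_bar x hx]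
  have e1 : H.bar a ≠ c := hbar2 h.1 h'.1 hac
  have e2 : H.bar a ≠ H.bar d := hbar h.1 h'.2.1 had
  have e3 : d ≠ H.bar b := (hbar2 h.2.1 h'.2.1 hbd).symm
  have e4 : H.bar c ≠ H.bar b := (hbar h.2.1 h'.1 hbc).symm
  apply ext_act
  intro v
  rw [act_mul, act_mul, rt_act h, rt_act h', rt_act h', rt_act h]
  ext k
  simp only [Pi.add_apply, Pi.sub_apply, Pi.smul_apply, smul_eq_mul, Pi.single_eq_of_ne hbc,
    Pi.single_eq_of_ne hbd, Pi.single_eq_of_ne e1, Pi.single_eq_of_ne e2, Pi.single_eq_of_ne had.symm,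
    Pi.single_eq_of_ne e3, Pi.single_eq_of_ne hac.symm, Pi.single_eq_of_ne e4]
  ring

theorem rt_commute' (a b : ι) (s t : F) : Commute (rt H a b s) (rt H a (H.bar b) t) := by
  by_cases h : Ok H a b
  swap
  · rw [rt, dif_neg h]; exact Commute.one_left _
  have h' : Ok H a (H.bar b) := ⟨h.1, H.bar_mem b h.2.1, h.bar_ne, h.bar_ne'⟩
  have h1 : H.bar a ≠ a := H.bar_ne a h.1
  have h2 : H.bar b ≠ b := H.bar_ne b h.2.1
  apply ext_act
  intro v
  rw [act_mul, act_mul, rt_act h, rt_act h', rt_act h', rt_act h, H.bar_bar b h.2.1]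
  ext k
  simp only [Pi.add_apply, Pi.sub_apply, Pi.smul_apply, smul_eq_mul, Pi.single_eq_of_ne h.2.2.1,
    Pi.single_eq_same, Pi.single_eq_of_ne h1, Pi.single_eq_of_ne h.2.2.2.symm, Pi.single_eq_of_ne h.bar_ne,
    Pi.single_eq_of_ne h.bar_ne'.symm]
  ring

/-- three indices with distinct absolute values -/
def Ok3 (H : HypForm ι F) (a b c : ι) : Prop := Ok H a b ∧ Ok H b c ∧ Ok H a c

theorem rt_br {a b c : ι} (h : Ok3 H a b c) (s t : F) : ⁅rt H a b s, rt H b c t⁆ = rt H a c (s * t) := by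
  obtain ⟨h1, h2, h3⟩ := h
  rw [commutatorElement_def, ← rt_neg, ← rt_neg]
  apply ext_act
  intro v
  rw [act_mul, act_mul, act_mul, rt_act h1, rt_act h2, rt_act h1, rt_act h2, rt_act h3]
  have n1 : H.bar a ≠ a := H.bar_ne a h1.1
  have n2 : H.bar b ≠ b := H.bar_ne b h1.2.1
  have n3 : H.bar c ≠ c := H.bar_ne c h2.2.1
  ext k
  simp only [Pi.add_apply, Pi.sub_apply, Pi.smul_apply, smul_eq_mul, Pi.single_eq_same,
    Pi.single_eq_of_ne n1, Pi.single_eq_of_ne n2, Pi.single_eq_of_ne n3,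
    Pi.single_eq_of_ne n1.symm, Pi.single_eq_of_ne n2.symm, Pi.single_eq_of_ne n3.symm,
    Pi.single_eq_of_ne h1.2.2.1, Pi.single_eq_of_ne h1.2.2.2, Pi.single_eq_of_ne h1.bar_ne, Pi.single_eq_of_ne h1.bar_ne',
    Pi.single_eq_of_ne h1.2.2.1.symm, Pi.single_eq_of_ne h1.2.2.2.symm, Pi.single_eq_of_ne h1.bar_ne.symm,
    Pi.single_eq_of_ne h1.bar_ne'.symm,
    Pi.single_eq_of_ne h2.2.2.1, Pi.single_eq_of_ne h2.2.2.2, Pi.single_eq_of_ne h2.bar_ne, Pi.single_eq_of_ne h2.bar_ne',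
    Pi.single_eq_of_ne h2.2.2.1.symm, Pi.single_eq_of_ne h2.2.2.2.symm, Pi.single_eq_of_ne h2.bar_ne.symm,
    Pi.single_eq_of_ne h2.bar_ne'.symm,
    Pi.single_eq_of_ne h3.2.2.1, Pi.single_eq_of_ne h3.2.2.2, Pi.single_eq_of_ne h3.bar_ne, Pi.single_eq_of_ne h3.bar_ne',
    Pi.single_eq_of_ne h3.2.2.1.symm, Pi.single_eq_of_ne h3.2.2.2.symm, Pi.single_eq_of_ne h3.bar_ne.symm,
    Pi.single_eq_of_ne h3.bar_ne'.symm]
  ring


/-! ### The root elements generate -/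

theorem mem_E_of_rt (hP : ∀ i, i ∈ H.P) (S : Subgroup (GL ι F)) (h : ∀ a b t, Ok H a b → rt H a b t ∈ S) :
    H.E ≤ S := by
  rw [HypForm.E, HypForm.ES, Subgroup.closure_le]
  rintro g ⟨i, hi, _, j, _, hji, hji', t, hg⟩
  have hok : Ok H i (H.bar j) := by
    refine ⟨hi, H.bar_mem j (hP j), ?_, ?_⟩
    · rintro rfl
      exact hji' (H.bar_bar j (hP j)).symm
    · intro e
      exact hji (by rw [← H.bar_bar j (hP j), e, H.bar_bar i hi])
  have : g = rt H i (H.bar j) (-t) := by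
    apply ext_act
    intro v
    rw [hg, rt, dif_pos hok, H.sieg_act, H.bar_bar j (hP j), neg_neg]
  rw [this]
  exact h _ _ _ hok

/-! ### The orthogonal group and its quotient -/

section Quot

variable (H) (hΩ : Cfsg.Omega F H.Q = H.EO)

/-- The root elements in `Ω`. -/
noncomputable def rtO (a b : ι) (t : F) : Cfsg.Omega F H.Q :=
  ⟨⟨rt H a b t, rt_mem_O a b t⟩, by rw [hΩ]; exact rt_mem_E a b t⟩

/-- The root elements in `PΩ`. -/
noncomputable def rtK (a b : ι) (t : F) : Cfsg.POmega F H.Q := QuotientGroup.mk (rtO H hΩ a b t)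

theorem rtO_val (a b : ι) (t : F) : ((rtO H hΩ a b t : Cfsg.isometryGroup F H.Q) : GL ι F) = rt H a b t := rfl

theorem rtK_add (a b : ι) (s t : F) : rtK H hΩ a b (s + t) = rtK H hΩ a b s * rtK H hΩ a b t := by
  have : rtO H hΩ a b (s + t) = rtO H hΩ a b s * rtO H hΩ a b t :=
    Subtype.ext (Subtype.ext (rt_add a b s t))
  rw [rtK, this]
  rfl

theorem rtK_commute_of {a b c d : ι} {s t : F} (h : Commute (rt H a b s) (rt H c d t)) :
    Commute (rtK H hΩ a b s) (rtK H hΩ c d t) := by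
  have : rtO H hΩ a b s * rtO H hΩ c d t = rtO H hΩ c d t * rtO H hΩ a b s :=
    Subtype.ext (Subtype.ext h.eq)
  exact congrArg QuotientGroup.mk this

theorem rtK_flip {a b : ι} (h : Ok H a b) (t : F) : rtK H hΩ a b t = rtK H hΩ (H.bar b) (H.bar a) (-t) := by
  have : rtO H hΩ a b t = rtO H hΩ (H.bar b) (H.bar a) (-t) :=
    Subtype.ext (Subtype.ext (rt_flip h t))
  rw [rtK, this]
  rfl

theorem rtK_br {a b c : ι} (h : Ok3 H a b c) (s t : F) :
    ⁅rtK H hΩ a b s, rtK H hΩ b c t⁆ = rtK H hΩ a c (s * t) := by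
  have : ⁅rtO H hΩ a b s, rtO H hΩ b c t⁆ = rtO H hΩ a c (s * t) :=
    Subtype.ext (Subtype.ext (rt_br h s t))
  rw [rtK, rtK, rtK, ← this]
  rfl

/-- The restriction of the root system to three (signed) indices. -/
theorem stein {f : Fin 3 → ι} (hf : ∀ i j, i ≠ j → Ok H (f i) (f j)) :
    SteinRel fun i j t => rtK H hΩ (f i) (f j) t where
  add i j _ s t := rtK_add H hΩ _ _ s t
  comm i j k l hij hkl hjk hil s t := by
    have h1 := hf i j hij
    have h2 := hf k l hkl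
    have h3 := hf j k hjk
    have h4 := hf i l hil
    refine (rtK_commute_of H hΩ (rt_commute h3.2.2.1.symm h4.2.2.1.symm ?_ ?_ s t)).eq
    · by_cases hik : i = k
      · rw [← hik]; exact (H.bar_ne _ h1.1).symm
      · exact (hf i k hik).bar_ne.symm
    · by_cases hjl : j = l
      · rw [← hjl]; exact (H.bar_ne _ h1.2.1).symm
      · exact (hf j l hjl).bar_ne.symm
  br i j k hij hjk hik s t := rtK_br H hΩ ⟨hf i j hij, hf j k hjk, hf i k hik⟩ s t

/-- If all root elements lie in the subgroup `S` of `PΩ` then `S` is everything. -/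
theorem eq_top_of_rtK (hP : ∀ i, i ∈ H.P) (S : Subgroup (Cfsg.POmega F H.Q))
    (h : ∀ a b t, Ok H a b → rtK H hΩ a b t ∈ S) : S = ⊤ := by
  rw [eq_top_iff]
  rintro g -
  obtain ⟨g, rfl⟩ := QuotientGroup.mk_surjective g
  -- the subgroup of `GL` of elements of `E` whose class lies in `S`
  let T : Subgroup (GL ι F) :=
    { carrier := {x | ∃ (h1 : x ∈ Cfsg.isometryGroup F H.Q) (h2 : (⟨x, h1⟩ : Cfsg.isometryGroup F H.Q) ∈ Cfsg.Omega F H.Q),
        (QuotientGroup.mk (⟨⟨x, h1⟩, h2⟩ : Cfsg.Omega F H.Q) : Cfsg.POmega F H.Q) ∈ S}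
      mul_mem' := by
        rintro a b ⟨h1, h2, h3⟩ ⟨h1', h2', h3'⟩
        exact ⟨mul_mem h1 h1', mul_mem h2 h2', mul_mem h3 h3'⟩
      one_mem' := ⟨one_mem _, one_mem _, one_mem S⟩
      inv_mem' := by
        rintro a ⟨h1, h2, h3⟩
        exact ⟨inv_mem h1, inv_mem h2, inv_mem h3⟩ }
  have h1 : H.E ≤ T := by
    apply mem_E_of_rt hP
    intro a b t hab
    exact ⟨rt_mem_O a b t, (rtO H hΩ a b t).2, h a b t hab⟩
  have h2 : ((g : Cfsg.isometryGroup F H.Q) : GL ι F) ∈ H.E := by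
    have := hΩ.le g.2
    exact this
  obtain ⟨h3, h4, h5⟩ := h1 h2
  exact h5

/-- The stabiliser of the line of the coordinate vector `e_k` in `Ω`. -/
def stab (k : ι) : Subgroup (Cfsg.Omega F H.Q) where
  carrier := {g | ∃ c : F, c ≠ 0 ∧ (((g : Cfsg.isometryGroup F H.Q) : GL ι F) : Matrix ι ι F) *ᵥ Pi.single k 1 = c • Pi.single k 1}
  mul_mem' := by
    rintro a b ⟨c, hc, h⟩ ⟨d, hd, h'⟩
    refine ⟨d * c, mul_ne_zero hd hc, ?_⟩
    show (((a : Cfsg.isometryGroup F H.Q) : GL ι F) * ((b : Cfsg.isometryGroup F H.Q) : GL ι F) : GL ι F).val *ᵥ _ = _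
    rw [act_mul, h', Matrix.mulVec_smul, h, smul_smul]
  one_mem' := ⟨1, one_ne_zero, by rw [one_smul]; exact act_one _⟩
  inv_mem' := by
    rintro a ⟨c, hc, h⟩
    refine ⟨c⁻¹, inv_ne_zero hc, ?_⟩
    have h1 : ((((a : Cfsg.isometryGroup F H.Q) : GL ι F)⁻¹ : GL ι F) : Matrix ι ι F) *ᵥ
        ((((a : Cfsg.isometryGroup F H.Q) : GL ι F) : Matrix ι ι F) *ᵥ Pi.single k 1) =
        ((((a : Cfsg.isometryGroup F H.Q) : GL ι F)⁻¹ : GL ι F) : Matrix ι ι F) *ᵥ (c • Pi.single k 1) := by rw [h]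
    rw [act_inv_act, Matrix.mulVec_smul] at h1
    have h2 := congrArg (fun v => c⁻¹ • v) h1
    simp only [smul_smul, inv_mul_cancel₀ hc, one_smul] at h2
    show ((((a : Cfsg.isometryGroup F H.Q) : GL ι F)⁻¹ : GL ι F) : Matrix ι ι F) *ᵥ _ = _
    exact h2.symm

/-- The image in `PΩ` of the stabiliser of a coordinate line. -/
def bor (k : ι) : Subgroup (Cfsg.POmega F H.Q) := (stab H k).map (QuotientGroup.mk' _)

theorem mem_bor {k : ι} {g : Cfsg.Omega F H.Q} (h : g ∈ stab H k) :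
    (QuotientGroup.mk g : Cfsg.POmega F H.Q) ∈ bor H k := ⟨g, h, rfl⟩

include hΩ in
theorem bor_ne_top {k l : ι} (hkl : Ok H k l) : bor H k ≠ ⊤ := by
  intro htop
  have h1 : rtK H hΩ l k 1 ∈ bor H k := by rw [htop]; exact Subgroup.mem_top _
  obtain ⟨s, hs, hs'⟩ := h1
  have h2 : s⁻¹ * rtO H hΩ l k 1 ∈ Subgroup.center (Cfsg.Omega F H.Q) := QuotientGroup.eq.1 hs'
  obtain ⟨c, hc, hcv⟩ := H.scalar_of_commute hkl.1 hkl.2.1 hkl.2.2.1 hkl.2.2.2
    (g := (((s⁻¹ * rtO H hΩ l k 1 : Cfsg.Omega F H.Q) : Cfsg.isometryGroup F H.Q) : GL ι F))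
    ((s⁻¹ * rtO H hΩ l k 1 : Cfsg.Omega F H.Q) : Cfsg.isometryGroup F H.Q).2 (by
      intro e he
      have heE : e ∈ H.E := Subgroup.subset_closure he
      have heO : e ∈ Cfsg.isometryGroup F H.Q := H.E_le_O heE
      have heΩ : (⟨e, heO⟩ : Cfsg.isometryGroup F H.Q) ∈ Cfsg.Omega F H.Q := by rw [hΩ]; exact heE
      have := Subgroup.mem_center_iff.1 h2 ⟨⟨e, heO⟩, heΩ⟩
      exact (congrArg (fun x : Cfsg.Omega F H.Q => ((x : Cfsg.isometryGroup F H.Q) : GL ι F)) this).symm)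
  have hc0 : c ≠ 0 := by
    rintro rfl
    simp at hc
  have h3 : s⁻¹ * rtO H hΩ l k 1 ∈ stab H k := ⟨c, hc0, hcv _⟩
  have h4 : rtO H hΩ l k 1 ∈ stab H k := by
    have := mul_mem hs h3
    rwa [mul_inv_cancel_left] at this
  obtain ⟨d, hd, h5⟩ := h4
  rw [rtO_val, rt_act hkl.swap] at h5
  have h6 := congrFun h5 l
  have hne : H.bar l ≠ k := hkl.bar_ne
  simp only [Pi.add_apply, Pi.sub_apply, Pi.smul_apply, smul_eq_mul, Pi.single_eq_same,
    Pi.single_eq_of_ne hkl.2.2.1, Pi.single_eq_of_ne hne, mul_one, mul_zero, zero_mul, sub_zero, zero_add] at h6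
  exact one_ne_zero h6

theorem rtO_mem_stab {k a b : ι} (h1 : b ≠ k) (h2 : H.bar a ≠ k) (t : F) : rtO H hΩ a b t ∈ stab H k := by
  refine ⟨1, one_ne_zero, ?_⟩
  rw [rtO_val]
  by_cases h : Ok H a b
  · rw [rt_act h]
    simp [h1, h2]
  · rw [rt, dif_neg h, act_one, one_smul]

/-- `n_{ab}(t)` in `Ω` -/
theorem nn_act {a b : ι} (h : Ok H a b) {t : F} (ht : t ≠ 0) :
    (((nn (rtO H hΩ a b) (rtO H hΩ b a) t : Cfsg.Omega F H.Q) : Cfsg.isometryGroup F H.Q) : GL ι F).val *ᵥ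
      Pi.single b 1 = t • Pi.single a 1 := by
  have n1 : H.bar a ≠ a := H.bar_ne a h.1
  have n2 : H.bar b ≠ b := H.bar_ne b h.2.1
  show (rt H a b t * rt H b a (-t⁻¹) * rt H a b t : GL ι F).val *ᵥ _ = _
  rw [act_mul, act_mul, rt_act h, rt_act h.swap, rt_act h]
  ext k
  simp only [Pi.add_apply, Pi.sub_apply, Pi.smul_apply, smul_eq_mul, Pi.single_eq_same,
    Pi.single_eq_of_ne n1, Pi.single_eq_of_ne n2, Pi.single_eq_of_ne n1.symm, Pi.single_eq_of_ne n2.symm,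
    Pi.single_eq_of_ne h.2.2.1, Pi.single_eq_of_ne h.2.2.2, Pi.single_eq_of_ne h.bar_ne, Pi.single_eq_of_ne h.bar_ne',
    Pi.single_eq_of_ne h.2.2.1.symm, Pi.single_eq_of_ne h.2.2.2.symm, Pi.single_eq_of_ne h.bar_ne.symm,
    Pi.single_eq_of_ne h.bar_ne'.symm]
  field_simp
  ring

theorem hh_mem_stab {a b : ι} (h : Ok H a b) {t : F} (ht : t ≠ 0) :
    hh (rtO H hΩ a b) (rtO H hΩ b a) t ∈ stab H a := by
  refine ⟨t, ht, ?_⟩
  have h1 := nn_act H hΩ h ht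
  have h2 := nn_act H hΩ h (one_ne_zero (α := F))
  show ((((nn (rtO H hΩ a b) (rtO H hΩ b a) t : Cfsg.Omega F H.Q) : Cfsg.isometryGroup F H.Q) : GL ι F) *
    (((nn (rtO H hΩ a b) (rtO H hΩ b a) 1 : Cfsg.Omega F H.Q) : Cfsg.isometryGroup F H.Q) : GL ι F)⁻¹ : GL ι F).val *ᵥ _ = _
  rw [act_mul]
  have h3 : ((((((nn (rtO H hΩ a b) (rtO H hΩ b a) 1 : Cfsg.Omega F H.Q) : Cfsg.isometryGroup F H.Q) : GL ι F)⁻¹ : GL ι F)
      : Matrix ι ι F) *ᵥ Pi.single a 1) = Pi.single b 1 := by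
    rw [one_smul] at h2
    rw [← h2, act_inv_act]
  rw [h3, h1]

theorem nn_mem_stab {k a b : ι} (h1 : b ≠ k) (h2 : H.bar a ≠ k) (h3 : a ≠ k) (h4 : H.bar b ≠ k) (t : F) :
    nn (rtO H hΩ a b) (rtO H hΩ b a) t ∈ stab H k :=
  mul_mem (mul_mem (rtO_mem_stab H hΩ h1 h2 _) (rtO_mem_stab H hΩ h3 h4 _)) (rtO_mem_stab H hΩ h1 h2 _)

theorem hh_mem_bor {k a b : ι} (h : Ok H a b) (hk : a = k ∨ (b ≠ k ∧ H.bar a ≠ k ∧ a ≠ k ∧ H.bar b ≠ k)) {t : F}
    (ht : t ≠ 0) : hh (rtK H hΩ a b) (rtK H hΩ b a) t ∈ bor H k := by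
  have h1 : hh (rtO H hΩ a b) (rtO H hΩ b a) t ∈ stab H k := by
    rcases hk with rfl | ⟨h1, h2, h3, h4⟩
    · exact hh_mem_stab H hΩ h ht
    · exact mul_mem (nn_mem_stab H hΩ h1 h2 h3 h4 t) (inv_mem (nn_mem_stab H hΩ h1 h2 h3 h4 1))
  exact mem_bor H h1

end Quot

end Cfsg.Agent.TitsThree.KSideD
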