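import Mathlib
import Cfsg.Agent.TitsThree.KSideD
import Cfsg.Agent.LieClassical.OrthForms

/-!
# The model `PΩ⁺_{2m}(F)` of type `D_m` as `SLData`

The nodes are `0, …, m-1`; the simple roots are `e_i - e_{i+1}` for `i + 1 < m` and `e_{m-2} + e_{m-1}` for `i = m-1`.
-/

set_option autoImplicit false
set_option linter.unusedVariables false
set_option linter.unusedSimpArgs false

namespace Cfsg.Agent.TitsThree.KSideInstD

open Cfsg.Agent.TitsThree.KSideDefs Cfsg.Agent.AGraded Matrix Cfsg.Agent.ChevalleyStructure.OrthHyp Cfsg.Agent.TitsThree.KSideD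
open scoped commutatorElement

variable {F : Type*} [Field F] {m : ℕ}

/-- The diagram `D_m` (oriented edges). -/
def adjD (m : ℕ) (i j : Fin m) : Prop :=
  ((i : ℕ) + 1 = j ∧ (j : ℕ) + 1 < m) ∨ ((i : ℕ) + 3 = m ∧ (j : ℕ) + 1 = m)

/-- first index of the simple root -/
def sa (hm : 3 ≤ m) (i : Fin m) : Fin m ⊕ Fin m :=
  if (i : ℕ) + 1 < m then Sum.inl i else Sum.inl ⟨m - 2, by omega⟩

/-- second index of the simple root -/
def sb (hm : 3 ≤ m) (i : Fin m) : Fin m ⊕ Fin m :=
  if h : (i : ℕ) + 1 < m then Sum.inl ⟨i + 1, h⟩ else Sum.inr ⟨m - 1, by omega⟩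

theorem mem_P (i : Fin m ⊕ Fin m) : i ∈ (plusForm m F).P := Set.mem_univ _

theorem bar_inl (i : Fin m) : (plusForm m F).bar (Sum.inl i) = Sum.inr i := rfl

theorem bar_inr (i : Fin m) : (plusForm m F).bar (Sum.inr i) = Sum.inl i := rfl

theorem ok_iff {a b : Fin m ⊕ Fin m} : Ok (plusForm m F) a b ↔ b ≠ a ∧ b ≠ (plusForm m F).bar a :=
  ⟨fun h => ⟨h.2.2.1, h.2.2.2⟩, fun h => ⟨mem_P _, mem_P _, h.1, h.2⟩⟩

theorem ok_ll {i j : Fin m} (h : i ≠ j) : Ok (plusForm m F) (Sum.inl i) (Sum.inl j) := by
  rw [ok_iff, bar_inl]; exact ⟨by simpa using h.symm, by simp⟩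

theorem ok_lr {i j : Fin m} (h : i ≠ j) : Ok (plusForm m F) (Sum.inl i) (Sum.inr j) := by
  rw [ok_iff, bar_inl]; exact ⟨by simp, by simpa using h.symm⟩

theorem ok_rl {i j : Fin m} (h : i ≠ j) : Ok (plusForm m F) (Sum.inr i) (Sum.inl j) := by
  rw [ok_iff, bar_inr]; exact ⟨by simp, by simpa using h.symm⟩

theorem ok_rr {i j : Fin m} (h : i ≠ j) : Ok (plusForm m F) (Sum.inr i) (Sum.inr j) := by
  rw [ok_iff, bar_inr]; exact ⟨by simpa using h.symm, by simp⟩

theorem ok_simple (hm : 3 ≤ m) (i : Fin m) : Ok (plusForm m F) (sa hm i) (sb hm i) := by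
  unfold sa sb
  split_ifs with h
  · exact ok_ll (fun e => by have := congrArg Fin.val e; simp at this)
  · exact ok_lr (fun e => by have := congrArg Fin.val e; simp at this; omega)

variable (F) in
/-- The root elements of `PΩ⁺`. -/
noncomputable def X (hm : 3 ≤ m) (a b : Fin m ⊕ Fin m) (t : F) : Cfsg.POmega F (Cfsg.quadFormPlus m F) :=
  rtK (plusForm m F) (omega_plus m hm F) a b t

theorem X_add (hm : 3 ≤ m) (a b : Fin m ⊕ Fin m) (s t : F) : X F hm a b (s + t) = X F hm a b s * X F hm a b t :=
  rtK_add _ _ a b s t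

theorem X_flip (hm : 3 ≤ m) {a b : Fin m ⊕ Fin m} (h : Ok (plusForm m F) a b) (t : F) :
    X F hm a b t = X F hm ((plusForm m F).bar b) ((plusForm m F).bar a) (-t) := rtK_flip _ _ h t

theorem X_br (hm : 3 ≤ m) {a b c : Fin m ⊕ Fin m} (h1 : Ok (plusForm m F) a b) (h2 : Ok (plusForm m F) b c)
    (h3 : Ok (plusForm m F) a c) (s t : F) : ⁅X F hm a b s, X F hm b c t⁆ = X F hm a c (s * t) :=
  rtK_br _ _ ⟨h1, h2, h3⟩ s t

/-- The simple root elements generate. -/
theorem eq_top (hm : 3 ≤ m) (S : Subgroup (Cfsg.POmega F (Cfsg.quadFormPlus m F)))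
    (hp : ∀ i t, X F hm (sa hm i) (sb hm i) t ∈ S) (hn : ∀ i t, X F hm (sb hm i) (sa hm i) t ∈ S) : S = ⊤ := by
  have hbr : ∀ a b c, Ok (plusForm m F) a b → Ok (plusForm m F) b c → Ok (plusForm m F) a c →
      (∀ t, X F hm a b t ∈ S) → (∀ t, X F hm b c t ∈ S) → ∀ t, X F hm a c t ∈ S := by
    intro a b c h1 h2 h3 h4 h5 t
    have := X_br hm h1 h2 h3 t 1
    rw [mul_one] at this
    rw [← this, commutatorElement_def]
    exact mul_mem (mul_mem (mul_mem (h4 t) (h5 1)) (inv_mem (h4 t))) (inv_mem (h5 1))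
  have hfl : ∀ a b, Ok (plusForm m F) a b → (∀ t, X F hm a b t ∈ S) →
      ∀ t, X F hm ((plusForm m F).bar b) ((plusForm m F).bar a) t ∈ S := by
    intro a b h h1 t
    have := h1 (-t)
    rwa [X_flip hm h, neg_neg] at this
  -- the roots `e_i - e_j`
  have key : ∀ d : ℕ, ∀ i j : Fin m, (i : ℕ) + d + 1 = j → (∀ t, X F hm (.inl i) (.inl j) t ∈ S) ∧
      (∀ t, X F hm (.inl j) (.inl i) t ∈ S) := by
    intro d
    induction d with
    | zero =>
      intro i j hij
      have hi : (i : ℕ) + 1 < m := by have := j.2; omega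
      have e1 : sa hm i = Sum.inl i := by rw [sa, if_pos hi]
      have e2 : sb hm i = Sum.inl j := by
        rw [sb, dif_pos hi]
        exact congrArg Sum.inl (Fin.ext (by simp; omega))
      have h1 := hp i
      have h2 := hn i
      rw [e1, e2] at h1 h2
      exact ⟨h1, h2⟩
    | succ d ih =>
      intro i j hij
      have hj := j.2
      let k : Fin m := ⟨i + d + 1, by omega⟩
      have hik : i ≠ k := fun e => by have := congrArg Fin.val e; simp [k] at this; omega
      have hkj : k ≠ j := fun e => by have := congrArg Fin.val e; simp [k] at this; omega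
      have hij' : i ≠ j := fun e => by have := congrArg Fin.val e; omega
      have h1 := ih i k rfl
      have hk : (k : ℕ) + 1 < m := by simp [k]; omega
      have e1 : sa hm k = Sum.inl k := by rw [sa, if_pos hk]
      have e2 : sb hm k = Sum.inl j := by
        rw [sb, dif_pos hk]
        exact congrArg Sum.inl (Fin.ext (by simp [k]; omega))
      have h2 := hp k
      have h3 := hn k
      rw [e1, e2] at h2 h3
      exact ⟨hbr _ _ _ (ok_ll hik) (ok_ll hkj) (ok_ll hij') h1.1 h2,
        hbr _ _ _ (ok_ll hkj.symm) (ok_ll hik.symm) (ok_ll hij'.symm) h3 h1.2⟩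
  have hll : ∀ i j : Fin m, i ≠ j → ∀ t, X F hm (.inl i) (.inl j) t ∈ S := by
    intro i j hij
    rcases lt_or_gt_of_ne hij with hlt | hlt
    · exact (key (j - i - 1) i j (by have := Fin.lt_def.1 hlt; omega)).1
    · exact (key (i - j - 1) j i (by have := Fin.lt_def.1 hlt; omega)).2
  have hrr : ∀ i j : Fin m, i ≠ j → ∀ t, X F hm (.inr i) (.inr j) t ∈ S := fun i j hij =>
    hfl _ _ (ok_ll hij.symm) (hll j i hij.symm)
  -- the roots `± (e_i + e_j)`
  let p : Fin m := ⟨m - 2, by omega⟩
  let q : Fin m := ⟨m - 1, by omega⟩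
  have hpq : p ≠ q := fun e => by have := congrArg Fin.val e; simp [p, q] at this; omega
  have hq : ¬ ((q : ℕ) + 1 < m) := by simp [q]; omega
  have e1 : sa hm q = Sum.inl p := by rw [sa, if_neg hq]
  have e2 : sb hm q = Sum.inr q := by rw [sb, dif_neg hq]
  have h0 : ∀ t, X F hm (.inl p) (.inr q) t ∈ S := by
    have := hp q
    rwa [e1, e2] at this
  have h0' : ∀ t, X F hm (.inr q) (.inl p) t ∈ S := by
    have := hn q
    rwa [e1, e2] at this
  have hA : ∀ i : Fin m, i ≠ p → i ≠ q → ∀ t, X F hm (.inl i) (.inr q) t ∈ S := fun i hi hi' =>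
    hbr _ _ _ (ok_ll hi) (ok_lr hpq) (ok_lr hi') (hll i p hi) h0
  have hA' : ∀ i : Fin m, i ≠ p → i ≠ q → ∀ t, X F hm (.inr q) (.inl i) t ∈ S := fun i hi hi' =>
    hbr _ _ _ (ok_rl hpq.symm) (ok_ll hi.symm) (ok_rl hi'.symm) h0' (hll p i hi.symm)
  have hlr : ∀ i j : Fin m, i ≠ j → ∀ t, X F hm (.inl i) (.inr j) t ∈ S := by
    intro i j hij
    by_cases hiq : i = q
    · subst hiq
      -- flip
      by_cases hjp : j = p
      · subst hjp
        exact hfl _ _ (ok_lr hpq) h0
      · exact hfl _ _ (ok_lr hij.symm) (hA j hjp hij.symm)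
    · have hiQ : ∀ t, X F hm (.inl i) (.inr q) t ∈ S := by
        by_cases hip : i = p
        · rw [hip]; exact h0
        · exact hA i hip hiq
      by_cases hjq : j = q
      · rw [hjq]; exact hiQ
      · exact hbr _ _ _ (ok_lr hiq) (ok_rr (Ne.symm hjq)) (ok_lr hij) hiQ (hrr q j (Ne.symm hjq))
  have hrl : ∀ i j : Fin m, i ≠ j → ∀ t, X F hm (.inr i) (.inl j) t ∈ S := by
    intro i j hij
    by_cases hjq : j = q
    · subst hjq
      by_cases hip : i = p
      · subst hip
        exact hfl _ _ (ok_rl hpq.symm) h0'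
      · exact hfl _ _ (ok_rl hij.symm) (hA' i hip hij)
    · have hjQ : ∀ t, X F hm (.inr q) (.inl j) t ∈ S := by
        by_cases hjp : j = p
        · rw [hjp]; exact h0'
        · exact hA' j hjp hjq
      by_cases hiq : i = q
      · rw [hiq]; exact hjQ
      · exact hbr _ _ _ (ok_rr hiq) (ok_rl (Ne.symm hjq)) (ok_rl hij) (hrr i q hiq) hjQ
  refine eq_top_of_rtK (plusForm m F) (omega_plus m hm F) (fun i => mem_P i) S ?_
  intro a b t hab
  rw [ok_iff] at hab
  rcases a with i | i <;> rcases b with j | j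
  · exact hll i j (fun e => hab.1 (by rw [e])) t
  · exact hlr i j (fun e => hab.2 (by rw [e]; rfl)) t
  · exact hrl i j (fun e => hab.2 (by rw [e]; rfl)) t
  · exact hrr i j (fun e => hab.1 (by rw [e])) t

theorem st3_of (hm : 3 ≤ m) (f : Fin 3 → Fin m ⊕ Fin m) (hf : ∀ i j, i ≠ j → Ok (plusForm m F) (f i) (f j)) :
    SteinRel fun i j t => X F hm (f i) (f j) t := stein _ _ hf

/-- commutation of two roots with disjoint supports -/
theorem X_commute (hm : 3 ≤ m) {a b c d : Fin m ⊕ Fin m} (hbc : b ≠ c) (had : a ≠ d) (hac : a ≠ (plusForm m F).bar c)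
    (hbd : b ≠ (plusForm m F).bar d) (s t : F) : Commute (X F hm a b s) (X F hm c d t) :=
  rtK_commute_of _ _ (rt_commute hbc had hac hbd s t)

theorem X_commute' (hm : 3 ≤ m) (a b : Fin m ⊕ Fin m) (s t : F) :
    Commute (X F hm a b s) (X F hm a ((plusForm m F).bar b) t) := rtK_commute_of _ _ (rt_commute' a b s t)


theorem X_special (hm : 3 ≤ m) {a b : Fin m ⊕ Fin m} (h : Ok (plusForm m F) a b) (s t : F) :
    Commute (X F hm a b s) (X F hm a ((plusForm m F).bar b) t) ∧
    Commute (X F hm a b s) (X F hm ((plusForm m F).bar b) a t) ∧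
    Commute (X F hm b a s) (X F hm a ((plusForm m F).bar b) t) ∧
    Commute (X F hm b a s) (X F hm ((plusForm m F).bar b) a t) := by
  have hbb : ∀ c, (plusForm m F).bar ((plusForm m F).bar c) = c := fun c => (plusForm m F).bar_bar c (mem_P c)
  have hok : Ok (plusForm m F) a ((plusForm m F).bar b) := by
    rw [ok_iff]
    exact ⟨h.bar_ne, h.bar_ne'⟩
  refine ⟨X_commute' hm a b s t, ?_, ?_, ?_⟩
  · have := X_commute' (F := F) hm ((plusForm m F).bar b) ((plusForm m F).bar a) (-s) t
    rw [hbb] at this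
    rwa [X_flip hm h]
  · have := X_commute' (F := F) hm b a s (-t)
    rw [X_flip hm hok, hbb]
    exact this
  · have := X_commute' (F := F) hm ((plusForm m F).bar a) ((plusForm m F).bar b) (-s) (-t)
    rw [hbb] at this
    rw [X_flip hm h.swap, X_flip hm hok.swap, hbb]
    exact this

/-- `PΩ⁺_{2m}(F)` as a model of type `D_m`. -/
noncomputable def data (hm : 3 ≤ m) (F : Type*) [Field F] :
    SLData (Cfsg.POmega F (Cfsg.quadFormPlus m F)) F m (adjD m) where
  xp i t := X F hm (sa hm i) (sb hm i) t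
  xm i t := X F hm (sb hm i) (sa hm i) t
  st3 i j hij := by
    have hj := j.2
    have hi := i.2
    rcases hij with ⟨h1, h2⟩ | ⟨h1, h2⟩
    · let f : Fin 3 → Fin m := fun a => ⟨i + a, by omega⟩
      have hf : Function.Injective f := by
        intro a b hab
        have := congrArg Fin.val hab
        exact Fin.ext (by simpa [f] using this)
      have e0 : f 0 = i := Fin.ext (by simp [f])
      have e1 : f 1 = j := Fin.ext (by simp [f]; omega)
      have e2 : f 2 = ⟨j + 1, h2⟩ := Fin.ext (by simp [f]; omega)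
      have si : sa hm i = .inl (f 0) := by rw [sa, if_pos (by omega), e0]
      have ti : sb hm i = .inl (f 1) := by
        rw [sb, dif_pos (by omega), e1]
        exact congrArg Sum.inl (Fin.ext h1)
      have sj : sa hm j = .inl (f 1) := by rw [sa, if_pos (by omega), e1]
      have tj : sb hm j = .inl (f 2) := by rw [sb, dif_pos (by omega), e2]
      refine ⟨_, st3_of (F := F) hm (fun a => .inl (f a)) (fun a b hab => ok_ll (hf.ne hab)), ?_, ?_, ?_, ?_⟩
      · rw [si, ti]
      · rw [si, ti]
      · rw [sj, tj]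
      · rw [sj, tj]
    · let p : Fin m := ⟨m - 2, by omega⟩
      have hip : i ≠ p := fun e => by have := congrArg Fin.val e; simp [p] at this; omega
      have hpj : p ≠ j := fun e => by have := congrArg Fin.val e; simp [p] at this; omega
      have hij : i ≠ j := fun e => by have := congrArg Fin.val e; omega
      let f : Fin 3 → Fin m ⊕ Fin m := ![.inl i, .inl p, .inr j]
      have si : sa hm i = f 0 := by rw [sa, if_pos (by omega)]; rfl
      have ti : sb hm i = f 1 := by
        rw [sb, dif_pos (by omega)]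
        exact congrArg Sum.inl (Fin.ext (by simp [p]; omega))
      have sj : sa hm j = f 1 := by rw [sa, if_neg (by omega)]; rfl
      have tj : sb hm j = f 2 := by
        rw [sb, dif_neg (by omega)]
        exact congrArg Sum.inr (Fin.ext (by simp; omega))
      refine ⟨_, st3_of (F := F) hm f ?_, ?_, ?_, ?_, ?_⟩
      · intro a b hab
        fin_cases a <;> fin_cases b
        · exact absurd rfl hab
        · exact ok_ll hip
        · exact ok_lr hij
        · exact ok_ll hip.symm
        · exact absurd rfl hab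
        · exact ok_lr hpj
        · exact ok_rl hij.symm
        · exact ok_rl hpj.symm
        · exact absurd rfl hab
      · rw [si, ti]
      · rw [si, ti]
      · rw [sj, tj]
      · rw [sj, tj]
  comm := by
    -- the case of two roots `e_i - e_{i+1}`, `e_j ± …`, in one order
    have key : ∀ i j : Fin m, (i : ℕ) < j → ¬ adjD m i j → ∀ s t : F,
        Commute (X F hm (sa hm i) (sb hm i) s) (X F hm (sa hm j) (sb hm j) t) ∧
        Commute (X F hm (sa hm i) (sb hm i) s) (X F hm (sb hm j) (sa hm j) t) ∧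
        Commute (X F hm (sb hm i) (sa hm i) s) (X F hm (sa hm j) (sb hm j) t) ∧
        Commute (X F hm (sb hm i) (sa hm i) s) (X F hm (sb hm j) (sa hm j) t) := by
      intro i j hij hadj s t
      have hj := j.2
      have hi : (i : ℕ) + 1 < m := by omega
      unfold adjD at hadj
      have si : sa hm i = .inl i := by rw [sa, if_pos hi]
      have ti : sb hm i = .inl ⟨i + 1, hi⟩ := by rw [sb, dif_pos hi]
      by_cases h : (j : ℕ) + 1 < m
      · have sj : sa hm j = .inl j := by rw [sa, if_pos h]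
        have tj : sb hm j = .inl ⟨j + 1, h⟩ := by rw [sb, dif_pos h]
        rw [si, ti, sj, tj]
        have d1 : (Sum.inl i : Fin m ⊕ Fin m) ≠ .inl j := fun e => by
          have := congrArg Fin.val (Sum.inl.inj e); omega
        have d2 : (Sum.inl i : Fin m ⊕ Fin m) ≠ .inl ⟨j + 1, h⟩ := fun e => by
          have := congrArg Fin.val (Sum.inl.inj e); simp at this; omega
        have d3 : (Sum.inl ⟨i + 1, hi⟩ : Fin m ⊕ Fin m) ≠ .inl j := fun e => by
          have := congrArg Fin.val (Sum.inl.inj e); simp at this; omega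
        have d4 : (Sum.inl ⟨i + 1, hi⟩ : Fin m ⊕ Fin m) ≠ .inl ⟨j + 1, h⟩ := fun e => by
          have := congrArg Fin.val (Sum.inl.inj e); simp at this; omega
        refine ⟨X_commute hm d3 d2 ?_ ?_ s t, X_commute hm d4 d1 ?_ ?_ s t, X_commute hm d1 d4 ?_ ?_ s t,
          X_commute hm d2 d3 ?_ ?_ s t⟩ <;> rw [bar_inl] <;> exact Sum.inl_ne_inr
      · have sj : sa hm j = .inl ⟨m - 2, by omega⟩ := by rw [sa, if_neg h]
        have tj : sb hm j = .inr ⟨m - 1, by omega⟩ := by rw [sb, dif_neg h]
        by_cases h3 : (i : ℕ) + 2 = m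
        · have e1 : i = ⟨m - 2, by omega⟩ := Fin.ext (by simp; omega)
          have e2 : (⟨i + 1, hi⟩ : Fin m) = ⟨m - 1, by omega⟩ := Fin.ext (by simp; omega)
          rw [si, ti, sj, tj, ← e1, ← e2]
          exact X_special hm (ok_ll (fun e => by have := congrArg Fin.val e; simp at this)) s t
        · rw [si, ti, sj, tj]
          have d1 : (Sum.inl i : Fin m ⊕ Fin m) ≠ .inl ⟨m - 2, by omega⟩ := fun e => by
            have := congrArg Fin.val (Sum.inl.inj e); simp at this; omega
          have d2 : (Sum.inl i : Fin m ⊕ Fin m) ≠ .inl ⟨m - 1, by omega⟩ := fun e => by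
            have := congrArg Fin.val (Sum.inl.inj e); simp at this; omega
          have d3 : (Sum.inl ⟨i + 1, hi⟩ : Fin m ⊕ Fin m) ≠ .inl ⟨m - 2, by omega⟩ := fun e => by
            have := congrArg Fin.val (Sum.inl.inj e); simp at this; omega
          have d4 : (Sum.inl ⟨i + 1, hi⟩ : Fin m ⊕ Fin m) ≠ .inl ⟨m - 1, by omega⟩ := fun e => by
            have := congrArg Fin.val (Sum.inl.inj e); simp at this; omega
          refine ⟨X_commute hm d3 Sum.inl_ne_inr ?_ ?_ s t, X_commute hm Sum.inl_ne_inr d1 ?_ ?_ s t,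
            X_commute hm d1 Sum.inl_ne_inr ?_ ?_ s t, X_commute hm Sum.inl_ne_inr d3 ?_ ?_ s t⟩
          · rw [bar_inl]; exact Sum.inl_ne_inr
          · rw [bar_inr]; exact d4
          · rw [bar_inr]; exact d2
          · rw [bar_inl]; exact Sum.inl_ne_inr
          · rw [bar_inl]; exact Sum.inl_ne_inr
          · rw [bar_inr]; exact d2
          · rw [bar_inr]; exact d4
          · rw [bar_inl]; exact Sum.inl_ne_inr
    intro i j hij h1 h2 s t
    rcases lt_or_gt_of_ne (fun e => hij (Fin.ext e) : (i : ℕ) ≠ j) with hlt | hlt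
    · exact key i j hlt h1 s t
    · obtain ⟨c1, c2, c3, c4⟩ := key j i hlt h2 t s
      exact ⟨c1.symm, c3.symm, c2.symm, c4.symm⟩
  gen := by
    apply eq_top hm
    · intro i t
      exact Subgroup.subset_closure ⟨i, t, Or.inl rfl⟩
    · intro i t
      exact Subgroup.subset_closure ⟨i, t, Or.inr rfl⟩
  Bor := bor (plusForm m F) (.inl ⟨0, by omega⟩)
  Bor_ne := bor_ne_top (plusForm m F) (omega_plus m hm F) (l := .inl ⟨1, by omega⟩)
    (ok_ll (fun e => by have := congrArg Fin.val e; simp at this))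
  xp_mem i t := by
    apply mem_bor
    apply rtO_mem_stab
    · unfold sb
      split_ifs
      · intro e
        have := congrArg Fin.val (Sum.inl.inj e); simp at this
      · exact Sum.inr_ne_inl
    · unfold sa
      split_ifs <;> rw [bar_inl] <;> exact Sum.inr_ne_inl
  hh_mem i t ht := by
    have hok := ok_simple (F := F) hm i
    apply hh_mem_bor (plusForm m F) (omega_plus m hm F) hok _ ht
    have hi := i.2
    by_cases h0 : (i : ℕ) = 0
    · left
      rw [sa, if_pos (by omega)]
      exact congrArg Sum.inl (Fin.ext h0)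
    · right
      unfold sa sb
      split_ifs with h
      · refine ⟨?_, Sum.inr_ne_inl, ?_, Sum.inr_ne_inl⟩
        · intro e
          have := congrArg Fin.val (Sum.inl.inj e); simp at this
        · intro e
          have := congrArg Fin.val (Sum.inl.inj e); simp at this; omega
      · refine ⟨Sum.inr_ne_inl, Sum.inr_ne_inl, ?_, ?_⟩
        · intro e
          have := congrArg Fin.val (Sum.inl.inj e); simp at this; omega
        · intro e
          have := congrArg Fin.val (Sum.inl.inj e); simp at this; omega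

end Cfsg.Agent.TitsThree.KSideInstD
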