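import Cfsg.Agent.TitsThree.EndSL
import Cfsg.Agent.TitsThree.EndHyp
import Cfsg.Agent.TitsThree.Tree
import Cfsg.Agent.Tits.RGOut
import Cfsg.Agent.Tits.Opp
import Cfsg.Agent.TitsThree.KSideInstA
import Cfsg.Agent.TitsThree.KSideInstD
import Cfsg.Agent.TitsThree.KExcTab
import Cfsg.Agent.S0249
import Cfsg.Agent.S0296
/-!
S1143: the simply laced types are solved: `AllSolved (cA n)`, `(cD n)`, `(cE 6)`, `(cE 7)`, `(cE 8)`.
-/

set_option autoImplicit false

namespace Cfsg.Agent.TitsThree.SolvedSL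

open Cfsg.Agent.Tits.Core Cfsg.Agent.Tits.Core.Bldg Cfsg.Agent.Tits.Exchange
open Cfsg.Agent.Tits
open Cfsg.Agent.Tits.MouDefs (rt Chart Aut)
open Cfsg.Agent.Tits.MouOut Cfsg.Agent.Tits.MouAll Cfsg.Agent.Tits.RGOut
open Cfsg.Agent.Tits.RootComb (Diag)
open Cfsg.Agent.TitsThree Cfsg.Agent.TitsThree.Hua Cfsg.Agent.TitsThree.Pack
open Cfsg.Agent.TitsThree.KSideDefs
open Cfsg.Agent.TitsThree.Tree Cfsg.Agent.AGraded
open Cfsg.Agent.TitsThree.Top
open Cfsg.Agent.LieRecognition.BNCox Cfsg.Agent.LieRecognition.CoxClass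
open MulAction

universe u

/-! ### Images of packages -/

section Map

variable {Y Z : Type*} [Group Y] [Group Z] {F : Type*} [Field F]

theorem SteinRel.map (f : Y →* Z) {ι : Type*} [Fintype ι] [DecidableEq ι] {x : ι → ι → F → Y}
    (h : SteinRel x) : SteinRel fun a b t => f (x a b t) where
  add i j hij a b := by rw [h.add i j hij, map_mul]
  comm i j k l hij hkl hjk hil a b := by
    rw [← map_mul, h.comm i j k l hij hkl hjk hil, map_mul]
  br i j k hij hjk hik a b := by rw [← map_commutatorElement, h.br i j k hij hjk hik]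

/-- The image of a package. -/
def mapSL (f : Y →* Z) {n : ℕ} {adj : Fin n → Fin n → Prop} (P : SL Y F n adj) :
    SL Z F n adj where
  xp i t := f (P.xp i t)
  xm i t := f (P.xm i t)
  st3 i j hij := by
    obtain ⟨x, hx, h1, h2, h3, h4⟩ := P.st3 i j hij
    refine ⟨_, SteinRel.map f hx, ?_, ?_, ?_, ?_⟩
    · funext t; rw [h1]
    · funext t; rw [h2]
    · funext t; rw [h3]
    · funext t; rw [h4]
  comm i j hij h1 h2 s t := by
    obtain ⟨a1, a2, a3, a4⟩ := P.comm i j hij h1 h2 s t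
    exact ⟨a1.map f, a2.map f, a3.map f, a4.map f⟩

theorem SL2Par.map (f : Y →* Z) (hf : Function.Injective f) {xp xm : F → Y} (h : SL2Par xp xm) :
    SL2Par (fun t => f (xp t)) (fun t => f (xm t)) where
  addp s t := by rw [h.addp, map_mul]
  addm s t := by rw [h.addm, map_mul]
  injp := hf.comp h.injp
  injm := hf.comp h.injm
  conjp t ht s := by
    have e : nn (fun t => f (xp t)) (fun t => f (xm t)) t = f (nn xp xm t) := by
      simp only [nn, map_mul]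
    rw [e, ← h.conjp t ht s, map_mul, map_mul, map_inv]
  conjm t ht s := by
    have e : nn (fun t => f (xp t)) (fun t => f (xm t)) t = f (nn xp xm t) := by
      simp only [nn, map_mul]
    rw [e, ← h.conjm t ht s, map_mul, map_mul, map_inv]
  norm s hs := by
    refine h.norm s fun r => ?_
    obtain ⟨r', hr'⟩ := hs r
    refine ⟨r', hf ?_⟩
    rw [← hr', map_mul, map_mul, map_inv]

/-- Relabelling of the nodes of a model. -/
def relabel {n : ℕ} {adj adj' : Fin n → Fin n → Prop} (Q : SLData Y F n adj) (e : Fin n ≃ Fin n)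
    (h : ∀ i j, adj' i j → adj (e i) (e j) ∨ adj (e j) (e i))
    (h' : ∀ i j, adj (e i) (e j) → adj' i j ∨ adj' j i) : SLData Y F n adj' where
  xp i := Q.xp (e i)
  xm i := Q.xm (e i)
  st3 i j hij := Q.st3' (e i) (e j) (h i j hij)
  comm i j hij h1 h2 := Q.comm (e i) (e j) (e.injective.ne hij)
    (fun h3 => (h' i j h3).elim h1 h2) (fun h3 => (h' j i h3).elim h2 h1)
  gen := by
    rw [← Q.gen]
    congr 1
    ext g
    constructor
    · rintro ⟨i, t, h⟩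
      exact ⟨e i, t, h⟩
    · rintro ⟨i, t, h⟩
      exact ⟨e.symm i, t, by rwa [Equiv.apply_symm_apply]⟩
  Bor := Q.Bor
  Bor_ne := Q.Bor_ne
  xp_mem i := Q.xp_mem (e i)
  hh_mem i := Q.hh_mem (e i)

end Map

/-! ### The general simply laced case -/

section General

variable {n : ℕ}

/-- Adjacency in the diagram. -/
def adj (M : CoxeterMatrix (Fin n)) (i j : Fin n) : Prop := M i j = 3

theorem adj_symm {M : CoxeterMatrix (Fin n)} {i j : Fin n} (h : adj M i j) : adj M j i := by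
  unfold adj
  rw [M.symmetric]
  exact h

/-- The diagram as a tree. -/
def rootedOf (hn : 0 < n) (M : CoxeterMatrix (Fin n)) (par : Fin n → Fin n)
    (h1 : ∀ i, 0 < i.1 → (par i).1 < i.1 ∧ M (par i) i = 3)
    (h2 : ∀ i j : Fin n, i.1 < j.1 → M i j = 3 → par j = i) : Rooted (adj M) ⟨0, hn⟩ where
  par := par
  rk i := i.1
  rk_par i hi := (h1 i (Nat.pos_of_ne_zero fun h => hi (Fin.ext h))).1
  adj_par i hi := Or.inl (h1 i (Nat.pos_of_ne_zero fun h => hi (Fin.ext h))).2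
  edge i j hij := by
    rcases Nat.lt_trichotomy i.1 j.1 with h | h | h
    · refine Or.inl ⟨fun h3 => ?_, h2 i j h hij⟩
      rw [h3] at h
      exact absurd h (Nat.not_lt_zero _)
    · have : i = j := Fin.ext h
      subst this
      have h3 : M i i = 3 := hij
      rw [M.diagonal] at h3
      omega
    · refine Or.inr ⟨fun h3 => ?_, h2 j i h (adj_symm hij)⟩
      rw [h3] at h
      exact absurd h (Nat.not_lt_zero _)

variable {M : CoxeterMatrix (Fin n)} {W : Type*} [Group W] {cs : CoxeterSystem M W}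
  {C : Type*} {Δ : Bldg cs C} {σ : W → C}

theorem exists_adj (hD : Diag M) (hsl : ∀ i j, i ≠ j → M i j = 2 ∨ M i j = 3) (i : Fin n) :
    ∃ j, adj M i j := by
  obtain ⟨a, ha, k, hk, hak⟩ := hD.conn {i} ⟨i, rfl⟩ (by
    intro hu
    obtain ⟨k, h1, _⟩ := hD.three i i
    have : k ∈ ({i} : Set (Fin n)) := by rw [hu]; exact Set.mem_univ k
    exact h1 this)
  rw [Set.mem_singleton_iff] at ha hk
  subst ha
  exact ⟨k, (hsl a k (Ne.symm hk)).resolve_left hak⟩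

theorem conn_of_diag (hD : Diag M) : NormalTrans.Conn M := by
  intro J hJ hJc
  obtain ⟨a, ha, b, hb, hab⟩ := hD.conn J hJ (fun h => by
    obtain ⟨x, hx⟩ := hJc
    rw [h] at hx
    exact hx (Set.mem_univ x))
  exact ⟨a, ha, b, hb, hab⟩

variable [Finite W] [Finite C]

/-- The parametrised root groups, in `G'`. -/
theorem exists_par (hM : Lab234 M) (hD : Diag M) (hsl : ∀ i j, i ≠ j → M i j = 2 ∨ M i j = 3)
    {r : Fin n} (T : Rooted (adj M) r) (hth : Δ.Thick) (hσ : Chart Δ σ) :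
    ∃ (F : Type) (_ : Field F) (_ : Finite F) (P : SL ↥(Gg cs (UU Δ σ)) F n (adj M)),
      (∀ i, SL2Par (P.xp i) (P.xm i)) ∧
      (∀ i, Set.range (P.xp i) = (RX Δ σ (rt cs 1 i) : Set ↥(Gg cs (UU Δ σ)))) ∧
      (∀ i, Set.range (P.xm i) = (RX Δ σ (rt cs (cs.simple i) i) : Set ↥(Gg cs (UU Δ σ)))) := by
  have hE : ∀ i j, adj M i j → EdgeA2 (RX Δ σ (rt cs 1 i) : Set ↥(Gg cs (UU Δ σ)))
      (RX Δ σ (rt cs (cs.simple i) i)) (RX Δ σ (rt cs 1 j)) (RX Δ σ (rt cs (cs.simple j) j)) :=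
    fun i j hij => edgeA2 hM hD hth hσ hij
  obtain ⟨k, hk⟩ := exists_adj hD hsl r
  obtain ⟨F, i1, i2, ⟨p0⟩⟩ := (hE r k hk).exists_par
  obtain ⟨xp, xm, -, -, hpar, hrp, hrm, hst⟩ := glueTree' T
    (fun i => (RX Δ σ (rt cs 1 i) : Set ↥(Gg cs (UU Δ σ))))
    (fun i => (RX Δ σ (rt cs (cs.simple i) i) : Set ↥(Gg cs (UU Δ σ)))) hE p0.par p0.rp p0.rm
  refine ⟨F, i1, i2, ⟨xp, xm, fun i j hij => ?_, fun i j hij h1 _ s t => ?_⟩, hpar, hrp, hrm⟩
  · obtain ⟨x, hx, -, h1, h2, h3, h4⟩ := hst i j (Or.inl hij)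
    exact ⟨x, hx, h1, h2, h3, h4⟩
  · have h2 : M i j = 2 := (hsl i j hij).resolve_right h1
    have mp : ∀ i t, xp i t ∈ RX Δ σ (rt cs 1 i) := fun i t => by
      have : xp i t ∈ (RX Δ σ (rt cs 1 i) : Set ↥(Gg cs (UU Δ σ))) := hrp i ▸ ⟨t, rfl⟩
      exact this
    have mm : ∀ i t, xm i t ∈ RX Δ σ (rt cs (cs.simple i) i) := fun i t => by
      have : xm i t ∈ (RX Δ σ (rt cs (cs.simple i) i) : Set ↥(Gg cs (UU Δ σ))) := hrm i ▸ ⟨t, rfl⟩
      exact this
    exact ⟨comm_two hM hD hth hσ h2 (Or.inl rfl) (Or.inl rfl) (mp i s) (mp j t),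
      comm_two hM hD hth hσ h2 (Or.inl rfl) (Or.inr rfl) (mp i s) (mm j t),
      comm_two hM hD hth hσ h2 (Or.inr rfl) (Or.inl rfl) (mm i s) (mp j t),
      comm_two hM hD hth hσ h2 (Or.inr rfl) (Or.inr rfl) (mm i s) (mm j t)⟩

omit [Finite W] [Finite C] in
theorem range_coe {X : Type*} {x : X → ↥(Gg cs (UU Δ σ))} {R : Set W}
    (hle : UU Δ σ R ≤ Gg cs (UU Δ σ))
    (h : Set.range x = (RX Δ σ R : Set ↥(Gg cs (UU Δ σ)))) :
    Set.range (fun t => (Gg cs (UU Δ σ)).subtype (x t)) = (UU Δ σ R : Set (Aut Δ)) := by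
  ext g
  constructor
  · rintro ⟨t, rfl⟩
    have : x t ∈ (RX Δ σ R : Set ↥(Gg cs (UU Δ σ))) := h ▸ ⟨t, rfl⟩
    exact this
  · intro hg
    have : (⟨g, hle hg⟩ : ↥(Gg cs (UU Δ σ))) ∈ (RX Δ σ R : Set ↥(Gg cs (UU Δ σ))) := hg
    rw [← h] at this
    obtain ⟨t, ht⟩ := this
    exact ⟨t, congrArg Subtype.val ht⟩

/-- The `G` side package. -/
noncomputable def gsl (H : Sys Δ (Aut Δ) σ (UU Δ σ)) {F : Type*} [Field F]
    (P : SL ↥(Gg cs (UU Δ σ)) F n (adj M))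
    (hp : ∀ i, Set.range (P.xp i) = (RX Δ σ (rt cs 1 i) : Set ↥(Gg cs (UU Δ σ))))
    (hm : ∀ i, Set.range (P.xm i) = (RX Δ σ (rt cs (cs.simple i) i) : Set ↥(Gg cs (UU Δ σ)))) :
    GSL Δ ↥(Gg cs (UU Δ σ)) F (adj M) where
  toSL := P
  c := σ 1
  ci i := σ (cs.simple i)
  act i := by
    have mp : ∀ t, P.xp i t ∈ (RX Δ σ (rt cs 1 i) : Set ↥(Gg cs (UU Δ σ))) := fun t =>
      hp i ▸ ⟨t, rfl⟩
    have mm : ∀ t, P.xm i t ∈ (RX Δ σ (rt cs (cs.simple i) i) : Set ↥(Gg cs (UU Δ σ))) :=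
      fun t => hm i ▸ ⟨t, rfl⟩
    refine H.nodeAct (fun t => mp t) (fun g hg => ?_) (fun t => mm t) (fun g hg => ?_)
    · have : (⟨g, H.rt_le _ _ hg⟩ : ↥(Gg cs (UU Δ σ))) ∈
          (RX Δ σ (rt cs 1 i) : Set ↥(Gg cs (UU Δ σ))) := hg
      rw [← hp i] at this
      obtain ⟨t, ht⟩ := this
      exact ⟨t, congrArg Subtype.val ht⟩
    · have : (⟨g, H.rt_le _ _ hg⟩ : ↥(Gg cs (UU Δ σ))) ∈
          (RX Δ σ (rt cs (cs.simple i) i) : Set ↥(Gg cs (UU Δ σ))) := hg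
      rw [← hm i] at this
      obtain ⟨t, ht⟩ := this
      exact ⟨t, congrArg Subtype.val ht⟩
  gen := by
    refine H.closure_eq_top (fun i g hg => ?_) (fun i g hg => ?_)
    · have : (⟨g, H.rt_le _ _ hg⟩ : ↥(Gg cs (UU Δ σ))) ∈
          (RX Δ σ (rt cs 1 i) : Set ↥(Gg cs (UU Δ σ))) := hg
      rw [← hp i] at this
      obtain ⟨t, ht⟩ := this
      exact ⟨_, ⟨i, t, Or.inl rfl⟩, congrArg Subtype.val ht⟩
    · have : (⟨g, H.rt_le _ _ hg⟩ : ↥(Gg cs (UU Δ σ))) ∈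
          (RX Δ σ (rt cs (cs.simple i) i) : Set ↥(Gg cs (UU Δ σ))) := hg
      rw [← hm i] at this
      obtain ⟨t, ht⟩ := this
      exact ⟨_, ⟨i, t, Or.inr rfl⟩, congrArg Subtype.val ht⟩

end General

/-- There is a model over every finite field. -/
def HasModel {n : ℕ} (M : CoxeterMatrix (Fin n)) : Prop :=
  ∀ (F : Type) [Field F] [Finite F], ∃ (K : Type) (_ : Group K), IsSimpleGroup K ∧ LieConcl K ∧
    Nonempty (SLData K F n (adj M))

/-- **Simply laced types are solved.** -/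
theorem allSolved {n : ℕ} {M : CoxeterMatrix (Fin n)} (hM : Lab234 M) (hD : Diag M)
    (hsl : ∀ i j, i ≠ j → M i j = 2 ∨ M i j = 3) {r : Fin n} (T : Rooted (adj M) r)
    (hK : HasModel M) : AllSolved.{u} M := by
  intro W C _ _ _ _ cs Δ hth
  obtain ⟨c⟩ := (inferInstance : Nonempty C)
  obtain ⟨d, hd⟩ := Opp.exists_opp Δ c
  obtain ⟨σ, hσ, -, -⟩ := MouDefs.exists_chart hd 1
  have H := MouAll.sys hM hD hth hσ
  obtain ⟨F, i1, i2, P, hpar, hp, hm⟩ := exists_par hM hD hsl T hth hσ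
  have hnb : ∀ i, ∃ j, adj M i j ∨ adj M j i := fun i => by
    obtain ⟨j, hj⟩ := exists_adj hD hsl i
    exact ⟨j, Or.inl hj⟩
  have hpr : Fact (ringChar F).Prime := ⟨CharP.char_is_prime F (ringChar F)⟩
  obtain ⟨h1, h2, h3⟩ := EndSL.main H (mapSL (Gg cs (UU Δ σ)).subtype P)
    (fun i => SL2Par.map _ (Subgroup.subtype_injective _) (hpar i))
    (fun i => range_coe (H.rt_le 1 i) (hp i)) (fun i => range_coe (H.rt_le _ i) (hm i))
    (p := ringChar F) hnb
  refine EndHyp.solved H (p := ringChar F) h3 h1 h2 fun _ => ?_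
  obtain ⟨K, i3, i4, hK1, ⟨Q⟩⟩ := hK F
  obtain ⟨e⟩ := AssembleSL.nonempty_mulEquiv hth H.Gg_strongAct (conn_of_diag hD) hnb
    (gsl H P hp hm) Q
  exact hK1.of_equiv e

/-! ### The models -/

theorem model_A {n : ℕ} (hn : 3 ≤ n) : HasModel (cA n) := by
  intro F _ _
  have := Fintype.ofFinite F
  refine ⟨Matrix.ProjectiveSpecialLinearGroup (Fin (n + 1)) F, inferInstance,
    Cfsg.Agent.S0249.result (n + 1) (by omega),
    Or.inl ⟨F, inferInstance, inferInstance, n + 1, by omega, fun h => by omega,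
      ⟨MulEquiv.refl _⟩⟩,
    ⟨relabel (KSideInstA.data n (by omega) F) (Equiv.refl _) (fun i j h => ?_) (fun i j h => ?_)⟩⟩
  · have h1 : mA i j = 3 := h
    unfold mA at h1
    unfold KSideInstA.adjA
    simp only [Equiv.refl_apply]
    split_ifs at h1 with h2 h3
    · omega
    · exact h3
    · omega
  · have h1 : (i : ℕ) + 1 = j := h
    left
    change mA i j = 3
    unfold mA
    rw [if_neg (by omega), if_pos (Or.inl h1)]

theorem model_D {n : ℕ} (hn : 4 ≤ n) : HasModel (cD n) := by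
  intro F _ _
  have := Fintype.ofFinite F
  refine ⟨Cfsg.POmega F (Cfsg.quadFormPlus n F), inferInstance,
    Cfsg.Agent.S0296.result n hn,
    Or.inr (Or.inr (Or.inr (Or.inr (Or.inl ⟨F, inferInstance, inferInstance, n, hn,
      ⟨MulEquiv.refl _⟩⟩)))),
    ⟨relabel (KSideInstD.data (by omega) F) (Equiv.refl _) (fun i j h => ?_) (fun i j h => ?_)⟩⟩
  · have h1 : mD n i j = 3 := h
    unfold mD at h1
    unfold KSideInstD.adjD
    simp only [Equiv.refl_apply]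
    split_ifs at h1 with h2 h3 <;> omega
  · have h1 : ((i : ℕ) + 1 = j ∧ (j : ℕ) + 1 < n) ∨ ((i : ℕ) + 3 = n ∧ (j : ℕ) + 1 = n) := h
    left
    change mD n i j = 3
    unfold mD
    rw [if_neg (by omega), if_pos (by omega)]

theorem rooted_A {n : ℕ} (hn : 3 ≤ n) : ∃ r, Nonempty (Rooted (adj (cA n)) r) := by
  refine ⟨⟨0, by omega⟩, ⟨rootedOf (by omega) (cA n) (fun i => ⟨i.1 - 1, by omega⟩)
    (fun i hi => ⟨?_, ?_⟩) (fun i j hij h => ?_)⟩⟩
  · simp only; omega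
  · rw [cA_apply]; unfold mA; simp only
    rw [if_neg (by omega), if_pos (by omega)]
  · rw [cA_apply] at h; unfold mA at h
    apply Fin.ext
    simp only
    split_ifs at h with h1 h2 <;> omega

theorem rooted_D {n : ℕ} (hn : 4 ≤ n) : ∃ r, Nonempty (Rooted (adj (cD n)) r) := by
  refine ⟨⟨0, by omega⟩, ⟨rootedOf (by omega) (cD n)
    (fun i => ⟨if i.1 + 1 = n then n - 3 else i.1 - 1, by split_ifs <;> omega⟩)
    (fun i hi => ⟨?_, ?_⟩) (fun i j hij h => ?_)⟩⟩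
  · simp only; split_ifs <;> omega
  · rw [cD_apply]; unfold mD; simp only
    split_ifs <;> omega
  · rw [cD_apply] at h; unfold mD at h
    apply Fin.ext
    simp only
    split_ifs at h ⊢ <;> omega

theorem rooted_E {n : ℕ} (hn : 4 ≤ n) : ∃ r, Nonempty (Rooted (adj (cE n)) r) := by
  refine ⟨⟨0, by omega⟩, ⟨rootedOf (by omega) (cE n)
    (fun i => ⟨if i.1 + 1 = n then 2 else i.1 - 1, by split_ifs <;> omega⟩)
    (fun i hi => ⟨?_, ?_⟩) (fun i j hij h => ?_)⟩⟩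
  · simp only; split_ifs <;> omega
  · rw [cE_apply]; unfold mE; simp only
    split_ifs <;> omega
  · rw [cE_apply] at h; unfold mE at h
    apply Fin.ext
    simp only
    split_ifs at h ⊢ <;> omega

theorem sl_A (n : ℕ) (i j : Fin n) (hij : i ≠ j) : cA n i j = 2 ∨ cA n i j = 3 := by
  rw [cA_apply]; unfold mA
  have : (i : ℕ) ≠ j := fun h => hij (Fin.ext h)
  split_ifs <;> simp_all

theorem sl_D (n : ℕ) (i j : Fin n) (hij : i ≠ j) : cD n i j = 2 ∨ cD n i j = 3 := by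
  rw [cD_apply]; unfold mD
  have : (i : ℕ) ≠ j := fun h => hij (Fin.ext h)
  split_ifs <;> simp_all

theorem sl_E (n : ℕ) (i j : Fin n) (hij : i ≠ j) : cE n i j = 2 ∨ cE n i j = 3 := by
  rw [cE_apply]; unfold mE
  have : (i : ℕ) ≠ j := fun h => hij (Fin.ext h)
  split_ifs <;> simp_all

/-- Type `A_n`. -/
theorem allSolved_A {n : ℕ} (hn : 3 ≤ n) : AllSolved.{u} (cA n) := by
  obtain ⟨r, ⟨T⟩⟩ := rooted_A hn
  exact allSolved (lab_A n) (CombInst.diag_A hn) (sl_A n) T (model_A hn)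

/-- Type `D_n`. -/
theorem allSolved_D {n : ℕ} (hn : 4 ≤ n) : AllSolved.{u} (cD n) := by
  obtain ⟨r, ⟨T⟩⟩ := rooted_D hn
  exact allSolved (lab_D n) (CombInst.diag_D hn) (sl_D n) T (model_D hn)

/-! ### The exceptional types -/

open Cfsg.Agent.TitsThree.KExcBase (adjE dataE6 dataE7 dataE8 simpleE6 simpleE7 simpleE8)

/-- From the path `0, …, n-2` with `n-1` attached to `2` to Bourbaki's numbering, `n = 6`. -/
def e6 : Fin 6 ≃ Fin 6 where
  toFun := ![0, 2, 3, 4, 5, 1]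
  invFun := ![0, 5, 1, 2, 3, 4]
  left_inv := by decide
  right_inv := by decide

/-- The same for `n = 7`. -/
def e7 : Fin 7 ≃ Fin 7 where
  toFun := ![0, 2, 3, 4, 5, 6, 1]
  invFun := ![0, 6, 1, 2, 3, 4, 5]
  left_inv := by decide
  right_inv := by decide

/-- The same for `n = 8`. -/
def e8 : Fin 8 ≃ Fin 8 where
  toFun := ![0, 2, 3, 4, 5, 6, 7, 1]
  invFun := ![0, 7, 1, 2, 3, 4, 5, 6]
  left_inv := by decide
  right_inv := by decide

theorem adj_e6 : ∀ i j : Fin 6, (mE 6 i j = 3 → adjE 6 (e6 i) (e6 j) ∨ adjE 6 (e6 j) (e6 i)) ∧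
    (adjE 6 (e6 i) (e6 j) → mE 6 i j = 3) := by
  decide

theorem adj_e7 : ∀ i j : Fin 7, (mE 7 i j = 3 → adjE 7 (e7 i) (e7 j) ∨ adjE 7 (e7 j) (e7 i)) ∧
    (adjE 7 (e7 i) (e7 j) → mE 7 i j = 3) := by
  decide

theorem adj_e8 : ∀ i j : Fin 8, (mE 8 i j = 3 → adjE 8 (e8 i) (e8 j) ∨ adjE 8 (e8 j) (e8 i)) ∧
    (adjE 8 (e8 i) (e8 j) → mE 8 i j = 3) := by
  decide

theorem model_E6 : HasModel (cE 6) := by
  intro F _ _
  have := Fintype.ofFinite F
  exact ⟨↥(Cfsg.Lie.chevE6.group F), inferInstance, simpleE6 F,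
    Or.inr (Or.inr (Or.inr (Or.inr (Or.inr (Or.inr (Or.inr (Or.inr (Or.inl
      ⟨F, inferInstance, inferInstance, ⟨MulEquiv.refl _⟩⟩)))))))),
    ⟨relabel (dataE6 F) e6 (fun i j h => (adj_e6 i j).1 h)
      (fun i j h => Or.inl ((adj_e6 i j).2 h))⟩⟩

theorem model_E7 : HasModel (cE 7) := by
  intro F _ _
  have := Fintype.ofFinite F
  exact ⟨↥(Cfsg.Lie.chevE7.group F), inferInstance, simpleE7 F,
    Or.inr (Or.inr (Or.inr (Or.inr (Or.inr (Or.inr (Or.inr (Or.inr (Or.inr (Or.inl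
      ⟨F, inferInstance, inferInstance, ⟨MulEquiv.refl _⟩⟩))))))))),
    ⟨relabel (dataE7 F) e7 (fun i j h => (adj_e7 i j).1 h)
      (fun i j h => Or.inl ((adj_e7 i j).2 h))⟩⟩

theorem model_E8 : HasModel (cE 8) := by
  intro F _ _
  have := Fintype.ofFinite F
  exact ⟨↥(Cfsg.Lie.chevE8.group F), inferInstance, simpleE8 F,
    Or.inr (Or.inr (Or.inr (Or.inr (Or.inr (Or.inr (Or.inr (Or.inr (Or.inr (Or.inr (Or.inl
      ⟨F, inferInstance, inferInstance, ⟨MulEquiv.refl _⟩⟩)))))))))),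
    ⟨relabel (dataE8 F) e8 (fun i j h => (adj_e8 i j).1 h)
      (fun i j h => Or.inl ((adj_e8 i j).2 h))⟩⟩

/-- Type `E₆`. -/
theorem allSolved_E6 : AllSolved.{u} (cE 6) := by
  obtain ⟨r, ⟨T⟩⟩ := rooted_E (n := 6) (by omega)
  exact allSolved (lab_E 6) (CombInst.diag_E (by omega)) (sl_E 6) T model_E6

/-- Type `E₇`. -/
theorem allSolved_E7 : AllSolved.{u} (cE 7) := by
  obtain ⟨r, ⟨T⟩⟩ := rooted_E (n := 7) (by omega)
  exact allSolved (lab_E 7) (CombInst.diag_E (by omega)) (sl_E 7) T model_E7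

/-- Type `E₈`. -/
theorem allSolved_E8 : AllSolved.{u} (cE 8) := by
  obtain ⟨r, ⟨T⟩⟩ := rooted_E (n := 8) (by omega)
  exact allSolved (lab_E 8) (CombInst.diag_E (by omega)) (sl_E 8) T model_E8

end Cfsg.Agent.TitsThree.SolvedSL
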