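import Cfsg.Agent.TitsThree.CharBase
import Cfsg.Agent.TitsThree.SolvedSL
/-!
S1143 with the characteristic: the simply laced types.
-/

set_option autoImplicit false

namespace Cfsg.Agent.TitsThree.CharSL

open Cfsg.Agent.Tits.Core Cfsg.Agent.Tits.Core.Bldg Cfsg.Agent.Tits.Exchange
open Cfsg.Agent.Tits
open Cfsg.Agent.Tits.MouDefs (rt Chart Aut)
open Cfsg.Agent.Tits.MouOut Cfsg.Agent.Tits.MouAll Cfsg.Agent.Tits.RGOut
open Cfsg.Agent.Tits.RootComb (Diag)
open Cfsg.Agent.TitsThree Cfsg.Agent.TitsThree.Hua Cfsg.Agent.TitsThree.Pack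
open Cfsg.Agent.TitsThree.KSideDefs
open Cfsg.Agent.TitsThree.Tree Cfsg.Agent.AGraded
open Cfsg.Agent.TitsThree.SolvedSL Cfsg.Agent.TitsThree.CharBase
open Cfsg.Agent.LieRecognition.BNCox Cfsg.Agent.LieRecognition.CoxClass
open MulAction

universe u

/-- There is a model over every finite field, in the characteristic of the field. -/
def HasModelC {n : ℕ} (M : CoxeterMatrix (Fin n)) : Prop :=
  ∀ (F : Type) [Field F] [Finite F], ∃ (K : Type) (_ : Group K), IsSimpleGroup K ∧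
    (∀ p : ℕ, CharP F p → Cfsg.IsLieTypeChar p K) ∧ Nonempty (SLData K F n (adj M))

/-- **Simply laced types are solved.** -/
theorem allSolvedC {n : ℕ} {M : CoxeterMatrix (Fin n)} (hM : Lab234 M) (hD : Diag M)
    (hsl : ∀ i j, i ≠ j → M i j = 2 ∨ M i j = 3) {r : Fin n} (T : Rooted (adj M) r)
    (hK : HasModelC M) : AllSolvedC.{u} M := by
  intro W C _ _ _ _ cs Δ hth
  obtain ⟨c⟩ := (inferInstance : Nonempty C)
  obtain ⟨d, hd⟩ := Opp.exists_opp Δ c
  obtain ⟨σ, hσ, -, -⟩ := MouDefs.exists_chart hd 1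
  have H := MouAll.sys hM hD hth hσ
  obtain ⟨F, i1, i2, P, hpar, hp, hm⟩ := exists_par hM hD hsl T hth hσ
  have hnb : ∀ i, ∃ j, adj M i j ∨ adj M j i := fun i => by
    obtain ⟨j, hj⟩ := exists_adj hD hsl i
    exact ⟨j, Or.inl hj⟩
  have hpr : Fact (ringChar F).Prime := ⟨CharP.char_is_prime F (ringChar F)⟩
  obtain ⟨h1, h2, h3⟩ := EndSL.main H (mapSL (Gg cs (UU Δ σ)).subtype P)
    (fun i => SL2Par.map _ (Subgroup.subtype_injective _) (hpar i))
    (fun i => range_coe (H.rt_le 1 i) (hp i)) (fun i => range_coe (H.rt_le _ i) (hm i))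
    (p := ringChar F) hnb
  refine solvedC H (p := ringChar F) h3 h1 h2 fun _ => ?_
  obtain ⟨K, i3, i4, hK1, ⟨Q⟩⟩ := hK F
  obtain ⟨e⟩ := AssembleSL.nonempty_mulEquiv hth H.Gg_strongAct (conn_of_diag hD) hnb
    (gsl H P hp hm) Q
  exact ofEquiv e (hK1 _ inferInstance)

/-! ### The models -/

theorem model_A {n : ℕ} (hn : 3 ≤ n) : HasModelC (cA n) := by
  intro F _ _
  have := Fintype.ofFinite F
  refine ⟨Matrix.ProjectiveSpecialLinearGroup (Fin (n + 1)) F, inferInstance,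
    Cfsg.Agent.S0249.result (n + 1) (by omega),
    fun p hp => Or.inl ⟨F, inferInstance, inferInstance, hp, n + 1, by omega, fun h => by omega,
      ⟨MulEquiv.refl _⟩⟩,
    ⟨relabel (KSideInstA.data n (by omega) F) (Equiv.refl _) (fun i j h => ?_) (fun i j h => ?_)⟩⟩
  · have h1 : mA i j = 3 := h
    unfold mA at h1
    unfold KSideInstA.adjA
    simp only [Equiv.refl_apply]
    split_ifs at h1 with h2 h3
    · omega
    · exact h3
    · omega
  · have h1 : (i : ℕ) + 1 = j := h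
    left
    change mA i j = 3
    unfold mA
    rw [if_neg (by omega), if_pos (Or.inl h1)]

theorem model_D {n : ℕ} (hn : 4 ≤ n) : HasModelC (cD n) := by
  intro F _ _
  have := Fintype.ofFinite F
  refine ⟨Cfsg.POmega F (Cfsg.quadFormPlus n F), inferInstance,
    Cfsg.Agent.S0296.result n hn,
    fun p hp => Or.inr (Or.inr (Or.inr (Or.inr (Or.inl ⟨F, inferInstance, inferInstance, hp, n, hn,
      ⟨MulEquiv.refl _⟩⟩)))),
    ⟨relabel (KSideInstD.data (by omega) F) (Equiv.refl _) (fun i j h => ?_) (fun i j h => ?_)⟩⟩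
  · have h1 : mD n i j = 3 := h
    unfold mD at h1
    unfold KSideInstD.adjD
    simp only [Equiv.refl_apply]
    split_ifs at h1 with h2 h3 <;> omega
  · have h1 : ((i : ℕ) + 1 = j ∧ (j : ℕ) + 1 < n) ∨ ((i : ℕ) + 3 = n ∧ (j : ℕ) + 1 = n) := h
    left
    change mD n i j = 3
    unfold mD
    rw [if_neg (by omega), if_pos (by omega)]

/-- Type `A_n`. -/
theorem allSolvedC_A {n : ℕ} (hn : 3 ≤ n) : AllSolvedC.{u} (cA n) := by
  obtain ⟨r, ⟨T⟩⟩ := rooted_A hn
  exact allSolvedC (lab_A n) (CombInst.diag_A hn) (sl_A n) T (model_A hn)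

/-- Type `D_n`. -/
theorem allSolvedC_D {n : ℕ} (hn : 4 ≤ n) : AllSolvedC.{u} (cD n) := by
  obtain ⟨r, ⟨T⟩⟩ := rooted_D hn
  exact allSolvedC (lab_D n) (CombInst.diag_D hn) (sl_D n) T (model_D hn)

/-! ### The exceptional types -/

open Cfsg.Agent.TitsThree.KExcBase (adjE dataE6 dataE7 dataE8 simpleE6 simpleE7 simpleE8)

theorem model_E6 : HasModelC (cE 6) := by
  intro F _ _
  have := Fintype.ofFinite F
  exact ⟨↥(Cfsg.Lie.chevE6.group F), inferInstance, simpleE6 F,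
    fun p hp => Or.inr (Or.inr (Or.inr (Or.inr (Or.inr (Or.inr (Or.inl
      ⟨F, inferInstance, inferInstance, hp, Or.inr (Or.inr (Or.inl ⟨MulEquiv.refl _⟩))⟩)))))),
    ⟨relabel (dataE6 F) e6 (fun i j h => (adj_e6 i j).1 h)
      (fun i j h => Or.inl ((adj_e6 i j).2 h))⟩⟩

theorem model_E7 : HasModelC (cE 7) := by
  intro F _ _
  have := Fintype.ofFinite F
  exact ⟨↥(Cfsg.Lie.chevE7.group F), inferInstance, simpleE7 F,
    fun p hp => Or.inr (Or.inr (Or.inr (Or.inr (Or.inr (Or.inr (Or.inl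
      ⟨F, inferInstance, inferInstance, hp,
        Or.inr (Or.inr (Or.inr (Or.inl ⟨MulEquiv.refl _⟩)))⟩)))))),
    ⟨relabel (dataE7 F) e7 (fun i j h => (adj_e7 i j).1 h)
      (fun i j h => Or.inl ((adj_e7 i j).2 h))⟩⟩

theorem model_E8 : HasModelC (cE 8) := by
  intro F _ _
  have := Fintype.ofFinite F
  exact ⟨↥(Cfsg.Lie.chevE8.group F), inferInstance, simpleE8 F,
    fun p hp => Or.inr (Or.inr (Or.inr (Or.inr (Or.inr (Or.inr (Or.inl
      ⟨F, inferInstance, inferInstance, hp,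
        Or.inr (Or.inr (Or.inr (Or.inr ⟨MulEquiv.refl _⟩)))⟩)))))),
    ⟨relabel (dataE8 F) e8 (fun i j h => (adj_e8 i j).1 h)
      (fun i j h => Or.inl ((adj_e8 i j).2 h))⟩⟩

/-- Type `E₆`. -/
theorem allSolvedC_E6 : AllSolvedC.{u} (cE 6) := by
  obtain ⟨r, ⟨T⟩⟩ := rooted_E (n := 6) (by omega)
  exact allSolvedC (lab_E 6) (CombInst.diag_E (by omega)) (sl_E 6) T model_E6

/-- Type `E₇`. -/
theorem allSolvedC_E7 : AllSolvedC.{u} (cE 7) := by
  obtain ⟨r, ⟨T⟩⟩ := rooted_E (n := 7) (by omega)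
  exact allSolvedC (lab_E 7) (CombInst.diag_E (by omega)) (sl_E 7) T model_E7

/-- Type `E₈`. -/
theorem allSolvedC_E8 : AllSolvedC.{u} (cE 8) := by
  obtain ⟨r, ⟨T⟩⟩ := rooted_E (n := 8) (by omega)
  exact allSolvedC (lab_E 8) (CombInst.diag_E (by omega)) (sl_E 8) T model_E8

end Cfsg.Agent.TitsThree.CharSL
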