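import Cfsg.Agent.TitsThree.CharFF
import Cfsg.Agent.TitsThree.CharCN
import Cfsg.Agent.TitsThree.CharSL

/-!
# S1143 with the characteristic

`main`: a finite simple group with an irreducible (B,N)-pair of rank at least 3 is of Lie type in a characteristic
`p`, and all the indices `|B : B ∩ sBs⁻¹|` are powers of `p`.
`main_char`: if moreover `B = U (B ∩ N)` with `U` a `p`-group, then `G` is of Lie type in characteristic `p`.
-/

set_option autoImplicit false

namespace Cfsg.Agent.TitsThree.CharExport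

open Cfsg.Agent.TitsThree.CharBase

universe u

variable {G : Type u} [Group G] [Finite G] [IsSimpleGroup G]

/-- **S1143 with the characteristic.** -/
theorem main (P : Cfsg.BNPair G) (h3 : 3 ≤ P.rank) (hirr : P.Irreducible) :
    ∃ p : ℕ, p.Prime ∧ Cfsg.IsLieTypeChar p G ∧
      ∀ s ∈ P.S, ∃ a : ℕ, (P.B.map (MulAut.conj s).toMonoidHom).relIndex P.B = p ^ a :=
  main_of (fun _ h => CharSL.allSolvedC_A h) (fun n h => CharCN.allSolvedC n h)
    (fun _ h => CharSL.allSolvedC_D h) CharSL.allSolvedC_E6 CharSL.allSolvedC_E7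
    CharSL.allSolvedC_E8 CharFF.allSolvedC_F P h3 hirr

theorem nonempty_S {G : Type*} [Group G] (P : Cfsg.BNPair G) (h3 : 3 ≤ P.rank) :
    P.S.Nonempty := by
  by_contra h
  rw [Set.not_nonempty_iff_eq_empty] at h
  unfold Cfsg.BNPair.rank at h3
  rw [h] at h3
  simp at h3

/-- **The characteristic is the prime of `U`**, if `B = U (B ∩ N)`. -/
theorem main_char (P : Cfsg.BNPair G) (h3 : 3 ≤ P.rank) (hirr : P.Irreducible) {p : ℕ}
    (hp : p.Prime) (U : Subgroup G) (hU : IsPGroup p U) (hUB : U ≤ P.B)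
    (hB : ∀ b ∈ P.B, ∃ u ∈ U, ∃ t ∈ P.B ⊓ P.N, b = u * t) : Cfsg.IsLieTypeChar p G :=
  char_of_split P (nonempty_S P h3) (main P h3 hirr) hp U hU hB hUB

end Cfsg.Agent.TitsThree.CharExport
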