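import Cfsg.Agent.TitsThree.RankTwoIdx

/-!
# Root data of rank two, all root groups (S1143, S1144)

`RGDZ m Y`: root groups `X k`, `k : ZMod (2 m)`, where `X 1, …, X m` are the positive ones and `X (k + m)` is opposite to
`X k`; commutator relations between positive root groups; for every `a ≠ 1` in `X (m+1)` some `x a y` with
`x, y ∈ X 1` induces the reflection `k ↦ m + 2 - k` on the family, and for every `a ≠ 1` in `X 0` some `x a y` with
`x, y ∈ X m` induces the reflection `k ↦ m - k`.  The torus is the group of all elements normalising all root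
groups; the remaining hypotheses of `R2 m Y` and `Core m Y` are then automatic.
-/

set_option autoImplicit false

namespace Cfsg.Agent.TitsThree.RankTwoZ

open Cfsg.Agent.TitsThree.RankTwoRGD Cfsg.Agent.TitsThree.RankTwoIdx
open scoped commutatorElement

universe u

variable {m : ℕ} {Y : Type u} [Group Y]

/-- `w` permutes the family `X` by `f`. -/
def Maps (X : ZMod (2 * m) → Subgroup Y) (w : Y) (f : ZMod (2 * m) → ZMod (2 * m)) : Prop :=
  ∀ k x, w * x * w⁻¹ ∈ X (f k) ↔ x ∈ X k

namespace Maps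

variable {X : ZMod (2 * m) → Subgroup Y}

theorem one : Maps X (1 : Y) id := by
  intro k x
  simp

theorem mul {w v : Y} {f g : ZMod (2 * m) → ZMod (2 * m)} (hw : Maps X w f) (hv : Maps X v g) :
    Maps X (w * v) (f ∘ g) := by
  intro k x
  have e : (w * v) * x * (w * v)⁻¹ = w * (v * x * v⁻¹) * w⁻¹ := by group
  rw [e]
  exact (hw _ _).trans (hv k x)

theorem inv {w : Y} {f g : ZMod (2 * m) → ZMod (2 * m)} (hw : Maps X w f) (h : ∀ k, f (g k) = k) :
    Maps X w⁻¹ g := by
  intro k x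
  have h1 := hw (g k) (w⁻¹ * x * w)
  rw [h k] at h1
  have e : w * (w⁻¹ * x * w) * w⁻¹ = x := by group
  rw [e] at h1
  rw [inv_inv]
  exact h1.symm

theorem congr {w : Y} {f g : ZMod (2 * m) → ZMod (2 * m)} (hw : Maps X w f) (h : ∀ k, f k = g k) :
    Maps X w g := by
  intro k x
  rw [← h k]
  exact hw k x

end Maps

/-- The torus: all elements normalising all root groups. -/
def torus (X : ZMod (2 * m) → Subgroup Y) : Subgroup Y where
  carrier := {h | Maps X h id}
  mul_mem' := by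
    intro a b ha hb
    exact (Maps.mul ha hb).congr (fun _ => rfl)
  one_mem' := Maps.one
  inv_mem' := by
    intro a ha
    exact Maps.inv ha (fun _ => rfl)

theorem mem_torus {X : ZMod (2 * m) → Subgroup Y} {h : Y} : h ∈ torus X ↔ Maps X h id := Iff.rfl

/-- Root datum of rank two with all root groups. -/
structure RGDZ (m : ℕ) (Y : Type u) [Group Y] where
  X : ZMod (2 * m) → Subgroup Y
  one_le : 1 ≤ m
  comm : ∀ k l : ℕ, 1 ≤ k → k < l → l ≤ m → ∀ x ∈ X k, ∀ y ∈ X l,
    ⁅x, y⁆ ∈ ⨆ r ∈ Set.Ioo k l, X ((r : ℕ) : ZMod (2 * m))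
  muI : ∀ a ∈ X (m + 1), a ≠ 1 → ∃ x ∈ X 1, ∃ y ∈ X 1, Maps X (x * a * y) (fun k => m + 2 - k)
  muJ : ∀ a ∈ X 0, a ≠ 1 → ∃ x ∈ X m, ∃ y ∈ X m, Maps X (x * a * y) (fun k => m - k)
  neI : X (m + 1) ≠ ⊥
  neJ : X 0 ≠ ⊥

namespace RGDZ

variable (c : RGDZ m Y)

theorem two_m : (2 : ZMod (2 * m)) * m = 0 := by
  have := ZMod.natCast_self (2 * m)
  push_cast at this
  exact this

theorem exI : ∃ n : Y, n ∈ c.X 1 ⊔ c.X (m + 1) ∧ Maps c.X n (fun k => m + 2 - k) := by
  obtain ⟨a, ha, h1⟩ : ∃ a ∈ c.X (m + 1), a ≠ 1 := by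
    obtain ⟨a, h⟩ := Subgroup.ne_bot_iff_exists_ne_one.1 c.neI
    exact ⟨a, a.2, fun e => h (Subtype.ext e)⟩
  obtain ⟨x, hx, y, hy, h⟩ := c.muI a ha h1
  have l1 : c.X 1 ≤ c.X 1 ⊔ c.X (m + 1) := le_sup_left
  have l2 : c.X (m + 1) ≤ c.X 1 ⊔ c.X (m + 1) := le_sup_right
  exact ⟨_, mul_mem (mul_mem (l1 hx) (l2 ha)) (l1 hy), h⟩

theorem exJ : ∃ n : Y, n ∈ c.X m ⊔ c.X 0 ∧ Maps c.X n (fun k => m - k) := by
  obtain ⟨a, ha, h1⟩ : ∃ a ∈ c.X 0, a ≠ 1 := by
    obtain ⟨a, h⟩ := Subgroup.ne_bot_iff_exists_ne_one.1 c.neJ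
    exact ⟨a, a.2, fun e => h (Subtype.ext e)⟩
  obtain ⟨x, hx, y, hy, h⟩ := c.muJ a ha h1
  have l1 : c.X m ≤ c.X m ⊔ c.X 0 := le_sup_left
  have l2 : c.X 0 ≤ c.X m ⊔ c.X 0 := le_sup_right
  exact ⟨_, mul_mem (mul_mem (l1 hx) (l2 ha)) (l1 hy), h⟩

/-- The reflection at the first simple root. -/
noncomputable def nI : Y := c.exI.choose

/-- The reflection at the second simple root. -/
noncomputable def nJ : Y := c.exJ.choose

theorem nI_mem : c.nI ∈ c.X 1 ⊔ c.X (m + 1) := c.exI.choose_spec.1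

theorem nJ_mem : c.nJ ∈ c.X m ⊔ c.X 0 := c.exJ.choose_spec.1

theorem nI_maps : Maps c.X c.nI (fun k => m + 2 - k) := c.exI.choose_spec.2

theorem nJ_maps : Maps c.X c.nJ (fun k => m - k) := c.exJ.choose_spec.2

/-- two elements inducing the same reflection differ by a torus element -/
theorem inv_mul_mem {X : ZMod (2 * m) → Subgroup Y} {n n' : Y} {e : ZMod (2 * m)}
    (h : Maps X n (fun k => e - k)) (h' : Maps X n' (fun k => e - k)) : n⁻¹ * n' ∈ torus X := by
  have h1 : Maps X n⁻¹ (fun k => e - k) := h.inv (fun k => by ring)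
  exact (h1.mul h').congr (fun k => by simp)

theorem sq_mem {X : ZMod (2 * m) → Subgroup Y} {n : Y} {e : ZMod (2 * m)}
    (h : Maps X n (fun k => e - k)) : n * n ∈ torus X :=
  (h.mul h).congr (fun k => by simp)

theorem conj_mem {X : ZMod (2 * m) → Subgroup Y} {n : Y} {e : ZMod (2 * m)}
    (h : Maps X n (fun k => e - k)) {t : Y} (ht : t ∈ torus X) : n * t * n⁻¹ ∈ torus X := by
  have h1 : Maps X n⁻¹ (fun k => e - k) := h.inv (fun k => by ring)
  exact ((h.mul ht).mul h1).congr (fun k => by simp)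

theorem alt_maps (r : ℕ) :
    Maps c.X (alt c.nI c.nJ r) (fun k => if Even r then k + r else m + 1 - k + r) ∧
    Maps c.X (alt c.nJ c.nI r) (fun k => if Even r then k - r else m + 1 - k - r) := by
  induction r with
  | zero =>
    refine ⟨Maps.one.congr fun k => by simp, Maps.one.congr fun k => by simp⟩
  | succ r ih =>
    constructor
    · refine (c.nI_maps.mul ih.2).congr fun k => ?_
      by_cases h : Even r
      · have h' : ¬ Even (r + 1) := by simpa [Nat.even_add_one] using h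
        simp only [Function.comp, h, h', if_true, if_false]
        push_cast; ring
      · have h' : Even (r + 1) := by simpa [Nat.even_add_one] using h
        simp only [Function.comp, h, h', if_true, if_false]
        push_cast; ring
    · refine (c.nJ_maps.mul ih.1).congr fun k => ?_
      by_cases h : Even r
      · have h' : ¬ Even (r + 1) := by simpa [Nat.even_add_one] using h
        simp only [Function.comp, h, h', if_true, if_false]
        push_cast; ring
      · have h' : Even (r + 1) := by simpa [Nat.even_add_one] using h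
        simp only [Function.comp, h, h', if_true, if_false]
        push_cast; ring

theorem braid : ∃ h ∈ torus c.X, alt c.nI c.nJ m = alt c.nJ c.nI m * h := by
  refine ⟨(alt c.nJ c.nI m)⁻¹ * alt c.nI c.nJ m, ?_, by group⟩
  have h2 := two_m (m := m)
  obtain ⟨hI, hJ⟩ := c.alt_maps m
  by_cases h : Even m
  · simp only [h, if_true] at hI hJ
    have h3 : Maps c.X (alt c.nJ c.nI m)⁻¹ (fun k => k + m) := hJ.inv (fun k => by ring)
    refine (h3.mul hI).congr fun k => ?_
    simp only [Function.comp, id]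
    linear_combination h2
  · simp only [h, if_false] at hI hJ
    have h3 : Maps c.X (alt c.nJ c.nI m)⁻¹ (fun k => m + 1 - k - m) := hJ.inv (fun k => by ring)
    refine (h3.mul hI).congr fun k => ?_
    simp only [Function.comp, id]
    linear_combination -h2

/-- The associated indexed root datum. -/
noncomputable def r2 : R2 m Y where
  X := fun k => c.X (k : ZMod (2 * m))
  XI' := c.X (m + 1)
  XJ' := c.X 0
  H := torus c.X
  nI := c.nI
  nJ := c.nJ
  one_le := c.one_le
  comm := c.comm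
  HX := fun h hh k _ _ x hx => (hh _ _).2 hx
  nI_X := by
    intro k h1 h2 x hx
    have h3 := (c.nI_maps _ _).2 hx
    have e : ((m + 2 - k : ℕ) : ZMod (2 * m)) = m + 2 - k := by
      rw [Nat.cast_sub (by omega)]; push_cast; ring
    rw [e]
    exact h3
  nJ_X := by
    intro k h1 h2 x hx
    have h3 := (c.nJ_maps _ _).2 hx
    have e : ((m - k : ℕ) : ZMod (2 * m)) = m - k := by
      rw [Nat.cast_sub h2.le]
    rw [e]
    exact h3
  nI_pos := by
    intro x hx
    have h3 := (c.nI_maps _ _).2 hx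
    have e : (m : ZMod (2 * m)) + 2 - ((1 : ℕ) : ZMod (2 * m)) = m + 1 := by push_cast; ring
    beta_reduce at h3
    rwa [e] at h3
  nI_neg := by
    intro x hx
    have h3 := (c.nI_maps _ _).2 hx
    have e : (m : ZMod (2 * m)) + 2 - (m + 1) = ((1 : ℕ) : ZMod (2 * m)) := by push_cast; ring
    beta_reduce at h3
    rwa [e] at h3
  nJ_pos := by
    intro x hx
    have h3 := (c.nJ_maps _ _).2 hx
    beta_reduce at h3
    rwa [sub_self] at h3
  nJ_neg := by
    intro x hx
    have h3 := (c.nJ_maps _ _).2 hx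
    beta_reduce at h3
    rwa [sub_zero] at h3
  nI_sq := sq_mem c.nI_maps
  nJ_sq := sq_mem c.nJ_maps
  nI_H := fun h hh => conj_mem c.nI_maps hh
  nJ_H := fun h hh => conj_mem c.nJ_maps hh
  rank_oneI := by
    intro a ha h1
    obtain ⟨x, hx, y, hy, h⟩ := c.muI a ha h1
    have hx' : x ∈ c.X ((1 : ℕ) : ZMod (2 * m)) := by simpa using hx
    have hy' : y ∈ c.X ((1 : ℕ) : ZMod (2 * m)) := by simpa using hy
    refine ⟨x⁻¹, inv_mem hx', c.nI⁻¹ * (x * a * y), inv_mul_mem c.nI_maps h, y⁻¹, inv_mem hy', ?_⟩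
    group
  rank_oneJ := by
    intro a ha h1
    obtain ⟨x, hx, y, hy, h⟩ := c.muJ a ha h1
    refine ⟨x⁻¹, inv_mem hx, c.nJ⁻¹ * (x * a * y), inv_mul_mem c.nJ_maps h, y⁻¹, inv_mem hy, ?_⟩
    group
  memI := by
    have h := c.nI_mem
    simpa using h
  memJ := c.nJ_mem
  braid := c.braid

/-- The associated abstract root datum. -/
noncomputable def core : Core m Y := c.r2.core

/-- The positive part. -/
noncomputable def U : Subgroup Y := c.r2.U

theorem X_le_U {k : ℕ} (h1 : 1 ≤ k) (h2 : k ≤ m) : c.X (k : ZMod (2 * m)) ≤ c.U := c.r2.X_le h1 h2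

theorem U_le_G : c.U ≤ c.core.G := le_trans c.core.U_le c.core.D_le

/-- All root groups lie in `G = ⟨U, H, X (m+1), X 0⟩`. -/
theorem X_le_G (k : ZMod (2 * m)) : c.X k ≤ c.core.G := by
  have : NeZero (2 * m) := ⟨by have := c.one_le; omega⟩
  -- positive roots
  have pos : ∀ k : ℕ, 1 ≤ k → k ≤ m → c.X (k : ZMod (2 * m)) ≤ c.core.G := fun k h1 h2 =>
    (c.X_le_U h1 h2).trans c.U_le_G
  have altG : ∀ r, alt c.nI c.nJ r ∈ c.core.G ∧ alt c.nJ c.nI r ∈ c.core.G := by
    intro r
    induction r with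
    | zero => exact ⟨one_mem _, one_mem _⟩
    | succ r ih => exact ⟨mul_mem c.core.nI_mem ih.2, mul_mem c.core.nJ_mem ih.1⟩
  have key : ∀ k l : ZMod (2 * m), c.X k ≤ c.core.G →
      ∀ (w : Y) (f : ZMod (2 * m) → ZMod (2 * m)), w ∈ c.core.G → Maps c.X w f → f l = k →
      c.X l ≤ c.core.G := by
    intro k l hk w f hw hf e x hx
    have h1 := (hf l x).2 hx
    rw [e] at h1
    have h2 := mul_mem (mul_mem (inv_mem hw) (hk h1)) hw
    have e2 : w⁻¹ * (w * x * w⁻¹) * w = x := by group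
    rwa [e2] at h2
  obtain ⟨k, hk, rfl⟩ : ∃ r : ℕ, r < 2 * m ∧ (r : ZMod (2 * m)) = k :=
    ⟨k.val, ZMod.val_lt k, ZMod.natCast_zmod_val k⟩
  have h2 := two_m (m := m)
  rcases Nat.eq_zero_or_pos k with rfl | h0
  · intro x hx
    have hx' : x ∈ c.X 0 := by simpa using hx
    exact c.core.AJ'_le hx'
  rcases Nat.lt_or_ge m k with hmk | hmk
  · -- negative root
    obtain ⟨hI, hJ⟩ := c.alt_maps m
    by_cases h : Even m
    · simp only [h, if_true] at hI hJ
      refine key ((k - m : ℕ) : ZMod (2 * m)) k (pos _ (by omega) (by omega)) _ _ (altG m).2 hJ ?_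
      rw [Nat.cast_sub hmk.le]
    · simp only [h, if_false] at hI hJ
      refine key ((2 * m + 1 - k : ℕ) : ZMod (2 * m)) k (pos _ (by omega) (by omega)) _ _ (altG m).1 hI ?_
      rw [Nat.cast_sub (by omega)]
      push_cast
      ring
  · exact pos k h0 hmk

end RGDZ

end Cfsg.Agent.TitsThree.RankTwoZ
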