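import Cfsg.Agent.TitsThree.KSideUDesc
import Cfsg.Agent.TitsThree.FrameCN
import Cfsg.Agent.TitsThree.StdData

/-!
K side of type `C_n`, unitary case: `KCN (PSU (2(n+2)) F q) (stdU0 F σ hσ) (n+1)` and
`KCN (PSU (2(n+2)+1) F q) (stdU1 F σ hσ) (n+1)`.
-/

set_option autoImplicit false

namespace Cfsg.Agent.TitsThree.KInstU

open Cfsg Cfsg.Agent.LieClassical.HermBasic
open Cfsg.Agent.TitsThree.Siegel Cfsg.Agent.TitsThree.SiegelGen Cfsg.Agent.TitsThree.WittFrame
open Cfsg.Agent.TitsThree.WBridge Cfsg.Agent.TitsThree.KSideU Cfsg.Agent.TitsThree.KSideUDesc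
open Cfsg.Agent.TitsThree.FrameCN Cfsg.Agent.TitsThree.B2Frame Cfsg.Agent.TitsThree.B2Pkg
open Cfsg.Agent.TitsThree.Pack Cfsg.Agent.TitsThree.StdData

/-- An involutory automorphism of a finite field is `x ↦ x ^ q`, `|F| = q ^ 2`. -/
theorem exists_conj {F : Type*} [Field F] [Fintype F] (σ : F ≃+* F) (hσ : ∀ x, σ (σ x) = x)
    (hne : ∃ x, σ x ≠ x) : ∃ (q : ℕ) (hF : Fintype.card F = q ^ 2), σ = conj hF := by
  classical
  obtain ⟨p, hp⟩ := CharP.exists F
  have hpp : Fact p.Prime := ⟨CharP.char_is_prime F p⟩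
  let _ : Algebra (ZMod p) F := ZMod.algebra F p
  let τ : F ≃ₐ[ZMod p] F := AlgEquiv.ofRingEquiv (f := σ) (fun r => by
    have : (σ : F →+* F).comp (algebraMap (ZMod p) F) = algebraMap (ZMod p) F := RingHom.ext_zmod _ _
    exact congrFun (congrArg DFunLike.coe this) r)
  obtain ⟨⟨j, hj⟩, hτ⟩ := (FiniteField.bijective_frobeniusAlgEquivOfAlgebraic_pow (ZMod p) F).2 τ
  have hτ' : FiniteField.frobeniusAlgEquivOfAlgebraic (ZMod p) F ^ j = τ := hτ
  have hσj : ∀ x, σ x = x ^ (p ^ j) := by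
    intro x
    have h1 : τ x = σ x := rfl
    rw [← h1, ← hτ', AlgEquiv.coe_pow, FiniteField.coe_frobeniusAlgEquivOfAlgebraic_iterate,
      ZMod.card]
  have h2 : FiniteField.frobeniusAlgEquivOfAlgebraic (ZMod p) F ^ (2 * j) = 1 := by
    rw [two_mul, pow_add, hτ']
    ext x
    exact hσ x
  have h3 : Module.finrank (ZMod p) F ∣ 2 * j := by
    rw [← FiniteField.orderOf_frobeniusAlgEquivOfAlgebraic]
    exact orderOf_dvd_of_pow_eq_one h2
  have hj0 : j ≠ 0 := by
    rintro rfl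
    obtain ⟨x, hx⟩ := hne
    apply hx
    rw [hσj, pow_zero, pow_one]
  have h4 : Module.finrank (ZMod p) F = 2 * j := by
    obtain ⟨m, hm⟩ := h3
    have : m ≠ 0 := by rintro rfl; omega
    have : m < 2 := by
      by_contra hcon
      push Not at hcon
      have := Nat.mul_le_mul_left (Module.finrank (ZMod p) F) hcon
      omega
    have : m = 1 := by omega
    rw [hm, this, mul_one]
  refine ⟨p ^ j, ?_, ?_⟩
  · have := Module.card_eq_pow_finrank (K := ZMod p) (V := F)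
    rw [ZMod.card, h4] at this
    rw [this, ← pow_mul, mul_comm]
  · ext x
    rw [hσj]
    rfl

universe u

variable {F : Type u} [Field F] [Fintype F] {q N : ℕ}

/-- The model of `PSU` over the Witt frame. -/
noncomputable def model (hF : Fintype.card F = q ^ 2) (hN : 3 ≤ N) {m : ℕ}
    (W : WFrame (PU hF N) m) : Model (toFrame W) (PSU N F q) where
  I := IU F q N
  φ := toPSU F q N
  hX := X_mem hF W
  hZ := Z_mem hF W
  ker v g h := mem_lineStab_of_toPSU hF hN v g h
  gen l L h1 h2 := eq_top hF W hN l L h1 h2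

/-- The parameter system `U0` in even dimension. -/
def emb0 (hF : Fintype.card F = q ^ 2) {m : ℕ} (W : WFrame (PU hF N) m) (hσ) :
    Emb (stdU0 F (conj hF) hσ) (toFrame W) where
  j := 0
  σ_eq := rfl
  ε_eq := rfl
  h_eq v w := by
    rw [LinearMap.zero_apply, HForm.zero_left]
    rfl
  ok_of {w c} h := by
    refine ⟨W.V0.zero_mem, ?_⟩
    rw [HU_ε, inv_one, one_mul, ok_iff, LinearMap.zero_apply, herm_zero_left, neg_zero]
    exact h

theorem emb0_surj (hF : Fintype.card F = q ^ 2) {m : ℕ} (W : WFrame (PU hF N) m) (hσ)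
    (hW : W.V0 = ⊥) : Function.Surjective (emb0 hF W hσ).ngt := by
  rintro ⟨w, c, hw, hok⟩
  have hw0 : w = 0 := by
    have := hw
    rw [hW] at this
    exact (Submodule.mem_bot F).1 this
  subst hw0
  refine ⟨⟨PUnit.unit, c, ?_⟩, ?_⟩
  · have := hok
    rw [ok_iff, herm_zero_left, neg_zero] at this
    exact this
  · apply Frame.Adm.ext
    · rfl
    · rw [Emb.ngt_c, HU_ε, inv_one, one_mul]

/-- The parameter system `U1` in odd dimension. -/
def emb1 (hF : Fintype.card F = q ^ 2) {m : ℕ} (W : WFrame (PU hF N) m) (hσ) (d : Fin N → F)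
    (hd : hermForm N F q d d = 1) (hW : W.V0 = Submodule.span F {d}) :
    Emb (stdU1 F (conj hF) hσ) (toFrame W) where
  j := (LinearMap.id : F →ₗ[F] F).smulRight d
  σ_eq := rfl
  ε_eq := rfl
  h_eq v w := by
    rw [LinearMap.smulRight_apply, LinearMap.smulRight_apply, HU_h, herm_smul_left,
      herm_smul_right, hd, mul_one]
    rfl
  ok_of {w c} h := by
    refine ⟨?_, ?_⟩
    · rw [hW]
      exact Submodule.smul_mem _ _ (Submodule.mem_span_singleton_self d)
    · rw [HU_ε, inv_one, one_mul, ok_iff, LinearMap.smulRight_apply, herm_smul_left,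
        herm_smul_right, hd, mul_one]
      exact h

theorem emb1_surj (hF : Fintype.card F = q ^ 2) {m : ℕ} (W : WFrame (PU hF N) m) (hσ)
    (d : Fin N → F) (hd : hermForm N F q d d = 1) (hW : W.V0 = Submodule.span F {d}) :
    Function.Surjective (emb1 hF W hσ d hd hW).ngt := by
  rintro ⟨w, c, hw, hok⟩
  obtain ⟨a, rfl⟩ : ∃ a : F, a • d = w := by
    have := hw
    rw [hW] at this
    exact Submodule.mem_span_singleton.1 this
  refine ⟨⟨a, c, ?_⟩, ?_⟩
  · have := hok
    rw [ok_iff, herm_smul_left, herm_smul_right, hd, mul_one] at this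
    exact this
  · apply Frame.Adm.ext
    · rfl
    · rw [Emb.ngt_c, HU_ε, inv_one, one_mul]

/-- K side, even dimensional unitary groups. -/
theorem exists_KCN_U0 {F : Type} [Field F] [Fintype F] (σ : F ≃+* F) (hσ : ∀ x, σ (σ x) = x)
    (hne : ∃ x, σ x ≠ x) (n : ℕ) :
    ∃ (K : Type) (_ : Group K), IsSimpleGroup K ∧ IsPSU K ∧
      Nonempty (KCN K (stdU0 F σ hσ) (n + 1)) := by
  obtain ⟨q, hF, rfl⟩ := exists_conj σ hσ hne
  obtain ⟨W, hW⟩ := exists_wframe_even (N := 2 * (n + 2)) hF rfl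
  exact ⟨PSU (2 * (n + 2)) F q, inferInstance, isSimple hF (by omega),
    ⟨F, inferInstance, inferInstance, 2 * (n + 2), q, hF, by omega, by omega,
      ⟨MulEquiv.refl _⟩⟩,
    ⟨kcn (model hF (by omega) W) (emb0 hF W hσ) (emb0_surj hF W hσ hW)⟩⟩

/-- K side, odd dimensional unitary groups. -/
theorem exists_KCN_U1 {F : Type} [Field F] [Fintype F] (σ : F ≃+* F) (hσ : ∀ x, σ (σ x) = x)
    (hne : ∃ x, σ x ≠ x) (n : ℕ) :
    ∃ (K : Type) (_ : Group K), IsSimpleGroup K ∧ IsPSU K ∧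
      Nonempty (KCN K (stdU1 F σ hσ) (n + 1)) := by
  obtain ⟨q, hF, rfl⟩ := exists_conj σ hσ hne
  obtain ⟨W, d, hd, hW⟩ := exists_wframe_odd (N := 2 * (n + 2) + 1) hF rfl
  exact ⟨PSU (2 * (n + 2) + 1) F q, inferInstance, isSimple hF (by omega),
    ⟨F, inferInstance, inferInstance, 2 * (n + 2) + 1, q, hF, by omega, by omega,
      ⟨MulEquiv.refl _⟩⟩,
    ⟨kcn (model hF (by omega) W) (emb1 hF W hσ d hd hW) (emb1_surj hF W hσ d hd hW)⟩⟩

end Cfsg.Agent.TitsThree.KInstU
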