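import Cfsg.Agent.TitsThree.SiegelComm

/-!
# Witt frames and root elements of type `C_n` for `(σ, ε)`-hermitian forms

`b (i, true) = e_i`, `b (i, false) = f_i`.  `X x y t` (for signed indices `x, y` with different
underlying index) is the element with `b (-y) ↦ b (-y) + t b x`; `Z x p` for an admissible pair
`p = (w, c)` is `S(b x, w, c)`.
-/

set_option autoImplicit false

namespace Cfsg.Agent.TitsThree.WittFrame

open Cfsg.Agent.TitsThree.Siegel Cfsg.Agent.TitsThree.SiegelComm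

/-- the opposite signed index -/
def neg {ι : Type*} (x : ι × Bool) : ι × Bool := (x.1, !x.2)

@[simp] theorem neg_neg {ι : Type*} (x : ι × Bool) : neg (neg x) = x := by
  simp [neg]

@[simp] theorem neg_fst {ι : Type*} (x : ι × Bool) : (neg x).1 = x.1 := rfl

@[simp] theorem neg_snd {ι : Type*} (x : ι × Bool) : (neg x).2 = !x.2 := rfl

/-- A Witt frame (with anisotropic or arbitrary part `V0`) and a set `ok` of admissible pairs. -/
structure Frame {F : Type*} [Field F] {V : Type*} [AddCommGroup V] [Module F V] (H : HForm F V)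
    (ι : Type*) [DecidableEq ι] where
  b : ι × Bool → V
  hb : ∀ x y, H.h (b x) (b y) = if x.1 = y.1 ∧ x.2 ≠ y.2 then (if x.2 then 1 else H.ε) else 0
  V0 : Submodule F V
  h0 : ∀ x, ∀ w ∈ V0, H.h (b x) w = 0
  ok : V → F → Prop
  ok_mem : ∀ {w c}, ok w c → w ∈ V0
  ok_herm : ∀ {w c}, ok w c → H.ε * c + H.σ c = -H.h w w
  ok_zero : ok 0 0
  ok_mul : ∀ {w c w' c'}, ok w c → ok w' c' → ok (w + w') (c + c' - H.ε⁻¹ * H.h w' w)
  ok_inv : ∀ {w c}, ok w c → ok (-w) (-c - H.ε⁻¹ * H.h w w)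
  ok_smul : ∀ (a : F) {w c}, ok w c → ok (a • w) (a * H.σ a * c)
  ok_tr : ∀ m : F, ok 0 (m - H.ε⁻¹ * H.σ m)

namespace Frame

variable {F : Type*} [Field F] {V : Type*} [AddCommGroup V] [Module F V] {H : HForm F V}
  {ι : Type*} [DecidableEq ι] (Fr : Frame H ι)

/-! ## Pairings -/

theorem hb_ne {x y : ι × Bool} (h : y ≠ neg x) : H.h (Fr.b x) (Fr.b y) = 0 := by
  rw [Fr.hb, if_neg]
  rintro ⟨h1, h2⟩
  apply h
  ext
  · exact h1.symm
  · rw [neg_snd]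
    cases hx : x.2 <;> cases hy : y.2 <;> simp_all

theorem hb_self (x : ι × Bool) : H.h (Fr.b x) (Fr.b x) = 0 := by
  rw [Fr.hb]; simp

theorem hb_of_ne {x y : ι × Bool} (h : x.1 ≠ y.1) : H.h (Fr.b x) (Fr.b y) = 0 := by
  rw [Fr.hb, if_neg]
  exact fun h' => h h'.1

/-- `η x = h(b_{-x}, b_x)` -/
def η (_ : Frame H ι) (x : ι × Bool) : F := if x.2 then H.ε else 1

theorem hb_neg_self (x : ι × Bool) : H.h (Fr.b (neg x)) (Fr.b x) = Fr.η x := by
  rw [Fr.hb, η]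
  cases hx : x.2 <;> simp [neg, hx]

theorem hb_self_neg (x : ι × Bool) : H.h (Fr.b x) (Fr.b (neg x)) = Fr.η (neg x) := by
  have := Fr.hb_neg_self (neg x)
  rwa [neg_neg] at this

theorem η_ne (x : ι × Bool) : Fr.η x ≠ 0 := by
  rw [η]; split_ifs
  · exact H.ε_ne
  · exact one_ne_zero

theorem η_mul (x : ι × Bool) : Fr.η x * H.σ (Fr.η x) = 1 := by
  rw [η]; split_ifs
  · exact H.ε_mul
  · simp

theorem η_neg (x : ι × Bool) : Fr.η (neg x) * Fr.η x = H.ε := by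
  rw [η, η]; cases hx : x.2 <;> simp [neg, hx]

theorem h0' (x : ι × Bool) {w : V} (hw : w ∈ Fr.V0) : H.h w (Fr.b x) = 0 :=
  H.orth_symm (Fr.h0 x w hw)

theorem σ_η (x : ι × Bool) : H.σ (Fr.η x) = (Fr.η x)⁻¹ := eq_inv_of_mul_eq_one_right (Fr.η_mul x)

/-! ## The group of admissible pairs -/

/-- Admissible pairs `(w, c)`. -/
@[ext] structure Adm where
  w : V
  c : F
  ok : Fr.ok w c

namespace Adm

variable {Fr}

instance instMul : Mul Fr.Adm :=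
  ⟨fun p q => ⟨p.w + q.w, p.c + q.c - H.ε⁻¹ * H.h q.w p.w, Fr.ok_mul p.ok q.ok⟩⟩

instance instOne : One Fr.Adm := ⟨⟨0, 0, Fr.ok_zero⟩⟩

instance instInv : Inv Fr.Adm := ⟨fun p => ⟨-p.w, -p.c - H.ε⁻¹ * H.h p.w p.w, Fr.ok_inv p.ok⟩⟩

@[simp] theorem mul_w (p q : Fr.Adm) : (p * q).w = p.w + q.w := rfl
@[simp] theorem mul_c (p q : Fr.Adm) : (p * q).c = p.c + q.c - H.ε⁻¹ * H.h q.w p.w := rfl
@[simp] theorem one_w : (1 : Fr.Adm).w = 0 := rfl
@[simp] theorem one_c : (1 : Fr.Adm).c = 0 := rfl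
@[simp] theorem inv_w (p : Fr.Adm) : p⁻¹.w = -p.w := rfl
@[simp] theorem inv_c (p : Fr.Adm) : p⁻¹.c = -p.c - H.ε⁻¹ * H.h p.w p.w := rfl

instance instGroup : Group Fr.Adm where
  mul_assoc p q r := by
    ext
    · simp [add_assoc]
    · simp only [mul_c, mul_w, H.add_left, H.add_right]; ring
  one_mul p := by
    ext
    · simp
    · simp [H.zero_right]
  mul_one p := by
    ext
    · simp
    · simp [H.zero_left]
  inv_mul_cancel p := by
    ext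
    · simp
    · simp only [mul_c, inv_c, inv_w, one_c, H.neg_right]; ring

/-- scaling -/
def smul (a : F) (p : Fr.Adm) : Fr.Adm := ⟨a • p.w, a * H.σ a * p.c, Fr.ok_smul a p.ok⟩

@[simp] theorem smul_w (a : F) (p : Fr.Adm) : (smul a p).w = a • p.w := rfl
@[simp] theorem smul_c (a : F) (p : Fr.Adm) : (smul a p).c = a * H.σ a * p.c := rfl

theorem smul_mul (a : F) (p q : Fr.Adm) : smul a (p * q) = smul a p * smul a q := by
  ext
  · simp
  · simp only [smul_c, mul_c, smul_w, H.smul_left, H.smul_right]; ring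

theorem smul_smul (a a' : F) (p : Fr.Adm) : smul a (smul a' p) = smul (a * a') p := by
  ext
  · simp [_root_.smul_smul]
  · simp only [smul_c, map_mul]; ring

theorem one_smul (p : Fr.Adm) : smul 1 p = p := by
  ext <;> simp

theorem herm (p : Fr.Adm) : H.ε * p.c + H.σ p.c = -H.h p.w p.w := Fr.ok_herm p.ok

/-- the central elements `(0, m - ε⁻¹ σ m)` -/
def tr (m : F) : Fr.Adm := ⟨0, m - H.ε⁻¹ * H.σ m, Fr.ok_tr m⟩

@[simp] theorem tr_w (m : F) : (tr m : Fr.Adm).w = 0 := rfl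
@[simp] theorem tr_c (m : F) : (tr m : Fr.Adm).c = m - H.ε⁻¹ * H.σ m := rfl

end Adm

/-! ## Root elements -/

/-- the coefficient in `X x y t = S(b x, (sc y t) b y, 0)` -/
def sc (y : ι × Bool) (t : F) : F := -(H.ε⁻¹ * Fr.η y * H.σ t)

theorem sc_add (y : ι × Bool) (s t : F) : Fr.sc y (s + t) = Fr.sc y s + Fr.sc y t := by
  simp only [sc, map_add]; ring

theorem h_smul_b {x y : ι × Bool} (h : x.1 ≠ y.1) (s : F) :
    H.h (Fr.b x) (s • Fr.b y) = 0 := by rw [H.smul_right, Fr.hb_of_ne h, mul_zero]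

/-- `X x y t : b (-y) ↦ b (-y) + t b x` (type I roots), junk value `1` if `x, y` have the same
underlying index -/
def X (x y : ι × Bool) (t : F) : V ≃ₗ[F] V :=
  if h : x.1 ≠ y.1 then H.sie (Fr.b x) (Fr.sc y t • Fr.b y) 0 (Fr.hb_self x) (Fr.h_smul_b h _)
  else 1

theorem X_eq {x y : ι × Bool} (h : x.1 ≠ y.1) (t : F) :
    Fr.X x y t = H.sie (Fr.b x) (Fr.sc y t • Fr.b y) 0 (Fr.hb_self x) (Fr.h_smul_b h _) :=
  dif_pos h

/-- `Z x p = S(b x, w, c)` (type II roots) -/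
def Z (x : ι × Bool) (p : Fr.Adm) : V ≃ₗ[F] V :=
  H.sie (Fr.b x) p.w p.c (Fr.hb_self x) (Fr.h0 x _ (Fr.ok_mem p.ok))

theorem isIso_X (x y : ι × Bool) (t : F) : H.IsIso (Fr.X x y t) := by
  by_cases h : x.1 ≠ y.1
  · rw [Fr.X_eq h]
    apply H.isIso_sie
    rw [H.smul_left, H.smul_right, Fr.hb_self]; simp
  · rw [X, dif_neg h]
    intro v w; rfl

theorem isIso_Z (x : ι × Bool) (p : Fr.Adm) : H.IsIso (Fr.Z x p) :=
  H.isIso_sie _ _ p.herm

theorem Z_mul (x : ι × Bool) (p q : Fr.Adm) : Fr.Z x (p * q) = Fr.Z x p * Fr.Z x q := by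
  rw [Z, Z, Z, H.sie_mul]
  rfl

theorem Z_one (x : ι × Bool) : Fr.Z x 1 = 1 := H.sie_zero _ _

theorem Z_inv (x : ι × Bool) (p : Fr.Adm) : Fr.Z x p⁻¹ = (Fr.Z x p)⁻¹ := by
  rw [eq_inv_iff_mul_eq_one, ← Z_mul, inv_mul_cancel, Z_one]

theorem X_add (x y : ι × Bool) (s t : F) : Fr.X x y (s + t) = Fr.X x y s * Fr.X x y t := by
  by_cases h : x.1 ≠ y.1
  · rw [Fr.X_eq h, Fr.X_eq h, Fr.X_eq h, H.sie_mul]
    apply H.sie_congr _ _ _ _ rfl
    · rw [sc_add, add_smul]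
    · rw [H.smul_left, H.smul_right, Fr.hb_self]; simp
  · rw [X, X, X, dif_neg h, dif_neg h, dif_neg h, mul_one]

theorem X_zero (x y : ι × Bool) : Fr.X x y 0 = 1 := by
  have := Fr.X_add x y 0 0
  rw [add_zero] at this
  exact (mul_eq_left.mp this.symm)

theorem X_neg (x y : ι × Bool) (t : F) : Fr.X x y (-t) = (Fr.X x y t)⁻¹ := by
  rw [eq_inv_iff_mul_eq_one, ← X_add, neg_add_cancel, X_zero]

/-- interchange of the two indices -/
theorem X_swap {x y : ι × Bool} (h : x.1 ≠ y.1) (t : F) :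
    Fr.X x y t = Fr.X y x (-(H.ε⁻¹ * Fr.η x * Fr.η y * H.σ t)) := by
  rw [Fr.X_eq h, Fr.X_eq h.symm]
  rw [H.sie_symm (Fr.b x) _ (Fr.hb_self x) (Fr.h_smul_b h _)
    (by rw [H.smul_left, H.smul_right, Fr.hb_self]; simp)]
  rw [H.sie_smul (Fr.b y) _ 0 (Fr.sc y t) (Fr.hb_self y)
    (by rw [H.neg_right, H.smul_right, Fr.hb_of_ne h.symm]; simp)]
  apply H.sie_congr _ _ _ _ rfl
  · rw [smul_neg, _root_.smul_smul, ← neg_smul]
    congr 1
    simp only [sc, map_neg, map_mul, H.σε', H.σσ, Fr.σ_η]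
    have h1 := Fr.η_ne y
    have h2 := Fr.η_ne x
    have h3 := H.ε_ne
    have h4 := Fr.η_mul x
    rw [σ_η] at h4
    field_simp
  · ring

theorem sc_mul_η (y : ι × Bool) (s : F) : Fr.sc y s * Fr.η (neg y) = -H.σ s := by
  rw [sc]
  have h1 := Fr.η_neg y
  have h3 := H.ε_ne
  calc -(H.ε⁻¹ * Fr.η y * H.σ s) * Fr.η (neg y)
      = -(H.ε⁻¹ * (Fr.η (neg y) * Fr.η y) * H.σ s) := by ring
    _ = -H.σ s := by rw [h1]; field_simp

theorem kap (y : ι × Bool) (s : F) : H.h (Fr.sc y s • Fr.b y) (Fr.b (neg y)) = -H.σ s := by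
  rw [H.smul_left, Fr.hb_self_neg, sc_mul_η]

omit [DecidableEq ι] in
theorem ne_neg {x y : ι × Bool} (h : x.1 ≠ y.1) : y ≠ neg x := by
  intro h'
  apply h
  rw [h', neg_fst]

/-! ## Relations -/

/-- (R1) -/
theorem commute_XX {x y z u : ι × Bool} (h1 : z ≠ neg x) (h2 : z ≠ neg y) (h3 : u ≠ neg x)
    (h4 : u ≠ neg y) (s t : F) : Commute (Fr.X x y s) (Fr.X z u t) := by
  by_cases hxy : x.1 ≠ y.1
  · by_cases hzu : z.1 ≠ u.1
    · rw [Fr.X_eq hxy, Fr.X_eq hzu]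
      apply commute_sie_of_orth H
      · exact Fr.hb_ne h1
      · rw [H.smul_right, Fr.hb_ne h3, mul_zero]
      · rw [H.smul_left, Fr.hb_ne h2, mul_zero]
      · rw [H.smul_right, H.smul_left, Fr.hb_ne h4, mul_zero, mul_zero]
    · rw [X, X, dif_neg hzu]; exact Commute.one_right _
  · rw [X, dif_neg hxy]; exact Commute.one_left _

/-- (R2) `[X_{x,y}(s), X_{-y,z}(t)] = X_{x,z}(st)` -/
theorem conj_X_X {x y z : ι × Bool} (hxy : x.1 ≠ y.1) (hyz : y.1 ≠ z.1) (hxz : x.1 ≠ z.1)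
    (s t : F) : Fr.X x y s * Fr.X (neg y) z t * (Fr.X x y s)⁻¹ =
      Fr.X x z (s * t) * Fr.X (neg y) z t := by
  rw [Fr.X_eq hxy, Fr.X_eq (x := neg y) hyz, Fr.X_eq hxz]
  have h0 : H.h (Fr.b x) (Fr.b (neg y)) = 0 := Fr.hb_of_ne hxy
  rw [conj_T H _ _ _ _ 0 (Fr.hb_self x) (Fr.h_smul_b hxy _)
    (by rw [H.smul_left, H.smul_right, Fr.hb_self]; simp) (Fr.hb_self _)
    (Fr.h_smul_b (x := neg y) hyz _) h0 (by rw [H.smul_right, Fr.hb_of_ne hxz, mul_zero])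
    (by rw [H.smul_right, H.smul_left, Fr.hb_of_ne hyz]; simp)
    (by rw [H.smul_right, H.smul_left, Fr.hb_self]; simp)]
  congr 1
  rw [H.sie_congr (u' := Fr.b x) (w' := (0 : V)) (c' := 0) (Fr.hb_self x)
    (w := -((H.h (Fr.sc y s • Fr.b y) (Fr.b (neg y)) * 0) • Fr.b (neg y))) (c := 0)
    (by rw [H.neg_right, H.smul_right, h0]; simp) (Fr.hb_self x) (H.zero_right _) rfl
    (by simp) rfl, H.sie_zero, mul_one]
  apply H.sie_congr _ _ _ _ rfl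
  · rw [kap, smul_smul, ← neg_smul]
    congr 1
    simp only [sc, map_mul]; ring
  · ring

/-- (R3) -/
theorem X_mul_X_same {x y : ι × Bool} (hxy : x.1 ≠ y.1) (s t : F) :
    Fr.X x y s * Fr.X x (neg y) t =
      Fr.Z x (Adm.tr (H.σ s * t * (Fr.η (neg y))⁻¹)) * (Fr.X x (neg y) t * Fr.X x y s) := by
  rw [Fr.X_eq hxy, Fr.X_eq (y := neg y) hxy, Z, mul_sie_same H]
  congr 1
  apply H.sie_congr _ _ _ _ rfl rfl
  rw [Adm.tr_c]
  have e1 : H.h (Fr.sc y s • Fr.b y) (Fr.sc (neg y) t • Fr.b (neg y)) =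
      H.ε * (H.σ s * t * (Fr.η (neg y))⁻¹) := by
    rw [H.smul_right, kap, sc]
    simp only [map_neg, map_mul, H.σε', H.σσ, Fr.σ_η]
    ring
  rw [H.swap (Fr.sc y s • Fr.b y) (Fr.sc (neg y) t • Fr.b (neg y)), e1]
  simp only [map_mul, map_inv₀, H.σε, H.σσ, Fr.σ_η]
  have h2 := Fr.η_ne (neg y)
  have h3 := H.ε_ne
  field_simp

/-- (R4) `[X_{x,-y}(t), Z_y(p)] = Z_x(σ(t) p) X_{x,y}(-ε⁻¹ η_y σ(c) t)` -/
theorem conj_X_Z {x y : ι × Bool} (hxy : x.1 ≠ y.1) (t : F) (p : Fr.Adm) :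
    Fr.X x (neg y) t * Fr.Z y p * (Fr.X x (neg y) t)⁻¹ =
      Fr.Z x (Adm.smul (H.σ t) p) * Fr.X x y (-(H.ε⁻¹ * Fr.η y * H.σ p.c * t)) * Fr.Z y p := by
  have hk : H.h (Fr.sc (neg y) t • Fr.b (neg y)) (Fr.b y) = -H.σ t := by
    have := Fr.kap (neg y) t
    rwa [neg_neg] at this
  have hp := Fr.ok_mem p.ok
  rw [Fr.X_eq hxy, Fr.X_eq (y := neg y) hxy, Z, Z]
  have hxy' : x.1 ≠ (neg y).1 := hxy
  rw [conj_T H _ _ _ _ p.c (Fr.hb_self x) (Fr.h_smul_b hxy' _)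
    (by rw [H.smul_left, H.smul_right, Fr.hb_self]; simp) (Fr.hb_self _)
    (Fr.h0 y _ hp) (Fr.hb_of_ne hxy) (Fr.h0 x _ hp)
    (by rw [H.smul_left, Fr.h0 _ _ hp, mul_zero]) p.herm]
  congr 2
  · apply H.sie_congr _ _ _ _ rfl
    · rw [hk, neg_smul, _root_.neg_neg, Adm.smul_w]
    · rw [hk, Adm.smul_c, map_neg, H.σσ]; ring
  · apply H.sie_congr _ _ _ _ rfl _ rfl
    rw [hk, ← neg_smul]
    congr 1
    simp only [sc, map_neg, map_mul, H.σε', H.σσ, Fr.σ_η]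
    have h2 := Fr.η_ne y
    have h3 := H.ε_ne
    field_simp

/-- (R5) `[Z_x(p), Z_y(q)] = X_{x,y}(-η_y σ(h(p,q)))` -/
theorem Z_mul_Z {x y : ι × Bool} (hxy : x.1 ≠ y.1) (p q : Fr.Adm) :
    Fr.Z x p * Fr.Z y q =
      Fr.X x y (-(Fr.η y * H.σ (H.h p.w q.w))) * (Fr.Z y q * Fr.Z x p) := by
  rw [Fr.X_eq hxy, Z, Z, mul_sie_of_orth H _ _ _ _ _ _ _ _ _ _ (Fr.hb_of_ne hxy)
    (Fr.h0 x _ (Fr.ok_mem q.ok)) (Fr.h0' y (Fr.ok_mem p.ok))]
  congr 1
  apply H.sie_congr _ _ _ _ rfl _ rfl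
  congr 1
  simp only [sc, map_neg, map_mul, H.σσ, Fr.σ_η]
  have h2 := Fr.η_ne y
  have h3 := H.ε_ne
  field_simp

/-- (R6) -/
theorem commute_ZX {x y z : ι × Bool} (h1 : y ≠ neg x) (h2 : z ≠ neg x) (p : Fr.Adm) (t : F) :
    Commute (Fr.Z x p) (Fr.X y z t) := by
  by_cases hyz : y.1 ≠ z.1
  · rw [Fr.X_eq hyz, Z]
    have hp := Fr.ok_mem p.ok
    apply commute_sie_of_orth H
    · exact Fr.hb_ne h1
    · rw [H.smul_right, Fr.hb_ne h2, mul_zero]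
    · exact Fr.h0' y hp
    · rw [H.smul_right, Fr.h0' z hp, mul_zero]
  · rw [X, dif_neg hyz]; exact Commute.one_right _

/-! ## The `A_{n-1}` part -/

/-- `A i j t = x_{e_i - e_j}(t) : e_j ↦ e_j + t e_i` -/
def A (i j : ι) (t : F) : V ≃ₗ[F] V := Fr.X (i, true) (j, false) t

theorem A_add (i j : ι) (s t : F) : Fr.A i j (s + t) = Fr.A i j s * Fr.A i j t := Fr.X_add _ _ s t

theorem A_conj {i j k : ι} (hij : i ≠ j) (hjk : j ≠ k) (hik : i ≠ k) (s t : F) :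
    Fr.A i j s * Fr.A j k t * (Fr.A i j s)⁻¹ = Fr.A i k (s * t) * Fr.A j k t :=
  Fr.conj_X_X (x := (i, true)) (y := (j, false)) (z := (k, false)) hij hjk hik s t

theorem A_commute {i j k l : ι} (hjk : j ≠ k) (hil : i ≠ l) (s t : F) :
    Commute (Fr.A i j s) (Fr.A k l t) := by
  apply Fr.commute_XX
  · simp [neg]
  · intro h; exact hjk (by have := congrArg Prod.fst h; exact this.symm)
  · intro h; exact hil (by have := congrArg Prod.fst h; exact this.symm)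
  · simp [neg]

end Frame

end Cfsg.Agent.TitsThree.WittFrame
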