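import Cfsg.Agent.TitsThree.SiegelGen
import Cfsg.Agent.TitsThree.WittFrame

/-!
Bridge between `SiegelGen.WFrame` (spanning anisotropic Witt frames) and `WittFrame.Frame`
(helper166: root elements `X`, `Z` and their relations).
-/

set_option autoImplicit false

namespace Cfsg.Agent.TitsThree.WBridge

open Cfsg.Agent.TitsThree.Siegel Cfsg.Agent.TitsThree.SiegelGen Cfsg.Agent.TitsThree.WittFrame

variable {F : Type*} [Field F] {V : Type*} [AddCommGroup V] [Module F V] {H : HForm F V}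
  {P : PQ H} {n : ℕ}

/-- the `Frame` of a `WFrame` -/
def toFrame (W : WFrame P n) : Frame H (Fin n) where
  b x := if x.2 then W.e x.1 else W.f x.1
  hb x y := by
    rcases x with ⟨i, x⟩
    rcases y with ⟨j, y⟩
    cases x <;> cases y <;> simp [W.ee, W.ff, W.ef, W.fe]
  V0 := W.V0
  h0 x w hw := by
    rcases x with ⟨i, x⟩
    cases x
    · simpa using W.fV0 i hw
    · simpa using W.eV0 i hw
  ok w c := w ∈ W.V0 ∧ P.ok w c
  ok_mem h := h.1
  ok_herm h := P.rel h.2
  ok_zero := ⟨W.V0.zero_mem, P.zero⟩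
  ok_mul h h' := ⟨W.V0.add_mem h.1 h'.1, P.add h.2 h'.2⟩
  ok_inv h := ⟨W.V0.neg_mem h.1, P.inv h.2⟩
  ok_smul a _ _ h := ⟨W.V0.smul_mem a h.1, P.smul a h.2⟩
  ok_tr m := ⟨W.V0.zero_mem, P.congr (P.lam m P.zero) rfl (by ring)⟩

variable (W : WFrame P n)

@[simp] theorem toFrame_b_true (i : Fin n) : (toFrame W).b (i, true) = W.e i := rfl
@[simp] theorem toFrame_b_false (i : Fin n) : (toFrame W).b (i, false) = W.f i := rfl
@[simp] theorem toFrame_V0 : (toFrame W).V0 = W.V0 := rfl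
theorem toFrame_ok (w : V) (c : F) : (toFrame W).ok w c ↔ w ∈ W.V0 ∧ P.ok w c := Iff.rfl

theorem b_sing (x : Fin n × Bool) : P.ok ((toFrame W).b x) 0 := by
  rcases x with ⟨i, x⟩
  cases x
  · exact W.f_sing i
  · exact W.e_sing i

variable {K : Subgroup (V ≃ₗ[F] V)}

/-- `Rt` from the `X x y t`. -/
theorem rt_of_X {x y : Fin n × Bool} (h : x.1 ≠ y.1) (hX : ∀ t, (toFrame W).X x y t ∈ K) :
    Rt H K ((toFrame W).b x) ((toFrame W).b y) := by
  intro s hx hy
  set Fr := toFrame W with hFr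
  -- choose t with sc y t = s
  have ht : Fr.sc y (H.σ (-(H.ε * (Fr.η y)⁻¹ * s))) = s := by
    rw [Frame.sc, H.σσ]
    have h1 := H.ε_ne
    have h2 := Fr.η_ne y
    field_simp
  have := hX (H.σ (-(H.ε * (Fr.η y)⁻¹ * s)))
  rw [Frame.X_eq _ h] at this
  rwa [H.sie_congr _ _ hx hy rfl (by rw [ht]) rfl] at this

/-- `Zt` from the `Z x p`. -/
theorem zt_of_Z {x : Fin n × Bool} (hZ : ∀ p, (toFrame W).Z x p ∈ K) :
    Zt P K W.V0 ((toFrame W).b x) := by
  intro w c hx hw hwV hok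
  exact hZ ⟨w, c, hwV, hok⟩

/-- Generation, type `C_n`: a subgroup containing the simple root elements contains all Siegel elements. -/
theorem contains_C (l : Fin n)
    (h1 : ∀ i j : Fin n, i.val + 1 = j.val → ∀ t,
      (toFrame W).X (i, true) (j, false) t ∈ K ∧ (toFrame W).X (j, true) (i, false) t ∈ K)
    (h2 : ∀ p, (toFrame W).Z (l, true) p ∈ K ∧ (toFrame W).Z (l, false) p ∈ K)
    (h4 : ∃ p : (toFrame W).Adm, p.c ≠ 0) : W.Contains K := by
  obtain ⟨p, hp⟩ := h4
  refine W.contains_of_simple_C l ?_ (zt_of_Z W fun p => (h2 p).1) (zt_of_Z W fun p => (h2 p).2)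
    ⟨p.w, p.c, p.ok.1, p.ok.2, hp⟩
  intro i j hij
  have hne : i ≠ j := fun h => by rw [h] at hij; omega
  exact ⟨rt_of_X W (x := (i, true)) (y := (j, false)) hne fun t => (h1 i j hij t).1,
    rt_of_X W (x := (j, true)) (y := (i, false)) (Ne.symm hne) fun t => (h1 i j hij t).2⟩

/-- Generation, type `D_n`. -/
theorem contains_D (k l : Fin n) (hkl : k ≠ l)
    (h1 : ∀ i j : Fin n, i.val + 1 = j.val → ∀ t,
      (toFrame W).X (i, true) (j, false) t ∈ K ∧ (toFrame W).X (j, true) (i, false) t ∈ K)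
    (h2 : ∀ t, (toFrame W).X (k, true) (l, true) t ∈ K ∧ (toFrame W).X (k, false) (l, false) t ∈ K)
    (h4 : ∀ p : (toFrame W).Adm, p = 1) : W.Contains K := by
  refine W.contains_of_simple_D k l hkl ?_
    (rt_of_X W (x := (k, true)) (y := (l, true)) hkl fun t => (h2 t).1)
    (rt_of_X W (x := (k, false)) (y := (l, false)) hkl fun t => (h2 t).2) ?_
  · intro i j hij
    have hne : i ≠ j := fun h => by rw [h] at hij; omega
    exact ⟨rt_of_X W (x := (i, true)) (y := (j, false)) hne fun t => (h1 i j hij t).1,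
      rt_of_X W (x := (j, true)) (y := (i, false)) (Ne.symm hne) fun t => (h1 i j hij t).2⟩
  · intro w c hw hok
    have := h4 ⟨w, c, hw, hok⟩
    exact ⟨congrArg Frame.Adm.w this, congrArg Frame.Adm.c this⟩

end Cfsg.Agent.TitsThree.WBridge
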