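import Cfsg.Agent.TitsThree.FrameCN
import Cfsg.Agent.TitsThree.WBridge
import Cfsg.Agent.TitsThree.StdData
import Cfsg.Agent.LieClassical.OrthFinite
import Cfsg.Agent.LieClassical.OrthForms

/-!
# The K side of type `C_n` for the orthogonal groups `PΩ_{2m+1}(q)` (`q` odd) and `PΩ⁻_{2m+2}(q)`
-/

set_option autoImplicit false

namespace Cfsg.Agent.TitsThree.KSideO

open QuadraticMap
open Cfsg.Agent.LieClassical Cfsg.Agent.LieClassical.OrthCore Cfsg.Agent.LieClassical.OrthTrans
open Cfsg.Agent.LieClassical.OrthSimple Cfsg.Agent.LieClassical.OrthFinite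
open Cfsg.Agent.TitsThree.Siegel Cfsg.Agent.TitsThree.SiegelGen Cfsg.Agent.TitsThree.WittFrame
open Cfsg.Agent.TitsThree.WBridge Cfsg.Agent.TitsThree.LineBorel Cfsg.Agent.TitsThree.FrameCN
open Cfsg.Agent.TitsThree.B2Pkg Cfsg.Agent.TitsThree.B2Frame Cfsg.Agent.TitsThree.StdData
open Cfsg.Agent.TitsThree.Pack

section General

variable {F V : Type*} [Field F] [AddCommGroup V] [Module F V] (Q : QuadraticForm F V)

/-- The polar form as an `HForm`. -/
def HO : HForm F V where
  σ := RingEquiv.refl F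
  σσ _ := rfl
  ε := 1
  ε_mul := by simp
  h v w := polar Q v w
  add_left v v' w := polar_add_left Q v v' w
  smul_left c v w := by rw [polar_smul_left, smul_eq_mul]
  swap v w := by rw [RingEquiv.refl_apply, one_mul, polar_comm]

theorem HO_h (v w : V) : (HO Q).h v w = polar Q v w := rfl

/-- The admissible pairs `(w, -Q w)`. -/
def PO : PQ (HO Q) where
  ok w c := c = -Q w
  ex w := ⟨_, rfl⟩
  zero := by simp
  rel := by
    rintro w c rfl
    change 1 * -Q w + -Q w = -polar Q w w
    rw [polar_self']; ring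
  add := by
    rintro w c w' c' rfl rfl
    change -Q w + -Q w' - (1 : F)⁻¹ * polar Q w' w = _
    rw [Q_add, polar_comm Q w' w]; ring
  smul := by
    rintro w c a rfl
    change a * a * -Q w = -Q (a • w)
    rw [QuadraticMap.map_smul, smul_eq_mul]; ring
  lam := by
    rintro w c m rfl
    change -Q w + m - (1 : F)⁻¹ * m = _
    ring

theorem sie_eq {u w : V} {c : F} (huu : (HO Q).h u u = 0) (huw : (HO Q).h u w = 0)
    (hu : Q u = 0) (huw' : polar Q u w = 0) (hok : (PO Q).ok w c) :
    (HO Q).sie u w c huu huw = siegel Q u w hu huw' := by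
  have hc : c = -Q w := hok
  ext v
  rw [HForm.sie_apply, siegel_apply]
  change v + polar Q v u • w - ((1 : F)⁻¹ * polar Q v w) • u + (c * polar Q v u) • u = _
  rw [hc, polar_comm Q v u, polar_comm Q v w]
  module

theorem sing_iff {u : V} : (PO Q).ok u 0 ↔ Q u = 0 := by
  change 0 = -Q u ↔ _
  rw [zero_eq_neg]

variable {Q}

theorem sie_mem {u w : V} {c : F} (huu : (HO Q).h u u = 0) (huw : (HO Q).h u w = 0)
    (hu : (PO Q).ok u 0) (hok : (PO Q).ok w c) : (HO Q).sie u w c huu huw ∈ E Q := by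
  rw [sie_eq Q huu huw ((sing_iff Q).1 hu) huw hok]
  exact siegel_mem_E _ _

/-- Central elements of `E Q` are scalars. -/
theorem scalar_of_center (hG : Good Q) {g : E Q} (hg : g ∈ Subgroup.center (E Q)) :
    ∃ c : F, ∀ v : V, g.1 v = c • v := by
  have hNE : (Subgroup.center (E Q)).map (E Q).subtype ≤ E Q := Subgroup.map_subtype_le _
  have hN' : ∀ x ∈ E Q, ∀ n ∈ (Subgroup.center (E Q)).map (E Q).subtype,
      x * n * x⁻¹ ∈ (Subgroup.center (E Q)).map (E Q).subtype := by
    rintro x hx _ ⟨n, hn, rfl⟩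
    have h1 := Subgroup.mem_center_iff.1 hn ⟨x, hx⟩
    refine ⟨n, hn, ?_⟩
    have h2 := congrArg Subtype.val h1
    change x * n.1 = n.1 * x at h2
    change n.1 = x * n.1 * x⁻¹
    rw [h2, mul_inv_cancel_right]
  rcases good_normal_dichotomy hG hNE hN' with h | h
  · exact h g.1 ⟨g, hg, rfl⟩
  · exfalso
    have h1 : Subgroup.center (E Q) = ⊤ := by
      rw [eq_top_iff]
      intro x _
      have : x.1 ∈ (Subgroup.center (E Q)).map (E Q).subtype := by rw [h]; exact x.2
      obtain ⟨y, hy, hxy⟩ := this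
      rwa [← Subtype.ext (show y.1 = x.1 from hxy)]
    have h2 := good_isSimpleGroup hG
    obtain ⟨x, hx⟩ := exists_ne (1 : E Q ⧸ Subgroup.center (E Q))
    obtain ⟨x, rfl⟩ := QuotientGroup.mk_surjective x
    exact hx ((QuotientGroup.eq_one_iff x).2 (by rw [h1]; exact Subgroup.mem_top x))

end General

section Matrix

variable {ι : Type} [Fintype ι] [DecidableEq ι] {F : Type*} [Field F] {Q : QuadraticForm F (ι → F)}

/-- `E Q` is `Omega F Q`. -/
noncomputable def toOmega (hG : Good Q) : E Q ≃* Cfsg.Omega F ⇑Q :=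
  ((omegaEquiv Q).trans (MulEquiv.subgroupCongr hG.commutator_eq_E)).symm

/-- The map onto `POmega`. -/
noncomputable def toPOmega (hG : Good Q) : E Q →* Cfsg.POmega F ⇑Q :=
  (QuotientGroup.mk' (Subgroup.center (Cfsg.Omega F ⇑Q))).comp (toOmega hG).toMonoidHom

theorem toPOmega_surjective (hG : Good Q) : Function.Surjective (toPOmega hG) :=
  (QuotientGroup.mk'_surjective _).comp (toOmega hG).surjective

theorem center_of_toPOmega (hG : Good Q) {g : E Q} (h : toPOmega hG g = 1) :
    g ∈ Subgroup.center (E Q) := by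
  have h1 : toOmega hG g ∈ Subgroup.center (Cfsg.Omega F ⇑Q) := (QuotientGroup.eq_one_iff _).1 h
  rw [Subgroup.mem_center_iff] at h1 ⊢
  intro k
  apply (toOmega hG).injective
  rw [map_mul, map_mul]
  exact h1 _

variable {m : ℕ} (W : WFrame (PO Q) m)

omit [Fintype ι] [DecidableEq ι] in
theorem X_mem (x y : Fin m × Bool) (t : F) : (toFrame W).X x y t ∈ E Q := by
  by_cases h : x.1 = y.1
  · rw [Frame.X, dif_neg (not_not.2 h)]; exact Subgroup.one_mem _
  · rw [Frame.X_eq _ h]
    exact sie_mem _ _ (b_sing W x) ((PO Q).sing_smul (b_sing W y) _)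

omit [Fintype ι] [DecidableEq ι] in
theorem Z_mem (x : Fin m × Bool) (p : (toFrame W).Adm) : (toFrame W).Z x p ∈ E Q :=
  sie_mem _ _ (b_sing W x) p.ok.2

/-- The model. -/
noncomputable def model (hG : Good Q) (hp : ∃ p : (toFrame W).Adm, p.c ≠ 0) :
    Model (toFrame W) (Cfsg.POmega F ⇑Q) where
  I := E Q
  φ := toPOmega hG
  hX := X_mem W
  hZ := Z_mem W
  ker v g hg := scalar_of_center hG (center_of_toPOmega hG hg) |>.imp fun _ h => h v
  gen l K h1 h2 := by
    set L : Subgroup ((ι → F) ≃ₗ[F] (ι → F)) := (K.comap (toPOmega hG)).map (E Q).subtype with hL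
    have hmem : ∀ g : E Q, toPOmega hG g ∈ K → g.1 ∈ L := fun g hg => ⟨g, hg, rfl⟩
    have hC : W.Contains L := contains_C W l
      (fun i j hij t => ⟨hmem ⟨_, X_mem W _ _ t⟩ (h1 i j hij t).1,
        hmem ⟨_, X_mem W _ _ t⟩ (h1 i j hij t).2⟩)
      (fun p => ⟨hmem ⟨_, Z_mem W _ p⟩ (h2 p).1, hmem ⟨_, Z_mem W _ p⟩ (h2 p).2⟩) hp
    have htop : E Q ≤ L := by
      rw [E, Subgroup.closure_le]
      rintro _ ⟨u, w, hu, hw, rfl⟩
      have huu : (HO Q).h u u = 0 := polar_self_of_sing hu
      have := hC.all W ((sing_iff Q).2 hu) huu (w := w) (c := -Q w) hw rfl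
      rwa [sie_eq Q huu hw hu hw rfl] at this
    rw [eq_top_iff]
    intro k _
    obtain ⟨g, rfl⟩ := toPOmega_surjective hG k
    obtain ⟨g', hg', he⟩ := htop g.2
    have : g' = g := Subtype.ext he
    exact this ▸ hg'

end Matrix

/-! ## Odd dimension -/

section Odd

open OrthForms

variable (m : ℕ) (F : Type*) [Field F]

/-- The Witt frame of `quadFormOdd`. -/
def wodd : WFrame (PO (oddForm m F)) m where
  e i := Pi.single (Sum.inr (Sum.inl i)) 1
  f i := Pi.single (Sum.inr (Sum.inr i)) 1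
  V0 :=
    { carrier := {v | ∀ j, v (Sum.inr j) = 0}
      add_mem' := fun ha hb j => by rw [Pi.add_apply, ha j, hb j, add_zero]
      zero_mem' := fun _ => rfl
      smul_mem' := fun c v hv j => by rw [Pi.smul_apply, hv j, smul_zero] }
  ee i j := by
    rw [HO_h, polar_oddForm]
    simp [Pi.single_apply]
  ff i j := by
    rw [HO_h, polar_oddForm]
    simp [Pi.single_apply]
  ef i j := by
    rw [HO_h, polar_oddForm]
    simp [Pi.single_apply, eq_comm]
  fe i j := by
    rw [HO_h, polar_oddForm]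
    simp [Pi.single_apply, eq_comm]
    rfl
  e_sing i := by
    rw [sing_iff, coe_oddForm, quadFormOdd_apply]
    simp [Pi.single_apply]
  f_sing i := by
    rw [sing_iff, coe_oddForm, quadFormOdd_apply]
    simp [Pi.single_apply]
  V0e w hw i := by
    have hw' : ∀ j, w (Sum.inr j) = 0 := hw
    rw [HO_h, polar_oddForm]
    simp [Pi.single_apply, hw']
  V0f w hw i := by
    have hw' : ∀ j, w (Sum.inr j) = 0 := hw
    rw [HO_h, polar_oddForm]
    simp [Pi.single_apply, hw']
  aniso w hw h := by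
    have hw' : ∀ j, w (Sum.inr j) = 0 := hw
    rw [sing_iff, coe_oddForm, quadFormOdd_apply] at h
    simp only [hw', mul_zero, Finset.sum_const_zero, add_zero] at h
    funext j
    rcases j with j | j
    · exact pow_eq_zero_iff (two_ne_zero) |>.1 h
    · exact hw' j
  span v := by
    refine ⟨fun i => v (Sum.inr (Sum.inl i)), fun i => v (Sum.inr (Sum.inr i)),
      Pi.single (Sum.inl ()) (v (Sum.inl ())), fun j => by simp, ?_⟩
    funext j
    rcases j with j | (j | j)
    · simp [Finset.sum_apply]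
    · simp [Finset.sum_apply, Pi.single_apply]
    · simp [Finset.sum_apply, Pi.single_apply]

/-- The embedding of the standard datum. -/
def embOdd : Emb (stdO1 F) (toFrame (wodd m F)) where
  j := LinearMap.single F (fun _ => F) (Sum.inl ())
  σ_eq := rfl
  ε_eq := rfl
  h_eq v w := by
    rw [HO_h, polar_oddForm]
    change _ = 2 * v * w
    simp
  ok_of := by
    rintro w c rfl
    refine ⟨fun j => by simp, ?_⟩
    change (1 : F)⁻¹ * _ = -(oddForm m F) _
    rw [coe_oddForm, quadFormOdd_apply]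
    simp

theorem embOdd_surj : Function.Surjective (embOdd m F).ngt := by
  intro p
  have hw : ∀ j, p.w (Sum.inr j) = 0 := p.ok.1
  have hc : p.c = -(oddForm m F) p.w := p.ok.2
  have hpw : p.w = Pi.single (Sum.inl ()) (p.w (Sum.inl ())) := by
    funext j
    rcases j with j | j
    · simp
    · simp [hw]
  refine ⟨⟨p.w (Sum.inl ()), -(p.w (Sum.inl ())) ^ 2, rfl⟩, ?_⟩
  apply Frame.Adm.ext
  · exact hpw.symm
  · change (1 : F)⁻¹ * _ = _
    rw [hc, coe_oddForm, quadFormOdd_apply]
    simp [hw]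

end Odd

/-! ## Minus type -/

section Minus

open OrthForms

variable (m : ℕ) (F : Type*) [Field F] (a b : F)
  (hab : ∀ z₁ z₂ : F, z₁ ^ 2 + a * z₁ * z₂ + b * z₂ ^ 2 = 0 → z₁ = 0 ∧ z₂ = 0)

/-- The Witt frame of `quadFormMinus`. -/
def wminus : WFrame (PO (minusForm m F a b)) m where
  e i := Pi.single (Sum.inl (Sum.inl i)) 1
  f i := Pi.single (Sum.inl (Sum.inr i)) 1
  V0 :=
    { carrier := {v | ∀ j, v (Sum.inl j) = 0}
      add_mem' := fun ha hb j => by rw [Pi.add_apply, ha j, hb j, add_zero]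
      zero_mem' := fun _ => rfl
      smul_mem' := fun c v hv j => by rw [Pi.smul_apply, hv j, smul_zero] }
  ee i j := by
    rw [HO_h, polar_minusForm]
    simp [Pi.single_apply]
  ff i j := by
    rw [HO_h, polar_minusForm]
    simp [Pi.single_apply]
  ef i j := by
    rw [HO_h, polar_minusForm]
    simp [Pi.single_apply, eq_comm]
  fe i j := by
    rw [HO_h, polar_minusForm]
    simp [Pi.single_apply, eq_comm]
    rfl
  e_sing i := by
    rw [sing_iff, coe_minusForm, quadFormMinus_apply]
    simp [Pi.single_apply]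
  f_sing i := by
    rw [sing_iff, coe_minusForm, quadFormMinus_apply]
    simp [Pi.single_apply]
  V0e w hw i := by
    have hw' : ∀ j, w (Sum.inl j) = 0 := hw
    rw [HO_h, polar_minusForm]
    simp [Pi.single_apply, hw']
  V0f w hw i := by
    have hw' : ∀ j, w (Sum.inl j) = 0 := hw
    rw [HO_h, polar_minusForm]
    simp [Pi.single_apply, hw']
  aniso w hw h := by
    have hw' : ∀ j, w (Sum.inl j) = 0 := hw
    rw [sing_iff, coe_minusForm, quadFormMinus_apply] at h
    simp only [hw', mul_zero, Finset.sum_const_zero, zero_add] at h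
    obtain ⟨h1, h2⟩ := hab _ _ h
    funext j
    rcases j with j | j
    · exact hw' j
    · fin_cases j
      · exact h1
      · exact h2
  span v := by
    refine ⟨fun i => v (Sum.inl (Sum.inl i)), fun i => v (Sum.inl (Sum.inr i)),
      Sum.elim (fun _ => 0) (fun j => v (Sum.inr j)), fun j => rfl, ?_⟩
    funext j
    rcases j with (j | j) | j
    · simp [Finset.sum_apply, Pi.single_apply]
    · simp [Finset.sum_apply, Pi.single_apply]
    · simp [Finset.sum_apply]

/-- The embedding of the standard datum. -/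
def embMinus : Emb (stdO2 F a b hab) (toFrame (wminus m F a b hab)) where
  j :=
    { toFun := fun w => Sum.elim (fun _ => 0) ![w.1, w.2]
      map_add' := fun v w => by
        funext j
        rcases j with j | j
        · simp
        · fin_cases j <;> simp
      map_smul' := fun c v => by
        funext j
        rcases j with j | j
        · simp
        · fin_cases j <;> simp }
  σ_eq := rfl
  ε_eq := rfl
  h_eq v w := by
    rw [HO_h, polar_minusForm]
    change _ = 2 * v.1 * w.1 + a * (v.1 * w.2 + v.2 * w.1) + 2 * b * v.2 * w.2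
    simp
  ok_of := by
    rintro w c rfl
    refine ⟨fun j => by simp, ?_⟩
    change (1 : F)⁻¹ * _ = -(minusForm m F a b) _
    rw [coe_minusForm, quadFormMinus_apply]
    simp [nf]

theorem embMinus_surj : Function.Surjective (embMinus m F a b hab).ngt := by
  intro p
  have hw : ∀ j, p.w (Sum.inl j) = 0 := p.ok.1
  have hc : p.c = -(minusForm m F a b) p.w := p.ok.2
  refine ⟨⟨(p.w (Sum.inr 0), p.w (Sum.inr 1)), -nf a b (p.w (Sum.inr 0), p.w (Sum.inr 1)), rfl⟩, ?_⟩
  apply Frame.Adm.ext
  · funext j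
    rcases j with j | j
    · exact (hw j).symm
    · fin_cases j <;> rfl
  · change (1 : F)⁻¹ * _ = _
    rw [hc, coe_minusForm, quadFormMinus_apply]
    simp [hw, nf]

end Minus

/-! ## Main results -/

section Main

open OrthForms

/-- **`PΩ_{2n+5}(F)`, `F` finite of odd characteristic: type `C_{n+2}` with datum `stdO1`.** -/
theorem exists_KCN_odd (F : Type*) [Field F] [Finite F] (h2 : (2 : F) ≠ 0) (n : ℕ) :
    Nonempty (KCN (Cfsg.POmega F (Cfsg.quadFormOdd (n + 2) F)) (stdO1 F) (n + 1)) := by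
  rw [← coe_oddForm]
  have hG : Good (oddForm (n + 2) F) := by
    apply good_of_finite (nondeg_oddForm (n + 2) F h2)
    rw [Module.finrank_fintype_fun_eq_card, Fintype.card_sum, Fintype.card_sum, Fintype.card_fin,
      Fintype.card_unit]
    omega
  refine ⟨kcn (model (wodd (n + 2) F) hG ?_) (embOdd (n + 2) F) (embOdd_surj (n + 2) F)⟩
  refine ⟨(embOdd (n + 2) F).ngt ⟨1, -1 ^ 2, rfl⟩, ?_⟩
  change (1 : F)⁻¹ * (-1 ^ 2) ≠ 0
  simp

/-- **`PΩ⁻_{2n+6}(F)`, `F` finite: type `C_{n+2}` with datum `stdO2`.** -/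
theorem exists_KCN_minus (F : Type*) [Field F] [Finite F] (a b : F)
    (hab : ∀ z₁ z₂ : F, z₁ ^ 2 + a * z₁ * z₂ + b * z₂ ^ 2 = 0 → z₁ = 0 ∧ z₂ = 0) (n : ℕ) :
    Nonempty (KCN (Cfsg.POmega F (Cfsg.quadFormMinus (n + 2) F a b)) (stdO2 F a b hab) (n + 1)) := by
  rw [← coe_minusForm]
  have hG : Good (minusForm (n + 2) F a b) := by
    apply good_of_finite (nondeg_minusForm (n + 2) F a b hab)
    rw [Module.finrank_fintype_fun_eq_card, Fintype.card_sum, Fintype.card_sum, Fintype.card_fin,
      Fintype.card_fin]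
    omega
  refine ⟨kcn (model (wminus (n + 2) F a b hab) hG ?_) (embMinus (n + 2) F a b hab)
    (embMinus_surj (n + 2) F a b hab)⟩
  refine ⟨(embMinus (n + 2) F a b hab).ngt ⟨(1, 0), -nf a b (1, 0), rfl⟩, ?_⟩
  change (1 : F)⁻¹ * (-nf a b (1, 0)) ≠ 0
  simp [nf]

end Main

end Cfsg.Agent.TitsThree.KSideO
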