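import Cfsg.Agent.LieClassical.HermGen

/-!
Explicit Witt frames for the Prelude hermitian form `hermForm N F q` (`|F| = q²`), `N = 2m` or `2m+1`.
-/

set_option autoImplicit false

namespace Cfsg.Agent.TitsThree.UFrame

open Cfsg Cfsg.Agent.LieClassical.HermBasic Cfsg.Agent.LieClassical.HermGen

variable {F : Type*} [Field F] {q N : ℕ}

/-- A Witt frame of the hermitian space: hyperbolic pairs `e i, f i`. -/
structure Frame (F : Type*) [Field F] (q N m : ℕ) where
  e : Fin m → (Fin N → F)
  f : Fin m → (Fin N → F)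
  ee : ∀ i j, hermForm N F q (e i) (e j) = 0
  ff : ∀ i j, hermForm N F q (f i) (f j) = 0
  ef : ∀ i j, hermForm N F q (e i) (f j) = if i = j then 1 else 0
  fe : ∀ i j, hermForm N F q (f i) (e j) = if i = j then 1 else 0

theorem herm_single_single [Fintype F] (hF : Fintype.card F = q ^ 2) (i j : Fin N) :
    hermForm N F q (Pi.single i 1) (Pi.single j 1) = if i = j then 1 else 0 := by
  rw [herm_single_right hF, one_pow, mul_one]
  by_cases h : i = j
  · subst h; simp
  · rw [if_neg h, Pi.single_eq_of_ne (Ne.symm h)]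

/-- the even and odd index of the `i`-th plane -/
def i0 {m : ℕ} (hN : 2 * m ≤ N) (i : Fin m) : Fin N := ⟨2 * i.val, by omega⟩
def i1 {m : ℕ} (hN : 2 * m ≤ N) (i : Fin m) : Fin N := ⟨2 * i.val + 1, by omega⟩

theorem i0_inj {m : ℕ} (hN : 2 * m ≤ N) (i j : Fin m) : i0 hN i = i0 hN j ↔ i = j := by
  simp [i0, Fin.ext_iff]

theorem i1_inj {m : ℕ} (hN : 2 * m ≤ N) (i j : Fin m) : i1 hN i = i1 hN j ↔ i = j := by
  simp [i1, Fin.ext_iff]

theorem i0_ne_i1 {m : ℕ} (hN : 2 * m ≤ N) (i j : Fin m) : i0 hN i ≠ i1 hN j := by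
  simp [i0, i1, Fin.ext_iff]; omega

/-- Existence of a frame whose span contains the first `2m` basis vectors and which is orthogonal to the
others. -/
theorem exists_frame [Fintype F] (hF : Fintype.card F = q ^ 2) {m : ℕ} (hN : 2 * m ≤ N) :
    ∃ W : Frame F q N m,
      (∀ j : Fin N, j.val < 2 * m →
        (Pi.single j 1 : Fin N → F) ∈ Submodule.span F (Set.range W.e ∪ Set.range W.f)) ∧
      (∀ j : Fin N, 2 * m ≤ j.val → ∀ i,
        hermForm N F q (Pi.single j 1) (W.e i) = 0 ∧ hermForm N F q (Pi.single j 1) (W.f i) = 0) := by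
  classical
  obtain ⟨a, ha0, ha⟩ := exists_norm_eq_ne hF (c := (-1 : F))
    (by rw [neg_pow_q hF, one_pow]) (neg_ne_zero.2 one_ne_zero)
  obtain ⟨b, hb⟩ := exists_trace_eq hF (c := (-1 : F)) (by rw [neg_pow_q hF, one_pow])
  let s0 : Fin m → Fin N → F := fun i => Pi.single (i0 hN i) 1
  let s1 : Fin m → Fin N → F := fun i => Pi.single (i1 hN i) 1
  have h00 : ∀ i j, hermForm N F q (s0 i) (s0 j) = if i = j then 1 else 0 := by
    intro i j
    rw [herm_single_single hF]
    simp only [i0_inj hN]
  have h11 : ∀ i j, hermForm N F q (s1 i) (s1 j) = if i = j then 1 else 0 := by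
    intro i j
    rw [herm_single_single hF]
    simp only [i1_inj hN]
  have h01 : ∀ i j, hermForm N F q (s0 i) (s1 j) = 0 := by
    intro i j
    rw [herm_single_single hF, if_neg (i0_ne_i1 hN i j)]
  have h10 : ∀ i j, hermForm N F q (s1 i) (s0 j) = 0 := by
    intro i j
    rw [herm_single_single hF, if_neg (i0_ne_i1 hN j i).symm]
  let e : Fin m → Fin N → F := fun i => s0 i + a • s1 i
  let f : Fin m → Fin N → F := fun i => s0 i + b • e i
  have hee : ∀ i j, hermForm N F q (e i) (e j) = 0 := by
    intro i j
    simp only [e, herm_add_left, herm_add_right hF, herm_smul_left, herm_smul_right, h00, h11,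
      h01, h10]
    split_ifs
    · linear_combination ha
    · ring
  have hes : ∀ i j, hermForm N F q (e i) (s0 j) = if i = j then 1 else 0 := by
    intro i j
    simp only [e, herm_add_left, herm_smul_left, h00, h10, mul_zero, add_zero]
  have hse : ∀ i j, hermForm N F q (s0 i) (e j) = if i = j then 1 else 0 := by
    intro i j
    simp only [e, herm_add_right hF, herm_smul_right, h00, h01, mul_zero, add_zero]
  have hef : ∀ i j, hermForm N F q (e i) (f j) = if i = j then 1 else 0 := by
    intro i j
    simp only [f, herm_add_right hF, herm_smul_right, hes, hee, mul_zero, add_zero]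
  have hfe : ∀ i j, hermForm N F q (f i) (e j) = if i = j then 1 else 0 := by
    intro i j
    simp only [f, herm_add_left, herm_smul_left, hse, hee, mul_zero, add_zero]
  have hff : ∀ i j, hermForm N F q (f i) (f j) = 0 := by
    intro i j
    simp only [f, herm_add_left, herm_add_right hF, herm_smul_left, herm_smul_right, h00, hes,
      hse, hee]
    split_ifs
    · linear_combination hb
    · ring
  refine ⟨⟨e, f, hee, hff, hef, hfe⟩, ?_, ?_⟩
  · intro j hj
    have hs0 : ∀ i, s0 i ∈ Submodule.span F (Set.range e ∪ Set.range f) := by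
      intro i
      have : s0 i = f i - b • e i := by simp only [f]; abel
      rw [this]
      exact Submodule.sub_mem _ (Submodule.subset_span (Or.inr ⟨i, rfl⟩))
        (Submodule.smul_mem _ _ (Submodule.subset_span (Or.inl ⟨i, rfl⟩)))
    rcases Nat.even_or_odd' j.val with ⟨k, hk | hk⟩
    · have : j = i0 hN ⟨k, by omega⟩ := Fin.ext hk
      rw [this]
      exact hs0 _
    · have : j = i1 hN ⟨k, by omega⟩ := Fin.ext hk
      rw [this]
      have h2 : (Pi.single (i1 hN ⟨k, by omega⟩) 1 : Fin N → F) =
          a⁻¹ • (e ⟨k, by omega⟩ - s0 ⟨k, by omega⟩) := by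
        simp only [e, add_sub_cancel_left, smul_smul, inv_mul_cancel₀ ha0, one_smul, s1]
      rw [h2]
      exact Submodule.smul_mem _ _ (Submodule.sub_mem _ (Submodule.subset_span (Or.inl ⟨_, rfl⟩))
        (hs0 _))
  · intro j hj i
    have h0 : hermForm N F q (Pi.single j 1) (s0 i) = 0 := by
      rw [herm_single_single hF, if_neg]
      intro h
      have := congrArg Fin.val h
      simp only [i0] at this
      omega
    have h1 : hermForm N F q (Pi.single j 1) (s1 i) = 0 := by
      rw [herm_single_single hF, if_neg]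
      intro h
      have := congrArg Fin.val h
      simp only [i1] at this
      omega
    have he : hermForm N F q (Pi.single j 1) (e i) = 0 := by
      simp only [e, herm_add_right hF, herm_smul_right, h0, h1, mul_zero, add_zero]
    refine ⟨he, ?_⟩
    show hermForm N F q (Pi.single j 1) (s0 i + b • e i) = 0
    rw [herm_add_right hF, herm_smul_right, h0, he, mul_zero, add_zero]

/-- Even dimension: the frame spans. -/
theorem exists_frame_even [Fintype F] (hF : Fintype.card F = q ^ 2) {m : ℕ} (hN : N = 2 * m) :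
    ∃ W : Frame F q N m, Submodule.span F (Set.range W.e ∪ Set.range W.f) = ⊤ := by
  classical
  obtain ⟨W, h, -⟩ := exists_frame hF (m := m) (by omega : 2 * m ≤ N)
  refine ⟨W, top_le_iff.1 fun v _ => ?_⟩
  rw [pi_eq_sum_univ' v]
  refine Submodule.sum_mem _ fun j _ => Submodule.smul_mem _ _ ?_
  have := h j (by omega)
  convert this using 1

/-- Odd dimension: the frame and a vector `d` of norm one orthogonal to it span. -/
theorem exists_frame_odd [Fintype F] (hF : Fintype.card F = q ^ 2) {m : ℕ} (hN : N = 2 * m + 1) :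
    ∃ (W : Frame F q N m) (d : Fin N → F), hermForm N F q d d = 1 ∧
      (∀ i, hermForm N F q d (W.e i) = 0) ∧ (∀ i, hermForm N F q d (W.f i) = 0) ∧
      Submodule.span F (Set.range W.e ∪ Set.range W.f ∪ {d}) = ⊤ := by
  classical
  obtain ⟨W, h, h'⟩ := exists_frame hF (m := m) (by omega : 2 * m ≤ N)
  let l : Fin N := ⟨2 * m, by omega⟩
  refine ⟨W, Pi.single l 1, ?_, fun i => (h' l le_rfl i).1, fun i => (h' l le_rfl i).2,
    top_le_iff.1 fun v _ => ?_⟩
  · rw [herm_single_single hF, if_pos rfl]
  rw [pi_eq_sum_univ' v]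
  refine Submodule.sum_mem _ fun j _ => Submodule.smul_mem _ _ ?_
  have hj : (Pi.single j 1 : Fin N → F) ∈
      Submodule.span F (Set.range W.e ∪ Set.range W.f ∪ {(Pi.single l 1 : Fin N → F)}) := by
    by_cases hjl : j = l
    · rw [hjl]
      exact Submodule.subset_span (Or.inr rfl)
    · have hjv : j.val < 2 * m := by
        have : j.val ≠ 2 * m := fun hh => hjl (Fin.ext hh)
        omega
      exact Submodule.span_mono Set.subset_union_left (h j hjv)
  convert hj using 1

end Cfsg.Agent.TitsThree.UFrame
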