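import Cfsg.Agent.TitsThree.B2Derived
import Cfsg.Agent.TitsThree.StdData

/-!
# Transport of the relation package of type `B₂` along a similarity of parameter systems

`s : Sim D D'`, `h : B2Rel m` (over `D`): `s.maps m : B2Maps D' Y` has the same `x`, `x'` (definitionally), the same root
groups, and satisfies `B2Rel` (`rel`).
-/

set_option autoImplicit false
set_option linter.unusedSectionVars false

namespace Cfsg.Agent.TitsThree.B2Transport

open Cfsg.Agent.TitsThree.Siegel Cfsg.Agent.TitsThree.B2Pkg Cfsg.Agent.TitsThree.StdData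
open scoped commutatorElement

variable {F : Type*} [Field F] {V V' : Type*} [AddCommGroup V] [Module F V] [AddCommGroup V']
  [Module F V'] {D : PQDatum F V} {D' : PQDatum F V'} (s : Sim D D')

/-- `(w', c') ↦ (e⁻¹ w', l⁻¹ c')` -/
def τ (p : D'.T) : D.T := ⟨s.e.symm p.w, s.l⁻¹ * p.c, by
  rw [← s.ok_iff, s.e.apply_symm_apply, mul_inv_cancel_left₀ s.l_ne]
  exact p.ok⟩

/-- `(w, c) ↦ (e w, l c)` -/
def τi (p : D.T) : D'.T := ⟨s.e p.w, s.l * p.c, (s.ok_iff _ _).2 p.ok⟩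

@[simp] theorem τ_w (p : D'.T) : (τ s p).w = s.e.symm p.w := rfl
@[simp] theorem τ_c (p : D'.T) : (τ s p).c = s.l⁻¹ * p.c := rfl
@[simp] theorem τi_w (p : D.T) : (τi s p).w = s.e p.w := rfl
@[simp] theorem τi_c (p : D.T) : (τi s p).c = s.l * p.c := rfl

theorem τ_τi (p : D.T) : τ s (τi s p) = p := by
  have := s.l_ne
  ext <;> simp [s.l_ne]

theorem τi_τ (p : D'.T) : τi s (τ s p) = p := by
  have := s.l_ne
  ext <;> simp [s.l_ne]

theorem h_symm (v w : V') : D.h (s.e.symm v) (s.e.symm w) = s.l⁻¹ * D'.h v w := by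
  have h1 := s.h_eq (s.e.symm v) (s.e.symm w)
  rw [s.e.apply_symm_apply, s.e.apply_symm_apply] at h1
  rw [h1, inv_mul_cancel_left₀ s.l_ne]

theorem τ_mul (p q : D'.T) : τ s (p * q) = τ s p * τ s q := by
  ext
  · simp
  · simp only [τ_c, τ_w, PQDatum.T.mul_c, h_symm]
    ring

theorem τ_sc (a : F) (p : D'.T) : τ s (D'.sc a p) = D.sc a (τ s p) := by
  ext
  · simp [s.σ_eq]
  · simp only [τ_c, PQDatum.sc_c, s.σ_eq]
    ring

theorem τ_c_ne {p : D'.T} (hp : p.c ≠ 0) : (τ s p).c ≠ 0 := by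
  rw [τ_c]
  exact mul_ne_zero (inv_ne_zero s.l_ne) hp

theorem τ_refl (p : D'.T) (hp : p.c ≠ 0) (q : D'.T) :
    τ s (D'.refl p hp q) = D.refl (τ s p) (τ_c_ne s hp) (τ s q) := by
  have hl := s.l_ne
  ext
  · simp only [τ_w, PQDatum.refl_w, map_add, map_smul, h_symm, τ_c]
    congr 2
    field_simp
  · simp

theorem σl_ne : D.σ s.l ≠ 0 := D.σ_ne s.l_ne

variable {Y : Type*} (m : B2Maps D Y)

/-- The transported root elements. -/
def maps : B2Maps D' Y where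
  x := m.x
  x' := m.x'
  y b := m.y (s.l⁻¹ * b)
  y' b := m.y' (s.l * b)
  z₁ p := m.z₁ (τ s p)
  z₂ p := m.z₂ (τ s p)
  z₁' p := m.z₁' (D.sc (D.σ s.l) (τ s p))
  z₂' p := m.z₂' (D.sc (D.σ s.l) (τ s p))

@[simp] theorem maps_x : (maps s m).x = m.x := rfl
@[simp] theorem maps_x' : (maps s m).x' = m.x' := rfl
theorem maps_y (b : F) : (maps s m).y b = m.y (s.l⁻¹ * b) := rfl
theorem maps_y' (b : F) : (maps s m).y' b = m.y' (s.l * b) := rfl
theorem maps_z₁ (p : D'.T) : (maps s m).z₁ p = m.z₁ (τ s p) := rfl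
theorem maps_z₂ (p : D'.T) : (maps s m).z₂ p = m.z₂ (τ s p) := rfl
theorem maps_z₁' (p : D'.T) : (maps s m).z₁' p = m.z₁' (D.sc (D.σ s.l) (τ s p)) := rfl
theorem maps_z₂' (p : D'.T) : (maps s m).z₂' p = m.z₂' (D.sc (D.σ s.l) (τ s p)) := rfl

variable [Group Y]

theorem maps_nI : (maps s m).nI = m.nI := rfl

theorem maps_nII {p : D'.T} : (maps s m).nII p = m.nII (τ s p) := by
  have hl := s.l_ne
  have hσl := σl_ne s
  rw [B2Maps.nII, B2Maps.nII, maps_z₂', maps_z₂', maps_z₂, τ_sc, τ_sc, D.sc_sc, D.sc_sc]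
  congr 2
  · congr 2
    simp only [τ_c, map_mul, map_inv₀, s.σ_eq, mul_inv_rev, inv_inv]
    ring
  · congr 1
    simp only [τ_c, s.ε_eq, mul_inv_rev, inv_inv]
    field_simp

/-- **Transport of the package.** -/
theorem rel {m : B2Maps D Y} (h : B2Rel m) : B2Rel (maps s m) := by
  have hl := s.l_ne
  have hσl := σl_ne s
  have he := D.ε_ne
  refine
    { x_add := h.x_add
      x'_add := h.x'_add
      y_add := fun a b => by simp only [maps_y, mul_add, h.y_add]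
      y'_add := fun a b => by simp only [maps_y', mul_add, h.y'_add]
      z₁_mul := fun p q => by simp only [maps_z₁, τ_mul, h.z₁_mul]
      z₂_mul := fun p q => by simp only [maps_z₂, τ_mul, h.z₂_mul]
      z₁'_mul := fun p q => by simp only [maps_z₁', τ_mul, D.sc_mul, h.z₁'_mul]
      z₂'_mul := fun p q => by simp only [maps_z₂', τ_mul, D.sc_mul, h.z₂'_mul]
      x_z₂ := fun a p => ?_
      z₁_z₂ := fun p q => ?_
      x_y := fun a b => ?_
      x_z₁ := fun a p => h.x_z₁ a _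
      y_z₁ := fun b p => h.y_z₁ _ _
      y_z₂ := fun b p => h.y_z₂ _ _
      nI_x := h.nI_x
      nI_x' := h.nI_x'
      nI_y := fun b => ?_
      nI_y' := fun b => ?_
      nI_z₁ := fun p => ?_
      nI_z₂ := fun p => h.nI_z₂ _
      nI_z₁' := fun p => ?_
      nI_z₂' := fun p => h.nI_z₂' _
      nII_x := fun p hp a => ?_
      nII_y := fun p hp b => ?_
      nII_x' := fun p hp a => ?_
      nII_y' := fun p hp b => ?_
      nII_z₁ := fun p hp q => ?_
      nII_z₁' := fun p hp q => ?_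
      nII_z₂ := fun p hp q => ?_
      nII_z₂' := fun p hp q => ?_ }
  · rw [maps_x, maps_z₂, h.x_z₂, maps_z₁, maps_y, τ_sc]
    congr 2
    simp only [τ_c, s.ε_eq, s.σ_eq, map_mul, map_inv₀]
    field_simp
  · rw [maps_z₁, maps_z₂, h.z₁_z₂, maps_y]
    congr 1
    rw [τ_w, τ_w, h_symm]
    ring
  · rw [maps_x, maps_y, h.x_y, maps_z₁]
    congr 1
    ext
    · simp
    · simp only [τ_c, PQDatum.tr_c, s.ε_eq, s.σ_eq, map_mul, map_inv₀]
      field_simp
  · rw [maps_nI, maps_y, h.nI_y, maps_y]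
    congr 1
    simp only [s.ε_eq, s.σ_eq, map_mul, map_inv₀]
    field_simp
  · rw [maps_nI, maps_y', h.nI_y', maps_y']
    congr 1
    simp only [s.ε_eq, s.σ_eq, map_mul]
    field_simp
  · rw [maps_nI, maps_z₁, h.nI_z₁, maps_z₂, τ_sc]
  · rw [maps_nI, maps_z₁', h.nI_z₁', maps_z₂', τ_sc, D.sc_sc, D.sc_sc, mul_comm]
  · rw [maps_nII, maps_x, h.nII_x _ (τ_c_ne s hp), maps_y]
    congr 1
    simp only [τ_c, s.ε_eq, s.σ_eq, map_mul, map_inv₀]
    field_simp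
  · rw [maps_nII, maps_y, h.nII_y _ (τ_c_ne s hp), maps_x]
    congr 1
    simp only [τ_c]
    field_simp
  · rw [maps_nII, maps_x', h.nII_x' _ (τ_c_ne s hp), maps_y']
    congr 1
    simp only [τ_c, s.σ_eq]
    field_simp
  · rw [maps_nII, maps_y', h.nII_y' _ (τ_c_ne s hp), maps_x']
    congr 1
    simp only [τ_c, s.ε_eq, s.σ_eq, map_mul]
    field_simp
  · rw [maps_nII, maps_z₁, h.nII_z₁ _ (τ_c_ne s hp), maps_z₁, τ_refl]
  · rw [maps_nII, maps_z₁', h.nII_z₁' _ (τ_c_ne s hp), maps_z₁', τ_refl, D.refl_sc]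
  · rw [maps_nII, maps_z₂, h.nII_z₂ _ (τ_c_ne s hp), maps_z₂', τ_sc, τ_refl, D.sc_sc]
    congr 2
    simp only [τ_c, s.σ_eq, map_mul, map_inv₀]
    field_simp
  · rw [maps_nII, maps_z₂', h.nII_z₂' _ (τ_c_ne s hp), maps_z₂, τ_sc, τ_refl, D.refl_sc, D.sc_sc]
    congr 2
    simp only [τ_c, s.ε_eq]
    field_simp

/-! ### The root groups are the same -/

theorem range_y : Set.range (maps s m).y = Set.range m.y := by
  ext g
  constructor
  · rintro ⟨b, rfl⟩; exact ⟨_, rfl⟩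
  · rintro ⟨b, rfl⟩
    exact ⟨s.l * b, by rw [maps_y, inv_mul_cancel_left₀ s.l_ne]⟩

theorem range_y' : Set.range (maps s m).y' = Set.range m.y' := by
  ext g
  constructor
  · rintro ⟨b, rfl⟩; exact ⟨_, rfl⟩
  · rintro ⟨b, rfl⟩
    exact ⟨s.l⁻¹ * b, by rw [maps_y', mul_inv_cancel_left₀ s.l_ne]⟩

theorem range_z₁ : Set.range (maps s m).z₁ = Set.range m.z₁ := by
  ext g
  constructor
  · rintro ⟨b, rfl⟩; exact ⟨_, rfl⟩
  · rintro ⟨b, rfl⟩
    exact ⟨τi s b, by rw [maps_z₁, τ_τi]⟩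

theorem range_z₂ : Set.range (maps s m).z₂ = Set.range m.z₂ := by
  ext g
  constructor
  · rintro ⟨b, rfl⟩; exact ⟨_, rfl⟩
  · rintro ⟨b, rfl⟩
    exact ⟨τi s b, by rw [maps_z₂, τ_τi]⟩

theorem sc_τ_surj (q : D.T) : ∃ p : D'.T, D.sc (D.σ s.l) (τ s p) = q :=
  ⟨τi s (D.sc (D.σ s.l)⁻¹ q), by rw [τ_τi, D.sc_sc, mul_inv_cancel₀ (σl_ne s), D.sc_one]⟩

theorem range_z₁' : Set.range (maps s m).z₁' = Set.range m.z₁' := by
  ext g
  constructor
  · rintro ⟨b, rfl⟩; exact ⟨_, rfl⟩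
  · rintro ⟨b, rfl⟩
    obtain ⟨p, hp⟩ := sc_τ_surj s b
    exact ⟨p, by rw [maps_z₁', hp]⟩

theorem range_z₂' : Set.range (maps s m).z₂' = Set.range m.z₂' := by
  ext g
  constructor
  · rintro ⟨b, rfl⟩; exact ⟨_, rfl⟩
  · rintro ⟨b, rfl⟩
    obtain ⟨p, hp⟩ := sc_τ_surj s b
    exact ⟨p, by rw [maps_z₂', hp]⟩

include s in
theorem exists_c_ne (hD : ∃ p : D.T, p.c ≠ 0) : ∃ p : D'.T, p.c ≠ 0 := by
  obtain ⟨p, hp⟩ := hD
  exact ⟨τi s p, mul_ne_zero s.l_ne hp⟩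

end Cfsg.Agent.TitsThree.B2Transport
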