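import Mathlib
import Cfsg.Agent.TitsThree.StdData

/-!
# The parameter system of type `F₄` (S1143)

`ConjPair F E`: an extension `E/F` of degree `1` or `2` with its conjugation, norm and trace.
`ConjPair.datum`: the orthogonal parameter system of the norm form; `τ`, `τ'`: the parametrisations of the type II
root groups of the double bond by `E`, compatible with `n(t) = x(t) y(-t⁻¹) x(t)`.
-/

set_option autoImplicit false

namespace Cfsg.Agent.TitsThree.FFData

open Cfsg.Agent.TitsThree.Siegel Cfsg.Agent.TitsThree.B2Pkg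

/-- An extension with conjugation. -/
structure ConjPair (F E : Type*) [Field F] [Field E] [Algebra F E] where
  conj : E ≃+* E
  N : E → F
  T : E → F
  conj_conj : ∀ t, conj (conj t) = t
  conj_alg : ∀ a : F, conj (algebraMap F E a) = algebraMap F E a
  hN : ∀ t, algebraMap F E (N t) = t * conj t
  hT : ∀ t, algebraMap F E (T t) = t + conj t

namespace ConjPair

variable {F E : Type*} [Field F] [Field E] [Algebra F E] (P : ConjPair F E)

theorem alg_inj {a b : F} (h : algebraMap F E a = algebraMap F E b) : a = b :=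
  (algebraMap F E).injective h

theorem N_zero : P.N 0 = 0 := by
  apply alg_inj (E := E)
  rw [P.hN, zero_mul, map_zero]

theorem N_one : P.N 1 = 1 := by
  apply alg_inj (E := E)
  rw [P.hN, map_one, map_one, one_mul]

theorem N_mul (s t : E) : P.N (s * t) = P.N s * P.N t := by
  apply alg_inj (E := E)
  rw [map_mul, P.hN, P.hN, P.hN, map_mul]
  ring

theorem N_alg (a : F) : P.N (algebraMap F E a) = a * a := by
  apply alg_inj (E := E)
  rw [P.hN, P.conj_alg, map_mul]

theorem N_smul (a : F) (t : E) : P.N (a • t) = a * a * P.N t := by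
  rw [Algebra.smul_def, P.N_mul, P.N_alg]

theorem N_conj (t : E) : P.N (P.conj t) = P.N t := by
  apply alg_inj (E := E)
  rw [P.hN, P.hN, P.conj_conj, mul_comm]

theorem N_neg (t : E) : P.N (-t) = P.N t := by
  apply alg_inj (E := E)
  rw [P.hN, P.hN, map_neg]
  ring

theorem N_eq_zero {t : E} : P.N t = 0 ↔ t = 0 := by
  constructor
  · intro h
    have h1 := P.hN t
    rw [h, map_zero] at h1
    rcases mul_eq_zero.1 h1.symm with h2 | h2
    · exact h2
    · rw [← P.conj_conj t, h2, map_zero]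
  · rintro rfl
    exact P.N_zero

theorem N_inv (t : E) : P.N t⁻¹ = (P.N t)⁻¹ := by
  apply alg_inj (E := E)
  rw [map_inv₀, P.hN, P.hN, map_inv₀, mul_inv]

theorem T_add (s t : E) : P.T (s + t) = P.T s + P.T t := by
  apply alg_inj (E := E)
  rw [map_add, P.hT, P.hT, P.hT, map_add]
  ring

theorem T_conj (t : E) : P.T (P.conj t) = P.T t := by
  apply alg_inj (E := E)
  rw [P.hT, P.hT, P.conj_conj, add_comm]

theorem T_smul (a : F) (t : E) : P.T (a • t) = a * P.T t := by
  apply alg_inj (E := E)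
  rw [P.hT, map_mul, P.hT, Algebra.smul_def, map_mul, P.conj_alg]
  ring

theorem T_neg (t : E) : P.T (-t) = -P.T t := by
  apply alg_inj (E := E)
  rw [map_neg, P.hT, P.hT, map_neg]
  ring

theorem T_alg (a : F) : P.T (algebraMap F E a) = 2 * a := by
  apply alg_inj (E := E)
  rw [P.hT, P.conj_alg, map_mul, map_ofNat]
  ring

/-- The polarisation of the norm. -/
theorem N_add (s t : E) : P.N (s + t) = P.N s + P.N t + P.T (s * P.conj t) := by
  apply alg_inj (E := E)
  rw [map_add, map_add, P.hN, P.hN, P.hN, P.hT, map_add, map_mul, P.conj_conj]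
  ring

theorem T_mul_conj (s t : E) : P.T (s * P.conj t) = P.T (t * P.conj s) := by
  rw [← P.T_conj (s * P.conj t), map_mul, P.conj_conj, mul_comm]

/-- The orthogonal parameter system of the norm form of `E/F`. -/
def datum : PQDatum F E where
  σ := RingEquiv.refl F
  σσ _ := rfl
  ε := 1
  ε_mul := by simp
  h v w := P.T (v * P.conj w)
  add_left v v' w := by rw [add_mul, P.T_add]
  smul_left c v w := by rw [smul_mul_assoc, P.T_smul]
  swap v w := by rw [RingEquiv.refl_apply, one_mul, P.T_mul_conj]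
  ok w c := c = -P.N w
  ok_zero := by rw [P.N_zero, neg_zero]
  ok_mul := by
    rintro w c w' c' rfl rfl
    rw [P.N_add, P.T_mul_conj w' w]
    ring
  ok_inv := by
    rintro w c rfl
    rw [RingEquiv.refl_apply, one_mul, P.N_neg]
  ok_sc := by
    rintro a w c rfl
    rw [RingEquiv.refl_apply, P.N_smul]
    ring
  ok_tr a b := by
    rw [P.N_zero]
    simp only [RingEquiv.refl_apply]
    ring
  ok_refl := by
    rintro w c w' c' rfl h0 rfl
    have hw : P.N w ≠ 0 := fun h => h0 (by rw [h, neg_zero])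
    have h1 : (-P.N w)⁻¹ * P.T (w' * P.conj w) * P.N w = -P.T (w' * P.conj w) := by
      field_simp
    have hsc : ∀ (k : F) (u v : E), P.T (u * P.conj (k • v)) = k * P.T (u * P.conj v) := by
      intro k u v
      rw [Algebra.smul_def, map_mul, P.conj_alg, ← P.T_smul, Algebra.smul_def]
      congr 1
      ring
    rw [P.N_add, P.N_smul, hsc]
    linear_combination ((-P.N w)⁻¹ * P.T (w' * P.conj w)) * h1
  ok_rel := by
    rintro w c rfl
    rw [RingEquiv.refl_apply]
    apply alg_inj (E := E)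
    rw [map_neg, map_add, map_mul, map_one, map_neg, P.hN, P.hT, map_mul, P.conj_conj]
    ring
  ok_aniso := by
    intro w h
    apply P.N_eq_zero.1
    have := h.symm
    rwa [neg_eq_zero] at this

@[simp] theorem datum_σ (a : F) : P.datum.σ a = a := rfl
@[simp] theorem datum_ε : P.datum.ε = 1 := rfl
theorem datum_h (v w : E) : P.datum.h v w = P.T (v * P.conj w) := rfl
theorem datum_ok (w : E) (c : F) : P.datum.ok w c ↔ c = -P.N w := Iff.rfl

/-- Parametrisation of the positive type II root group. -/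
def τ (t : E) : P.datum.T := ⟨t, -P.N t, rfl⟩

/-- Parametrisation of the negative type II root group. -/
def τ' (t : E) : P.datum.T := ⟨-P.conj t, -P.N t, by
  rw [datum_ok, P.N_neg, P.N_conj]⟩

@[simp] theorem τ_w (t : E) : (P.τ t).w = t := rfl
@[simp] theorem τ_c (t : E) : (P.τ t).c = -P.N t := rfl
@[simp] theorem τ'_w (t : E) : (P.τ' t).w = -P.conj t := rfl
@[simp] theorem τ'_c (t : E) : (P.τ' t).c = -P.N t := rfl

theorem T_ext {p q : P.datum.T} (h : p.w = q.w) : p = q := by
  have h1 : p.c = -P.N p.w := p.ok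
  have h2 : q.c = -P.N q.w := q.ok
  ext
  · exact h
  · rw [h1, h2, h]

theorem τ_add (s t : E) : P.τ (s + t) = P.τ s * P.τ t := P.T_ext rfl

theorem τ'_add (s t : E) : P.τ' (s + t) = P.τ' s * P.τ' t := P.T_ext (by
  rw [PQDatum.T.mul_w, τ'_w, τ'_w, τ'_w, map_add]
  ring)

theorem τ_inj : Function.Injective P.τ := fun _ _ h => congrArg PQDatum.T.w h

theorem τ'_inj : Function.Injective P.τ' := fun s t h => by
  have h1 := congrArg PQDatum.T.w h
  rw [τ'_w, τ'_w, neg_inj] at h1
  exact P.conj.injective h1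

theorem τ_surj : Function.Surjective P.τ := fun p => ⟨p.w, P.T_ext rfl⟩

theorem τ'_surj : Function.Surjective P.τ' := fun p => ⟨P.conj (-p.w), P.T_ext (by
  rw [τ'_w, P.conj_conj, neg_neg])⟩

theorem τ_c_ne {t : E} (ht : t ≠ 0) : (P.τ t).c ≠ 0 := by
  rw [τ_c]
  exact neg_ne_zero.2 fun h => ht (P.N_eq_zero.1 h)

/-- `E = F`. -/
def triv (F : Type*) [Field F] : ConjPair F F where
  conj := RingEquiv.refl F
  N t := t * t
  T t := t + t
  conj_conj _ := rfl
  conj_alg _ := rfl
  hN _ := rfl
  hT _ := rfl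

/-- `n_2(t)`: with `x2 t = z₂ (τ t)`, `y2 t = z₂' (τ' t)` the element `nII (τ t)` is `y2(-t⁻¹) x2(t) y2(-t⁻¹)`. -/
theorem nII_τ {Y : Type*} [Group Y] (m : B2Maps P.datum Y) {t : E} (ht : t ≠ 0) :
    m.nII (P.τ t) = m.z₂' (P.τ' (-t⁻¹)) * m.z₂ (P.τ t) * m.z₂' (P.τ' (-t⁻¹)) := by
  have hN : P.N t ≠ 0 := fun h => ht (P.N_eq_zero.1 h)
  have h1 : P.datum.sc (-(P.datum.σ (P.τ t).c)⁻¹) (P.τ t) = P.τ' (-t⁻¹) := by
    apply P.T_ext
    rw [PQDatum.sc_w, datum_σ, datum_σ, τ_c, τ_w, τ'_w, map_neg, neg_neg, Algebra.smul_def, inv_neg,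
      neg_neg, map_inv₀, P.hN, map_inv₀, mul_inv]
    have : P.conj t ≠ 0 := fun h => ht (by rw [← P.conj_conj t, h, map_zero])
    field_simp
  have h2 : P.datum.sc (-(P.datum.ε * (P.τ t).c⁻¹)) (P.τ t) = P.τ' (-t⁻¹) := by
    rw [← h1, datum_ε, one_mul, datum_σ]
  unfold B2Maps.nII
  rw [h1, h2]

end ConjPair

end Cfsg.Agent.TitsThree.FFData
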