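import Cfsg.Agent.TitsThree.Pack

/-!
# Restriction of relation packages to a subgroup (S1143)

`edge3_sub`, `comm4_sub`, `b2_sub` : a package in `Y` whose simple root elements lie in `H ≤ Y` is a package in `H`.
`y_mem`, `z₁_mem` : the positive root elements lie in every subgroup containing `x`, `z₂`.
-/

set_option autoImplicit false

namespace Cfsg.Agent.TitsThree.SubPkg

open Cfsg.Agent.AGraded Cfsg.Agent.TitsThree.B2Pkg Cfsg.Agent.TitsThree.Pack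
open scoped commutatorElement

variable {Y : Type*} [Group Y] {H : Subgroup Y}

theorem commutator_mem {a b : Y} (ha : a ∈ H) (hb : b ∈ H) : ⁅a, b⁆ ∈ H := by
  rw [commutatorElement_def]
  exact mul_mem (mul_mem (mul_mem ha hb) (inv_mem ha)) (inv_mem hb)

theorem stein3_mem {F : Type*} [Field F] {x : Fin 3 → Fin 3 → F → Y} (hx : SteinRel x)
    (h01 : ∀ t, x 0 1 t ∈ H) (h10 : ∀ t, x 1 0 t ∈ H) (h12 : ∀ t, x 1 2 t ∈ H)
    (h21 : ∀ t, x 2 1 t ∈ H) (i j : Fin 3) (hij : i ≠ j) (t : F) : x i j t ∈ H := by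
  have h02 : ∀ t, x 0 2 t ∈ H := fun t => by
    have h := hx.br 0 1 2 (by decide) (by decide) (by decide) t 1
    rw [mul_one] at h
    rw [← h]
    exact commutator_mem (h01 t) (h12 1)
  have h20 : ∀ t, x 2 0 t ∈ H := fun t => by
    have h := hx.br 2 1 0 (by decide) (by decide) (by decide) t 1
    rw [mul_one] at h
    rw [← h]
    exact commutator_mem (h21 t) (h10 1)
  fin_cases i <;> fin_cases j
  · exact absurd rfl hij
  · exact h01 t
  · exact h02 t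
  · exact h10 t
  · exact absurd rfl hij
  · exact h12 t
  · exact h20 t
  · exact h21 t
  · exact absurd rfl hij

open Classical in
/-- Restriction of an edge package to a subgroup. -/
theorem edge3_sub {F : Type*} [Field F] {xp xm yp ym : F → Y} (h : Edge3 xp xm yp ym)
    {xp' xm' yp' ym' : F → ↥H} (h1 : ∀ t, (xp' t : Y) = xp t) (h2 : ∀ t, (xm' t : Y) = xm t)
    (h3 : ∀ t, (yp' t : Y) = yp t) (h4 : ∀ t, (ym' t : Y) = ym t) : Edge3 xp' xm' yp' ym' := by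
  obtain ⟨x, hx, e1, e2, e3, e4⟩ := h
  have hm := stein3_mem (H := H) hx (fun t => by rw [e1, ← h1]; exact (xp' t).2)
    (fun t => by rw [e2, ← h2]; exact (xm' t).2) (fun t => by rw [e3, ← h3]; exact (yp' t).2)
    (fun t => by rw [e4, ← h4]; exact (ym' t).2)
  obtain ⟨z, hz⟩ : ∃ z : Fin 3 → Fin 3 → F → ↥H, ∀ i j, i ≠ j → ∀ t, (z i j t : Y) = x i j t := by
    refine ⟨fun i j t => if hij : i ≠ j then ⟨x i j t, hm i j hij t⟩ else 1, ?_⟩
    intro i j hij t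
    dsimp only
    rw [dif_pos hij]
  refine ⟨z, ⟨?_, ?_, ?_⟩, ?_, ?_, ?_, ?_⟩
  · intro i j hij a b
    apply Subtype.ext
    rw [Subgroup.coe_mul, hz i j hij, hz i j hij, hz i j hij]
    exact hx.add i j hij a b
  · intro i j k l hij hkl hjk hil a b
    apply Subtype.ext
    rw [Subgroup.coe_mul, Subgroup.coe_mul, hz i j hij, hz k l hkl]
    exact hx.comm i j k l hij hkl hjk hil a b
  · intro i j k hij hjk hik a b
    apply Subtype.ext
    rw [hz i k hik, ← hx.br i j k hij hjk hik a b, ← hz i j hij, ← hz j k hjk]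
    rfl
  · funext t
    exact Subtype.ext (by rw [hz 0 1 (by decide), h1, ← e1])
  · funext t
    exact Subtype.ext (by rw [hz 1 0 (by decide), h2, ← e2])
  · funext t
    exact Subtype.ext (by rw [hz 1 2 (by decide), h3, ← e3])
  · funext t
    exact Subtype.ext (by rw [hz 2 1 (by decide), h4, ← e4])

theorem comm4_sub {X X' : Type*} {xp xm : X → Y} {yp ym : X' → Y} (h : Comm4 xp xm yp ym)
    {xp' xm' : X → ↥H} {yp' ym' : X' → ↥H} (h1 : ∀ t, (xp' t : Y) = xp t)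
    (h2 : ∀ t, (xm' t : Y) = xm t) (h3 : ∀ t, (yp' t : Y) = yp t) (h4 : ∀ t, (ym' t : Y) = ym t) :
    Comm4 xp' xm' yp' ym' := by
  intro s t
  obtain ⟨a, b, c, d⟩ := h s t
  refine ⟨Subtype.ext ?_, Subtype.ext ?_, Subtype.ext ?_, Subtype.ext ?_⟩
  · show (xp' s : Y) * yp' t = yp' t * xp' s
    rw [h1, h3]; exact a
  · show (xp' s : Y) * ym' t = ym' t * xp' s
    rw [h1, h4]; exact b
  · show (xm' s : Y) * yp' t = yp' t * xm' s
    rw [h2, h3]; exact c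
  · show (xm' s : Y) * ym' t = ym' t * xm' s
    rw [h2, h4]; exact d

section B2

variable {F : Type*} [Field F] {V : Type*} [AddCommGroup V] [Module F V] {D : PQDatum F V}
variable {m : B2Maps D Y}

theorem nI_mem (hx : ∀ a, m.x a ∈ H) (hx' : ∀ a, m.x' a ∈ H) : m.nI ∈ H :=
  mul_mem (mul_mem (hx _) (hx' _)) (hx _)

theorem nII_mem (hz : ∀ p, m.z₂ p ∈ H) (hz' : ∀ p, m.z₂' p ∈ H) (p : D.T) : m.nII p ∈ H :=
  mul_mem (mul_mem (hz' _) (hz _)) (hz' _)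

theorem y_mem_of (h : B2Rel m) (hx : ∀ a, m.x a ∈ H) (hz : ∀ p, m.z₂ p ∈ H)
    (hz' : ∀ p, m.z₂' p ∈ H) {p : D.T} (hp : p.c ≠ 0) (b : F) : m.y b ∈ H := by
  have h1 := h.nII_x p hp (b / (D.ε * D.σ p.c))
  have h2 : D.ε * D.σ p.c ≠ 0 := by
    refine mul_ne_zero ?_ ?_
    · intro h0
      have := D.ε_mul
      rw [h0, zero_mul] at this
      exact zero_ne_one this
    · exact (map_ne_zero D.σ).2 hp
  rw [mul_div_cancel₀ _ h2] at h1
  rw [← h1]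
  exact mul_mem (mul_mem (nII_mem hz hz' p) (hx _)) (inv_mem (nII_mem hz hz' p))

theorem y'_mem_of (h : B2Rel m) (hx' : ∀ a, m.x' a ∈ H) (hz : ∀ p, m.z₂ p ∈ H)
    (hz' : ∀ p, m.z₂' p ∈ H) {p : D.T} (hp : p.c ≠ 0) (b : F) : m.y' b ∈ H := by
  have h1 := h.nII_x' p hp (D.σ (-(p.c * b)))
  have h2 : -(p.c⁻¹ * D.σ (D.σ (-(p.c * b)))) = b := by
    rw [D.σσ]; field_simp
  rw [h2] at h1
  rw [← h1]
  exact mul_mem (mul_mem (nII_mem hz hz' p) (hx' _)) (inv_mem (nII_mem hz hz' p))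

theorem z₁_mem_of (h : B2Rel m) (hx : ∀ a, m.x a ∈ H) (hx' : ∀ a, m.x' a ∈ H)
    (hz : ∀ p, m.z₂ p ∈ H) (p : D.T) : m.z₁ p ∈ H := by
  rw [← h.nI_z₂]
  exact mul_mem (mul_mem (nI_mem hx hx') (hz _)) (inv_mem (nI_mem hx hx'))

theorem z₁'_mem_of (h : B2Rel m) (hx : ∀ a, m.x a ∈ H) (hx' : ∀ a, m.x' a ∈ H)
    (hz' : ∀ p, m.z₂' p ∈ H) (p : D.T) : m.z₁' p ∈ H := by
  rw [← h.nI_z₂']
  exact mul_mem (mul_mem (nI_mem hx hx') (hz' _)) (inv_mem (nI_mem hx hx'))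

/-- Restriction of a package of type `B₂` to a subgroup. -/
theorem b2_sub (h : B2Rel m) (hx : ∀ a, m.x a ∈ H) (hx' : ∀ a, m.x' a ∈ H)
    (hz : ∀ p, m.z₂ p ∈ H) (hz' : ∀ p, m.z₂' p ∈ H) (hne : ∃ p : D.T, p.c ≠ 0) :
    ∃ k : B2Maps D ↥H, B2Rel k ∧ k.map H.subtype = m := by
  obtain ⟨p₀, hp₀⟩ := hne
  let k : B2Maps D ↥H :=
    { x := fun a => ⟨m.x a, hx a⟩
      x' := fun a => ⟨m.x' a, hx' a⟩
      y := fun b => ⟨m.y b, y_mem_of h hx hz hz' hp₀ b⟩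
      y' := fun b => ⟨m.y' b, y'_mem_of h hx' hz hz' hp₀ b⟩
      z₁ := fun p => ⟨m.z₁ p, z₁_mem_of h hx hx' hz p⟩
      z₂ := fun p => ⟨m.z₂ p, hz p⟩
      z₁' := fun p => ⟨m.z₁' p, z₁'_mem_of h hx hx' hz' p⟩
      z₂' := fun p => ⟨m.z₂' p, hz' p⟩ }
  have hk : k.map H.subtype = m := rfl
  exact ⟨k, B2Rel.of_map (f := H.subtype) H.subtype_injective (hk ▸ h), hk⟩

/-- The positive root elements `y` lie in every subgroup containing `x`, `z₂` (the form is not zero). -/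
theorem y_mem (h : B2Rel m) (hx : ∀ a, m.x a ∈ H) (hz : ∀ p, m.z₂ p ∈ H)
    (hne : ∃ p q : D.T, D.h q.w p.w ≠ 0) (b : F) : m.y b ∈ H := by
  obtain ⟨p, q, hpq⟩ := hne
  have key : ∀ a : F, m.y (-D.h q.w (D.sc a p).w) ∈ H := by
    intro a
    have h1 : ⁅m.z₁ (D.sc a p) * m.y (-(D.ε * a * D.σ p.c)), m.z₂ q⁆ ∈ H := by
      rw [← h.x_z₂]
      exact commutator_mem (commutator_mem (hx a) (hz p)) (hz q)
    have h2 : ⁅m.z₁ (D.sc a p) * m.y (-(D.ε * a * D.σ p.c)), m.z₂ q⁆ =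
        ⁅m.z₁ (D.sc a p), m.z₂ q⁆ := by
      have hc : m.y (-(D.ε * a * D.σ p.c)) * m.z₂ q = m.z₂ q * m.y (-(D.ε * a * D.σ p.c)) :=
        h.y_z₂ _ _
      rw [commutatorElement_def, commutatorElement_def, mul_inv_rev]
      set Yb := m.y (-(D.ε * a * D.σ p.c))
      calc m.z₁ (D.sc a p) * Yb * m.z₂ q * (Yb⁻¹ * (m.z₁ (D.sc a p))⁻¹) * (m.z₂ q)⁻¹
          = m.z₁ (D.sc a p) * (Yb * m.z₂ q) * Yb⁻¹ * (m.z₁ (D.sc a p))⁻¹ * (m.z₂ q)⁻¹ := by group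
        _ = m.z₁ (D.sc a p) * (m.z₂ q * Yb) * Yb⁻¹ * (m.z₁ (D.sc a p))⁻¹ * (m.z₂ q)⁻¹ := by rw [hc]
        _ = _ := by group
    rw [h2, h.z₁_z₂] at h1
    exact h1
  have h3 := key (-(b / D.h q.w p.w))
  have h4 : -D.h q.w (D.sc (-(b / D.h q.w p.w)) p).w = b := by
    rw [PQDatum.sc_w, D.smul_right, D.σσ]
    field_simp
  rwa [h4] at h3

/-- The positive root elements `z₁` lie in every subgroup containing `x`, `z₂` (the form is not zero). -/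
theorem z₁_mem (h : B2Rel m) (hx : ∀ a, m.x a ∈ H) (hz : ∀ p, m.z₂ p ∈ H)
    (hne : ∃ p q : D.T, D.h q.w p.w ≠ 0) (p : D.T) : m.z₁ p ∈ H := by
  have h1 := h.x_z₂ 1 p
  have h2 : D.sc 1 p = p := by
    ext
    · rw [PQDatum.sc_w, map_one, one_smul]
    · rw [PQDatum.sc_c, map_one, one_mul, one_mul]
  rw [h2] at h1
  have h3 : m.z₁ p = ⁅m.x 1, m.z₂ p⁆ * (m.y (-(D.ε * 1 * D.σ p.c)))⁻¹ := by
    rw [h1, mul_inv_cancel_right]
  rw [h3]
  exact mul_mem (commutator_mem (hx 1) (hz p)) (inv_mem (y_mem h hx hz hne _))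

end B2

end Cfsg.Agent.TitsThree.SubPkg
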