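import Cfsg.Agent.TitsThree.KExcRT
import Cfsg.Agent.TitsThree.SubPkg
import Cfsg.Agent.TitsThree.C3B2
import Cfsg.Agent.TitsThree.B2Transport
import Cfsg.Agent.TitsThree.FFData
import Cfsg.Agent.TitsThree.Top

/-!
# The Chevalley group `F₄(F)` as `KFF` (S1143, K side)

The nodes `0, 1` are the long fundamental roots (indices `24`, `25`), the nodes `2, 3` the short ones (`27`, `33`).
The subsystem of type `B₃` containing the nodes `0, 1, 2` gives the signed relations `Sgn`.
-/

set_option autoImplicit false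
set_option linter.unusedSectionVars false

namespace Cfsg.Agent.TitsThree.KExcF4

open Cfsg.Lie Cfsg.Agent.ChevalleyStructure.Elts Cfsg.Agent.ChevalleyStructure Cfsg.Agent.AGraded
open Cfsg.Agent.TitsThree Cfsg.Agent.TitsThree.KExcBase Cfsg.Agent.TitsThree.Pack
open Cfsg.Agent.TitsThree.B2Pkg Cfsg.Agent.TitsThree.FFData Cfsg.Agent.TitsThree.StdData
open Cfsg.Agent.TitsThree.C3Grp Cfsg.Agent.TitsThree.PQAbs Cfsg.Agent.TitsThree.C3Sgn
open scoped commutatorElement

universe u

section Two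

variable {F : Type u} [Field F] {D : ChevalleyDatum}

/-- Chevalley's commutator formula with two terms `r + s`, `r + 2 s`. -/
theorem comm_two (hD : InList D) {r s k l : ℕ} {N M K : ℤ} (hr : r < D.nroots) (hs : s < D.nroots)
    (hk : k < D.nroots) (hrs : s ≠ r) (hneg : s ≠ D.neg r)
    (h : D.commTerms r s = [(k, N, 1, 1), (l, M, 1, 2)])
    (hsk : k ≠ s) (hsk' : k ≠ D.neg s) (h' : D.commTerms s k = [(l, K, 1, 1)])
    (c1 : NilTab D r k) (c2 : NilTab D r l) (c3 : NilTab D s l) (c4 : NilTab D k l) (t u : F) :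
    X hD r t * X hD s u = X hD k ((N : F) * (t * u)) *
      (X hD l (((M + K * N : ℤ) : F) * (t * (u * u))) * (X hD s u * X hD r t)) := by
  have e1 : X hD s u * X hD r t = X hD r t * X hD s u *
      (X hD k (-((N : F) * (t * u))) * X hD l (-((M : F) * (t * (u * u))))) := by
    have h1 := Cfsg.Agent.S1025.result (F := F) D hD r s hr hs hrs hneg t u
    have h2 : D.commWord F r s t u = [(k, (N : F) * (-t) ^ 1 * u ^ 1), (l, (M : F) * (-t) ^ 1 * u ^ 2)] := by
      show (D.commTerms r s).map _ = _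
      rw [h]; rfl
    rw [h2, wordMat_cons, wordMat_cons, wordMat_nil, mul_one] at h1
    apply Subtype.ext
    apply Units.ext
    show (xG hD s u * xG hD r t : GL D.Idx F).1 = (xG hD r t * xG hD s u *
      (xG hD k (-((N : F) * (t * u))) * xG hD l (-((M : F) * (t * (u * u)))))).1
    rw [Units.val_mul, Units.val_mul, Units.val_mul, Units.val_mul, coe_xG, coe_xG, coe_xG, coe_xG, h1]
    congr 3
    · ring
    · ring
  have e2 : ∀ v : F, X hD k v * X hD s u = X hD s u * X hD k v * X hD l (-((K : F) * (u * v))) := by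
    intro v
    have h1 := Cfsg.Agent.S1025.result (F := F) D hD s k hs hk hsk hsk' u v
    have h2 : D.commWord F s k u v = [(l, (K : F) * (-u) ^ 1 * v ^ 1)] := by
      show (D.commTerms s k).map _ = _
      rw [h']; rfl
    rw [h2, wordMat_cons, wordMat_nil, mul_one] at h1
    apply Subtype.ext
    apply Units.ext
    show (xG hD k v * xG hD s u : GL D.Idx F).1 = (xG hD s u * xG hD k v *
      xG hD l (-((K : F) * (u * v)))).1
    rw [Units.val_mul, Units.val_mul, Units.val_mul, coe_xG, coe_xG, coe_xG, h1]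
    congr 2
    ring
  have f1 := X_commute (F := F) hD c1 t ((N : F) * (t * u))
  have f2 := X_commute (F := F) hD c2 t ((M : F) * (t * (u * u)))
  have f3 := X_commute (F := F) hD c3 u ((M : F) * (t * (u * u)))
  have f3' := X_commute (F := F) hD c3 u ((K : F) * (u * ((N : F) * (t * u))))
  have f4 := X_commute (F := F) hD c4 ((N : F) * (t * u)) ((M : F) * (t * (u * u)))
  have e3 := e2 ((N : F) * (t * u))
  rw [X_neg, X_neg] at e1
  rw [X_neg] at e3
  have e4 : X hD l (((M + K * N : ℤ) : F) * (t * (u * u))) =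
      X hD l ((M : F) * (t * (u * u))) * X hD l ((K : F) * (u * ((N : F) * (t * u)))) := by
    rw [← X_add]
    congr 1
    push_cast
    ring
  rw [e4]
  generalize X hD r t = A at *
  generalize X hD s u = B at *
  generalize X hD k ((N : F) * (t * u)) = P at *
  generalize X hD l ((M : F) * (t * (u * u))) = Q at *
  generalize X hD l ((K : F) * (u * ((N : F) * (t * u)))) = R at *
  have g1 : A * B = B * A * (Q * P) := by
    rw [e1]; group
  have g2 : B * P = P * B * R := by
    rw [e3]; group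
  calc A * B = B * (A * Q) * P := by rw [g1]; group
    _ = B * Q * (A * P) := by rw [f2.eq]; group
    _ = (B * Q) * P * A := by rw [f1.eq]; group
    _ = Q * (B * P) * A := by rw [f3.eq]; group
    _ = Q * P * (B * R) * A := by rw [g2]; group
    _ = (Q * P) * R * B * A := by rw [f3'.eq]; group
    _ = P * (Q * R * (B * A)) := by rw [← f4.eq]; group

end Two

/-- Table check: `[x_r, x_s]` has the single term `r + s = k`, coefficient `N`. -/
def OneTab (D : ChevalleyDatum) (r s k : ℕ) (N : ℤ) : Prop :=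
  r < D.nroots ∧ s < D.nroots ∧ s ≠ r ∧ s ≠ D.neg r ∧ D.commTerms r s = [(k, N, 1, 1)]

instance (D : ChevalleyDatum) (r s k : ℕ) (N : ℤ) : Decidable (OneTab D r s k N) := by
  unfold OneTab; infer_instance

/-- Table check: `[x_r, x_s]` has the two terms `r + s = k`, `r + 2 s = l`. -/
def TwoTab (D : ChevalleyDatum) (r s k l : ℕ) (N M : ℤ) : Prop :=
  r < D.nroots ∧ s < D.nroots ∧ s ≠ r ∧ s ≠ D.neg r ∧ D.commTerms r s = [(k, N, 1, 1), (l, M, 1, 2)]

instance (D : ChevalleyDatum) (r s k l : ℕ) (N M : ℤ) : Decidable (TwoTab D r s k l N M) := by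
  unfold TwoTab; infer_instance

/-! ### The tables of the subsystem of type `B₃` -/

/-- The code of a signed index. -/
def cd (x : S) : ℕ := 2 * x.1.val + (if x.2 then 1 else 0)

/-- The index of the root `b_x - b_y`. -/
def rE (x y : S) : ℕ :=
  (([[0, 0, 23, 15, 21, 16], [0, 0, 32, 24, 31, 26], [24, 15, 0, 0, 22, 17], [32, 23, 0, 0, 30, 25],
    [26, 16, 25, 17, 0, 0], [31, 21, 30, 22, 0, 0]] : List (List ℕ)).getD (cd x) []).getD (cd y) 0

/-- The sign of `E x y`. -/
def sE (x y : S) : ℤ :=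
  (([[1, 1, -1, -1, -1, -1], [1, 1, 1, 1, 1, 1], [-1, 1, 1, 1, -1, -1], [-1, 1, 1, 1, 1, 1],
    [-1, 1, -1, 1, 1, 1], [-1, 1, -1, 1, 1, 1]] : List (List ℤ)).getD (cd x) []).getD (cd y) 0

/-- The index of the root `b_x`. -/
def rZ (x : S) : ℕ := ([18, 29, 19, 28, 20, 27] : List ℕ).getD (cd x) 0

/-- The sign of `Z x`. -/
def sZ (x : S) : ℤ := ([1, -1, 1, -1, 1, -1] : List ℤ).getD (cd x) 0

/-- The coefficient of the first term of `[E x y, Z y]`. -/
def cN (x y : S) : ℤ := ((chevF4.commTerms (rE x y) (rZ y)).getD 0 (0, 0, 0, 0)).2.1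

/-- The coefficient of the second term of `[E x y, Z y]`. -/
def cM (x y : S) : ℤ := ((chevF4.commTerms (rE x y) (rZ y)).getD 1 (0, 0, 0, 0)).2.1

/-- The coefficient of `[Z x, Z y]`. -/
def cK (x y : S) : ℤ := ((chevF4.commTerms (rZ x) (rZ y)).getD 0 (0, 0, 0, 0)).2.1

theorem tE_comm : ∀ x y z : S, x.1 ≠ y.1 → x.1 ≠ z.1 → y.1 ≠ z.1 →
    NilTab chevF4 (rE x y) (rE x z) := by decide +kernel

theorem tE_E : ∀ x y z : S, x.1 ≠ y.1 → x.1 ≠ z.1 → y.1 ≠ z.1 →
    OneTab chevF4 (rE x y) (rE y z) (rE x z) (sE x y * sE y z * sE x z) := by decide +kernel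

theorem tE_comm' : ∀ x y z : S, x.1 ≠ y.1 → x.1 ≠ z.1 → y.1 ≠ z.1 →
    NilTab chevF4 (rE y z) (rE x z) := by decide +kernel

theorem tE_swap : ∀ x y : S, x.1 ≠ y.1 → rE x y = rE (op y) (op x) ∧ sE x y = - sE (op y) (op x) := by
  decide +kernel

theorem tZ_E : ∀ x y : S, x.1 ≠ y.1 → NilTab chevF4 (rZ x) (rE x y) := by decide +kernel

theorem tZ_E3 : ∀ x y z : S, x.1 ≠ y.1 → x.1 ≠ z.1 → y.1 ≠ z.1 → NilTab chevF4 (rZ x) (rE y z) := by
  decide +kernel

theorem tE_same : ∀ x y : S, x.1 ≠ y.1 → NilTab chevF4 (rE x (op y)) (rE x y) := by decide +kernel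

theorem tE_Z : ∀ x y : S, x.1 ≠ y.1 →
    TwoTab chevF4 (rE x y) (rZ y) (rZ x) (rE x (op y)) (cN x y) (cM x y) := by decide +kernel

theorem tE_Z1 : ∀ x y : S, x.1 ≠ y.1 → OneTab chevF4 (rZ y) (rZ x) (rE x (op y)) (cK y x) := by decide +kernel

theorem tE_Z2 : ∀ x y : S, x.1 ≠ y.1 → NilTab chevF4 (rE x y) (rZ x) := by decide +kernel

theorem tE_Z3 : ∀ x y : S, x.1 ≠ y.1 → NilTab chevF4 (rE x y) (rE x (op y)) := by decide +kernel

theorem tE_Z4 : ∀ x y : S, x.1 ≠ y.1 → NilTab chevF4 (rZ y) (rE x (op y)) := by decide +kernel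

theorem tE_Z5 : ∀ x y : S, x.1 ≠ y.1 → NilTab chevF4 (rZ x) (rE x (op y)) := by decide +kernel

theorem tsE : ∀ x y : S, sE x y * sE x y = 1 := by decide +kernel

theorem tsZ : ∀ x : S, sZ x * sZ x = 1 := by decide +kernel

theorem tcN : ∀ x y : S, x.1 ≠ y.1 → cN x y * (sE x y * sZ y) = sZ x := by decide +kernel

theorem tcM : ∀ x y : S, x.1 ≠ y.1 → (cM x y + cK y x * cN x y) * sE x y = sE x (op y) := by decide +kernel

theorem tcK : ∀ x y : S, x.1 ≠ y.1 → cK x y * (sZ x * sZ y) = -2 * sE x (op y) := by decide +kernel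

theorem mem : InList chevF4 := by simp [InList]

variable (F : Type u) [Field F]

/-- The parameter system in the format `Sys`. -/
noncomputable def sys : Sys F (ConjPair.triv F).datum.T where
  σ := RingEquiv.refl F
  σσ _ := rfl
  ε := 1
  ε_mul := by simp
  c p := p.c
  h p q := 2 * (p.w * q.w)
  smul a p := (ConjPair.triv F).τ (a * p.w)
  tr _ := 1
  h_mul p q r := by
    rw [PQDatum.T.mul_w]; ring
  h_swap p q := by
    rw [RingEquiv.refl_apply]; ring
  c_mul p q := by
    rw [PQDatum.T.mul_c]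
    show _ - (q.w * p.w + q.w * p.w) = _
    ring
  c_herm p := by
    have h : p.c = -(p.w * p.w) := p.ok
    rw [RingEquiv.refl_apply, h]; ring
  h_smul a p q := by
    rw [ConjPair.τ_w]; ring
  c_smul a p := by
    have h : p.c = -(p.w * p.w) := p.ok
    show -(a * p.w * (a * p.w)) = a * a * p.c
    rw [h]; ring
  h_tr m p := by
    rw [PQDatum.T.one_w]; ring
  c_tr m := by
    rw [PQDatum.T.one_c, RingEquiv.refl_apply]; ring
  eq_one p hp := by
    apply (ConjPair.triv F).T_ext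
    have h : p.c = -(p.w * p.w) := p.ok
    rw [hp] at h
    have h1 : p.w * p.w = 0 := by
      linear_combination h
    rw [PQDatum.T.one_w]
    exact mul_self_eq_zero.1 h1

/-- Long root elements. -/
noncomputable def E (x y : S) (t : F) : ↥(chevF4.group F) := X mem (rE x y) ((sE x y : F) * t)

/-- Short root elements. -/
noncomputable def Z (x : S) (p : (ConjPair.triv F).datum.T) : ↥(chevF4.group F) :=
  X mem (rZ x) ((sZ x : F) * p.w)

theorem gg_one (x : S) : C3Grp.gg (1 : F) x = 1 := by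
  unfold C3Grp.gg
  split_ifs <;> rfl

theorem comm_one' {r s k : ℕ} {N : ℤ} (h : OneTab chevF4 r s k N) (h1 : NilTab chevF4 r k)
    (h2 : NilTab chevF4 s k) (t u : F) : ⁅X mem r t, X mem s u⁆ = X mem k ((N : F) * t * u) := by
  apply Subtype.ext
  have := comm_one (F := F) mem h.1 h.2.1 h.2.2.1 h.2.2.2.1 h.2.2.2.2
    (fun t u => comm_nil mem h1.1 h1.2.1 h1.2.2.1 h1.2.2.2.1 h1.2.2.2.2 t u)
    (fun t u => comm_nil mem h2.1 h2.2.1 h2.2.2.1 h2.2.2.2.1 h2.2.2.2.2 t u) t u
  rw [commutatorElement_def] at this ⊢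
  exact this

theorem csq (x y : S) : ((sE x y : ℤ) : F) * (sE x y : F) = 1 := by
  rw [← Int.cast_mul, tsE, Int.cast_one]

theorem csqZ (x : S) : ((sZ x : ℤ) : F) * (sZ x : F) = 1 := by
  rw [← Int.cast_mul, tsZ, Int.cast_one]

/-- The signed relations. -/
noncomputable def sgn : Sgn (sys F) ↥(chevF4.group F) where
  E := E F
  Z := Z F
  E_add x y _ s t := by
    show X mem _ _ = X mem _ _ * X mem _ _
    rw [← X_add, mul_add]
  E_comm x y z h1 h2 h3 s t := (X_commute mem (tE_comm x y z h1 h2 h3) _ _).eq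
  E_E x y z h1 h2 h3 s t := by
    show ⁅X mem _ _, X mem _ _⁆ = X mem _ _
    rw [comm_one' F (tE_E x y z h1 h2 h3) (tE_comm x y z h1 h2 h3) (tE_comm' x y z h1 h2 h3)]
    congr 1
    have e1 := csq F x y
    have e2 := csq F y z
    push_cast
    linear_combination (sE y z : F) * (sE y z : F) * (sE x z : F) * s * t * e1 + (sE x z : F) * s * t * e2
  E_swap x y h t := by
    show X mem _ _ = X mem _ _
    obtain ⟨h1, h2⟩ := tE_swap x y h
    rw [h1, h2]
    congr 1
    show _ = _ * -((C3Grp.gg (1 : F) x) * (C3Grp.gg (1 : F) y)⁻¹ * t)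
    rw [gg_one, gg_one]
    push_cast
    ring
  Z_mul x p q := by
    show X mem _ _ = X mem _ _ * X mem _ _
    rw [← X_add, ← mul_add, PQDatum.T.mul_w]
  Z_E x y h p t := (X_commute mem (tZ_E x y h) _ _).eq
  Z_E3 x y z h1 h2 h3 p t := (X_commute mem (tZ_E3 x y z h1 h2 h3) _ _).eq
  E_same x y h a b := by
    have h0 : Z F x ((sys F).tr ((sys F).σ a * b * gg (sys F).ε y)) = 1 := by
      show X mem _ ((sZ x : F) * 0) = 1
      rw [mul_zero, X_zero]
    rw [h0, one_mul]
    exact (X_commute mem (tE_same x y h) _ _).eq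
  E_Z x y h a p := by
    show X mem _ _ * X mem _ _ = X mem _ ((sZ x : F) * (a * p.w)) *
      (X mem _ ((sE x (op y) : F) * -(a * C3Grp.gg (1 : F) y * p.c)) * (X mem _ _ * X mem _ _))
    have t0 := tE_Z x y h
    have t1 := tE_Z1 x y h
    rw [comm_two mem t0.1 t0.2.1 t1.2.1 t0.2.2.1 t0.2.2.2.1 t0.2.2.2.2 t1.2.2.1 t1.2.2.2.1 t1.2.2.2.2
      (tE_Z2 x y h) (tE_Z3 x y h) (tE_Z4 x y h) (tE_Z5 x y h)]
    have hc : p.c = -(p.w * p.w) := p.ok
    have e1 : (cN x y : F) * ((sE x y : F) * (sZ y : F)) = (sZ x : F) := by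
      exact_mod_cast congrArg (Int.cast : ℤ → F) (tcN x y h)
    have e2 : ((cM x y + cK y x * cN x y : ℤ) : F) * (sE x y : F) = (sE x (op y) : F) := by
      rw [← Int.cast_mul, tcM x y h]
    have e3 := csqZ F y
    congr 2
    · linear_combination a * p.w * e1
    · congr 1
      rw [gg_one, hc]
      linear_combination (cM x y + cK y x * cN x y : ℤ) * (sE x y : F) * a * (p.w * p.w) * e3 +
        a * (p.w * p.w) * e2
  Z_Z x y h p q := by
    show X mem _ _ * X mem _ _ = X mem _ ((sE x (op y) : F) *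
      -(C3Grp.gg (1 : F) y * (1 : F)⁻¹ * (2 * (q.w * p.w)))) * (X mem _ _ * X mem _ _)
    have t1 := tE_Z1 y x (Ne.symm h)
    have hr : rE y (op x) = rE x (op y) := by
      rw [(tE_swap x (op y) h).1, op_op]
    rw [hr] at t1
    have hcomm := comm_one' F t1 (tE_Z5 x y h) (tE_Z4 x y h) ((sZ x : F) * p.w) ((sZ y : F) * q.w)
    have e1 : (cK x y : F) * ((sZ x : F) * (sZ y : F)) = -2 * (sE x (op y) : F) := by
      exact_mod_cast congrArg (Int.cast : ℤ → F) (tcK x y h)
    have e2 : (cK x y : F) * ((sZ x : F) * p.w) * ((sZ y : F) * q.w) =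
        (sE x (op y) : F) * -(C3Grp.gg (1 : F) y * (1 : F)⁻¹ * (2 * (q.w * p.w))) := by
      rw [gg_one]
      linear_combination (p.w * q.w) * e1
    rw [← e2, ← hcomm, commutatorElement_def]
    group

/-! ### The package over `(triv F).datum` -/

/-- `(triv F).datum` and the datum of `sys F` are similar. -/
noncomputable def lin : F →ₗ[F] (sys F).V where
  toFun t := (sys F).cl ((ConjPair.triv F).τ t)
  map_add' s t := by
    rw [← (sys F).cl_mul, ConjPair.τ_add]
  map_smul' a t := by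
    rw [RingHom.id_apply, (sys F).smul_cl]
    rfl

theorem lin_bij : Function.Bijective (lin F) := by
  constructor
  · intro s t h
    obtain ⟨m, hm⟩ := (sys F).cl_eq.1 h
    have h1 : (ConjPair.triv F).τ t = (ConjPair.triv F).τ s := by
      rw [hm]
      exact mul_one _
    exact ((ConjPair.triv F).τ_inj h1).symm
  · intro v
    obtain ⟨p, rfl⟩ := (sys F).cl_surj v
    obtain ⟨t, rfl⟩ := (ConjPair.triv F).τ_surj p
    exact ⟨t, rfl⟩

/-- The similarity. -/
noncomputable def sim : Sim (sys F).datum (ConjPair.triv F).datum where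
  l := 1
  l_ne := one_ne_zero
  e := (LinearEquiv.ofBijective (lin F) (lin_bij F)).symm
  σ_eq _ := rfl
  ε_eq := by
    show (1 : F) = 1 * 1 * (1 : F)⁻¹
    simp
  h_eq v w := by
    obtain ⟨s, rfl⟩ := (LinearEquiv.ofBijective (lin F) (lin_bij F)).surjective v
    obtain ⟨t, rfl⟩ := (LinearEquiv.ofBijective (lin F) (lin_bij F)).surjective w
    rw [LinearEquiv.symm_apply_apply, LinearEquiv.symm_apply_apply, one_mul]
    show s * t + s * t = (sys F).hV ((sys F).cl _) ((sys F).cl _)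
    rw [(sys F).hV_cl]
    show _ = 2 * (s * t)
    ring
  ok_iff w c := by
    obtain ⟨s, rfl⟩ := (LinearEquiv.ofBijective (lin F) (lin_bij F)).surjective w
    rw [LinearEquiv.symm_apply_apply, one_mul]
    constructor
    · intro h
      exact ⟨(ConjPair.triv F).τ s, rfl, h.symm⟩
    · rintro ⟨p, h1, h2⟩
      obtain ⟨t, rfl⟩ := (ConjPair.triv F).τ_surj p
      have h3 : t = s := (lin_bij F).1 h1
      subst h3
      exact h2.symm

/-- The package of the double bond. -/
noncomputable def b2 : B2Maps (ConjPair.triv F).datum ↥(chevF4.group F) :=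
  B2Transport.maps (sim F) (C3B2.maps (sgn F) 1 2)

theorem b2_rel : B2Rel (b2 F) := B2Transport.rel (sim F) (C3B2.b2Rel (sgn F) (by decide))

theorem equiv_symm_τ (p : (ConjPair.triv F).datum.T) :
    (sys F).equiv.symm (B2Transport.τ (sim F) p) = p := by
  rw [MulEquiv.symm_apply_eq]
  obtain ⟨t, rfl⟩ := (ConjPair.triv F).τ_surj p
  ext
  · rfl
  · rw [B2Transport.τ_c]
    show (1 : F)⁻¹ * _ = _
    rw [inv_one, one_mul]
    rfl

theorem b2_x (a : F) : (b2 F).x a = X mem 25 a := by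
  show X mem 25 (((1 : ℤ) : F) * a) = _
  rw [Int.cast_one, one_mul]

theorem b2_x' (a : F) : (b2 F).x' a = X mem 22 a := by
  show X mem 22 (((1 : ℤ) : F) * a) = _
  rw [Int.cast_one, one_mul]

theorem b2_y (a : F) : (b2 F).y a = X mem 30 a := by
  show X mem 30 (((1 : ℤ) : F) * ((1 : F)⁻¹ * a)) = _
  rw [Int.cast_one, one_mul, inv_one, one_mul]

theorem b2_z₁ (p : (ConjPair.triv F).datum.T) : (b2 F).z₁ p = X mem 28 (-p.w) := by
  show Z F (1, true) ((sys F).equiv.symm (B2Transport.τ (sim F) p)) = _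
  rw [equiv_symm_τ]
  show X mem 28 (((-1 : ℤ) : F) * p.w) = _
  rw [Int.cast_neg, Int.cast_one, neg_one_mul]

theorem b2_z₂ (p : (ConjPair.triv F).datum.T) : (b2 F).z₂ p = X mem 27 (-p.w) := by
  show Z F (2, true) ((sys F).equiv.symm (B2Transport.τ (sim F) p)) = _
  rw [equiv_symm_τ]
  show X mem 27 (((-1 : ℤ) : F) * p.w) = _
  rw [Int.cast_neg, Int.cast_one, neg_one_mul]

theorem b2_z₂' (p : (ConjPair.triv F).datum.T) : (b2 F).z₂' p = X mem 20 p.w := by
  show Z F (2, false) ((sys F).smul (1 : F) ((sys F).equiv.symm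
    ((sys F).datum.sc ((sys F).datum.σ 1) (B2Transport.τ (sim F) p)))) = _
  rw [map_one, PQDatum.sc_one, equiv_symm_τ, (sys F).one_smul]
  show X mem 20 (((1 : ℤ) : F) * p.w) = _
  rw [Int.cast_one, one_mul]

/-! ### The other edges -/

/-- The roots of the subsystem of type `A₂` of the nodes `2`, `3`. -/
def r2 (a b : Fin 3) : ℕ := (![![0, 27, 34], ![20, 0, 33], ![13, 14, 0]] : Fin 3 → Fin 3 → ℕ) a b

/-- The signs of the subsystem of type `A₂` of the nodes `2`, `3`. -/
def s2 (a b : Fin 3) : ℤ := (![![1, -1, -1], ![-1, 1, 1], ![-1, 1, 1]] : Fin 3 → Fin 3 → ℤ) a b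

theorem t2a : KExcRT.RTa chevF4 r2 := by decide +kernel
theorem t2b : KExcRT.RTb chevF4 r2 s2 := by decide +kernel
theorem t2c : KExcRT.RTc chevF4 r2 := by decide +kernel
theorem t2d : KExcRT.RTd s2 := by decide +kernel

theorem e23 : Edge3 (fun t : F => X mem 27 (-t)) (fun t : F => X mem 20 (-t)) (fun t : F => X mem 33 t)
    (fun t : F => X mem 14 t) := by
  refine SubPkg.edge3_sub (Y := GL chevF4.Idx F) (H := chevF4.group F)
    ⟨_, KExcRT.stein (F := F) mem t2a t2b t2c t2d, rfl, rfl, rfl, rfl⟩ ?_ ?_ ?_ ?_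
  · intro t
    show xG mem 27 (-t) = xG mem 27 (((-1 : ℤ) : F) * t)
    rw [Int.cast_neg, Int.cast_one, neg_one_mul]
  · intro t
    show xG mem 20 (-t) = xG mem 20 (((-1 : ℤ) : F) * t)
    rw [Int.cast_neg, Int.cast_one, neg_one_mul]
  · intro t
    show xG mem 33 t = xG mem 33 (((1 : ℤ) : F) * t)
    rw [Int.cast_one, one_mul]
  · intro t
    show xG mem 14 t = xG mem 14 (((1 : ℤ) : F) * t)
    rw [Int.cast_one, one_mul]

theorem tA : ∀ a b c d : Fin 3, a ≠ b → c ≠ d → b ≠ c → a ≠ d →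
    rE (a, true) (b, true) = rE (c, true) (d, true) ∨
      NilTab chevF4 (rE (a, true) (b, true)) (rE (c, true) (d, true)) := by decide +kernel

theorem e01 : Edge3 (fun t : F => X mem 24 t) (fun t : F => X mem 23 t) (fun t : F => X mem 25 t)
    (fun t : F => X mem 22 t) := by
  have hf : ∀ r : ℕ, (fun t : F => X mem r (((1 : ℤ) : F) * t)) = fun t : F => X (D := chevF4) mem r t := by
    intro r
    funext t
    rw [Int.cast_one, one_mul]
  refine ⟨fun a b t => E F (a, true) (b, true) t, ⟨?_, ?_, ?_⟩, hf 24, hf 23, hf 25, hf 22⟩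
  · intro a b hab s t
    exact (sgn F).E_add (a, true) (b, true) hab s t
  · intro a b c d hab hcd hbc had s t
    rcases tA a b c d hab hcd hbc had with h | h
    · have h1 : E F (a, true) (b, true) s = X mem (rE (c, true) (d, true)) ((sE (a, true) (b, true) : F) * s) := by
        rw [← h]; rfl
      show E F (a, true) (b, true) s * E F (c, true) (d, true) t = E F (c, true) (d, true) t * E F (a, true) (b, true) s
      rw [h1]
      exact Subtype.ext (comm_self mem _ _ _)
    · exact (X_commute mem h _ _).eq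
  · intro a b c hab hbc hac s t
    exact (sgn F).E_E (a, true) (b, true) (c, true) hab hac hbc s t

theorem tnil : (∀ r ∈ [24, 23], ∀ s ∈ [27, 20, 33, 14], NilTab chevF4 r s) ∧
    ∀ r ∈ [25, 22], ∀ s ∈ [33, 14], NilTab chevF4 r s := by decide +kernel

theorem comm_of {r s : ℕ} (h : NilTab chevF4 r s) (t u : F) : Commute (X mem r t) (X mem s u) :=
  X_commute mem h t u

theorem pos_mem {r : ℕ} (h : chevF4.IsPosRoot r) (t : F) : X mem r t ∈ B F chevF4 := by
  rw [B, Subgroup.mem_subgroupOf]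
  exact (le_sup_left : chevF4.posUnipotent F ≤ chevF4.borelSubgroup F) (xG_mem_posUnipotent mem h t)

theorem pos28 : chevF4.IsPosRoot 28 := by decide +kernel
theorem pos30 : chevF4.IsPosRoot 30 := by decide +kernel

theorem nII_eq {p : (ConjPair.triv F).datum.T} (hp : p.c ≠ 0) :
    (b2 F).nII p = X mem 20 (p.w)⁻¹ * X mem 27 (-((p.w)⁻¹)⁻¹) * X mem 20 (p.w)⁻¹ := by
  obtain ⟨t, rfl⟩ := (ConjPair.triv F).τ_surj p
  have ht : t ≠ 0 := by
    rintro rfl
    exact hp (by rw [ConjPair.τ_c, ConjPair.N_zero, neg_zero])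
  rw [ConjPair.nII_τ _ _ ht, b2_z₂', b2_z₂, ConjPair.τ_w, ConjPair.τ'_w, inv_inv]
  have h : -(ConjPair.triv F).conj (-t⁻¹) = t⁻¹ := by
    show - (-t⁻¹) = t⁻¹
    rw [neg_neg]
  rw [h]

/-- **`F₄(F)` as a model.** -/
noncomputable def kff : KFF ↥(chevF4.group F) (ConjPair.triv F).datum (ConjPair.triv F).τ (ConjPair.triv F).τ' where
  x0 t := X mem 24 t
  y0 t := X mem 23 t
  x1 t := X mem 25 t
  y1 t := X mem 22 t
  x2 t := X mem 27 (-t)
  y2 t := X mem 20 (-t)
  x3 t := X mem 33 t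
  y3 t := X mem 14 t
  b2 := b2 F
  rel := b2_rel F
  e01 := e01 F
  e23 := e23 F
  hx := funext (b2_x F)
  hx' := funext (b2_x' F)
  hz t := b2_z₂ F _
  hz' t := b2_z₂' F _
  c02 s t := ⟨comm_of F (tnil.1 24 (by simp) 27 (by simp)) _ _, comm_of F (tnil.1 24 (by simp) 20 (by simp)) _ _,
    comm_of F (tnil.1 23 (by simp) 27 (by simp)) _ _, comm_of F (tnil.1 23 (by simp) 20 (by simp)) _ _⟩
  c03 s t := ⟨comm_of F (tnil.1 24 (by simp) 33 (by simp)) _ _, comm_of F (tnil.1 24 (by simp) 14 (by simp)) _ _,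
    comm_of F (tnil.1 23 (by simp) 33 (by simp)) _ _, comm_of F (tnil.1 23 (by simp) 14 (by simp)) _ _⟩
  c13 s t := ⟨comm_of F (tnil.2 25 (by simp) 33 (by simp)) _ _, comm_of F (tnil.2 25 (by simp) 14 (by simp)) _ _,
    comm_of F (tnil.2 22 (by simp) 33 (by simp)) _ _, comm_of F (tnil.2 22 (by simp) 14 (by simp)) _ _⟩
  gen := by
    apply closure_simple mem
    · intro i hi t
      apply Subgroup.subset_closure
      have hi' : i < 4 := hi
      interval_cases i
      · exact Or.inl (Or.inr ⟨t, rfl⟩)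
      · exact Or.inl (Or.inl (Or.inl (Or.inr ⟨-t, congrArg (X mem 27) (neg_neg t)⟩)))
      · exact Or.inl (Or.inl (Or.inl (Or.inl (Or.inl (Or.inr ⟨t, rfl⟩)))))
      · exact Or.inl (Or.inl (Or.inl (Or.inl (Or.inl (Or.inl (Or.inl ⟨t, rfl⟩))))))
    · intro i hi t
      apply Subgroup.subset_closure
      have hi' : i < 4 := hi
      interval_cases i
      · exact Or.inr ⟨t, rfl⟩
      · exact Or.inl (Or.inl (Or.inr ⟨-t, congrArg (X mem 20) (neg_neg t)⟩))
      · exact Or.inl (Or.inl (Or.inl (Or.inl (Or.inr ⟨t, rfl⟩))))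
      · exact Or.inl (Or.inl (Or.inl (Or.inl (Or.inl (Or.inl (Or.inr ⟨t, rfl⟩))))))
  Bor := B F chevF4
  Bor_ne := B_ne_top mem (by decide)
  x0_mem t := X_simple_mem mem (i := 3) (by decide) t
  x1_mem t := X_simple_mem mem (i := 2) (by decide) t
  x2_mem t := X_simple_mem mem (i := 1) (by decide) (-t)
  x3_mem t := X_simple_mem mem (i := 0) (by decide) t
  y_mem t := by rw [b2_y]; exact pos_mem F pos30 t
  z₁_mem p := by rw [b2_z₁]; exact pos_mem F pos28 _
  hh0_mem t ht := by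
    exact h_mem mem (i := 3) (by decide) ht one_ne_zero
  hh1_mem t ht := by
    exact h_mem mem (i := 2) (by decide) ht one_ne_zero
  hh3_mem t ht := by
    exact h_mem mem (i := 0) (by decide) ht one_ne_zero
  nII_mem p q hp hq := by
    have hw : ∀ {p : (ConjPair.triv F).datum.T}, p.c ≠ 0 → (p.w)⁻¹ ≠ 0 := by
      intro p hp h
      apply hp
      have h1 : p.c = -(p.w * p.w) := p.ok
      rw [h1, inv_eq_zero.1 h, mul_zero, neg_zero]
    rw [nII_eq F hp, nII_eq F hq, B, Subgroup.mem_subgroupOf]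
    have h := MonomialNormal.nG_mul_nG_inv_mem (F := F) mem (r := 20) (by decide) (hw hp) (hw hq)
    rw [nG_def, nG_def, ← mul_assoc (xG mem 20 _), ← mul_assoc (xG mem 20 _)] at h
    exact (le_sup_right : chevF4.diagonalSubgroup F ≤ chevF4.borelSubgroup F) h

theorem simple : IsSimpleGroup ↥(chevF4.group F) := (Cfsg.Agent.S1054.result chevF4 (by simp)).1

theorem concl (F : Type) [Field F] [Fintype F] : Top.LieConcl ↥(chevF4.group F) := by
  refine Or.inr (Or.inr (Or.inr (Or.inr (Or.inr (Or.inr (Or.inr (Or.inl ?_)))))))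
  exact ⟨F, inferInstance, inferInstance, ⟨MulEquiv.refl _⟩⟩

/-- **The model over a finite field.** -/
theorem model (F : Type) [Field F] [Finite F] : ∃ (K : Type) (_ : Group K), IsSimpleGroup K ∧ Top.LieConcl K ∧
    Nonempty (KFF K (ConjPair.triv F).datum (ConjPair.triv F).τ (ConjPair.triv F).τ') := by
  have := Fintype.ofFinite F
  exact ⟨↥(chevF4.group F), inferInstance, simple F, concl F, ⟨kff F⟩⟩

end Cfsg.Agent.TitsThree.KExcF4
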