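import Mathlib
import Cfsg.Agent.TitsThree.FFData

/-!
# `ConjPair` over finite fields (S1143)

If `conj ≠ id`, then `conj t = t ^ q` with `q = |F|`, `|E| = q²` and `t ^ q = t` exactly on `F`.
-/

set_option autoImplicit false

namespace Cfsg.Agent.TitsThree.FFData.ConjPair

variable {F E : Type*} [Field F] [Field E] [Algebra F E] (P : ConjPair F E)

/-- The roots of `t ^ q = t` are the elements of `F`. -/
theorem mem_range_of_pow [Finite F] [Finite E] {t : E} (ht : t ^ Nat.card F = t) :
    ∃ a : F, algebraMap F E a = t := by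
  classical
  have : Fintype F := Fintype.ofFinite F
  rw [Nat.card_eq_fintype_card] at ht
  set q := Fintype.card F with hq
  have hq1 : 1 < q := Fintype.one_lt_card
  have hne : (Polynomial.X ^ q - Polynomial.X : Polynomial E) ≠ 0 :=
    FiniteField.X_pow_card_sub_X_ne_zero E hq1
  have hsub : (Finset.univ : Finset F).image (algebraMap F E) ⊆
      (Polynomial.X ^ q - Polynomial.X : Polynomial E).roots.toFinset := by
    intro y hy
    obtain ⟨a, -, rfl⟩ := Finset.mem_image.1 hy
    rw [Multiset.mem_toFinset, Polynomial.mem_roots hne, Polynomial.IsRoot.def, Polynomial.eval_sub,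
      Polynomial.eval_pow, Polynomial.eval_X, ← map_pow, FiniteField.pow_card, sub_self]
  have hcard : (Polynomial.X ^ q - Polynomial.X : Polynomial E).roots.toFinset.card ≤
      ((Finset.univ : Finset F).image (algebraMap F E)).card := by
    rw [Finset.card_image_of_injective _ (algebraMap F E).injective, Finset.card_univ]
    refine (Multiset.toFinset_card_le _).trans ((Polynomial.card_roots' _).trans ?_)
    rw [FiniteField.X_pow_card_sub_X_natDegree_eq E hq1]
  have heq := Finset.eq_of_subset_of_card_le hsub hcard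
  have ht' : t ∈ (Finset.univ : Finset F).image (algebraMap F E) := by
    rw [heq, Multiset.mem_toFinset, Polynomial.mem_roots hne, Polynomial.IsRoot.def,
      Polynomial.eval_sub, Polynomial.eval_pow, Polynomial.eval_X, ht, sub_self]
  obtain ⟨a, -, h⟩ := Finset.mem_image.1 ht'
  exact ⟨a, h⟩

theorem conj_eq_pow [Finite F] [Finite E] (hc : ∃ t, P.conj t ≠ t) (t : E) :
    P.conj t = t ^ Nat.card F := by
  classical
  have : Fintype F := Fintype.ofFinite F
  have : Fintype E := Fintype.ofFinite E
  rw [Nat.card_eq_fintype_card]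
  set φ := FiniteField.frobeniusAlgHom F E with hφ
  have hφ' : ∀ t, φ t = t ^ Fintype.card F := fun t => rfl
  rw [← hφ']
  have key : ∀ t, φ t = t ∨ φ t = P.conj t := by
    intro t
    have h1 : (t - t) * (t - P.conj t) = 0 := by rw [sub_self, zero_mul]
    have h2 : t * t - algebraMap F E (P.T t) * t + algebraMap F E (P.N t) = 0 := by
      rw [P.hT, P.hN]; ring
    have h3 := congrArg φ h2
    rw [map_add, map_sub, map_mul, map_mul, map_zero, AlgHom.commutes, AlgHom.commutes, P.hT,
      P.hN] at h3
    have h4 : (φ t - t) * (φ t - P.conj t) = 0 := by linear_combination h3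
    rcases mul_eq_zero.1 h4 with h | h
    · exact Or.inl (sub_eq_zero.1 h)
    · exact Or.inr (sub_eq_zero.1 h)
  have hfix : ∀ t, φ t = t → P.conj t = t := by
    intro t ht
    have ht' : t ^ Nat.card F = t := by rw [Nat.card_eq_fintype_card, ← hφ', ht]
    obtain ⟨a, rfl⟩ := mem_range_of_pow (F := F) ht'
    exact P.conj_alg a
  obtain ⟨t₀, ht₀⟩ := hc
  have h0 : φ t₀ = P.conj t₀ := by
    rcases key t₀ with h | h
    · exact absurd (hfix _ h) ht₀
    · exact h
  by_cases ht : P.conj t = t
  · have h1 : P.conj (t + t₀) ≠ t + t₀ := by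
      rw [map_add, ht]
      intro h
      exact ht₀ (add_left_cancel h)
    have h2 : φ (t + t₀) = P.conj (t + t₀) := by
      rcases key (t + t₀) with h | h
      · exact absurd (hfix _ h) h1
      · exact h
    rw [map_add, map_add, h0] at h2
    exact (add_right_cancel h2).symm
  · rcases key t with h | h
    · exact absurd (hfix _ h) ht
    · exact h.symm

theorem card_eq [Finite F] [Finite E] (hc : ∃ t, P.conj t ≠ t) : Nat.card E = Nat.card F ^ 2 := by
  classical
  have : Fintype F := Fintype.ofFinite F
  have : Fintype E := Fintype.ofFinite E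
  set φ := FiniteField.frobeniusAlgHom F E with hφ
  have hφ' : ∀ t, φ t = P.conj t := fun t => by
    rw [P.conj_eq_pow hc, Nat.card_eq_fintype_card]; rfl
  have h2 : φ ^ 2 = 1 := by
    ext t
    rw [pow_two, AlgHom.mul_apply, hφ', hφ', P.conj_conj, AlgHom.one_apply]
  have h1 : φ ≠ 1 := by
    intro h
    obtain ⟨t₀, ht₀⟩ := hc
    apply ht₀
    rw [← hφ', h, AlgHom.one_apply]
  have h3 : orderOf φ = 2 := orderOf_eq_prime h2 h1
  rw [FiniteField.orderOf_frobeniusAlgHom] at h3
  rw [Nat.card_eq_fintype_card, Nat.card_eq_fintype_card, ← h3]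
  exact Module.card_eq_pow_finrank

theorem isPrimePow_card [Finite F] : IsPrimePow (Nat.card F) := by
  have : Fintype F := Fintype.ofFinite F
  rw [Nat.card_eq_fintype_card]
  exact Fintype.nonempty_field_iff.1 ⟨inferInstance⟩

/-- The trace is not zero. -/
theorem exists_T_ne (hc : ∃ t, P.conj t ≠ t) : ∃ t, P.T t ≠ 0 := by
  by_contra h
  push Not at h
  have h1 : ∀ t, P.conj t = -t := fun t => by
    have := P.hT t
    rw [h, map_zero] at this
    linear_combination -this
  have h2 : (1 : E) = -1 := by
    have := h1 1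
    rwa [map_one] at this
  obtain ⟨t, ht⟩ := hc
  apply ht
  rw [h1]
  linear_combination (-t) * h2

end Cfsg.Agent.TitsThree.FFData.ConjPair
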