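import Cfsg.Agent.TitsThree.KExcTwE6
import Cfsg.Agent.TitsThree.ConjFin
import Cfsg.Agent.TitsThree.Top
import Cfsg.Agent.S1070

/-!
# The twisted group `²E₆(q)` as the model for a pair `F ⊂ E` with a nontrivial conjugation (S1143, K side)
-/

set_option autoImplicit false

namespace Cfsg.Agent.TitsThree.KExcTwTop

open Cfsg.Lie Cfsg.Agent.TitsThree.FFData Cfsg.Agent.TitsThree.Top

/-- The simple group `²E₆(q)` over a pair of finite fields. -/
theorem exists_model {F : Type*} {E : Type} [Field F] [Field E] [Algebra F E] [Finite F] [Finite E]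
    (P : ConjPair F E) (hc : ∃ t, P.conj t ≠ t) :
    ∃ (K : Type) (_ : Group K), IsSimpleGroup K ∧ LieConcl K ∧ Nonempty (Pack.KFF K P.datum P.τ P.τ') := by
  classical
  haveI : Fintype F := Fintype.ofFinite F
  haveI : Fintype E := Fintype.ofFinite E
  have h1 : ∀ t, P.conj t = t ^ Fintype.card F := fun t => by
    rw [← Nat.card_eq_fintype_card]; exact P.conj_eq_pow hc t
  have h2 : Fintype.card E = Fintype.card F ^ 2 := by
    rw [← Nat.card_eq_fintype_card, ← Nat.card_eq_fintype_card]; exact P.card_eq hc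
  have h3 : IsPrimePow (Fintype.card F) := by
    rw [← Nat.card_eq_fintype_card]; exact ConjPair.isPrimePow_card
  refine ⟨↥(twistedE6 E (Fintype.card F)), inferInstance, (Cfsg.Agent.S1070.result h3 h2).1, ?_,
    KExcTwE6.kff P h1⟩
  exact Or.inr (Or.inr (Or.inr (Or.inr (Or.inr (Or.inr (Or.inr (Or.inr (Or.inr (Or.inr (Or.inr (Or.inl
    ⟨E, inferInstance, inferInstance, _, h3, h2, ⟨MulEquiv.refl _⟩⟩)))))))))))

end Cfsg.Agent.TitsThree.KExcTwTop
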