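import Cfsg.Agent.TitsThree.SolvedFF
import Cfsg.Agent.TitsThree.KExcF4
import Cfsg.Agent.TitsThree.KExcTwTop

/-!
# Type `F₄`: every finite thick building is solved (S1143)
-/

set_option autoImplicit false

namespace Cfsg.Agent.TitsThree.SolvedFFTop

open Cfsg.Agent.LieRecognition.BNCox Cfsg.Agent.TitsThree

universe u

/-- **Type `F₄`.** -/
theorem allSolved_F : Top.AllSolved.{u} cF :=
  SolvedFF.allSolved_of (fun F _ _ => KExcF4.model F)
    (fun _ _ _ _ _ _ _ P hP => KExcTwTop.exists_model P hP)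

end Cfsg.Agent.TitsThree.SolvedFFTop
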