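import Cfsg.Agent.TitsThree.AssembleCN

/-!
# GU assembly for type `F₄` (S1143)

Nodes `0, 1` (long, parametrised by `F`), `2, 3` (short, parametrised by `E`), double bond `1 = 2`
(package `b2`).  `stab_le` (L1): for a package in `A` with its action on the building and a package
in `K`, the stabiliser of `c` in the group generated by the pairs has second components in `Bor`.
`nonempty_mulEquiv` (L2).
-/

set_option autoImplicit false
set_option linter.unusedSectionVars false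

namespace Cfsg.Agent.TitsThree.AssembleFF

open Cfsg.Agent.Tits.Core Cfsg.Agent.Tits.Core.Bldg Cfsg.Agent.AGraded
open Cfsg.Agent.TitsThree.B2Pkg Cfsg.Agent.TitsThree.Pack Cfsg.Agent.TitsThree.AssembleBase
open Cfsg.Agent.TitsThree.AssembleEdge Cfsg.Agent.TitsThree.CoreB2
open scoped commutatorElement

/-! ### Elements which behave well with respect to one node -/

section GenAt

variable {I : Type*} {M : CoxeterMatrix I} {W : Type*} [Group W] {cs : CoxeterSystem M W}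
variable {C A K : Type*} [Group A] [Group K] [MulAction A C]
variable {Δ : Bldg cs C} {c : C} {Γi : I → Subgroup (A × K)}

/-- The property `GenP` for one node. -/
def GenAt (Γi : I → Subgroup (A × K)) (c : C) (k : I) (g : A × K) : Prop :=
  ∀ h ∈ Γi k, ∃ h' ∈ Γi k, h'⁻¹ * g * h ∈ GUProd.Bt Γi c

theorem GenAt.mul {k : I} {x y : A × K} (hx : GenAt Γi c k x) (hy : GenAt Γi c k y) :
    GenAt Γi c k (x * y) := by
  intro h hh
  obtain ⟨h1, hh1, e1⟩ := hy h hh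
  obtain ⟨h2, hh2, e2⟩ := hx h1 hh1
  refine ⟨h2, hh2, ?_⟩
  have : h2⁻¹ * (x * y) * h = (h2⁻¹ * x * h1) * (h1⁻¹ * y * h) := by group
  rw [this]
  exact mul_mem e2 e1

theorem GenAt.inv (iso : ∀ (a : A) x y, Δ.δ (a • x) (a • y) = Δ.δ x y)
    (pan : ∀ i, ∀ g ∈ Γi i, g.1 • c ∈ Δ.Pan i c)
    (trans : ∀ i, ∀ y ∈ Δ.Pan i c, ∃ g ∈ Γi i, g.1 • c = y)
    {k : I} {x : A × K} (hxc' : x.1 • c = c) (hx : GenAt Γi c k x) : GenAt Γi c k x⁻¹ := by
  have hxc : x⁻¹.1 • c = c := by rw [Prod.fst_inv, inv_smul_eq_iff, hxc']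
  intro h'' hh''
  obtain ⟨h, hh, e0⟩ := exists_fix iso pan trans hxc k hh''
  obtain ⟨h', hh', e1⟩ := hx h hh
  refine ⟨h, hh, ?_⟩
  have e3 := Bt_fix e1
  have e6 : h''⁻¹ * h' ∈ GUProd.Bt Γi c := by
    refine Subgroup.subset_closure
      ⟨k, k, mul_mem (inv_mem (Subgroup.mem_sup_left hh'')) (Subgroup.mem_sup_left hh'), ?_⟩
    have e4 : h'.1 • c = x.1 • (h.1 • c) := by
      have e3' : (h'.1⁻¹ * x.1 * h.1) • c = c := e3
      rw [mul_smul, mul_smul, inv_smul_eq_iff] at e3'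
      exact e3'.symm
    have e5 : x.1 • (h.1 • c) = h''.1 • c := by
      have e0' : (h.1⁻¹ * x.1⁻¹ * h''.1) • c = c := e0
      rw [mul_smul, mul_smul, inv_smul_eq_iff, inv_smul_eq_iff] at e0'
      exact e0'.symm
    show (h''.1⁻¹ * h'.1) • c = c
    rw [mul_smul, e4, e5, inv_smul_smul]
  have : h⁻¹ * x⁻¹ * h'' = ((h''⁻¹ * h') * (h'⁻¹ * x * h))⁻¹ := by group
  rw [this]
  exact inv_mem (mul_mem e6 e1)

theorem genAt_of_commute {k : I} {g : A × K} (hg : g ∈ GUProd.Bt Γi c)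
    (h : ∀ x ∈ Γi k, g * x = x * g) : GenAt Γi c k g := by
  intro x hx
  refine ⟨x, hx, ?_⟩
  have e : x⁻¹ * g * x = g := by rw [mul_assoc, h x hx, inv_mul_cancel_left]
  rwa [e]

/-- The conjugation trick. -/
theorem genAt_conj (iso : ∀ (a : A) x y, Δ.δ (a • x) (a • y) = Δ.δ x y)
    (pan : ∀ i, ∀ g ∈ Γi i, g.1 • c ∈ Δ.Pan i c)
    (trans : ∀ i, ∀ y ∈ Δ.Pan i c, ∃ g ∈ Γi i, g.1 • c = y)
    {k l : I} {n x : A × K} (hn : ∀ h ∈ Γi k, n * h = h * n) (hx : x ∈ Γi l)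
    (hxc : x.1 • c = c)
    (hB : ∀ e ∈ Γi k ⊔ Γi l, e.1 • c = c → n * e * n⁻¹ ∈ GUProd.Bt Γi c) :
    GenAt Γi c k (n * x * n⁻¹) := by
  intro h hh
  obtain ⟨h', hh', e⟩ := exists_fix iso pan trans hxc k hh
  refine ⟨h', hh', ?_⟩
  have e1 : h'⁻¹ * (n * x * n⁻¹) * h = n * (h'⁻¹ * x * h) * n⁻¹ := by
    have c1 : n * h'⁻¹ = h'⁻¹ * n := hn _ (inv_mem hh')
    have c2 : n⁻¹ * h = h * n⁻¹ := by
      rw [inv_mul_eq_iff_eq_mul, ← mul_assoc, hn h hh, mul_assoc, mul_inv_cancel, mul_one]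
    calc h'⁻¹ * (n * x * n⁻¹) * h = (h'⁻¹ * n) * x * (n⁻¹ * h) := by group
      _ = (n * h'⁻¹) * x * (h * n⁻¹) := by rw [c1, c2]
      _ = _ := by group
  rw [e1]
  exact hB _ (mul_mem (mul_mem (inv_mem (Subgroup.mem_sup_left hh')) (Subgroup.mem_sup_right hx))
    (Subgroup.mem_sup_left hh)) e

end GenAt

/-! ### Generators of the stabiliser for a simple bond -/

section Edge

variable {I : Type*} {M : CoxeterMatrix I} {W : Type*} [Group W] {cs : CoxeterSystem M W}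
variable {C A K : Type*} [Group A] [Group K] [MulAction A C] {F : Type*} [Field F]
variable {Δ : Bldg cs C} {c : C} {i j : I} {ci cj : C}
variable {xp xm yp ym : F → A} {xp' xm' yp' ym' : F → K}

/-- generators of the stabiliser in the rank two group of a simple bond -/
def edgeGens {Y F : Type*} [Group Y] [Field F] (xp xm yp ym : F → Y) : Set Y :=
  {g | (∃ t, g = xp t) ∨ (∃ t, g = yp t) ∨
    (∃ s t, s ≠ 0 ∧ t ≠ 0 ∧ g = nn xp xm s * (nn xp xm t)⁻¹) ∨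
    ∃ s t, s ≠ 0 ∧ t ≠ 0 ∧ g = nn yp ym s * (nn yp ym t)⁻¹}

theorem nn_swap_id {Y F : Type*} [Group Y] [Field F] {xp xm yp ym : F → Y}
    (he : Edge3 xp xm yp ym) {t : F} (ht : t ≠ 0) : nn xp xm t = nn xm xp (-t⁻¹) := by
  obtain ⟨x, hx, h1, h2, -, -⟩ := he
  have e := RankTwoA2.n_ab hx (a := 0) (b := 1) (c := 2) (by decide) (by decide) (by decide) ht t
  have e1 : -(t⁻¹ * t * t⁻¹) = -t⁻¹ := by field_simp
  rw [e1] at e
  unfold RankTwoA2.n at e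
  rw [h1, h2] at e
  unfold nn
  have e2 : (-(-t⁻¹)⁻¹ : F) = t := by rw [inv_neg, neg_neg, inv_inv]
  rw [e2]
  rw [mul_inv_eq_iff_eq_mul] at e
  have e3 : xp t * xm (-t⁻¹) * xp t * xp t = xm (-t⁻¹) * xp t * xm (-t⁻¹) * xp t := by
    rw [e]; group
  exact mul_right_cancel e3

theorem nn_swap_id' {Y F : Type*} [Group Y] [Field F] {xp xm yp ym : F → Y}
    (he : Edge3 xp xm yp ym) (t : F) (ht : t ≠ 0) : nn yp ym t = nn ym yp (-t⁻¹) := by
  obtain ⟨x, hx, -, -, h1, h2⟩ := he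
  have e := RankTwoA2.n_ab hx (a := 1) (b := 2) (c := 0) (by decide) (by decide) (by decide) ht t
  have e1 : -(t⁻¹ * t * t⁻¹) = -t⁻¹ := by field_simp
  rw [e1] at e
  unfold RankTwoA2.n at e
  rw [h1, h2] at e
  unfold nn
  have e2 : (-(-t⁻¹)⁻¹ : F) = t := by rw [inv_neg, neg_neg, inv_inv]
  rw [e2]
  rw [mul_inv_eq_iff_eq_mul] at e
  have e3 : yp t * ym (-t⁻¹) * yp t * yp t = ym (-t⁻¹) * yp t * ym (-t⁻¹) * yp t := by
    rw [e]; group
  exact mul_right_cancel e3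

variable (iso : ∀ (a : A) x y, Δ.δ (a • x) (a • y) = Δ.δ x y) (hth : Δ.Thick)
  (hi : NodeAct Δ c i ci xp xm) (hj : NodeAct Δ c j cj yp ym)
  (he : Edge3 (pr xp xp') (pr xm xm') (pr yp yp') (pr ym ym'))

include iso hth he hi hj

/-- **The stabiliser of `c` for a simple bond**, generators. -/
theorem stab_gens {g : A × K} (hg : g ∈ Gam xp xm xp' xm' ⊔ Gam yp ym yp' ym')
    (hgc : g.1 • c = c) :
    g ∈ Subgroup.closure (edgeGens (pr xp xp') (pr xm xm') (pr yp yp') (pr ym ym')) := by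
  have n1 := nn_smul_left iso hth hi he
  have n2 := nn_smul_right iso hth hj he
  obtain ⟨x, hx, e1, e2, e3, e4⟩ := he
  set T : Subgroup (A × K) := (MulAction.stabilizer A c).comap (MonoidHom.fst A K) with hT
  have memT : ∀ g : A × K, g ∈ T ↔ g.1 • c = c := fun g => Iff.rfl
  have en : ∀ t, RankTwoA2.n x 0 1 t = nn (pr xp xp') (pr xm xm') t := by
    intro t; unfold RankTwoA2.n nn; rw [e1, e2]
  have en' : ∀ t, RankTwoA2.n x 1 2 t = nn (pr yp yp') (pr ym ym') t := by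
    intro t; unfold RankTwoA2.n nn; rw [e3, e4]
  have k1 : ∀ s t : F, s ≠ 0 → t ≠ 0 → RankTwoA2.n x 0 1 s * (RankTwoA2.n x 0 1 t)⁻¹ ∈ T := by
    intro s t hs ht
    rw [memT, en, en, Prod.fst_mul, Prod.fst_inv, mul_smul]
    have h6 : ∀ t, t ≠ 0 → (nn (pr xp xp') (pr xm xm') t).1⁻¹ • c = ci := by
      intro t ht
      have h7 := n1 (-t) (neg_ne_zero.2 ht)
      rw [← en, ← RankTwoA2.n_inv hx (by decide) t, en, Prod.fst_inv] at h7
      exact h7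
    rw [h6 t ht, ← h6 s hs, smul_inv_smul]
  have k2 : ∀ s t : F, s ≠ 0 → t ≠ 0 → RankTwoA2.n x 1 2 s * (RankTwoA2.n x 1 2 t)⁻¹ ∈ T := by
    intro s t hs ht
    rw [memT, en', en', Prod.fst_mul, Prod.fst_inv, mul_smul]
    have h6 : ∀ t, t ≠ 0 → (nn (pr yp yp') (pr ym ym') t).1⁻¹ • c = cj := by
      intro t ht
      have h7 := n2 (-t) (neg_ne_zero.2 ht)
      rw [← en', ← RankTwoA2.n_inv hx (by decide) t, en', Prod.fst_inv] at h7
      exact h7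
    rw [h6 t ht, ← h6 s hs, smul_inv_smul]
  have hle1 : Gam xp xm xp' xm' ≤ Gam xp xm xp' xm' ⊔ Gam yp ym yp' ym' := le_sup_left
  have hle2 : Gam yp ym yp' ym' ≤ Gam xp xm xp' xm' ⊔ Gam yp ym yp' ym' := le_sup_right
  have key : (Gam xp xm xp' xm' ⊔ Gam yp ym yp' ym') ⊓ T =
      Subgroup.closure (RankTwoA2.gensB x) := by
    apply RankTwoA2.stab_eq hx
    · refine le_trans inf_le_left (sup_le ?_ ?_)
      · refine (Subgroup.closure_le _).2 ?_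
        rintro g (⟨t, rfl⟩ | ⟨t, rfl⟩)
        · exact Subgroup.subset_closure ⟨0, 1, t, by decide, (congrFun e1 t).symm⟩
        · exact Subgroup.subset_closure ⟨1, 0, t, by decide, (congrFun e2 t).symm⟩
      · refine (Subgroup.closure_le _).2 ?_
        rintro g (⟨t, rfl⟩ | ⟨t, rfl⟩)
        · exact Subgroup.subset_closure ⟨1, 2, t, by decide, (congrFun e3 t).symm⟩
        · exact Subgroup.subset_closure ⟨2, 1, t, by decide, (congrFun e4 t).symm⟩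
    · intro t
      refine ⟨?_, ?_⟩
      · rw [e1]; exact hle1 (Gam.pos t)
      · show x 0 1 t ∈ T
        rw [e1]; exact hi.fix t
    · intro t
      refine ⟨?_, ?_⟩
      · rw [e3]; exact hle2 (Gam.pos t)
      · show x 1 2 t ∈ T
        rw [e3]; exact hj.fix t
    · intro s t hs ht
      refine ⟨?_, k1 s t hs ht⟩
      rw [en, en]
      exact hle1 (mul_mem (nn_mem s) (inv_mem (nn_mem t)))
    · intro s t hs ht
      refine ⟨?_, k2 s t hs ht⟩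
      rw [en', en']
      exact hle2 (mul_mem (nn_mem s) (inv_mem (nn_mem t)))
    · intro h
      have h5 : (RankTwoA2.n x 0 1 1).1 • c = c := h.2
      rw [en, n1 1 one_ne_zero] at h5
      exact hi.ne h5
    · intro h
      have h5 : (RankTwoA2.n x 1 2 1).1 • c = c := h.2
      rw [en', n2 1 one_ne_zero] at h5
      exact hj.ne h5
  have hg' : g ∈ Subgroup.closure (RankTwoA2.gensB x) := by
    rw [← key]; exact ⟨hg, hgc⟩
  refine Subgroup.closure_mono ?_ hg'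
  rintro h ((⟨t, rfl⟩ | ⟨t, rfl⟩) | (⟨s, t, hs, ht, rfl⟩ | ⟨s, t, hs, ht, rfl⟩))
  · exact Or.inl ⟨t, congrFun e1 t⟩
  · exact Or.inr (Or.inl ⟨t, congrFun e3 t⟩)
  · exact Or.inr (Or.inr (Or.inl ⟨s, t, hs, ht, by rw [en, en]⟩))
  · exact Or.inr (Or.inr (Or.inr ⟨s, t, hs, ht, by rw [en', en']⟩))

end Edge

/-- twin of `AssembleB2.conj_y` -/
theorem conj_z {Y F : Type*} [Group Y] [Field F]
    {x : Fin 3 → Fin 3 → F → Y} (hx : SteinRel x) {ν : Y} {B : Subgroup Y}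
    (c12 : ∀ t, Commute (x 1 2 t) ν) (hz : ∀ t, ν * x 0 1 t * ν⁻¹ ∈ B) (hx12 : ∀ t, x 1 2 t ∈ B)
    {g : Y} (hgν : Commute g ν) (hg : g ∈ Subgroup.closure (Set.range (x 1 2) ∪ Set.range (x 2 1)))
    (t : F) : g⁻¹ * (ν * x 0 1 t * ν⁻¹) * g ∈ B := by
  set N : Subgroup Y := Subgroup.closure (Set.range (x 0 1) ∪ Set.range (x 0 2)) with hN
  have a1 : ∀ t, x 0 1 t ∈ N := fun t => Subgroup.subset_closure (Or.inl ⟨t, rfl⟩)
  have a2 : ∀ t, x 0 2 t ∈ N := fun t => Subgroup.subset_closure (Or.inr ⟨t, rfl⟩)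
  have gen_conj : ∀ {g : Y}, (∀ b, g * x 0 1 b * g⁻¹ ∈ N) → (∀ s, g * x 0 2 s * g⁻¹ ∈ N) →
      ∀ y ∈ N, g * y * g⁻¹ ∈ N := by
    intro g h1 h2 y hy
    have : N ≤ N.comap (MulAut.conj g).toMonoidHom := by
      conv_lhs => rw [hN]
      refine (Subgroup.closure_le _).2 ?_
      rintro _ (⟨b, rfl⟩ | ⟨s, rfl⟩)
      · exact h1 b
      · exact h2 s
    exact this hy
  have n12 : ∀ t, x 1 2 t ∈ Subgroup.normalizer (N : Set Y) := by
    apply AssembleB2.mem_normalizer_of (fun t => hx.neg (by decide) t)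
    intro t
    apply gen_conj
    · intro b
      have h1 := hx.br 0 1 2 (by decide) (by decide) (by decide) b t
      have h2 : x 1 2 t * x 0 1 b * (x 1 2 t)⁻¹ = (⁅x 0 1 b, x 1 2 t⁆)⁻¹ * x 0 1 b := by
        rw [commutatorElement_inv, commutatorElement_def]; group
      rw [h2, h1]
      exact mul_mem (inv_mem (a2 _)) (a1 _)
    · intro s
      have h1 := hx.comm 1 2 0 2 (by decide) (by decide) (by decide) (by decide) t s
      rw [h1, mul_inv_cancel_right]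
      exact a2 s
  have n21 : ∀ t, x 2 1 t ∈ Subgroup.normalizer (N : Set Y) := by
    apply AssembleB2.mem_normalizer_of (fun t => hx.neg (by decide) t)
    intro t
    apply gen_conj
    · intro s
      have h1 := hx.comm 2 1 0 1 (by decide) (by decide) (by decide) (by decide) t s
      rw [h1, mul_inv_cancel_right]
      exact a1 s
    · intro b
      have h1 := hx.br 0 2 1 (by decide) (by decide) (by decide) b t
      have h2 : x 2 1 t * x 0 2 b * (x 2 1 t)⁻¹ = (⁅x 0 2 b, x 2 1 t⁆)⁻¹ * x 0 2 b := by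
        rw [commutatorElement_inv, commutatorElement_def]; group
      rw [h2, h1]
      exact mul_mem (inv_mem (a1 _)) (a2 _)
  have hgn : g⁻¹ ∈ Subgroup.normalizer (N : Set Y) := by
    refine inv_mem ((Subgroup.closure_le _).2 ?_ hg)
    rintro _ (⟨t, rfl⟩ | ⟨t, rfl⟩)
    · exact n12 t
    · exact n21 t
  have h1 : g⁻¹ * x 0 1 t * g⁻¹⁻¹ ∈ N := (Subgroup.mem_normalizer_iff.1 hgn _).1 (a1 t)
  rw [inv_inv] at h1
  have h2 : g⁻¹ * (ν * x 0 1 t * ν⁻¹) * g = ν * (g⁻¹ * x 0 1 t * g) * ν⁻¹ := by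
    have e1 : g⁻¹ * ν = ν * g⁻¹ := (hgν.inv_left).eq
    have e2 : ν⁻¹ * g = g * ν⁻¹ := (hgν.inv_right).eq.symm
    calc g⁻¹ * (ν * x 0 1 t * ν⁻¹) * g = (g⁻¹ * ν) * x 0 1 t * (ν⁻¹ * g) := by group
      _ = (ν * g⁻¹) * x 0 1 t * (g * ν⁻¹) := by rw [e1, e2]
      _ = _ := by group
  rw [h2]
  have h3 : N ≤ B.comap (MulAut.conj ν).toMonoidHom := by
    refine (Subgroup.closure_le _).2 ?_
    rintro _ (⟨s, rfl⟩ | ⟨s, rfl⟩)
    · exact hz s
    · have h4 := hx.br 0 1 2 (by decide) (by decide) (by decide) s 1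
      rw [mul_one] at h4
      show ν * x 0 2 s * ν⁻¹ ∈ B
      have h5 : ν * x 1 2 1 * ν⁻¹ = x 1 2 1 := by
        rw [← (c12 1).eq, mul_inv_cancel_right]
      have h6 : ν * x 0 2 s * ν⁻¹ = ⁅ν * x 0 1 s * ν⁻¹, x 1 2 1⁆ := by
        have h7 : ⁅ν * x 0 1 s * ν⁻¹, x 1 2 1⁆ = ⁅ν * x 0 1 s * ν⁻¹, ν * x 1 2 1 * ν⁻¹⁆ := by rw [h5]
        rw [h7, ← h4]
        simp only [commutatorElement_def]
        group
      rw [h6, commutatorElement_def]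
      exact mul_mem (mul_mem (mul_mem (hz s) (hx12 1)) (inv_mem (hz s))) (inv_mem (hx12 1))
  exact h3 h1

/-! ### The package in the product -/

section Main

variable {M : CoxeterMatrix (Fin 4)} {W : Type*} [Group W] {cs : CoxeterSystem M W}
variable {C A K : Type*} [Group A] [Group K] [MulAction A C]
variable {F : Type*} [Field F] {V : Type*} [AddCommGroup V] [Module F V] {D : PQDatum F V}
variable {E : Type*} [Field E] {τ τ' : E → D.T}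

/-- the product package -/
def prodFF (G : FF A D τ τ') (k : FF K D τ τ') : FF (A × K) D τ τ' where
  x0 := pr G.x0 k.x0
  y0 := pr G.y0 k.y0
  x1 := pr G.x1 k.x1
  y1 := pr G.y1 k.y1
  x2 := pr G.x2 k.x2
  y2 := pr G.y2 k.y2
  x3 := pr G.x3 k.x3
  y3 := pr G.y3 k.y3
  b2 := G.b2.prod k.b2
  rel := G.rel.prod k.rel
  e01 := G.e01.prod k.e01
  e23 := G.e23.prod k.e23
  hx := funext fun t => Prod.ext (congrFun G.hx t) (congrFun k.hx t)
  hx' := funext fun t => Prod.ext (congrFun G.hx' t) (congrFun k.hx' t)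
  hz t := Prod.ext (G.hz t) (k.hz t)
  hz' t := Prod.ext (G.hz' t) (k.hz' t)
  c02 := G.c02.prod k.c02
  c03 := G.c03.prod k.c03
  c13 := G.c13.prod k.c13

/-- the rank one subgroups of the product -/
def Gm (G : FF A D τ τ') (k : FF K D τ τ') : Fin 4 → Subgroup (A × K)
  | 0 => Gam G.x0 G.y0 k.x0 k.y0
  | 1 => Gam G.x1 G.y1 k.x1 k.y1
  | 2 => Gam G.x2 G.y2 k.x2 k.y2
  | 3 => Gam G.x3 G.y3 k.x3 k.y3

/-- All hypotheses of the assembly. -/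
structure Setup (Δ : Bldg cs C) (G : FF A D τ τ') (k : FF K D τ τ') (c : C) (ci : Fin 4 → C) :
    Prop where
  iso : ∀ (a : A) x y, Δ.δ (a • x) (a • y) = Δ.δ x y
  hth : Δ.Thick
  a0 : NodeAct Δ c 0 (ci 0) G.x0 G.y0
  a1 : NodeAct Δ c 1 (ci 1) G.x1 G.y1
  a2 : NodeAct Δ c 2 (ci 2) G.x2 G.y2
  a3 : NodeAct Δ c 3 (ci 3) G.x3 G.y3
  y_fix : ∀ b, G.b2.y b • c = c
  hτ : Function.Surjective τ
  hτ' : Function.Surjective τ'

namespace Setup

variable {Δ : Bldg cs C} {G : FF A D τ τ'} {k : FF K D τ τ'} {c : C} {ci : Fin 4 → C}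
variable (H : Setup Δ G k c ci)

/-- the stabiliser of `c` -/
def T (c : C) : Subgroup (A × K) := (MulAction.stabilizer A c).comap (MonoidHom.fst A K)

theorem mem_T {g : A × K} : g ∈ (T c : Subgroup (A × K)) ↔ g.1 • c = c := Iff.rfl

include H

theorem pan : ∀ i, ∀ g ∈ Gm G k i, g.1 • c ∈ Δ.Pan i c := by
  intro i
  fin_cases i
  · exact pan_Gam H.iso H.a0 _ _
  · exact pan_Gam H.iso H.a1 _ _
  · exact pan_Gam H.iso H.a2 _ _
  · exact pan_Gam H.iso H.a3 _ _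

theorem n0 (t : F) (ht : t ≠ 0) : (nn (prodFF G k).x0 (prodFF G k).y0 t).1 • c = ci 0 :=
  nn_smul_left H.iso H.hth H.a0 (prodFF G k).e01 t ht

theorem n1 (t : F) (ht : t ≠ 0) : (nn (prodFF G k).x1 (prodFF G k).y1 t).1 • c = ci 1 :=
  nn_smul_right H.iso H.hth H.a1 (prodFF G k).e01 t ht

theorem n2 (t : E) (ht : t ≠ 0) : (nn (prodFF G k).x2 (prodFF G k).y2 t).1 • c = ci 2 :=
  nn_smul_left H.iso H.hth H.a2 (prodFF G k).e23 t ht

theorem n3 (t : E) (ht : t ≠ 0) : (nn (prodFF G k).x3 (prodFF G k).y3 t).1 • c = ci 3 :=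
  nn_smul_right H.iso H.hth H.a3 (prodFF G k).e23 t ht

theorem trans : ∀ i, ∀ y ∈ Δ.Pan i c, ∃ g ∈ Gm G k i, g.1 • c = y := by
  intro i
  fin_cases i
  · exact trans_Gam H.a0 _ _ (nn_mem 1) (H.n0 1 one_ne_zero)
  · exact trans_Gam H.a1 _ _ (nn_mem 1) (H.n1 1 one_ne_zero)
  · exact trans_Gam H.a2 _ _ (nn_mem 1) (H.n2 1 one_ne_zero)
  · exact trans_Gam H.a3 _ _ (nn_mem 1) (H.n3 1 one_ne_zero)

/-- The package at the node 2. -/
theorem az : NodeAct Δ c 2 (ci 2) G.b2.z₂ G.b2.z₂' where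
  mem := H.a2.mem
  ne := H.a2.ne
  fix p := by
    obtain ⟨t, rfl⟩ := H.hτ p
    rw [G.hz]; exact H.a2.fix t
  fix' p := by
    obtain ⟨t, rfl⟩ := H.hτ' p
    rw [G.hz']; exact H.a2.fix' t
  trans y hy hne := by
    obtain ⟨t, ht⟩ := H.a2.trans y hy hne
    exact ⟨τ t, by rw [G.hz]; exact ht⟩
  trans' y hy hne := by
    obtain ⟨t, ht⟩ := H.a2.trans' y hy hne
    exact ⟨τ' t, by rw [G.hz']; exact ht⟩

theorem z₂_mem (p : D.T) : (prodFF G k).b2.z₂ p ∈ Gm G k 2 := by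
  obtain ⟨t, rfl⟩ := H.hτ p
  rw [(prodFF G k).hz]
  exact Gam.pos t

theorem z₂'_mem (p : D.T) : (prodFF G k).b2.z₂' p ∈ Gm G k 2 := by
  obtain ⟨t, rfl⟩ := H.hτ' p
  rw [(prodFF G k).hz']
  exact Gam.neg t

omit H in
theorem x_mem (a : F) : (prodFF G k).b2.x a ∈ Gm G k 1 := by
  rw [(prodFF G k).hx]
  exact Gam.pos a

omit H in
theorem x'_mem (a : F) : (prodFF G k).b2.x' a ∈ Gm G k 1 := by
  rw [(prodFF G k).hx']
  exact Gam.neg a

theorem nII_mem (p : D.T) : (prodFF G k).b2.nII p ∈ Gm G k 2 :=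
  mul_mem (mul_mem (H.z₂'_mem _) (H.z₂_mem _)) (H.z₂'_mem _)

theorem nII_smul {p : D.T} (hp : p.c ≠ 0) : ((prodFF G k).b2.nII p).1 • c = ci 2 := by
  apply swap_smul H.hth H.az (H.pan 2 _ (H.nII_mem p))
  intro r
  have h1 := G.rel.nII_z₂' p⁻¹ (inv_c_ne hp) r
  rw [← nII_inv G.rel, inv_inv] at h1
  refine ⟨D.sc (D.ε⁻¹ * p⁻¹.c) (D.refl p⁻¹ (inv_c_ne hp) r), ?_⟩
  rw [← h1]
  show G.b2.nII p * ((G.b2.nII p)⁻¹ * G.b2.z₂' r * G.b2.nII p) * (G.b2.nII p)⁻¹ = _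
  group

theorem nII_inv_smul {p : D.T} (hp : p.c ≠ 0) : ((prodFF G k).b2.nII p)⁻¹.1 • c = ci 2 := by
  rw [nII_inv (prodFF G k).rel]
  exact H.nII_smul (inv_c_ne hp)

theorem nII_ci {p : D.T} (hp : p.c ≠ 0) : ((prodFF G k).b2.nII p).1 • ci 2 = c := by
  rw [← H.nII_inv_smul hp, Prod.fst_inv, smul_inv_smul]

theorem z₂_free {p : D.T} (h : ((prodFF G k).b2.z₂ p).1 • ci 2 = ci 2) : p = 1 := by
  by_contra hp1
  have hp : p.c ≠ 0 := fun h0 => hp1 (PQDatum.T.c_eq_zero_iff.1 h0)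
  have h1 := H.nII_ci hp
  have h2 : ((prodFF G k).b2.nII p).1 • ci 2 = ci 2 := by
    show (G.b2.z₂' _ * G.b2.z₂ p * G.b2.z₂' _) • ci 2 = ci 2
    rw [mul_smul, mul_smul, H.az.fix']
    have h3 : G.b2.z₂ p • ci 2 = ci 2 := h
    rw [h3, H.az.fix']
  exact H.a2.ne (h2.symm.trans h1)

theorem z₂'_free {q : D.T} (h : ((prodFF G k).b2.z₂' q).1 • c = c) : q = 1 := by
  by_contra hq1
  have hq : q.c ≠ 0 := fun h0 => hq1 (PQDatum.T.c_eq_zero_iff.1 h0)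
  have h1 := (prodFF G k).rel.nII_z₂' q hq q
  have h2 : (((prodFF G k).b2.nII q * (prodFF G k).b2.z₂' q * ((prodFF G k).b2.nII q)⁻¹)).1 • ci 2 =
      ci 2 := by
    have h3 : ((prodFF G k).b2.nII q)⁻¹.1 • ci 2 = c := by
      rw [Prod.fst_inv, inv_smul_eq_iff, H.nII_smul hq]
    rw [Prod.fst_mul, Prod.fst_mul, mul_smul, mul_smul, h3, h, H.nII_smul hq]
  rw [h1] at h2
  have h4 := H.z₂_free h2
  have h5 : (D.sc (D.ε⁻¹ * q.c) (D.refl q hq q)).c = 0 := by rw [h4]; rfl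
  rw [PQDatum.sc_c, PQDatum.refl_c] at h5
  have h6 : D.ε⁻¹ * q.c ≠ 0 := mul_ne_zero (inv_ne_zero D.ε_ne) hq
  exact mul_ne_zero (mul_ne_zero h6 (by simpa using h6)) hq h5

theorem n2_ci {t : E} (ht : t ≠ 0) : (nn (prodFF G k).x2 (prodFF G k).y2 t).1 • ci 2 = c := by
  have h1 : (nn (prodFF G k).x2 (prodFF G k).y2 t)⁻¹ = nn (prodFF G k).x2 (prodFF G k).y2 (-t) := by
    obtain ⟨x, hx, e1, e2, -, -⟩ := (prodFF G k).e23
    have e := RankTwoA2.n_inv hx (a := 0) (b := 1) (by decide) t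
    unfold RankTwoA2.n at e
    rw [e1, e2] at e
    exact e
  have h2 := H.n2 (-t) (neg_ne_zero.2 ht)
  rw [← h1, Prod.fst_inv, inv_smul_eq_iff] at h2
  exact h2.symm

/-- `n₂(t)` in terms of `z₂`, `z₂'`. -/
theorem n2_eq' {t : E} (ht : t ≠ 0) : nn (prodFF G k).x2 (prodFF G k).y2 t =
    (prodFF G k).b2.z₂' (τ' (-t⁻¹)) * (prodFF G k).b2.z₂ (τ t) * (prodFF G k).b2.z₂' (τ' (-t⁻¹)) := by
  rw [nn_swap_id (prodFF G k).e23 ht, (prodFF G k).hz, (prodFF G k).hz']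
  unfold nn
  rw [inv_neg, neg_neg, inv_inv]

theorem τ_ne {t : E} (ht : t ≠ 0) : (τ t).c ≠ 0 := by
  intro h0
  have h1 : τ t = 1 := PQDatum.T.c_eq_zero_iff.1 h0
  have h2 := H.n2 t ht
  rw [H.n2_eq' ht, h1, z₂_one (prodFF G k).rel, mul_one, Prod.fst_mul, mul_smul] at h2
  have h3 : ∀ p, ((prodFF G k).b2.z₂' p).1 • ci 2 = ci 2 := fun p => H.az.fix' p
  have h4 : ((prodFF G k).b2.z₂' (τ' (-t⁻¹))).1 • c = ci 2 := by
    have := smul_left_cancel _ (h2.trans (h3 (τ' (-t⁻¹))).symm)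
    exact this
  have h5 := smul_left_cancel _ (h4.trans (h3 (τ' (-t⁻¹))).symm)
  exact H.a2.ne h5.symm

/-- `n₂(t) = n_II(τ t)` -/
theorem n2_eq {t : E} (ht : t ≠ 0) :
    nn (prodFF G k).x2 (prodFF G k).y2 t = (prodFF G k).b2.nII (τ t) := by
  have hc := H.τ_ne ht
  have h3 : ∀ p, ((prodFF G k).b2.z₂' p).1 • ci 2 = ci 2 := fun p => H.az.fix' p
  set m := (prodFF G k).b2 with hm
  have hrel : B2Rel m := (prodFF G k).rel
  set q := τ' (-t⁻¹) with hq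
  set a := D.sc (-(D.σ (τ t).c)⁻¹) (τ t) with ha
  set b := D.sc (-(D.ε * (τ t).c⁻¹)) (τ t) with hb
  have e1 : nn (prodFF G k).x2 (prodFF G k).y2 t = m.z₂' q * m.z₂ (τ t) * m.z₂' q := H.n2_eq' ht
  have e2 : m.nII (τ t) = m.z₂' a * m.z₂ (τ t) * m.z₂' b := rfl
  -- images of `ci 2`
  have f1 : (m.z₂' q).1 • (m.z₂ (τ t)).1 • ci 2 = c := by
    have := H.n2_ci ht
    rwa [e1, Prod.fst_mul, Prod.fst_mul, mul_smul, mul_smul, h3] at this
  have f2 : (m.z₂' a).1 • (m.z₂ (τ t)).1 • ci 2 = c := by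
    have := H.nII_ci hc
    rwa [← hm, e2, Prod.fst_mul, Prod.fst_mul, mul_smul, mul_smul, h3] at this
  have g1 : a = q := by
    have : a * q⁻¹ = 1 := by
      apply H.z₂'_free
      rw [← hm, hrel.z₂'_mul, z₂'_inv hrel, Prod.fst_mul, Prod.fst_inv, mul_smul]
      have f5 : (m.z₂' q).1⁻¹ • c = (m.z₂ (τ t)).1 • ci 2 := by rw [inv_smul_eq_iff, f1]
      rw [f5, f2]
    exact mul_inv_eq_one.1 this
  -- images of `c`
  have f3 : (m.z₂ (τ t)).1 • (m.z₂' q).1 • c = ci 2 := by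
    have := H.n2 t ht
    rw [e1, Prod.fst_mul, Prod.fst_mul, mul_smul, mul_smul] at this
    exact smul_left_cancel _ (this.trans (h3 q).symm)
  have f4 : (m.z₂ (τ t)).1 • (m.z₂' b).1 • c = ci 2 := by
    have := H.nII_smul hc
    rw [← hm, e2, Prod.fst_mul, Prod.fst_mul, mul_smul, mul_smul] at this
    exact smul_left_cancel _ (this.trans (h3 a).symm)
  have g2 : b = q := by
    have : q⁻¹ * b = 1 := by
      apply H.z₂'_free
      rw [← hm, hrel.z₂'_mul, z₂'_inv hrel, Prod.fst_mul, Prod.fst_inv, mul_smul, inv_smul_eq_iff]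
      exact smul_left_cancel _ (f4.trans f3.symm)
    exact (inv_mul_eq_one.1 this).symm
  rw [e1, e2, g1, g2]

/-- There is an element of norm `≠ 0`. -/
theorem exists_c : ∃ r : D.T, r.c ≠ 0 := ⟨τ 1, H.τ_ne one_ne_zero⟩

theorem nir : NIRel (prodFF G k).b2 := B2NI.nirel (prodFF G k).rel (H.τ_ne one_ne_zero)

/-! ### Rank two stabilisers -/

theorem y_mem (b : F) : (prodFF G k).b2.y b ∈ Gm G k 1 ⊔ Gm G k 2 := by
  obtain ⟨r, hr⟩ := H.exists_c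
  have h1 := (prodFF G k).rel.nII_x r hr ((D.ε * D.σ r.c)⁻¹ * b)
  have h2 : D.ε * D.σ r.c ≠ 0 := mul_ne_zero D.ε_ne (by simpa using hr)
  rw [mul_inv_cancel_left₀ h2] at h1
  rw [← h1]
  exact mul_mem (mul_mem (Subgroup.mem_sup_right (H.nII_mem r)) (Subgroup.mem_sup_left (x_mem _)))
    (inv_mem (Subgroup.mem_sup_right (H.nII_mem r)))

theorem nt_inv_smul {t : F} (ht : t ≠ 0) : (nt (prodFF G k).b2 t)⁻¹.1 • c = ci 1 := by
  rw [← nt_neg (prodFF G k).rel]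
  have := H.n1 (-t) (neg_ne_zero.2 ht)
  rw [nt, (prodFF G k).hx, (prodFF G k).hx']
  exact this

theorem nt_smul {t : F} (ht : t ≠ 0) : (nt (prodFF G k).b2 t).1 • c = ci 1 := by
  have := H.n1 t ht
  rw [nt, (prodFF G k).hx, (prodFF G k).hx']
  exact this

omit H in
theorem nt_mem (t : F) : nt (prodFF G k).b2 t ∈ Gm G k 1 := by
  rw [nt, (prodFF G k).hx, (prodFF G k).hx']
  exact nn_mem t

theorem S_x (a : F) : (prodFF G k).b2.x a ∈ (Gm G k 1 ⊔ Gm G k 2) ⊓ T c := by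
  refine ⟨Subgroup.mem_sup_left (x_mem _), ?_⟩
  show ((prodFF G k).b2.x a).1 • c = c
  rw [(prodFF G k).hx]
  exact H.a1.fix a

theorem S_z (p : D.T) : (prodFF G k).b2.z₂ p ∈ (Gm G k 1 ⊔ Gm G k 2) ⊓ T c :=
  ⟨Subgroup.mem_sup_right (H.z₂_mem _), H.az.fix p⟩

theorem S_y (b : F) : (prodFF G k).b2.y b ∈ (Gm G k 1 ⊔ Gm G k 2) ⊓ T c :=
  ⟨H.y_mem b, H.y_fix b⟩

theorem S_z₁ (p : D.T) : (prodFF G k).b2.z₁ p ∈ (Gm G k 1 ⊔ Gm G k 2) ⊓ T c :=
  z₁_mem (prodFF G k).rel H.S_x H.S_z H.S_y p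

theorem hI_T {s t : F} (hs : s ≠ 0) (ht : t ≠ 0) :
    (nt (prodFF G k).b2 s * (nt (prodFF G k).b2 t)⁻¹).1 • c = c := by
  rw [Prod.fst_mul, mul_smul, H.nt_inv_smul ht, ← H.nt_inv_smul hs, Prod.fst_inv, smul_inv_smul]

theorem hII_T {p q : D.T} (hp : p.c ≠ 0) (hq : q.c ≠ 0) :
    ((prodFF G k).b2.nII p * ((prodFF G k).b2.nII q)⁻¹).1 • c = c := by
  rw [Prod.fst_mul, mul_smul, H.nII_inv_smul hq, ← H.nII_inv_smul hp, Prod.fst_inv, smul_inv_smul]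

theorem S_hI {s t : F} (hs : s ≠ 0) (ht : t ≠ 0) :
    nt (prodFF G k).b2 s * (nt (prodFF G k).b2 t)⁻¹ ∈ (Gm G k 1 ⊔ Gm G k 2) ⊓ T c :=
  ⟨Subgroup.mem_sup_left (mul_mem (nt_mem s) (inv_mem (nt_mem t))), H.hI_T hs ht⟩

theorem S_hII {p q : D.T} (hp : p.c ≠ 0) (hq : q.c ≠ 0) :
    (prodFF G k).b2.nII p * ((prodFF G k).b2.nII q)⁻¹ ∈ (Gm G k 1 ⊔ Gm G k 2) ⊓ T c :=
  ⟨Subgroup.mem_sup_right (mul_mem (H.nII_mem p) (inv_mem (H.nII_mem q))), H.hII_T hp hq⟩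

theorem Hg_le : Hg (prodFF G k).b2 ≤ (Gm G k 1 ⊔ Gm G k 2) ⊓ T c := by
  rw [Hg, Subgroup.closure_le]
  rintro g (⟨s, t, hs, ht, rfl⟩ | ⟨p, q, hp, hq, rfl⟩)
  · exact H.S_hI hs ht
  · exact H.S_hII hp hq

/-- **The stabiliser of `c` for the double bond.** -/
theorem stab12 {g : A × K} (hg : g ∈ Gm G k 1 ⊔ Gm G k 2) (hgc : g.1 • c = c) :
    g ∈ Subgroup.closure (stabSet (prodFF G k).b2) := by
  have h1 := b2_stab (prodFF G k).rel H.nir ((Gm G k 1 ⊔ Gm G k 2) ⊓ T c) ?_ H.S_x H.S_z H.S_y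
    (fun s t hs ht => H.S_hI hs ht) (fun p q hp hq => H.S_hII hp hq) ?_ ?_ H.exists_c
  · exact h1 ⟨hg, hgc⟩
  · refine inf_le_left.trans (sup_le ?_ ?_)
    · refine (Subgroup.closure_le _).2 ?_
      rintro _ (⟨t, rfl⟩ | ⟨t, rfl⟩)
      · refine Subgroup.subset_closure (Or.inl ⟨t, Or.inl ?_⟩)
        rw [(prodFF G k).hx]; rfl
      · refine Subgroup.subset_closure (Or.inl ⟨t, Or.inr ?_⟩)
        rw [(prodFF G k).hx']; rfl
    · refine (Subgroup.closure_le _).2 ?_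
      rintro _ (⟨t, rfl⟩ | ⟨t, rfl⟩)
      · exact Subgroup.subset_closure (Or.inr ⟨τ t, Or.inl ((prodFF G k).hz t).symm⟩)
      · exact Subgroup.subset_closure (Or.inr ⟨τ' t, Or.inr ((prodFF G k).hz' t).symm⟩)
  · intro h
    have h2 : (nt (prodFF G k).b2 1).1 • c = c := h.2
    rw [H.nt_smul one_ne_zero] at h2
    exact H.a1.ne h2
  · intro p hp h
    have h2 : ((prodFF G k).b2.nII p).1 • c = c := h.2
    rw [H.nII_smul hp] at h2
    exact H.a2.ne h2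

theorem stab01 {g : A × K} (hg : g ∈ Gm G k 0 ⊔ Gm G k 1) (hgc : g.1 • c = c) :
    g ∈ Subgroup.closure (edgeGens (prodFF G k).x0 (prodFF G k).y0 (prodFF G k).x1
      (prodFF G k).y1) :=
  stab_gens H.iso H.hth H.a0 H.a1 (prodFF G k).e01 hg hgc

theorem stab23 {g : A × K} (hg : g ∈ Gm G k 2 ⊔ Gm G k 3) (hgc : g.1 • c = c) :
    g ∈ Subgroup.closure (edgeGens (prodFF G k).x2 (prodFF G k).y2 (prodFF G k).x3
      (prodFF G k).y3) :=
  stab_gens H.iso H.hth H.a2 H.a3 (prodFF G k).e23 hg hgc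

theorem n0_T {s t : F} (hs : s ≠ 0) (ht : t ≠ 0) :
    (nn (prodFF G k).x0 (prodFF G k).y0 s * (nn (prodFF G k).x0 (prodFF G k).y0 t)⁻¹).1 • c = c := by
  have hinv : ∀ t : F, (nn (prodFF G k).x0 (prodFF G k).y0 t)⁻¹ =
      nn (prodFF G k).x0 (prodFF G k).y0 (-t) := by
    intro t
    obtain ⟨x, hx, e1, e2, -, -⟩ := (prodFF G k).e01
    have e := RankTwoA2.n_inv hx (a := 0) (b := 1) (by decide) t
    unfold RankTwoA2.n at e
    rw [e1, e2] at e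
    exact e
  have h1 : ∀ t : F, t ≠ 0 → (nn (prodFF G k).x0 (prodFF G k).y0 t)⁻¹.1 • c = ci 0 := by
    intro t ht
    rw [hinv]
    exact H.n0 _ (neg_ne_zero.2 ht)
  rw [Prod.fst_mul, mul_smul, h1 t ht, ← h1 s hs, Prod.fst_inv, smul_inv_smul]

theorem n3_T {s t : E} (hs : s ≠ 0) (ht : t ≠ 0) :
    (nn (prodFF G k).x3 (prodFF G k).y3 s * (nn (prodFF G k).x3 (prodFF G k).y3 t)⁻¹).1 • c = c := by
  have hinv : ∀ t : E, (nn (prodFF G k).x3 (prodFF G k).y3 t)⁻¹ =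
      nn (prodFF G k).x3 (prodFF G k).y3 (-t) := by
    intro t
    obtain ⟨x, hx, -, -, e1, e2⟩ := (prodFF G k).e23
    have e := RankTwoA2.n_inv hx (a := 1) (b := 2) (by decide) t
    unfold RankTwoA2.n at e
    rw [e1, e2] at e
    exact e
  have h1 : ∀ t : E, t ≠ 0 → (nn (prodFF G k).x3 (prodFF G k).y3 t)⁻¹.1 • c = ci 3 := by
    intro t ht
    rw [hinv]
    exact H.n3 _ (neg_ne_zero.2 ht)
  rw [Prod.fst_mul, mul_smul, h1 t ht, ← h1 s hs, Prod.fst_inv, smul_inv_smul]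

/-! ### `GenP` for `y b` -/

omit H in
theorem comm02 : ∀ x ∈ Gm G k 0, ∀ y ∈ Gm G k 2, x * y = y * x :=
  AssembleCN.comm_of_Comm4 G.c02 k.c02

omit H in
theorem comm03 : ∀ x ∈ Gm G k 0, ∀ y ∈ Gm G k 3, x * y = y * x :=
  AssembleCN.comm_of_Comm4 G.c03 k.c03

omit H in
theorem comm13 : ∀ x ∈ Gm G k 1, ∀ y ∈ Gm G k 3, x * y = y * x :=
  AssembleCN.comm_of_Comm4 G.c13 k.c13

omit H in
theorem mem_Bt {i j : Fin 4} {g : A × K} (hg : g ∈ Gm G k i ⊔ Gm G k j) (hgc : g.1 • c = c) :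
    g ∈ GUProd.Bt (Gm G k) c :=
  Subgroup.subset_closure ⟨i, j, hg, hgc⟩

theorem gen_y0 (b : F) : GenAt (Gm G k) c 0 ((prodFF G k).b2.y b) := by
  intro h hh
  obtain ⟨x, hx, e01, e10, e12, -⟩ := (prodFF G k).e01
  obtain ⟨r, hr⟩ := H.exists_c
  refine ⟨h, hh, ?_⟩
  refine AssembleB2.conj_y (m := (prodFF G k).b2) (prodFF G k).rel hx ?_ r hr ?_ ?_ ?_ ?_ ?_ b
  · rw [e12, (prodFF G k).hx]
  · intro t
    rw [e01]
    exact comm02 _ (Gam.pos t) _ (H.nII_mem r)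
  · intro t
    rw [e10]
    exact comm02 _ (Gam.neg t) _ (H.nII_mem r)
  · intro b
    exact mem_Bt (H.y_mem b) (H.y_fix b)
  · intro t
    refine mem_Bt (i := 0) (j := 0) (Subgroup.mem_sup_left ?_) ?_
    · rw [e01]; exact Gam.pos t
    · rw [e01]; exact H.a0.fix t
  · rw [e01, e10]; exact hh

theorem gen_z₁3 (p : D.T) : GenAt (Gm G k) c 3 ((prodFF G k).b2.z₁ p) := by
  intro h hh
  obtain ⟨x, hx, e01, -, e12, e21⟩ := (prodFF G k).e23
  refine ⟨h, hh, ?_⟩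
  obtain ⟨t, rfl⟩ := H.hτ p
  have hν : ∀ q, (prodFF G k).b2.z₁ q =
      (prodFF G k).b2.nI * (prodFF G k).b2.z₂ q * ((prodFF G k).b2.nI)⁻¹ := fun q =>
    ((prodFF G k).rel.nI_z₂ q).symm
  have hνm : (prodFF G k).b2.nI ∈ Gm G k 1 := by
    rw [← nt_one]; exact nt_mem 1
  have e : ∀ t, (prodFF G k).b2.z₁ (τ t) =
      (prodFF G k).b2.nI * x 0 1 t * ((prodFF G k).b2.nI)⁻¹ := by
    intro t
    rw [hν, (prodFF G k).hz, e01]
  rw [e]
  refine conj_z hx ?_ ?_ ?_ ?_ ?_ t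
  · intro s
    rw [e12]
    exact (comm13 _ hνm _ (Gam.pos s)).symm
  · intro s
    rw [← e]
    exact mem_Bt (H.S_z₁ _).1 (H.S_z₁ _).2
  · intro s
    rw [e12]
    exact mem_Bt (i := 3) (j := 3) (Subgroup.mem_sup_left (Gam.pos s)) (H.a3.fix s)
  · exact (comm13 _ hνm _ hh).symm
  · rw [e12, e21]; exact hh

theorem gen_y3 (b : F) : GenAt (Gm G k) c 3 ((prodFF G k).b2.y b) := by
  obtain ⟨r, hr⟩ := H.exists_c
  set m := (prodFF G k).b2 with hm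
  have hrel : B2Rel m := (prodFF G k).rel
  have hσ : D.σ r.c ≠ 0 := by simpa using hr
  have hε := D.ε_ne
  set a := -((D.ε * D.σ r.c)⁻¹ * b) with ha
  have h1 := hrel.x_z₂ a r
  have h2 : -(D.ε * a * D.σ r.c) = b := by
    rw [ha]; field_simp
  rw [h2] at h1
  have h3 : m.y b = (m.z₁ (D.sc a r))⁻¹ * (m.x a * m.z₂ r * (m.x a)⁻¹ * (m.z₂ r)⁻¹) := by
    rw [← commutatorElement_def, h1]; group
  rw [h3]
  have gx : GenAt (Gm G k) c 3 (m.x a) :=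
    genAt_of_commute (mem_Bt (H.S_x a).1 (H.S_x a).2) (comm13 _ (x_mem a))
  have gz : GenAt (Gm G k) c 3 (m.z₂ r) := by
    intro h hh
    exact genP_self H.iso H.pan H.trans (i := 2) (j := 3) (Subgroup.mem_sup_left (H.z₂_mem r))
      (H.S_z r).2 (Or.inr rfl) hh
  have gz₁ := (H.gen_z₁3 (D.sc a r)).inv H.iso H.pan H.trans (H.S_z₁ _).2
  exact gz₁.mul (((gx.mul gz).mul (gx.inv H.iso H.pan H.trans (H.S_x a).2)).mul
    (gz.inv H.iso H.pan H.trans (H.S_z r).2))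

theorem genP_y (b : F) : GenP (Gm G k) c ((prodFF G k).b2.y b) := by
  intro i
  fin_cases i
  · exact H.gen_y0 b
  · intro h hh
    exact genP_self H.iso H.pan H.trans (H.y_mem b) (H.y_fix b) (Or.inl rfl) hh
  · intro h hh
    exact genP_self H.iso H.pan H.trans (H.y_mem b) (H.y_fix b) (Or.inr rfl) hh
  · exact H.gen_y3 b

end Setup

/-- The memberships on the `K` side. -/
structure Mem (k : FF K D τ τ') (Bor : Subgroup K) : Prop where
  x0_mem : ∀ t, k.x0 t ∈ Bor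
  x1_mem : ∀ t, k.x1 t ∈ Bor
  x2_mem : ∀ t, k.x2 t ∈ Bor
  x3_mem : ∀ t, k.x3 t ∈ Bor
  y_mem : ∀ t, k.b2.y t ∈ Bor
  hh0_mem : ∀ t, t ≠ 0 → hh k.x0 k.y0 t ∈ Bor
  hh1_mem : ∀ t, t ≠ 0 → hh k.x1 k.y1 t ∈ Bor
  hh3_mem : ∀ t, t ≠ 0 → hh k.x3 k.y3 t ∈ Bor
  nII_mem : ∀ p q, p.c ≠ 0 → q.c ≠ 0 → k.b2.nII p * (k.b2.nII q)⁻¹ ∈ Bor

namespace Setup

variable {Δ : Bldg cs C} {G : FF A D τ τ'} {k : FF K D τ τ'} {c : C} {ci : Fin 4 → C}
variable (H : Setup Δ G k c ci)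

include H

theorem s01 {Bor : Subgroup K} (hk : Mem k Bor) {g : A × K} (hg : g ∈ Gm G k 0 ⊔ Gm G k 1)
    (hgc : g.1 • c = c) : g.2 ∈ Bor ∧ g ∈ Subgroup.closure
      {h : A × K | (h ∈ Gm G k 0 ∨ h ∈ Gm G k 1) ∧ h.1 • c = c} :=
  AssembleEdge.stab H.iso H.hth H.a0 H.a1 (prodFF G k).e01 hk.x0_mem hk.x1_mem hk.hh0_mem
    hk.hh1_mem hg hgc

theorem s23 {Bor : Subgroup K} (hk : Mem k Bor) {g : A × K} (hg : g ∈ Gm G k 2 ⊔ Gm G k 3)
    (hgc : g.1 • c = c) : g.2 ∈ Bor ∧ g ∈ Subgroup.closure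
      {h : A × K | (h ∈ Gm G k 2 ∨ h ∈ Gm G k 3) ∧ h.1 • c = c} := by
  refine AssembleEdge.stab H.iso H.hth H.a2 H.a3 (prodFF G k).e23 hk.x2_mem hk.x3_mem ?_
    hk.hh3_mem hg hgc
  intro t ht
  have h1 : ∀ t : E, t ≠ 0 → nn k.x2 k.y2 t = k.b2.nII (τ t) := fun t ht =>
    congrArg Prod.snd (H.n2_eq ht)
  unfold hh
  rw [h1 t ht, h1 1 one_ne_zero]
  exact hk.nII_mem _ _ (H.τ_ne ht) (H.τ_ne one_ne_zero)

theorem s12 {Bor : Subgroup K} (hk : Mem k Bor) {g : A × K} (hg : g ∈ Gm G k 1 ⊔ Gm G k 2)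
    (hgc : g.1 • c = c) : g.2 ∈ Bor ∧ g ∈ Subgroup.closure
      ({h : A × K | (h ∈ Gm G k 1 ∨ h ∈ Gm G k 2) ∧ h.1 • c = c} ∪
        Set.range (prodFF G k).b2.y) := by
  have h0 := H.stab12 hg hgc
  constructor
  · have h5 : Subgroup.closure (stabSet (prodFF G k).b2) ≤ Bor.comap (MonoidHom.snd A K) := by
      refine (Subgroup.closure_le _).2 ?_
      rintro h' ((⟨t, rfl⟩ | ⟨t, rfl⟩ | ⟨t, rfl⟩) | (⟨s, t, hs, ht, rfl⟩ | ⟨s, t, hs, ht, rfl⟩))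
      · show k.b2.x t ∈ Bor
        rw [k.hx]; exact hk.x1_mem t
      · show k.b2.z₂ t ∈ Bor
        obtain ⟨s, rfl⟩ := H.hτ t
        rw [k.hz]; exact hk.x2_mem s
      · exact hk.y_mem t
      · have h6 := mul_mem (hk.hh1_mem s hs) (inv_mem (hk.hh1_mem t ht))
        have e : (nt (prodFF G k).b2 s * (nt (prodFF G k).b2 t)⁻¹).2 =
            hh k.x1 k.y1 s * (hh k.x1 k.y1 t)⁻¹ := by
          show nn k.b2.x k.b2.x' s * (nn k.b2.x k.b2.x' t)⁻¹ = _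
          rw [k.hx, k.hx']
          unfold hh
          group
        show (nt (prodFF G k).b2 s * (nt (prodFF G k).b2 t)⁻¹).2 ∈ Bor
        rw [e]; exact h6
      · exact hk.nII_mem _ _ hs ht
    exact h5 h0
  · refine Subgroup.closure_le _ |>.2 ?_ h0
    rintro h' ((⟨t, rfl⟩ | ⟨t, rfl⟩ | ⟨t, rfl⟩) | (⟨s, t, hs, ht, rfl⟩ | ⟨s, t, hs, ht, rfl⟩))
    · exact Subgroup.subset_closure (Or.inl ⟨Or.inl (x_mem t), (H.S_x t).2⟩)
    · exact Subgroup.subset_closure (Or.inl ⟨Or.inr (H.z₂_mem t), (H.S_z t).2⟩)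
    · exact Subgroup.subset_closure (Or.inr ⟨t, rfl⟩)
    · exact Subgroup.subset_closure (Or.inl
        ⟨Or.inl (mul_mem (nt_mem s) (inv_mem (nt_mem t))), H.hI_T hs ht⟩)
    · exact Subgroup.subset_closure (Or.inl
        ⟨Or.inr (mul_mem (H.nII_mem s) (inv_mem (H.nII_mem t))), H.hII_T hs ht⟩)

/-- **(L1)**, form of `GUProd`. -/
theorem stab_iSup [Finite W] {Bor : Subgroup K} (hk : Mem k Bor) :
    ∀ g ∈ ⨆ i, Gm G k i, g.1 • c = c → g.2 ∈ Bor := by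
  have sinj : Function.Injective cs.simple := Cfsg.Agent.Tits.Ext.simple_injective
  refine gu_extra Δ c H.iso Bor (Gm G k) H.pan H.trans (Set.range (prodFF G k).b2.y) ?_ ?_ ?_
  · rintro _ ⟨b, rfl⟩
    exact ⟨H.y_fix b, hk.y_mem b, H.genP_y b⟩
  · intro i
    fin_cases i
    · intro g hg hgc
      exact (H.s01 hk (Subgroup.mem_sup_left hg) hgc).1
    · intro g hg hgc
      exact (H.s01 hk (Subgroup.mem_sup_right hg) hgc).1
    · intro g hg hgc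
      exact (H.s23 hk (Subgroup.mem_sup_left hg) hgc).1
    · intro g hg hgc
      exact (H.s23 hk (Subgroup.mem_sup_right hg) hgc).1
  · set S : Set (A × K) := {h : A × K | ∃ i, h ∈ Gm G k i ∧ h.1 • c = c} ∪
      Set.range (prodFF G k).b2.y with hS
    have hRle : Subgroup.closure {h : A × K | ∃ i, h ∈ Gm G k i ∧ h.1 • c = c} ≤
        Subgroup.closure S := Subgroup.closure_mono Set.subset_union_left
    have r01 : ∀ g ∈ Gm G k 0 ⊔ Gm G k 1, g.1 • c = c → g ∈ Subgroup.closure S := by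
      intro g hg hgc
      refine Subgroup.closure_mono ?_ (H.s01 hk hg hgc).2
      rintro h ⟨h2 | h2, h3⟩
      · exact Or.inl ⟨_, h2, h3⟩
      · exact Or.inl ⟨_, h2, h3⟩
    have r23 : ∀ g ∈ Gm G k 2 ⊔ Gm G k 3, g.1 • c = c → g ∈ Subgroup.closure S := by
      intro g hg hgc
      refine Subgroup.closure_mono ?_ (H.s23 hk hg hgc).2
      rintro h ⟨h2 | h2, h3⟩
      · exact Or.inl ⟨_, h2, h3⟩
      · exact Or.inl ⟨_, h2, h3⟩
    have r12 : ∀ g ∈ Gm G k 1 ⊔ Gm G k 2, g.1 • c = c → g ∈ Subgroup.closure S := by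
      intro g hg hgc
      refine Subgroup.closure_mono ?_ (H.s12 hk hg hgc).2
      rintro h (⟨h2 | h2, h3⟩ | h4)
      · exact Or.inl ⟨_, h2, h3⟩
      · exact Or.inl ⟨_, h2, h3⟩
      · exact Or.inr h4
    have r02 : ∀ g ∈ Gm G k 0 ⊔ Gm G k 2, g.1 • c = c → g ∈ Subgroup.closure S := by
      intro g hg hgc
      exact hRle (comm_stab (Δ := Δ) H.pan (fun h => absurd (sinj h) (by decide)) comm02 hg hgc)
    have r03 : ∀ g ∈ Gm G k 0 ⊔ Gm G k 3, g.1 • c = c → g ∈ Subgroup.closure S := by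
      intro g hg hgc
      exact hRle (comm_stab (Δ := Δ) H.pan (fun h => absurd (sinj h) (by decide)) comm03 hg hgc)
    have r13 : ∀ g ∈ Gm G k 1 ⊔ Gm G k 3, g.1 • c = c → g ∈ Subgroup.closure S := by
      intro g hg hgc
      exact hRle (comm_stab (Δ := Δ) H.pan (fun h => absurd (sinj h) (by decide)) comm13 hg hgc)
    have key : ∀ i j : Fin 4, i < j → ∀ g ∈ Gm G k i ⊔ Gm G k j, g.1 • c = c →
        g ∈ Subgroup.closure S := by
      intro i j hij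
      fin_cases i <;> fin_cases j
      all_goals first
        | exact absurd hij (by decide)
        | exact r01
        | exact r02
        | exact r03
        | exact r12
        | exact r13
        | exact r23
    intro i j hij g hg hgc
    rcases lt_or_gt_of_ne hij with h | h
    · exact key i j h g hg hgc
    · rw [sup_comm] at hg
      exact key j i h g hg hgc

end Setup

/-- The group generated by the pairs of root elements. -/
def graph (G : FF A D τ τ') (k : FF K D τ τ') : Subgroup (A × K) :=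
  Subgroup.closure (Set.range (pr G.x0 k.x0) ∪ Set.range (pr G.y0 k.y0) ∪ Set.range (pr G.x1 k.x1) ∪
    Set.range (pr G.y1 k.y1) ∪ Set.range (pr G.x2 k.x2) ∪ Set.range (pr G.y2 k.y2) ∪
    Set.range (pr G.x3 k.x3) ∪ Set.range (pr G.y3 k.y3))

theorem graph_le (G : FF A D τ τ') (k : FF K D τ τ') : graph G k ≤ ⨆ i, Gm G k i := by
  refine (Subgroup.closure_le _).2 ?_
  rintro g (((((((⟨t, rfl⟩ | ⟨t, rfl⟩) | ⟨t, rfl⟩) | ⟨t, rfl⟩) | ⟨t, rfl⟩) | ⟨t, rfl⟩) | ⟨t, rfl⟩) |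
    ⟨t, rfl⟩)
  · exact le_iSup (Gm G k) 0 (Gam.pos t)
  · exact le_iSup (Gm G k) 0 (Gam.neg t)
  · exact le_iSup (Gm G k) 1 (Gam.pos t)
  · exact le_iSup (Gm G k) 1 (Gam.neg t)
  · exact le_iSup (Gm G k) 2 (Gam.pos t)
  · exact le_iSup (Gm G k) 2 (Gam.neg t)
  · exact le_iSup (Gm G k) 3 (Gam.pos t)
  · exact le_iSup (Gm G k) 3 (Gam.neg t)

/-- **(L1)** The elements of `graph G k` fixing the base chamber have their second component in
`Bor`. -/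
theorem stab_le [Finite W] {Δ : Bldg cs C} (hth : Δ.Thick)
    (iso : ∀ (a : A) x y, Δ.δ (a • x) (a • y) = Δ.δ x y) (hτ : Function.Surjective τ)
    (hτ' : Function.Surjective τ') (G : FF A D τ τ') {c : C} {ci : Fin 4 → C}
    (a0 : NodeAct Δ c 0 (ci 0) G.x0 G.y0) (a1 : NodeAct Δ c 1 (ci 1) G.x1 G.y1)
    (a2 : NodeAct Δ c 2 (ci 2) G.x2 G.y2) (a3 : NodeAct Δ c 3 (ci 3) G.x3 G.y3)
    (y_fix : ∀ b, G.b2.y b • c = c) (k : FF K D τ τ') {Bor : Subgroup K} (hk : Mem k Bor)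
    {p : A × K} (hp : p ∈ graph G k) (hpc : p.1 • c = c) : p.2 ∈ Bor := by
  have H : Setup Δ G k c ci := ⟨iso, hth, a0, a1, a2, a3, y_fix, hτ, hτ'⟩
  exact H.stab_iSup hk p (graph_le G k hp) hpc

end Main

/-- **(L2)** -/
theorem nonempty_mulEquiv {M : CoxeterMatrix (Fin 4)} {W : Type*} [Group W] {cs : CoxeterSystem M W}
    {C G K : Type*} [Group G] [Group K] [MulAction G C] {F : Type*} [Field F] {V : Type*}
    [AddCommGroup V] [Module F V] {D : PQDatum F V} {E : Type*} [Field E] {τ τ' : E → D.T}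
    [Finite W] {Δ : Bldg cs C} (hth : Δ.Thick) (hA : Δ.StrongAct G) (hM : NormalTrans.Conn M)
    [IsSimpleGroup K] (hτ : Function.Surjective τ) (hτ' : Function.Surjective τ')
    (g : GFF Δ G D τ τ') (k : KFF K D τ τ') : Nonempty (G ≃* K) := by
  have hk : Mem k.toFF k.Bor :=
    { x0_mem := k.x0_mem, x1_mem := k.x1_mem, x2_mem := k.x2_mem, x3_mem := k.x3_mem
      y_mem := k.y_mem, hh0_mem := k.hh0_mem, hh1_mem := k.hh1_mem, hh3_mem := k.hh3_mem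
      nII_mem := k.nII_mem }
  have hsub : ∀ p ∈ (Set.range (pr g.x0 k.x0) ∪ Set.range (pr g.y0 k.y0) ∪
      Set.range (pr g.x1 k.x1) ∪ Set.range (pr g.y1 k.y1) ∪ Set.range (pr g.x2 k.x2) ∪
      Set.range (pr g.y2 k.y2) ∪ Set.range (pr g.x3 k.x3) ∪ Set.range (pr g.y3 k.y3)),
      p ∈ graph g.toFF k.toFF := fun p hp => Subgroup.subset_closure hp
  refine NormalTrans.mulEquiv_of_graph hth hA hM (graph g.toFF k.toFF) g.c k.Bor k.Bor_ne ?_ ?_ ?_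
  · rw [eq_top_iff, ← g.gen, Subgroup.closure_le]
    rintro _ (((((((⟨t, rfl⟩ | ⟨t, rfl⟩) | ⟨t, rfl⟩) | ⟨t, rfl⟩) | ⟨t, rfl⟩) | ⟨t, rfl⟩) |
      ⟨t, rfl⟩) | ⟨t, rfl⟩)
    · exact ⟨_, hsub (g.x0 t, k.x0 t) (Or.inl (Or.inl (Or.inl (Or.inl (Or.inl (Or.inl (Or.inl ⟨t, rfl⟩))))))), rfl⟩
    · exact ⟨_, hsub (g.y0 t, k.y0 t) (Or.inl (Or.inl (Or.inl (Or.inl (Or.inl (Or.inl (Or.inr ⟨t, rfl⟩))))))), rfl⟩
    · exact ⟨_, hsub (g.x1 t, k.x1 t) (Or.inl (Or.inl (Or.inl (Or.inl (Or.inl (Or.inr ⟨t, rfl⟩)))))), rfl⟩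
    · exact ⟨_, hsub (g.y1 t, k.y1 t) (Or.inl (Or.inl (Or.inl (Or.inl (Or.inr ⟨t, rfl⟩))))), rfl⟩
    · exact ⟨_, hsub (g.x2 t, k.x2 t) (Or.inl (Or.inl (Or.inl (Or.inr ⟨t, rfl⟩)))), rfl⟩
    · exact ⟨_, hsub (g.y2 t, k.y2 t) (Or.inl (Or.inl (Or.inr ⟨t, rfl⟩))), rfl⟩
    · exact ⟨_, hsub (g.x3 t, k.x3 t) (Or.inl (Or.inr ⟨t, rfl⟩)), rfl⟩
    · exact ⟨_, hsub (g.y3 t, k.y3 t) (Or.inr ⟨t, rfl⟩), rfl⟩
  · rw [eq_top_iff, ← k.gen, Subgroup.closure_le]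
    rintro _ (((((((⟨t, rfl⟩ | ⟨t, rfl⟩) | ⟨t, rfl⟩) | ⟨t, rfl⟩) | ⟨t, rfl⟩) | ⟨t, rfl⟩) |
      ⟨t, rfl⟩) | ⟨t, rfl⟩)
    · exact ⟨_, hsub (g.x0 t, k.x0 t) (Or.inl (Or.inl (Or.inl (Or.inl (Or.inl (Or.inl (Or.inl ⟨t, rfl⟩))))))), rfl⟩
    · exact ⟨_, hsub (g.y0 t, k.y0 t) (Or.inl (Or.inl (Or.inl (Or.inl (Or.inl (Or.inl (Or.inr ⟨t, rfl⟩))))))), rfl⟩
    · exact ⟨_, hsub (g.x1 t, k.x1 t) (Or.inl (Or.inl (Or.inl (Or.inl (Or.inl (Or.inr ⟨t, rfl⟩)))))), rfl⟩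
    · exact ⟨_, hsub (g.y1 t, k.y1 t) (Or.inl (Or.inl (Or.inl (Or.inl (Or.inr ⟨t, rfl⟩))))), rfl⟩
    · exact ⟨_, hsub (g.x2 t, k.x2 t) (Or.inl (Or.inl (Or.inl (Or.inr ⟨t, rfl⟩)))), rfl⟩
    · exact ⟨_, hsub (g.y2 t, k.y2 t) (Or.inl (Or.inl (Or.inr ⟨t, rfl⟩))), rfl⟩
    · exact ⟨_, hsub (g.x3 t, k.x3 t) (Or.inl (Or.inr ⟨t, rfl⟩)), rfl⟩
    · exact ⟨_, hsub (g.y3 t, k.y3 t) (Or.inr ⟨t, rfl⟩), rfl⟩
  · intro p hp hpc
    exact stab_le hth hA.iso hτ hτ' g.toFF g.a0 g.a1 g.a2 g.a3 g.y_fix k.toFF hk hp hpc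

end Cfsg.Agent.TitsThree.AssembleFF
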