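import Cfsg.Agent.TitsThree.AssembleBase
import Cfsg.Agent.TitsThree.RankTwoA2
import Cfsg.Agent.TitsThree.NormalTrans
import Cfsg.Agent.Tits.ExtAux

/-!
# Assembly, simply laced types (S1143)

`stab_le` (layer L1): the same simply laced package in a group `A` acting on `Δ` (with `NodeAct`) and in a group `K`;
`Bor ≤ K` contains the positive simple root elements and the `h(t)` of `K`.  Then every element of the
group `D` generated by the pairs of root elements which fixes `c` has its second component in `Bor`.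

`nonempty_mulEquiv` (layer L2): `GSL` + `SLData` ⟹ `A ≃* K`.
-/

set_option autoImplicit false
set_option linter.unusedVariables false

namespace Cfsg.Agent.TitsThree.AssembleSL

open Cfsg.Agent.Tits.Core Cfsg.Agent.Tits.Core.Bldg Cfsg.Agent.Tits.Exchange
open Cfsg.Agent.TitsThree.Pack Cfsg.Agent.TitsThree.AssembleBase Cfsg.Agent.AGraded
open Cfsg.Agent.TitsThree

variable {I : Type*} {M : CoxeterMatrix I} {W : Type*} [Group W] {cs : CoxeterSystem M W}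
variable {C A K : Type*} [Group A] [Group K] [MulAction A C] {F : Type*} [Field F]

theorem exists_third (a b : Fin 3) : ∃ d : Fin 3, d ≠ a ∧ d ≠ b := by
  fin_cases a <;> fin_cases b <;> decide

section Edge

variable {Δ : Bldg cs C} {c ci : C} {i : I} {x : Fin 3 → Fin 3 → F → A × K}

/-- `n(t)` maps `c` to `ci`. -/
theorem n_smul (hth : Δ.Thick) (iso : ∀ (a : A) x y, Δ.δ (a • x) (a • y) = Δ.δ x y) (hx : SteinRel x)
    {a b : Fin 3} (hab : a ≠ b) (h : NodeAct Δ c i ci (fun t => (x a b t).1) (fun t => (x b a t).1))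
    {t : F} (ht : t ≠ 0) : (RankTwoA2.n x a b t).1 • c = ci := by
  obtain ⟨d, hda, hdb⟩ := exists_third a b
  refine swap_smul hth h ?_ ?_
  · refine pan_Gam iso h (fun t => (x a b t).2) (fun t => (x b a t).2) _ ?_
    have h1 : ∀ t, x a b t ∈ Gam (fun t => (x a b t).1) (fun t => (x b a t).1) (fun t => (x a b t).2)
        (fun t => (x b a t).2) := fun t => Gam.pos t
    have h2 : ∀ t, x b a t ∈ Gam (fun t => (x a b t).1) (fun t => (x b a t).1) (fun t => (x a b t).2)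
        (fun t => (x b a t).2) := fun t => Gam.neg t
    exact mul_mem (mul_mem (h1 _) (h2 _)) (h1 _)
  · intro s
    refine ⟨-(t * s * t), ?_⟩
    have e := RankTwoA2.n_ab hx hab hdb.symm hda.symm ht (-(t * s * t))
    have e2 : -(t⁻¹ * -(t * s * t) * t⁻¹) = s := by field_simp
    rw [e2] at e
    exact congrArg Prod.fst e

theorem n_smul' (hth : Δ.Thick) (iso : ∀ (a : A) x y, Δ.δ (a • x) (a • y) = Δ.δ x y) (hx : SteinRel x)
    {a b : Fin 3} (hab : a ≠ b) (h : NodeAct Δ c i ci (fun t => (x a b t).1) (fun t => (x b a t).1))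
    {t : F} (ht : t ≠ 0) : (RankTwoA2.n x a b t).1 • ci = c := by
  have h1 := n_smul hth iso hx hab h (neg_ne_zero.2 ht)
  rw [← RankTwoA2.n_inv hx hab t] at h1
  rw [← h1, Prod.fst_inv, smul_inv_smul]

/-- The stabiliser of `c` in `A × K`. -/
def St (K : Type*) [Group K] (c : C) : Subgroup (A × K) := (MulAction.stabilizer A c).comap (MonoidHom.fst A K)

theorem mem_St {c : C} {g : A × K} : g ∈ St K c ↔ g.1 • c = c := Iff.rfl

theorem k_mem (hth : Δ.Thick) (iso : ∀ (a : A) x y, Δ.δ (a • x) (a • y) = Δ.δ x y) (hx : SteinRel x)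
    {a b : Fin 3} (hab : a ≠ b) (h : NodeAct Δ c i ci (fun t => (x a b t).1) (fun t => (x b a t).1))
    (s t : F) (hs : s ≠ 0) (ht : t ≠ 0) :
    RankTwoA2.n x a b s * (RankTwoA2.n x a b t)⁻¹ ∈ St K c := by
  rw [mem_St, Prod.fst_mul, mul_smul, RankTwoA2.n_inv hx hab,
    n_smul hth iso hx hab h (neg_ne_zero.2 ht), n_smul' hth iso hx hab h hs]

theorem m_not_mem (hth : Δ.Thick) (iso : ∀ (a : A) x y, Δ.δ (a • x) (a • y) = Δ.δ x y) (hx : SteinRel x)
    {a b : Fin 3} (hab : a ≠ b) (h : NodeAct Δ c i ci (fun t => (x a b t).1) (fun t => (x b a t).1)) :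
    RankTwoA2.n x a b 1 ∉ St K c := by
  rw [mem_St, n_smul hth iso hx hab h one_ne_zero]
  exact h.ne

variable {j : I} {cj : C}

/-- The stabiliser of `c` in the rank two group of an edge. -/
theorem edge (hth : Δ.Thick) (iso : ∀ (a : A) x y, Δ.δ (a • x) (a • y) = Δ.δ x y) (hx : SteinRel x)
    (h : NodeAct Δ c i ci (fun t => (x 0 1 t).1) (fun t => (x 1 0 t).1))
    (h' : NodeAct Δ c j cj (fun t => (x 1 2 t).1) (fun t => (x 2 1 t).1)) :
    (RankTwoA2.Gam x 0 1 ⊔ RankTwoA2.Gam x 1 2) ⊓ St K c = Subgroup.closure (RankTwoA2.gensB x) ∧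
    (RankTwoA2.Gam x 0 1 ⊔ RankTwoA2.Gam x 1 2) ⊓ St K c ≤
      (RankTwoA2.Gam x 0 1 ⊓ St K c) ⊔ (RankTwoA2.Gam x 1 2 ⊓ St K c) := by
  have h01 : (0 : Fin 3) ≠ 1 := by decide
  have h12 : (1 : Fin 3) ≠ 2 := by decide
  have hle1 : RankTwoA2.Gam x 0 1 ≤ RankTwoA2.Gam x 0 1 ⊔ RankTwoA2.Gam x 1 2 := le_sup_left
  have hle2 : RankTwoA2.Gam x 1 2 ≤ RankTwoA2.Gam x 0 1 ⊔ RankTwoA2.Gam x 1 2 := le_sup_right
  have k01 := k_mem hth iso hx h01 h
  have k12 := k_mem hth iso hx h12 h'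
  have m01 := m_not_mem hth iso hx h01 h
  have m12 := m_not_mem hth iso hx h12 h'
  have f01 : ∀ t, x 0 1 t ∈ St K c := fun t => h.fix t
  have f12 : ∀ t, x 1 2 t ∈ St K c := fun t => h'.fix t
  refine ⟨?_, RankTwoA2.gen hx f01 f12 k01 k12 m01 m12⟩
  apply RankTwoA2.stab_eq hx
  · refine le_trans inf_le_left (sup_le ?_ ?_)
    · rw [RankTwoA2.Gam, Subgroup.closure_le]
      rintro g (⟨t, rfl⟩ | ⟨t, rfl⟩)
      · exact Subgroup.subset_closure ⟨0, 1, t, by decide, rfl⟩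
      · exact Subgroup.subset_closure ⟨1, 0, t, by decide, rfl⟩
    · rw [RankTwoA2.Gam, Subgroup.closure_le]
      rintro g (⟨t, rfl⟩ | ⟨t, rfl⟩)
      · exact Subgroup.subset_closure ⟨1, 2, t, by decide, rfl⟩
      · exact Subgroup.subset_closure ⟨2, 1, t, by decide, rfl⟩
  · exact fun t => ⟨hle1 (RankTwoA2.mem_Gam 0 1 t), f01 t⟩
  · exact fun t => ⟨hle2 (RankTwoA2.mem_Gam 1 2 t), f12 t⟩
  · exact fun s t hs ht => ⟨hle1 (mul_mem (RankTwoA2.n_mem_Gam 0 1 s)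
      (inv_mem (RankTwoA2.n_mem_Gam 0 1 t))), k01 s t hs ht⟩
  · exact fun s t hs ht => ⟨hle2 (mul_mem (RankTwoA2.n_mem_Gam 1 2 s)
      (inv_mem (RankTwoA2.n_mem_Gam 1 2 t))), k12 s t hs ht⟩
  · exact fun h => m01 h.2
  · exact fun h => m12 h.2

theorem Gam_eq {xp xm : F → A} {xp' xm' : F → K} {a b : Fin 3} (h1 : x a b = fun t => (xp t, xp' t))
    (h2 : x b a = fun t => (xm t, xm' t)) : RankTwoA2.Gam x a b = Gam xp xm xp' xm' := by
  unfold RankTwoA2.Gam AssembleBase.Gam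
  rw [h1, h2]
  congr 2
  · ext g; simp only [Set.mem_ofPred_eq, Set.mem_range]; exact ⟨fun ⟨t, h⟩ => ⟨t, h.symm⟩, fun ⟨t, h⟩ => ⟨t, h.symm⟩⟩
  · ext g; simp only [Set.mem_ofPred_eq, Set.mem_range]; exact ⟨fun ⟨t, h⟩ => ⟨t, h.symm⟩, fun ⟨t, h⟩ => ⟨t, h.symm⟩⟩

/-- The edge statement for the pair of packages. -/
theorem edge_pack (hth : Δ.Thick) (iso : ∀ (a : A) x y, Δ.δ (a • x) (a • y) = Δ.δ x y)
    {xp xm yp ym : F → A} {xp' xm' yp' ym' : F → K} (h : NodeAct Δ c i ci xp xm) (h' : NodeAct Δ c j cj yp ym)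
    (e : Edge3 xp xm yp ym) (e' : Edge3 xp' xm' yp' ym') (Bor : Subgroup K)
    (hxp : ∀ t, xp' t ∈ Bor) (hyp : ∀ t, yp' t ∈ Bor) (hhx : ∀ t, t ≠ 0 → hh xp' xm' t ∈ Bor)
    (hhy : ∀ t, t ≠ 0 → hh yp' ym' t ∈ Bor) :
    (∀ g ∈ Gam xp xm xp' xm' ⊔ Gam yp ym yp' ym', g.1 • c = c → g.2 ∈ Bor) ∧
    (∀ g ∈ Gam xp xm xp' xm' ⊔ Gam yp ym yp' ym', g.1 • c = c →
      g ∈ Subgroup.closure ({g : A × K | g ∈ Gam xp xm xp' xm' ∧ g.1 • c = c} ∪
        {g : A × K | g ∈ Gam yp ym yp' ym' ∧ g.1 • c = c})) := by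
  obtain ⟨x, hx, h1, h2, h3, h4⟩ := e.prod e'
  have a1 : NodeAct Δ c i ci (fun t => (x 0 1 t).1) (fun t => (x 1 0 t).1) := by rw [h1, h2]; exact h
  have a2 : NodeAct Δ c j cj (fun t => (x 1 2 t).1) (fun t => (x 2 1 t).1) := by rw [h3, h4]; exact h'
  obtain ⟨s1, s2⟩ := edge (K := K) hth iso hx a1 a2
  rw [Gam_eq h1 h2, Gam_eq h3 h4] at s1 s2
  constructor
  · intro g hg hgc
    have hg' : g ∈ Subgroup.closure (RankTwoA2.gensB x) := by
      rw [← s1]; exact ⟨hg, hgc⟩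
    have hle : Subgroup.closure (RankTwoA2.gensB x) ≤ Bor.comap (MonoidHom.snd A K) := by
      rw [Subgroup.closure_le]
      have key : ∀ {zp zm : F → K}, (∀ t, t ≠ 0 → hh zp zm t ∈ Bor) → ∀ s t : F, s ≠ 0 → t ≠ 0 →
          nn zp zm s * (nn zp zm t)⁻¹ ∈ Bor := by
        intro zp zm hz s t hs ht
        have h5 := mul_mem (hz s hs) (inv_mem (hz t ht))
        have h6 : hh zp zm s * (hh zp zm t)⁻¹ = nn zp zm s * (nn zp zm t)⁻¹ := by
          unfold hh; group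
        rwa [h6] at h5
      rintro g ((⟨t, rfl⟩ | ⟨t, rfl⟩) | (⟨s, t, hs, ht, rfl⟩ | ⟨s, t, hs, ht, rfl⟩))
      · show (x 0 1 t).2 ∈ Bor
        rw [h1]; exact hxp t
      · show (x 1 2 t).2 ∈ Bor
        rw [h3]; exact hyp t
      · have := key hhx s t hs ht
        show (RankTwoA2.n x 0 1 s * (RankTwoA2.n x 0 1 t)⁻¹).2 ∈ Bor
        unfold RankTwoA2.n
        rw [h1, h2]
        exact this
      · have := key hhy s t hs ht
        show (RankTwoA2.n x 1 2 s * (RankTwoA2.n x 1 2 t)⁻¹).2 ∈ Bor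
        unfold RankTwoA2.n
        rw [h3, h4]
        exact this
    exact hle hg'
  · intro g hg hgc
    have h5 := s2 ⟨hg, hgc⟩
    refine (sup_le ?_ ?_ : (Gam xp xm xp' xm' ⊓ St K c) ⊔ (Gam yp ym yp' ym' ⊓ St K c) ≤ _) h5
    · rintro g ⟨h6, h7⟩
      exact Subgroup.subset_closure (Or.inl ⟨h6, h7⟩)
    · rintro g ⟨h6, h7⟩
      exact Subgroup.subset_closure (Or.inr ⟨h6, h7⟩)

end Edge

/-- The flip of an edge. -/
theorem Edge3.symm {Y : Type*} [Group Y] {xp xm yp ym : F → Y} (h : Edge3 xp xm yp ym) : Edge3 yp ym xp xm := by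
  obtain ⟨x, hx, h1, h2, h3, h4⟩ := h
  refine ⟨_, KSideDefs.SteinRel.flip hx, ?_, ?_, ?_, ?_⟩
  · funext t; rw [← h3]; simp [sg3]
  · funext t; rw [← h4]; simp [sg3]
  · funext t; rw [← h1]; simp [sg3]
  · funext t; rw [← h2]; simp [sg3]

theorem Comm4.symm {Y : Type*} [Group Y] {X X' : Type*} {xp xm : X → Y} {yp ym : X' → Y}
    (h : Comm4 xp xm yp ym) : Comm4 yp ym xp xm := by
  intro s t
  obtain ⟨a1, a2, a3, a4⟩ := h t s
  exact ⟨a1.symm, a3.symm, a2.symm, a4.symm⟩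

section Main

variable {n : ℕ} {M : CoxeterMatrix (Fin n)} {cs : CoxeterSystem M W} {adj : Fin n → Fin n → Prop}

/-- The subgroup generated by the pairs of root elements. -/
def DD (P : SL A F n adj) (Q : SL K F n adj) : Subgroup (A × K) :=
  ⨆ i, Gam (P.xp i) (P.xm i) (Q.xp i) (Q.xm i)

theorem SL.edge {Y : Type*} [Group Y] (P : SL Y F n adj) {i j : Fin n} (h : adj i j ∨ adj j i) :
    Edge3 (P.xp i) (P.xm i) (P.xp j) (P.xm j) := by
  rcases h with h | h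
  · exact P.st3 i j h
  · exact Edge3.symm (P.st3 j i h)

/-- Generators of two commuting rank one groups. -/
theorem Gam_comm {X X' : Type*} {xp xm : X → A} {yp ym : X' → A} {xp' xm' : X → K} {yp' ym' : X' → K}
    (h : Comm4 xp xm yp ym) (h' : Comm4 xp' xm' yp' ym') :
    ∀ a ∈ Gam xp xm xp' xm', ∀ b ∈ Gam yp ym yp' ym', a * b = b * a := by
  have hp := h.prod h'
  have h1 : Gam yp ym yp' ym' ≤ Subgroup.centralizer (Gam xp xm xp' xm' : Set (A × K)) := by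
    unfold AssembleBase.Gam
    rw [Subgroup.centralizer_closure, Subgroup.closure_le]
    rintro b hb
    rw [SetLike.mem_coe, Subgroup.mem_centralizer_iff]
    rintro a ha
    rcases ha with ⟨s, rfl⟩ | ⟨s, rfl⟩ <;> rcases hb with ⟨t, rfl⟩ | ⟨t, rfl⟩
    · exact (hp s t).1.eq
    · exact (hp s t).2.1.eq
    · exact (hp s t).2.2.1.eq
    · exact (hp s t).2.2.2.eq
  intro a ha b hb
  exact Subgroup.mem_centralizer_iff.1 (h1 hb) a ha

/-- **Layer L1**: the graph lemma for simply laced packages. -/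
theorem stab_le [Finite W] {Δ : Bldg cs C} (hth : Δ.Thick) (iso : ∀ (a : A) x y, Δ.δ (a • x) (a • y) = Δ.δ x y)
    (hnb : ∀ i, ∃ j, adj i j ∨ adj j i)
    (P : SL A F n adj) (c : C) (ci : Fin n → C) (act : ∀ i, NodeAct Δ c i (ci i) (P.xp i) (P.xm i))
    (Q : SL K F n adj) (Bor : Subgroup K) (hxp : ∀ i t, Q.xp i t ∈ Bor)
    (hhh : ∀ i t, t ≠ 0 → hh (Q.xp i) (Q.xm i) t ∈ Bor) :
    ∀ g ∈ DD P Q, g.1 • c = c → g.2 ∈ Bor := by
  have hinj : Function.Injective cs.simple := Cfsg.Agent.Tits.Ext.simple_injective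
  have hpan : ∀ i, ∀ g ∈ Gam (P.xp i) (P.xm i) (Q.xp i) (Q.xm i), g.1 • c ∈ Δ.Pan i c := fun i =>
    pan_Gam iso (act i) _ _
  have hedge : ∀ i j, (adj i j ∨ adj j i) → _ := fun i j hij =>
    edge_pack hth iso (act i) (act j) (SL.edge P hij) (SL.edge Q hij) Bor (hxp i) (hxp j) (hhh i) (hhh j)
  -- the swap
  have hswap : ∀ i, ∃ m ∈ Gam (P.xp i) (P.xm i) (Q.xp i) (Q.xm i), m.1 • c = ci i := by
    intro i
    obtain ⟨j, hij⟩ := hnb i
    obtain ⟨x, hx, h1, h2, h3, h4⟩ := (SL.edge P hij).prod (SL.edge Q hij)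
    have a1 : NodeAct Δ c i (ci i) (fun t => (x 0 1 t).1) (fun t => (x 1 0 t).1) := by rw [h1, h2]; exact act i
    refine ⟨RankTwoA2.n x 0 1 1, ?_, n_smul hth iso hx (by decide) a1 one_ne_zero⟩
    rw [← Gam_eq h1 h2]
    exact RankTwoA2.n_mem_Gam 0 1 1
  refine gu_extra Δ c iso Bor (fun i => Gam (P.xp i) (P.xm i) (Q.xp i) (Q.xm i)) hpan ?_ ∅
    (fun g hg => absurd hg (Set.notMem_empty g)) ?_ ?_
  · intro i
    obtain ⟨m, hm, hmc⟩ := hswap i
    exact trans_Gam (act i) _ _ hm hmc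
  · intro i g hg hgc
    obtain ⟨j, hij⟩ := hnb i
    exact (hedge i j hij).1 g (Subgroup.mem_sup_left hg) hgc
  · intro i j hij g hg hgc
    rw [Set.union_empty]
    by_cases hadj : adj i j ∨ adj j i
    · refine (Subgroup.closure_mono ?_) ((hedge i j hadj).2 g hg hgc)
      rintro g (⟨h1, h2⟩ | ⟨h1, h2⟩)
      · exact ⟨i, h1, h2⟩
      · exact ⟨j, h1, h2⟩
    · rw [not_or] at hadj
      exact comm_stab (Γi := fun i => Gam (P.xp i) (P.xm i) (Q.xp i) (Q.xm i)) hpan (hinj.ne hij)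
        (Gam_comm (P.comm i j hij hadj.1 hadj.2) (Q.comm i j hij hadj.1 hadj.2)) hg hgc

/-- The package of `SLData`. -/
def ofData (Q : SLData K F n adj) : SL K F n adj where
  xp := Q.xp
  xm := Q.xm
  st3 := Q.st3
  comm := Q.comm

theorem map_fst_DD (P : SL A F n adj) (Q : SL K F n adj)
    (hgen : Subgroup.closure {g : A | ∃ i t, g = P.xp i t ∨ g = P.xm i t} = ⊤) :
    (DD P Q).map (MonoidHom.fst A K) = ⊤ := by
  rw [eq_top_iff, ← hgen, Subgroup.closure_le]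
  rintro g ⟨i, t, rfl | rfl⟩
  · exact ⟨(P.xp i t, Q.xp i t), (le_iSup (fun i => Gam (P.xp i) (P.xm i) (Q.xp i) (Q.xm i)) i) (Gam.pos t), rfl⟩
  · exact ⟨(P.xm i t, Q.xm i t), (le_iSup (fun i => Gam (P.xp i) (P.xm i) (Q.xp i) (Q.xm i)) i) (Gam.neg t), rfl⟩

theorem map_snd_DD (P : SL A F n adj) (Q : SL K F n adj)
    (hgen : Subgroup.closure {g : K | ∃ i t, g = Q.xp i t ∨ g = Q.xm i t} = ⊤) :
    (DD P Q).map (MonoidHom.snd A K) = ⊤ := by
  rw [eq_top_iff, ← hgen, Subgroup.closure_le]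
  rintro g ⟨i, t, rfl | rfl⟩
  · exact ⟨(P.xp i t, Q.xp i t), (le_iSup (fun i => Gam (P.xp i) (P.xm i) (Q.xp i) (Q.xm i)) i) (Gam.pos t), rfl⟩
  · exact ⟨(P.xm i t, Q.xm i t), (le_iSup (fun i => Gam (P.xp i) (P.xm i) (Q.xp i) (Q.xm i)) i) (Gam.neg t), rfl⟩

/-- **Layer L2**, both groups simple. -/
theorem nonempty_mulEquiv_of_simple [Finite W] {Δ : Bldg cs C} (hth : Δ.Thick)
    (iso : ∀ (a : A) x y, Δ.δ (a • x) (a • y) = Δ.δ x y) (hnb : ∀ i, ∃ j, adj i j ∨ adj j i)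
    [IsSimpleGroup A] [IsSimpleGroup K] (P : GSL Δ A F adj) (Q : SLData K F n adj) :
    Nonempty (A ≃* K) :=
  GUProd.nonempty_mulEquiv (DD P.toSL (ofData Q)) P.c Q.Bor Q.Bor_ne (map_fst_DD _ _ P.gen)
    (map_snd_DD _ _ Q.gen) (stab_le hth iso hnb P.toSL P.c P.ci P.act (ofData Q) Q.Bor Q.xp_mem Q.hh_mem)

/-- **Layer L2**, `A` strongly transitive. -/
theorem nonempty_mulEquiv [Finite W] {Δ : Bldg cs C} (hth : Δ.Thick) (hA : Δ.StrongAct A)
    (hM : NormalTrans.Conn M) (hnb : ∀ i, ∃ j, adj i j ∨ adj j i)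
    [IsSimpleGroup K] (P : GSL Δ A F adj) (Q : SLData K F n adj) :
    Nonempty (A ≃* K) :=
  NormalTrans.mulEquiv_of_graph hth hA hM (DD P.toSL (ofData Q)) P.c Q.Bor Q.Bor_ne
    (map_fst_DD _ _ P.gen) (map_snd_DD _ _ Q.gen)
    (stab_le hth hA.iso hnb P.toSL P.c P.ci P.act (ofData Q) Q.Bor Q.xp_mem Q.hh_mem)

end Main

end Cfsg.Agent.TitsThree.AssembleSL
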