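import Cfsg.Agent.TitsThree.EndGen
import Cfsg.Agent.TitsThree.AssembleSL
/-!
S1143: the arithmetic hypotheses of the END theorem for simply laced types.
-/

set_option autoImplicit false

namespace Cfsg.Agent.TitsThree.EndSL

open Cfsg.Agent.Tits.Core Cfsg.Agent.Tits.Core.Bldg Cfsg.Agent.Tits.Exchange
open Cfsg.Agent.Tits
open Cfsg.Agent.Tits.MouDefs (rt)
open Cfsg.Agent.Tits.MouOut
open Cfsg.Agent.TitsThree Cfsg.Agent.TitsThree.Hua Cfsg.Agent.TitsThree.Pack
open Cfsg.Agent.TitsThree.EndGen Cfsg.Agent.TitsThree.AssembleBase Cfsg.Agent.AGraded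
open MulAction

variable {n : ℕ} {M : CoxeterMatrix (Fin n)} {W : Type*} [Group W] {cs : CoxeterSystem M W}
variable {C A : Type*} [Group A] [MulAction A C] {Δ : Bldg cs C}
variable {σ : W → C} {U : Set W → Subgroup A} (H : Sys Δ A σ U)
variable {F : Type*} [Field F] {adj : Fin n → Fin n → Prop}

/-- The torus generated by the `h_i(t)`. -/
def TT (P : SL A F n adj) : Subgroup A :=
  Subgroup.closure {g | ∃ i t, t ≠ 0 ∧ g = hh (P.xp i) (P.xm i) t}

theorem nn_mem_Lg {i : Fin n} {xp xm : F → A} (hp : ∀ t, xp t ∈ U (rt cs 1 i))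
    (hm : ∀ t, xm t ∈ U (rt cs (cs.simple i) i)) (t : F) : nn xp xm t ∈ Lg cs U i := by
  have h1 : U (rt cs 1 i) ≤ Lg cs U i := le_sup_left
  have h2 : U (rt cs (cs.simple i) i) ≤ Lg cs U i := le_sup_right
  exact mul_mem (mul_mem (h1 (hp t)) (h2 (hm _))) (h1 (hp t))

include H

/-- `n(t)` interchanges `σ 1` and `σ s_i`. -/
theorem nn_smul {i : Fin n} {xp xm : F → A} (par : SL2Par xp xm)
    (hp : Set.range xp = U (rt cs 1 i)) (hm : Set.range xm = U (rt cs (cs.simple i) i))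
    {t : F} (ht : t ≠ 0) :
    nn xp xm t • σ 1 = σ (cs.simple i) ∧ nn xp xm t • σ (cs.simple i) = σ 1 := by
  have hp1 : ∀ t, xp t ∈ U (rt cs 1 i) := fun t => (hp ▸ ⟨t, rfl⟩ : xp t ∈ (U (rt cs 1 i) : Set A))
  have hm1 : ∀ t, xm t ∈ U (rt cs (cs.simple i) i) := fun t =>
    (hm ▸ ⟨t, rfl⟩ : xm t ∈ (U (rt cs (cs.simple i) i) : Set A))
  have act := nodeAct H hp hm
  have key : ∀ t, t ≠ 0 → nn xp xm t • σ 1 = σ (cs.simple i) := by
    intro t ht
    refine swap_smul H.thick act (H.pan (nn_mem_Lg hp1 hm1 t)) fun s => ?_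
    refine ⟨-(t * t * s), ?_⟩
    rw [par.conjp t ht]
    congr 1
    field_simp
  refine ⟨key t ht, ?_⟩
  have h1 := key (-t) (neg_ne_zero.2 ht)
  have h2 : nn xp xm (-t) = (nn xp xm t)⁻¹ := by
    unfold nn
    rw [inv_neg, par.negp, neg_neg, par.negm]
    group
  rw [h2, inv_smul_eq_iff] at h1
  exact h1.symm

/-- The `h(t)` lie in `A_{c,d}`. -/
theorem hh_mem_tor [Finite W] {i : Fin n} {xp xm : F → A} (par : SL2Par xp xm)
    (hp : Set.range xp = U (rt cs 1 i)) (hm : Set.range xm = U (rt cs (cs.simple i) i))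
    {t : F} (ht : t ≠ 0) : hh xp xm t ∈ Tor cs A σ := by
  have hp1 : ∀ t, xp t ∈ U (rt cs 1 i) := fun t => (hp ▸ ⟨t, rfl⟩ : xp t ∈ (U (rt cs 1 i) : Set A))
  have hm1 : ∀ t, xm t ∈ U (rt cs (cs.simple i) i) := fun t =>
    (hm ▸ ⟨t, rfl⟩ : xm t ∈ (U (rt cs (cs.simple i) i) : Set A))
  obtain ⟨a1, a2⟩ := nn_smul H par hp hm ht
  obtain ⟨b1, b2⟩ := nn_smul H par hp hm (one_ne_zero (α := F))
  refine mem_tor_of_Lg H (mul_mem (nn_mem_Lg hp1 hm1 t) (inv_mem (nn_mem_Lg hp1 hm1 1))) ?_ ?_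
  · rw [hh, mul_smul, inv_smul_eq_iff.2 b2.symm, a2]
  · rw [hh, mul_smul, inv_smul_eq_iff.2 b1.symm, a1]

variable (P : SL A F n adj) (par : ∀ i, SL2Par (P.xp i) (P.xm i))
  (hp : ∀ i, Set.range (P.xp i) = U (rt cs 1 i))
  (hm : ∀ i, Set.range (P.xm i) = U (rt cs (cs.simple i) i))

include par hp hm

theorem TT_le_tor [Finite W] : TT P ≤ Tor cs A σ := by
  rw [TT, Subgroup.closure_le]
  rintro g ⟨i, t, ht, rfl⟩
  exact hh_mem_tor H (par i) (hp i) (hm i) ht

omit H hp hm in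
theorem TT_le_Lin (j : Fin n) : TT P ≤ Lin (P.xp j) := by
  rw [TT, Subgroup.closure_le]
  rintro g ⟨i, t, ht, rfl⟩
  by_cases hij : i = j
  · subst hij
    exact hh_mem_Lin_self (par i) ht
  by_cases hadj : adj i j ∨ adj j i
  · obtain ⟨x, hx, h1, h2, h3, -⟩ := AssembleSL.SL.edge P hadj
    have := hh_mem_Lin_edge hx ht
    rwa [h1, h2, h3] at this
  · rw [not_or] at hadj
    have hc := P.comm i j hij hadj.1 hadj.2
    refine mem_Lin_of_commute fun s => ?_
    have h1 : ∀ t, nn (P.xp i) (P.xm i) t ∈ Subgroup.centralizer {P.xp j s} := by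
      intro t
      have e1 : ∀ t, P.xp i t ∈ Subgroup.centralizer {P.xp j s} := fun t => by
        rw [Subgroup.mem_centralizer_singleton_iff]
        exact (hc t s).1.eq
      have e2 : ∀ t, P.xm i t ∈ Subgroup.centralizer {P.xp j s} := fun t => by
        rw [Subgroup.mem_centralizer_singleton_iff]
        exact (hc t s).2.2.1.eq
      exact mul_mem (mul_mem (e1 _) (e2 _)) (e1 _)
    have h2 : hh (P.xp i) (P.xm i) t ∈ Subgroup.centralizer {P.xp j s} :=
      mul_mem (h1 _) (inv_mem (h1 _))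
    rw [Subgroup.mem_centralizer_singleton_iff] at h2
    exact h2

/-- `A_{c,d} ⊓ G' ≤ T`. -/
theorem tor_inf_le_TT [Finite W] (hnb : ∀ i, ∃ j, adj i j ∨ adj j i) :
    Tor cs A σ ⊓ Gg cs U ≤ TT P := by
  refine tor_inf_le H (TT_le_tor H P par hp hm) fun g hg hg1 => ?_
  have hp1 : ∀ i t, P.xp i t ∈ U (rt cs 1 i) := fun i t =>
    (hp i ▸ ⟨t, rfl⟩ : P.xp i t ∈ (U (rt cs 1 i) : Set A))
  have hdiag : Gg cs U ≤ (AssembleSL.DD P P).comap ((MonoidHom.id A).prod (MonoidHom.id A)) := by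
    rw [Gg]
    refine iSup_le fun i => ?_
    have hle := le_iSup (fun i => Gam (P.xp i) (P.xm i) (P.xp i) (P.xm i)) i
    rw [Lg]
    refine sup_le ?_ ?_
    · intro g hg
      have hg' : g ∈ Set.range (P.xp i) := hp i ▸ hg
      obtain ⟨t, rfl⟩ := hg'
      exact hle (Gam.pos t)
    · intro g hg
      have hg' : g ∈ Set.range (P.xm i) := hm i ▸ hg
      obtain ⟨t, rfl⟩ := hg'
      exact hle (Gam.neg t)
  exact AssembleSL.stab_le H.thick H.iso hnb P (σ 1) (fun i => σ (cs.simple i))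
    (fun i => nodeAct H (hp i) (hm i)) P (Up cs U ⊔ TT P)
    (fun i t => Subgroup.mem_sup_left (H.rt_le_Up (self_mem_rt 1 i) (hp1 i t)))
    (fun i t ht => Subgroup.mem_sup_right (Subgroup.subset_closure ⟨i, t, ht, rfl⟩))
    (g, g) (hdiag hg) hg1

/-- **The arithmetic hypotheses for simply laced types.** -/
theorem main [Finite W] [Finite A] [Finite F] {p : ℕ} [hpr : Fact p.Prime] [CharP F p]
    (hnb : ∀ i, ∃ j, adj i j ∨ adj j i) :
    Group.IsSolvable ↥(stabilizer A (σ 1) ⊓ stabilizer A (σ (w0 cs))) ∧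
    (Nat.card ↥(stabilizer A (σ 1) ⊓ stabilizer A (σ (w0 cs)) ⊓ Gg cs U)).Coprime p ∧
    ∀ i, IsPGroup p (U (rt cs 1 i)) := by
  refine ⟨?_, ?_, fun i => ?_⟩
  · have h1 := fun i => exists_hom_solvable H (par i) (hp i) (hm i)
    choose f hf using h1
    exact tor_solvable H (Q := fun _ => GL1 F) (fun _ => isSolvable_GL1) f hf
  · refine tor_coprime H (S := Tor cs A σ ⊓ Gg cs U) inf_le_left fun s hs ho i u hu => ?_
    have h1 := tor_inf_le_TT H P par hp hm hnb hs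
    have hu' : u ∈ Set.range (P.xp i) := hp i ▸ hu
    obtain ⟨t, rfl⟩ := hu'
    exact commute_of_mem_Lin (p := p) (par i).injp (TT_le_Lin P par i h1) ho t
  · rintro ⟨u, hu⟩
    have hu' : u ∈ Set.range (P.xp i) := hp i ▸ hu
    obtain ⟨t, rfl⟩ := hu'
    refine ⟨1, Subtype.ext ?_⟩
    have h1 : ∀ k : ℕ, (P.xp i t) ^ k = P.xp i (k * t) := by
      intro k
      induction k with
      | zero => rw [pow_zero, Nat.cast_zero, zero_mul, (par i).zerop]
      | succ k ih => rw [pow_succ, ih, ← (par i).addp]; congr 1; push_cast; ring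
    change (P.xp i t) ^ (p ^ 1) = 1
    rw [pow_one, h1, CharP.cast_eq_zero, zero_mul, (par i).zerop]

end Cfsg.Agent.TitsThree.EndSL
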