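import Cfsg.Agent.TitsThree.EndFF
import Cfsg.Agent.TitsThree.EndSL
import Cfsg.Agent.TitsThree.AssembleFF

/-!
# `A_{c,d} ⊓ G' ≤ T` for type `F₄` (S1143)
-/

set_option autoImplicit false

namespace Cfsg.Agent.TitsThree.EndFFTor

open Cfsg.Agent.Tits.Core Cfsg.Agent.Tits.Core.Bldg Cfsg.Agent.Tits
open Cfsg.Agent.Tits.MouDefs (rt Aut)
open Cfsg.Agent.Tits.MouOut
open Cfsg.Agent.TitsThree Cfsg.Agent.TitsThree.Pack Cfsg.Agent.TitsThree.B2Pkg
open Cfsg.Agent.TitsThree.Hua Cfsg.Agent.TitsThree.EndGen Cfsg.Agent.TitsThree.TorusAct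
open Cfsg.Agent.TitsThree.EndRange Cfsg.Agent.TitsThree.EndFF

section General

variable {I : Type*} {M : CoxeterMatrix I} {W : Type*} [Group W] {cs : CoxeterSystem M W}
variable {C A : Type*} [Group A] [MulAction A C] {Δ : Bldg cs C}
variable {σ : W → C} {U : Set W → Subgroup A} (H : Sys Δ A σ U)

include H in
/-- An element of `L_j` interchanging `σ 1` and `σ s_j` acts on the apartment as `s_j`. -/
theorem act_of_swap [Finite W] {j : I} {n : A} (hn : n ∈ Lg cs U j) (h1 : n • σ 1 = σ (cs.simple j))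
    (h2 : n • σ (cs.simple j) = σ 1) (v : W) : n • σ v = σ (cs.simple j * v) := by
  obtain ⟨m, hm, hmv⟩ := H.weyl j
  have h3 : m⁻¹ * n ∈ Tor cs A σ := by
    refine mem_tor_of_Lg H (mul_mem (inv_mem hm) hn) ?_ ?_
    · rw [mul_smul, h1, inv_smul_eq_iff, hmv, mul_one]
    · rw [mul_smul, h2, inv_smul_eq_iff, hmv, cs.simple_mul_simple_self]
  have h4 := tor_fix H h3 v
  rw [mul_smul, inv_smul_eq_iff, hmv] at h4
  exact h4

/-- `1` lies in the root attached to `s_j`, `i ≠ j`. -/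
theorem one_mem_rt [Finite W] [Finite I] {i j : I} (hij : i ≠ j) :
    (1 : W) ∈ rt cs (cs.simple j) i := by
  rw [mem_rt, mul_one, cs.inv_simple, cs.length_simple]
  rcases cs.length_simple_mul (cs.simple j) i with h | h
  · rw [h, cs.length_simple]; exact Nat.lt_succ_self 1
  · rw [cs.length_simple] at h
    have h1 : cs.length (cs.simple i * cs.simple j) = 0 := by omega
    rw [cs.length_eq_zero_iff, ← cs.inv_simple j, mul_inv_eq_one] at h1
    exact absurd (Cfsg.Agent.Tits.Ext.simple_injective h1) hij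

include H in
/-- The conjugates of `U_{α_i}` under such an element are positive. -/
theorem conj_mem_Up [Finite W] [Finite I] {i j : I} (hij : i ≠ j) {n : A} (hn : n ∈ Lg cs U j)
    (h1 : n • σ 1 = σ (cs.simple j)) (h2 : n • σ (cs.simple j) = σ 1) {g : A}
    (hg : g ∈ U (rt cs 1 i)) : n * g * n⁻¹ ∈ Up cs U := by
  have h3 := H.conj (act_of_swap H hn h1 h2) hg
  rw [mul_one] at h3
  exact H.rt_le_Up (one_mem_rt hij) h3

end General

variable {M : CoxeterMatrix (Fin 4)} {W : Type*} [Group W] {cs : CoxeterSystem M W}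
variable {C A : Type*} [Group A] [MulAction A C] {Δ : Bldg cs C}
variable {σ : W → C} {U : Set W → Subgroup A}
variable {F : Type*} [Field F] {V : Type*} [AddCommGroup V] [Module F V] {D : PQDatum F V}
variable {E : Type*} [Field E] {τ τ' : E → D.T}
variable {P : FF ↥(Gg cs U) D τ τ'}

/-- the group on which `G' = Gg cs U` acts: nodes -/
theorem nodeAct' (H : Sys Δ A σ U) {X : Type*} {i : Fin 4} {xp xm : X → ↥(Gg cs U)}
    (hr : NodeRange U i xp xm) : NodeAct Δ (σ 1) i (σ (cs.simple i)) xp xm := by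
  have h := nodeAct H hr.1 hr.2
  exact ⟨h.mem, h.ne, h.fix, h.fix', h.trans, h.trans'⟩

theorem Lg_le_map {i : Fin 4} {X : Type*} {xp xm : X → ↥(Gg cs U)} (hr : NodeRange U i xp xm)
    {Q : Subgroup ↥(Gg cs U)} (h1 : ∀ t, xp t ∈ Q) (h2 : ∀ t, xm t ∈ Q) :
    Lg cs U i ≤ Q.map (Gg cs U).subtype := by
  rw [Lg]
  refine sup_le ?_ ?_
  · intro g hg
    obtain ⟨t, rfl⟩ := hr.exists_eq hg
    exact ⟨_, h1 t, rfl⟩
  · intro g hg
    obtain ⟨t, rfl⟩ := hr.exists_eq' hg
    exact ⟨_, h2 t, rfl⟩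

/-- every element of `G'` is diagonal in the graph -/
theorem diag_mem (R : RangesFF P) (g : ↥(Gg cs U)) : (g, g) ∈ AssembleFF.graph P P := by
  set Q : Subgroup ↥(Gg cs U) := (AssembleFF.graph P P).comap
    ((MonoidHom.id _).prod (MonoidHom.id _)) with hQ
  have key : Gg cs U ≤ Q.map (Gg cs U).subtype := by
    conv_lhs => rw [Gg]
    refine iSup_le fun i => ?_
    fin_cases i
    · exact Lg_le_map R.r0 (fun t => Subgroup.subset_closure
        (Or.inl (Or.inl (Or.inl (Or.inl (Or.inl (Or.inl (Or.inl ⟨t, rfl⟩))))))))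
        (fun t => Subgroup.subset_closure
        (Or.inl (Or.inl (Or.inl (Or.inl (Or.inl (Or.inl (Or.inr ⟨t, rfl⟩))))))))
    · exact Lg_le_map R.r1 (fun t => Subgroup.subset_closure
        (Or.inl (Or.inl (Or.inl (Or.inl (Or.inl (Or.inr ⟨t, rfl⟩)))))))
        (fun t => Subgroup.subset_closure
        (Or.inl (Or.inl (Or.inl (Or.inl (Or.inr ⟨t, rfl⟩))))))
    · exact Lg_le_map R.r2 (fun t => Subgroup.subset_closure
        (Or.inl (Or.inl (Or.inl (Or.inr ⟨t, rfl⟩)))))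
        (fun t => Subgroup.subset_closure
        (Or.inl (Or.inl (Or.inr ⟨t, rfl⟩))))
    · exact Lg_le_map R.r3 (fun t => Subgroup.subset_closure
        (Or.inl (Or.inr ⟨t, rfl⟩)))
        (fun t => Subgroup.subset_closure
        (Or.inr ⟨t, rfl⟩))
  obtain ⟨g', hg', e⟩ := key g.2
  have : g' = g := Subtype.ext e
  rw [this] at hg'
  exact hg'

/-- SL₂ parametrisations of the nodes, in `A` -/
theorem sl2 (P : FF ↥(Gg cs U) D τ τ') (R : RangesFF P) :
    SL2Par (fun t => (P.x0 t : A)) (fun t => (P.y0 t : A)) ∧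
    SL2Par (fun t => (P.x1 t : A)) (fun t => (P.y1 t : A)) ∧
    SL2Par (fun t => (P.x2 t : A)) (fun t => (P.y2 t : A)) ∧
    SL2Par (fun t => (P.x3 t : A)) (fun t => (P.y3 t : A)) := by
  obtain ⟨s0, s1⟩ := edge_sl2 P.e01 R.inj0
  obtain ⟨s2, s3⟩ := edge_sl2 P.e23 R.inj2
  have hf := Subgroup.subtype_injective (Gg cs U)
  exact ⟨sl2_map hf s0, sl2_map hf s1, sl2_map hf s2, sl2_map hf s3⟩

/-- `T ≤ A_{c,d}` -/
theorem torus_le [Finite W] (H : Sys Δ A σ U) (R : RangesFF P) :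
    (torusFF P).map (Gg cs U).subtype ≤ Tor cs A σ := by
  obtain ⟨s0, s1, s2, s3⟩ := sl2 P R
  rw [Subgroup.map_le_iff_le_comap, torusFF, Subgroup.closure_le]
  rintro g ((⟨t, ht, rfl⟩ | ⟨t, ht, rfl⟩) | (⟨t, ht, rfl⟩ | ⟨t, ht, rfl⟩))
  · exact EndSL.hh_mem_tor H s0 R.r0.1 R.r0.2 ht
  · exact EndSL.hh_mem_tor H s1 R.r1.1 R.r1.2 ht
  · exact EndSL.hh_mem_tor H s2 R.r2.1 R.r2.2 ht
  · exact EndSL.hh_mem_tor H s3 R.r3.1 R.r3.2 ht

/-- `y b ∈ U_+` -/
theorem y_mem [Finite W] (H : Sys Δ A σ U) (R : RangesFF P) (hτ : Function.Surjective τ)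
    (hτ' : Function.Surjective τ') (b : F) : (P.b2.y b : A) ∈ Up cs U := by
  obtain ⟨s0, s1, s2, s3⟩ := sl2 P R
  have hc := tau_c_ne P R.inj2 (one_ne_zero (α := E))
  have h1 := P.rel.nII_x (τ 1) hc ((D.ε * D.σ (τ 1).c)⁻¹ * b)
  have h2 : D.ε * D.σ (τ 1).c ≠ 0 := mul_ne_zero D.ε_ne (by simpa using hc)
  rw [mul_inv_cancel_left₀ h2, nII_eq P hτ hτ' R.inj2 one_ne_zero, P.hx] at h1
  have h3 := congrArg (Gg cs U).subtype h1
  have h4 : (P.b2.y b : A) = nn (fun t => (P.x2 t : A)) (fun t => (P.y2 t : A)) 1 *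
      (P.x1 ((D.ε * D.σ (τ 1).c)⁻¹ * b) : A) *
      (nn (fun t => (P.x2 t : A)) (fun t => (P.y2 t : A)) 1)⁻¹ := h3.symm
  rw [h4]
  obtain ⟨a1, a2⟩ := EndSL.nn_smul H s2 R.r2.1 R.r2.2 (one_ne_zero (α := E))
  exact conj_mem_Up H (i := 1) (j := 2) (by decide)
    (EndSL.nn_mem_Lg (fun t => R.r2.mem t) (fun t => R.r2.mem' t) 1) a1 a2 (R.r1.mem _)

/-- **`A_{c,d} ⊓ G' ≤ T`** -/
theorem tor_inf_le_torusFF [Finite W] (H : Sys Δ A σ U) (R : RangesFF P)
    (hτ : Function.Surjective τ) (hτ' : Function.Surjective τ') :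
    Tor cs A σ ⊓ Gg cs U ≤ (torusFF P).map (Gg cs U).subtype := by
  refine tor_inf_le H (torus_le H R) fun g hg hgc => ?_
  set T := (torusFF P).map (Gg cs U).subtype with hT
  have hUp : Up cs U ≤ Up cs U ⊔ T := le_sup_left
  have hTle : T ≤ Up cs U ⊔ T := le_sup_right
  have rp : ∀ {i : Fin 4} {u : A}, u ∈ U (rt cs 1 i) → u ∈ Up cs U := fun hu =>
    H.rt_le_Up (self_mem_rt 1 _) hu
  have tp : ∀ {h : ↥(Gg cs U)}, h ∈ torusFF P → (h : A) ∈ T := fun hh => ⟨_, hh, rfl⟩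
  have hmem : AssembleFF.Mem P ((Up cs U ⊔ T).comap (Gg cs U).subtype) :=
    { x0_mem := fun t => hUp (rp (R.r0.mem t))
      x1_mem := fun t => hUp (rp (R.r1.mem t))
      x2_mem := fun t => hUp (rp (R.r2.mem t))
      x3_mem := fun t => hUp (rp (R.r3.mem t))
      y_mem := fun b => hUp (y_mem H R hτ hτ' b)
      hh0_mem := fun t ht => hTle (tp (hh0_mem P ht))
      hh1_mem := fun t ht => hTle (tp (hh1_mem P ht))
      hh3_mem := fun t ht => hTle (tp (hh3_mem P ht))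
      nII_mem := fun p q hp hq => hTle (tp (nII_mem_torusFF P hτ hτ' R.inj2 hp hq)) }
  exact AssembleFF.stab_le (Δ := Δ) (A := ↥(Gg cs U)) (ci := fun i => σ (cs.simple i)) H.thick
    (fun a => H.iso (a : A)) hτ hτ' P (nodeAct' H R.r0) (nodeAct' H R.r1) (nodeAct' H R.r2)
    (nodeAct' H R.r3) (fun b => H.Up_fix (y_mem H R hτ hτ' b)) P hmem (p := (⟨g, hg⟩, ⟨g, hg⟩))
    (diag_mem R ⟨g, hg⟩) hgc

/-- **END for `F₄`**, without the hypothesis on the torus. -/
theorem solved [Finite W] {C : Type*} [Finite C] {Δ : Bldg cs C} {σ : W → C}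
    (H : Sys Δ (Aut Δ) σ (UU Δ σ)) {p : ℕ} [Fact p.Prime] [Finite F] [Finite E] [CharP F p]
    [CharP E p] {P : FF ↥(Gg cs (UU Δ σ)) D τ τ'} (R : RangesFF P) (hτ : Function.Surjective τ)
    (hτ' : Function.Surjective τ')
    (hK : IsSimpleGroup ↥(Gg cs (UU Δ σ)) → Top.LieConcl ↥(Gg cs (UU Δ σ))) : Top.Solved Δ :=
  EndFF.solved H (p := p) R hτ hτ' (tor_inf_le_torusFF H R hτ hτ') hK

/-- The package of `G'` with its action on the building. -/
noncomputable def gff [Finite W] (H : Sys Δ A σ U) (P : FF ↥(Gg cs U) D τ τ') (R : RangesFF P)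
    (hτ : Function.Surjective τ) (hτ' : Function.Surjective τ') : GFF Δ ↥(Gg cs U) D τ τ' :=
  { P with
    c := σ 1
    ci := fun i => σ (cs.simple i)
    a0 := nodeAct' H R.r0
    a1 := nodeAct' H R.r1
    a2 := nodeAct' H R.r2
    a3 := nodeAct' H R.r3
    y_fix := fun b => H.Up_fix (y_mem H R hτ hτ' b)
    gen := by
      rw [eq_top_iff]
      rintro ⟨g, hg⟩ -
      set Q : Subgroup ↥(Gg cs U) := Subgroup.closure (Set.range P.x0 ∪ Set.range P.y0 ∪
        Set.range P.x1 ∪ Set.range P.y1 ∪ Set.range P.x2 ∪ Set.range P.y2 ∪ Set.range P.x3 ∪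
        Set.range P.y3) with hQ
      have key : Gg cs U ≤ Q.map (Gg cs U).subtype := by
        conv_lhs => rw [Gg]
        refine iSup_le fun i => ?_
        fin_cases i
        · exact Lg_le_map R.r0 (fun t => Subgroup.subset_closure
            (Or.inl (Or.inl (Or.inl (Or.inl (Or.inl (Or.inl (Or.inl ⟨t, rfl⟩))))))))
            (fun t => Subgroup.subset_closure
            (Or.inl (Or.inl (Or.inl (Or.inl (Or.inl (Or.inl (Or.inr ⟨t, rfl⟩))))))))
        · exact Lg_le_map R.r1 (fun t => Subgroup.subset_closure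
            (Or.inl (Or.inl (Or.inl (Or.inl (Or.inl (Or.inr ⟨t, rfl⟩)))))))
            (fun t => Subgroup.subset_closure
            (Or.inl (Or.inl (Or.inl (Or.inl (Or.inr ⟨t, rfl⟩))))))
        · exact Lg_le_map R.r2 (fun t => Subgroup.subset_closure
            (Or.inl (Or.inl (Or.inl (Or.inr ⟨t, rfl⟩)))))
            (fun t => Subgroup.subset_closure
            (Or.inl (Or.inl (Or.inr ⟨t, rfl⟩))))
        · exact Lg_le_map R.r3 (fun t => Subgroup.subset_closure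
            (Or.inl (Or.inr ⟨t, rfl⟩)))
            (fun t => Subgroup.subset_closure
            (Or.inr ⟨t, rfl⟩))
      obtain ⟨g', hg', e⟩ := key hg
      have : g' = ⟨g, hg⟩ := Subtype.ext e
      rw [this] at hg'
      exact hg' }

/-- **END and identification for `F₄`**: what remains is a simple group `K` with `LieConcl` and the
same package. -/
theorem solved_of_K [Finite W] {C : Type*} [Finite C] {Δ : Bldg cs C} {σ : W → C}
    (H : Sys Δ (Aut Δ) σ (UU Δ σ)) {p : ℕ} [Fact p.Prime] [Finite F] [Finite E] [CharP F p]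
    [CharP E p] {P : FF ↥(Gg cs (UU Δ σ)) D τ τ'} (R : RangesFF P) (hτ : Function.Surjective τ)
    (hτ' : Function.Surjective τ') (hM : NormalTrans.Conn M) {K : Type*} [Group K]
    [IsSimpleGroup K] (hK : Top.LieConcl K) (k : KFF K D τ τ') : Top.Solved Δ := by
  refine solved H (p := p) R hτ hτ' fun _ => ?_
  obtain ⟨e⟩ := AssembleFF.nonempty_mulEquiv H.thick H.Gg_strongAct hM hτ hτ' (gff H P R hτ hτ') k
  exact Top.LieConcl.of_equiv e hK

end Cfsg.Agent.TitsThree.EndFFTor
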