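import Cfsg.Agent.TitsThree.Reindex
import Cfsg.Agent.TitsThree.EndFFTor

/-!
# Type `F₄` is solved (S1143)

`lieConcl_of_out`: identification of the group `G'` of a building of type `F₄`, given a model; `allSolved_of`: from the
two families of models (`F₄(q)`, `²E₆(q²)`) to `AllSolved cF`.
-/

set_option autoImplicit false

namespace Cfsg.Agent.TitsThree.SolvedFF

open Cfsg.Agent.Tits.Core Cfsg.Agent.Tits.Core.Bldg Cfsg.Agent.Tits Cfsg.Agent.Tits.MouOut
open Cfsg.Agent.Tits.MouDefs (rt Aut Chart)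
open Cfsg.Agent.LieRecognition.BNCox Cfsg.Agent.LieRecognition.CoxClass
open Cfsg.Agent.TitsThree Cfsg.Agent.TitsThree.Pack Cfsg.Agent.TitsThree.FFData
open Cfsg.Agent.TitsThree.F4Bond Cfsg.Agent.TitsThree.EndFF

/-- `F₄` is connected. -/
theorem conn_cF : NormalTrans.Conn cF := by
  have h01 : cF 0 1 ≠ 2 := by decide
  have h10 : cF 1 0 ≠ 2 := by decide
  have h12 : cF 1 2 ≠ 2 := by decide
  have h21 : cF 2 1 ≠ 2 := by decide
  have h23 : cF 2 3 ≠ 2 := by decide
  have h32 : cF 3 2 ≠ 2 := by decide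
  intro J hJ hJ'
  by_contra hcon
  push Not at hcon
  have st : ∀ {a b : Fin 4}, cF a b ≠ 2 → a ∈ J → b ∈ J := fun {a b} h ha => by
    by_contra hb
    exact h (hcon a ha b hb)
  apply hJ'.ne_empty
  have key : ∀ i : Fin 4, i ∈ J := by
    have k1 : (1 : Fin 4) ∈ J := by
      obtain ⟨a, ha⟩ := hJ
      fin_cases a
      · exact st h01 ha
      · exact ha
      · exact st h21 ha
      · exact st h21 (st h32 ha)
    intro i
    fin_cases i
    · exact st h10 k1
    · exact k1
    · exact st h12 k1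
    · exact st h23 (st h12 k1)
  ext i
  simp [key i]

/-- A model. -/
def HasModel {F E : Type} [Field F] [Field E] [Algebra F E] (P : ConjPair F E) : Prop :=
  ∃ (K : Type) (_ : Group K), IsSimpleGroup K ∧ Top.LieConcl K ∧ Nonempty (KFF K P.datum P.τ P.τ')

/-- A simple group with the package of `G'` is isomorphic to `G'`. -/
theorem nonempty_mulEquiv {W : Type*} [Group W] [Finite W] {C : Type*} [Finite C]
    {cs : CoxeterSystem cF W} {Δ : Bldg cs C} {σ : W → C} (hth : Δ.Thick) (hσ : Chart Δ σ)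
    {F E : Type*} [Field F] [Field E] [Algebra F E] {P : ConjPair F E} (h : OutP Δ σ P)
    {K : Type*} [Group K] [IsSimpleGroup K] (k : KFF K P.datum P.τ P.τ') :
    Nonempty (↥(Gg cs (UU Δ σ)) ≃* K) := by
  obtain ⟨Q, R⟩ := h
  have H := MouAll.sys MouAll.lab_F CombInst.diag_F hth hσ
  exact AssembleFF.nonempty_mulEquiv hth H.Gg_strongAct conn_cF P.τ_surj P.τ'_surj
    (EndFFTor.gff H Q R P.τ_surj P.τ'_surj) k

/-- `Solved Δ` from the G side and a model. -/
theorem solved_of_outP {W : Type*} [Group W] [Finite W] {C : Type*} [Finite C]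
    {cs : CoxeterSystem cF W} {Δ : Bldg cs C} {σ : W → C} (hth : Δ.Thick) (hσ : Chart Δ σ)
    {F E : Type} [Field F] [Finite F] [Field E] [Finite E] [Algebra F E] {P : ConjPair F E}
    (h : OutP Δ σ P) (hK : HasModel P) : Top.Solved Δ := by
  obtain ⟨Q, R⟩ := id h
  obtain ⟨K, i1, i2, hK1, ⟨k⟩⟩ := hK
  have H := MouAll.sys MouAll.lab_F CombInst.diag_F hth hσ
  obtain ⟨p, hp⟩ := CharP.exists F
  have : Fact p.Prime := ⟨CharP.char_is_prime F p⟩
  have : CharP E p := charP_of_injective_algebraMap (algebraMap F E).injective p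
  exact EndFFTor.solved_of_K H (p := p) R P.τ_surj P.τ'_surj conn_cF hK1 k

universe u

/-- **Type `F₄`**, from the models. -/
theorem allSolved_of (hF : ∀ (F : Type) [Field F] [Finite F], HasModel (ConjPair.triv F))
    (hE : ∀ (F E : Type) [Field F] [Finite F] [Field E] [Finite E] [Algebra F E]
      (P : ConjPair F E), (∃ t, P.conj t ≠ t) → HasModel P) : Top.AllSolved.{u} cF := by
  intro W C _ _ _ _ cs Δ hth
  obtain ⟨c⟩ := (inferInstance : Nonempty C)
  obtain ⟨d, hd⟩ := Opp.exists_opp Δ c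
  obtain ⟨σ, hσ, -, -⟩ := MouDefs.exists_chart hd 1
  refine Reindex.solved_F (fun cs Δ hth hσ h => ?_) hth hσ
  rcases h with ⟨F, i1, i2, h⟩ | ⟨F, E, i1, i2, i3, i4, i5, P, hP, h⟩
  · exact solved_of_outP hth hσ h (hF F)
  · exact solved_of_outP hth hσ h (hE F E P hP)

end Cfsg.Agent.TitsThree.SolvedFF
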