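import Cfsg.Agent.TitsThree.UFrame
import Cfsg.Agent.TitsThree.SiegelGen
import Cfsg.Agent.S0283

/-!
The unitary groups as Siegel groups: `HForm`, `PQ` for the Prelude hermitian form, Witt frames
(`N = 2m`, `N = 2m+1`), generation of `SU N F q` and `PSU N F q` by the simple root elements.
-/

set_option autoImplicit false

namespace Cfsg.Agent.TitsThree.KSideU

open Cfsg Cfsg.Agent.LieClassical.HermBasic Cfsg.Agent.LieClassical.HermSiegel
open Cfsg.Agent.LieClassical.HermGen
open Cfsg.Agent.TitsThree.Siegel Cfsg.Agent.TitsThree.SiegelGen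

variable {F : Type*} [Field F] [Fintype F] {q N : ℕ}

/-- The Prelude hermitian form as an `HForm` with `ε = 1`. -/
def HU (hF : Fintype.card F = q ^ 2) (N : ℕ) : HForm F (Fin N → F) where
  σ := conj hF
  σσ x := pow_q_pow_q hF x
  ε := 1
  ε_mul := by rw [map_one, one_mul]
  h := hermForm N F q
  add_left := herm_add_left
  smul_left := herm_smul_left
  swap v w := by rw [one_mul, conj_apply]; exact herm_swap hF v w

theorem HU_h (hF : Fintype.card F = q ^ 2) (v w : Fin N → F) :
    (HU hF N).h v w = hermForm N F q v w := rfl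
theorem HU_σ (hF : Fintype.card F = q ^ 2) (x : F) : (HU hF N).σ x = x ^ q := rfl
theorem HU_ε (hF : Fintype.card F = q ^ 2) : (HU hF N).ε = 1 := rfl

/-- admissible pairs -/
def PU (hF : Fintype.card F = q ^ 2) (N : ℕ) : PQ (HU hF N) where
  ok w c := c + c ^ q = -hermForm N F q w w
  ex w := exists_trace_eq hF (by rw [neg_pow_q hF, herm_self_pow hF])
  zero := by rw [zero_pow_q hF, herm_zero_left]; simp
  rel {w c} h := by rw [HU_ε, one_mul, HU_σ, HU_h]; exact h
  add {w c w' c'} h h' := by
    rw [HU_ε, HU_h, inv_one, one_mul, sub_pow_q hF, add_pow_q hF, ← herm_swap hF,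
      herm_add_left, herm_add_right hF, herm_add_right hF]
    linear_combination h + h'
  smul {w c} a h := by
    rw [HU_σ, herm_smul_left, herm_smul_right, mul_pow, norm_pow_q hF]
    linear_combination (a * a ^ q) * h
  lam {w c} m h := by
    rw [HU_ε, HU_σ, inv_one, one_mul, sub_pow_q hF, add_pow_q hF, pow_q_pow_q hF]
    linear_combination h

theorem ok_iff (hF : Fintype.card F = q ^ 2) {w : Fin N → F} {c : F} :
    (PU hF N).ok w c ↔ c + c ^ q = -hermForm N F q w w := Iff.rfl

theorem sing_iff (hF : Fintype.card F = q ^ 2) {u : Fin N → F} :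
    (PU hF N).ok u 0 ↔ hermForm N F q u u = 0 := by
  rw [ok_iff, zero_pow_q hF, add_zero, zero_eq_neg]

theorem isSiegel_of (hF : Fintype.card F = q ^ 2) {u w : Fin N → F} {c : F}
    (huu : (HU hF N).h u u = 0) (huw : (HU hF N).h u w = 0) (hok : (PU hF N).ok w c) :
    IsSiegel q u w c :=
  ⟨huu, (HU hF N).orth_symm huw, by rw [ok_iff] at hok; rw [hok, neg_add_cancel]⟩

/-- The action on column vectors, as a homomorphism. -/
noncomputable def toLin (F : Type*) [Field F] (q N : ℕ) : SU N F q →* ((Fin N → F) ≃ₗ[F] (Fin N → F)) where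
  toFun g :=
    { toFun := act g
      invFun := act g⁻¹
      map_add' := act_add g
      map_smul' := fun c v => act_smul g c v
      left_inv := act_inv_act g
      right_inv := act_act_inv g }
  map_one' := by ext1 v; exact act_one v
  map_mul' g h := by ext1 v; exact act_mul g h v

theorem toLin_apply (g : SU N F q) (v : Fin N → F) : toLin F q N g v = act g v := rfl

theorem toLin_injective : Function.Injective (toLin F q N) := fun g h hgh =>
  ext_act fun v => by rw [← toLin_apply, ← toLin_apply, hgh]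

theorem toLin_siegel (hF : Fintype.card F = q ^ 2) {u w : Fin N → F} {c : F}
    (h : IsSiegel q u w c) (huu : (HU hF N).h u u = 0) (huw : (HU hF N).h u w = 0) :
    toLin F q N (siegel hF u w c h) = (HU hF N).sie u w c huu huw := by
  ext1 v
  rw [toLin_apply, act_siegel, HForm.sie_apply, HU_h, HU_h, HU_ε, inv_one, one_mul]
  module

/-- A subgroup of `SU` whose image contains all Siegel elements is everything. -/
theorem eq_top_of_sie (hF : Fintype.card F = q ^ 2) (hN : 3 ≤ N) (K : Subgroup (SU N F q))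
    (h : ∀ (u w : Fin N → F) (c : F) (huu : (HU hF N).h u u = 0) (huw : (HU hF N).h u w = 0),
      (PU hF N).ok w c → (HU hF N).sie u w c huu huw ∈ K.map (toLin F q N)) : K = ⊤ := by
  rw [← top_le_iff, ← siegelGroup_eq_top hF hN, siegelGroup, Subgroup.closure_le]
  rintro g ⟨u, w, c, hs, rfl⟩
  have huu : (HU hF N).h u u = 0 := hs.iso
  have huw : (HU hF N).h u w = 0 := hs.orth' hF
  obtain ⟨g', hg', he⟩ := h u w c huu huw (by rw [ok_iff]; linear_combination hs.tr)
  rw [← toLin_siegel hF hs] at he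
  exact (toLin_injective he) ▸ hg'

section Frames

/-- The Witt frame in even dimension. -/
theorem exists_wframe_even (hF : Fintype.card F = q ^ 2) {m : ℕ} (hN : N = 2 * m) :
    ∃ W : WFrame (PU hF N) m, W.V0 = ⊥ := by
  obtain ⟨W, hW⟩ := UFrame.exists_frame_even hF hN
  refine ⟨⟨W.e, W.f, ⊥, W.ee, W.ff, W.ef, fun i j => by rw [HU_ε]; exact W.fe i j,
    fun i => (sing_iff hF).2 (W.ee i i), fun i => (sing_iff hF).2 (W.ff i i), ?_, ?_, ?_, ?_⟩, rfl⟩
  · intro w hw i
    rw [(Submodule.mem_bot F).1 hw]; exact HForm.zero_left _ _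
  · intro w hw i
    rw [(Submodule.mem_bot F).1 hw]; exact HForm.zero_left _ _
  · intro w hw _
    exact (Submodule.mem_bot F).1 hw
  · intro v
    have hv : v ∈ Submodule.span F (Set.range W.e ∪ Set.range W.f) := hW ▸ Submodule.mem_top
    rw [Submodule.span_union, Submodule.mem_sup] at hv
    obtain ⟨y, hy, z, hz, rfl⟩ := hv
    obtain ⟨a, rfl⟩ := (Submodule.mem_span_range_iff_exists_fun F).1 hy
    obtain ⟨b, rfl⟩ := (Submodule.mem_span_range_iff_exists_fun F).1 hz
    exact ⟨a, b, 0, Submodule.zero_mem _, (add_zero _).symm⟩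

/-- The Witt frame in odd dimension. -/
theorem exists_wframe_odd (hF : Fintype.card F = q ^ 2) {m : ℕ} (hN : N = 2 * m + 1) :
    ∃ (W : WFrame (PU hF N) m) (d : Fin N → F), hermForm N F q d d = 1 ∧
      W.V0 = Submodule.span F {d} := by
  obtain ⟨W, d, hdd, hde, hdf, hW⟩ := UFrame.exists_frame_odd hF hN
  refine ⟨⟨W.e, W.f, Submodule.span F {d}, W.ee, W.ff, W.ef,
    fun i j => by rw [HU_ε]; exact W.fe i j,
    fun i => (sing_iff hF).2 (W.ee i i), fun i => (sing_iff hF).2 (W.ff i i), ?_, ?_, ?_, ?_⟩,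
    d, hdd, rfl⟩
  · intro w hw i
    obtain ⟨a, rfl⟩ := Submodule.mem_span_singleton.1 hw
    rw [HForm.smul_left, HU_h, hde, mul_zero]
  · intro w hw i
    obtain ⟨a, rfl⟩ := Submodule.mem_span_singleton.1 hw
    rw [HForm.smul_left, HU_h, hdf, mul_zero]
  · intro w hw hs
    obtain ⟨a, rfl⟩ := Submodule.mem_span_singleton.1 hw
    rw [sing_iff, herm_smul_left, herm_smul_right, hdd, mul_one, norm_eq_zero hF] at hs
    rw [hs, zero_smul]
  · intro v
    have hv : v ∈ Submodule.span F (Set.range W.e ∪ Set.range W.f ∪ {d}) :=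
      hW ▸ Submodule.mem_top
    rw [Submodule.span_union, Submodule.mem_sup, Submodule.span_union] at hv
    obtain ⟨x, hx, w, hw, rfl⟩ := hv
    obtain ⟨y, hy, z, hz, rfl⟩ := Submodule.mem_sup.1 hx
    obtain ⟨a, rfl⟩ := (Submodule.mem_span_range_iff_exists_fun F).1 hy
    obtain ⟨b, rfl⟩ := (Submodule.mem_span_range_iff_exists_fun F).1 hz
    exact ⟨a, b, w, hw, rfl⟩

end Frames

/-- existence of a non trivial admissible pair `(0, c)` -/
theorem exists_ok_ne (hF : Fintype.card F = q ^ 2) : ∃ c : F, (PU hF N).ok 0 c ∧ c ≠ 0 := by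
  obtain ⟨c, hc, h⟩ := exists_trace_zero_ne hF
  exact ⟨c, by rw [ok_iff, h, herm_zero_left, neg_zero], hc⟩

/-- Generation of `SU` by the simple root elements of a Witt frame. -/
theorem generation (hF : Fintype.card F = q ^ 2) (hN : 3 ≤ N) {m : ℕ}
    (W : WFrame (PU hF N) m) (l : Fin m) (K : Subgroup (SU N F q))
    (h1 : ∀ i j : Fin m, i.val + 1 = j.val →
      Rt (HU hF N) (K.map (toLin F q N)) (W.e i) (W.f j) ∧
      Rt (HU hF N) (K.map (toLin F q N)) (W.e j) (W.f i))
    (h2 : Zt (PU hF N) (K.map (toLin F q N)) W.V0 (W.e l))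
    (h3 : Zt (PU hF N) (K.map (toLin F q N)) W.V0 (W.f l)) : K = ⊤ := by
  obtain ⟨c, hc, hc0⟩ := exists_ok_ne (N := N) hF
  have := W.contains_of_simple_C l h1 h2 h3 ⟨0, c, W.V0.zero_mem, hc, hc0⟩
  exact eq_top_of_sie hF hN K fun u w c huu huw hok =>
    this.all W ((sing_iff hF).2 huu) huu huw hok

end Cfsg.Agent.TitsThree.KSideU
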