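import Cfsg.Agent.TitsThree.B2Pkg
import Cfsg.Agent.TitsThree.KSideDefs
import Cfsg.Agent.TitsThree.Hua

/-!
# Consequences of the relation package of type `B₂`

`h : B2Rel m`, `p₀ : D.T` with `p₀.c ≠ 0`: all commutator relations between non-opposite root groups
(`x'_z₁`, `y_z₂'`, …), conjugation by `n_I(t) = nn m.x m.x' t` (`nn_x`, `nn_x'`, `nn_y`, `nn_y'`,
`nn_z₁`, `nn_z₂`, `nn_z₁'`, `nn_z₂'`), `sl2Par`, relations between the `n`'s (`nn_inv`, `nII_inv`, `nn_mid`,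
`nII_mid`, `nI_nn`, `nII_nII`, `hI_nII`, `hII_x`, `hII_x'`, `hII_nn`).
-/

set_option autoImplicit false

namespace Cfsg.Agent.TitsThree.B2Pkg

open Cfsg.Agent.TitsThree.Siegel
open scoped commutatorElement

variable {F : Type*} [Field F] {V : Type*} [AddCommGroup V] [Module F V]

namespace PQDatum

variable (D : PQDatum F V)

theorem σ_ne {a : F} (h : a ≠ 0) : D.σ a ≠ 0 := by
  simpa using h

theorem sc_one (p : D.T) : D.sc 1 p = p := by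
  ext <;> simp

theorem sc_sc (a b : F) (p : D.T) : D.sc a (D.sc b p) = D.sc (a * b) p := by
  ext
  · simp [smul_smul]
  · simp only [sc_c, map_mul]; ring

theorem sc_mul (a : F) (p q : D.T) : D.sc a (p * q) = D.sc a p * D.sc a q := by
  ext
  · simp
  · simp only [sc_c, T.mul_c, sc_w, D.smul_left, D.smul_right, D.σσ]; ring

theorem sc_T_one (a : F) : D.sc a (1 : D.T) = 1 := by
  ext <;> simp

theorem sc_inv (a : F) (p : D.T) : D.sc a p⁻¹ = (D.sc a p)⁻¹ := by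
  rw [eq_inv_iff_mul_eq_one, ← sc_mul, inv_mul_cancel, sc_T_one]

theorem sc_zero (p : D.T) : D.sc 0 p = 1 := by
  ext <;> simp

theorem sc_tr (a b c : F) : D.sc c (D.tr a b) = D.tr (c * a) (c * b) := by
  ext
  · simp
  · simp only [sc_c, tr_c, map_mul]; ring

theorem tr_add (a b b' : F) : D.tr a (b + b') = D.tr a b * D.tr a b' := by
  ext
  · simp
  · simp only [T.mul_c, tr_c, tr_w, D.zero_left, map_add]; ring

theorem refl_sc (p : D.T) (hp : p.c ≠ 0) (a : F) (q : D.T) :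
    D.refl p hp (D.sc a q) = D.sc a (D.refl p hp q) := by
  ext
  · simp only [refl_w, sc_w, D.smul_left, smul_add, smul_smul]
    congr 2; ring
  · simp

theorem refl_mul (p : D.T) (hp : p.c ≠ 0) (q r : D.T) :
    D.refl p hp (q * r) = D.refl p hp q * D.refl p hp r := by
  ext
  · simp only [refl_w, T.mul_w, D.add_left, mul_add, add_smul]
    abel
  · simp only [refl_c, refl_w, T.mul_c, D.add_left, D.add_right, D.smul_left, D.smul_right]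
    have h1 := p.rel
    have h2 : D.h p.w q.w = D.ε * D.σ (D.h q.w p.w) := D.swap _ _
    have h3 : D.σ p.c ≠ 0 := D.σ_ne hp
    have h4 : D.h p.w p.w = -(p.c + D.ε * D.σ p.c) := by rw [h1]; ring
    rw [h2, h4]
    simp only [map_mul, map_inv₀]
    field_simp
    ring

theorem h_refl (p : D.T) (hp : p.c ≠ 0) (q r : D.T) :
    D.h (D.refl p hp q).w (D.refl p hp r).w = D.h q.w r.w := by
  simp only [refl_w, D.add_left, D.add_right, D.smul_left, D.smul_right]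
  have h1 := p.rel
  have h2 : D.h p.w r.w = D.ε * D.σ (D.h r.w p.w) := D.swap _ _
  have h3 : D.σ p.c ≠ 0 := D.σ_ne hp
  have h4 : D.h p.w p.w = -(p.c + D.ε * D.σ p.c) := by rw [h1]; ring
  rw [h2, h4]
  simp only [map_mul, map_inv₀]
  field_simp
  ring

theorem inv_c_ne {p : D.T} (hp : p.c ≠ 0) : p⁻¹.c ≠ 0 := by
  rw [T.inv_c]
  exact mul_ne_zero D.ε_ne (D.σ_ne hp)

/-- The inverse of `refl`. -/
def unrefl (p : D.T) (hp : p.c ≠ 0) (q : D.T) : D.T := D.refl p⁻¹ (D.inv_c_ne hp) q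

theorem refl_unrefl (p : D.T) (hp : p.c ≠ 0) (q : D.T) :
    D.refl p hp (D.unrefl p hp q) = q := by
  ext
  · simp only [unrefl, refl_w, T.inv_w, T.inv_c, D.add_left, D.neg_left, D.neg_right,
      D.smul_left, smul_neg, add_assoc, add_eq_left]
    have h3 : D.σ p.c ≠ 0 := D.σ_ne hp
    have h4 : D.h p.w p.w = -(p.c + D.ε * D.σ p.c) := by rw [p.rel]; ring
    rw [h4, ← neg_smul, ← add_smul]
    convert zero_smul F p.w using 2
    have := D.ε_ne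
    field_simp
    ring
  · simp [unrefl]

theorem unrefl_c (p : D.T) (hp : p.c ≠ 0) (q : D.T) : (D.unrefl p hp q).c = q.c := by
  simp [unrefl]

theorem unrefl_sc (p : D.T) (hp : p.c ≠ 0) (a : F) (q : D.T) :
    D.unrefl p hp (D.sc a q) = D.sc a (D.unrefl p hp q) := D.refl_sc _ _ _ _

theorem refl_injective (p : D.T) (hp : p.c ≠ 0) : Function.Injective (D.refl p hp) := by
  intro q r e
  have h1 : D.refl p hp (q * r⁻¹) = 1 := by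
    have h2 : D.refl p hp 1 = 1 := by
      have h3 := D.refl_mul p hp 1 1
      rw [one_mul] at h3
      exact left_eq_mul.1 h3
    have h4 := D.refl_mul p hp r r⁻¹
    rw [mul_inv_cancel, h2] at h4
    rw [D.refl_mul, e, ← h4]
  have h5 : (q * r⁻¹).c = 0 := by
    have := congrArg T.c h1
    simpa using this
  exact mul_inv_eq_one.1 (T.c_eq_zero_iff.1 h5)

theorem unrefl_refl (p : D.T) (hp : p.c ≠ 0) (q : D.T) :
    D.unrefl p hp (D.refl p hp q) = q :=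
  D.refl_injective p hp (D.refl_unrefl p hp _)

/-- `refl p p` is a multiple of `p`. -/
theorem refl_self (p : D.T) (hp : p.c ≠ 0) :
    D.refl p hp p = D.sc (-(D.ε⁻¹ * p.c * (D.σ p.c)⁻¹)) p := by
  have h3 : D.σ p.c ≠ 0 := D.σ_ne hp
  have h4 : D.h p.w p.w = -(p.c + D.ε * D.σ p.c) := by rw [p.rel]; ring
  have h5 := D.ε_ne
  ext
  · simp only [refl_w, sc_w, h4, map_neg, map_mul, map_inv₀, D.σσ, D.σε]
    nth_rewrite 1 [← one_smul F p.w]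
    rw [← add_smul]
    congr 1
    field_simp
    ring
  · simp only [refl_c, sc_c, map_neg, map_mul, map_inv₀, D.σσ, D.σε]
    field_simp

end PQDatum

end Cfsg.Agent.TitsThree.B2Pkg

namespace Cfsg.Agent.TitsThree.B2Pkg

open Cfsg.Agent.TitsThree.Siegel
open scoped commutatorElement

theorem br_conj {Y : Type*} [Group Y] (n a b : Y) :
    ⁅n * a * n⁻¹, n * b * n⁻¹⁆ = n * ⁅a, b⁆ * n⁻¹ := by
  simp only [commutatorElement_def]; group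

theorem mul_conj {Y : Type*} [Group Y] (n a b : Y) :
    n * (a * b) * n⁻¹ = (n * a * n⁻¹) * (n * b * n⁻¹) := by group

theorem inv_conj {Y : Type*} [Group Y] (n a : Y) :
    n * a⁻¹ * n⁻¹ = (n * a * n⁻¹)⁻¹ := by group

theorem commute_conj {Y : Type*} [Group Y] (n : Y) {a b : Y} (h : Commute a b) :
    Commute (n * a * n⁻¹) (n * b * n⁻¹) := by
  have h1 : a * b = b * a := h
  change (n * a * n⁻¹) * (n * b * n⁻¹) = (n * b * n⁻¹) * (n * a * n⁻¹)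
  rw [← mul_conj, h1, mul_conj]

theorem add_zero' {F Y : Type*} [AddGroup F] [Group Y] {f : F → Y}
    (h : ∀ a b, f (a + b) = f a * f b) : f 0 = 1 := by
  have := h 0 0
  rw [add_zero] at this
  exact left_eq_mul.1 this

theorem add_neg' {F Y : Type*} [AddGroup F] [Group Y] {f : F → Y}
    (h : ∀ a b, f (a + b) = f a * f b) (a : F) : f (-a) = (f a)⁻¹ := by
  rw [eq_inv_iff_mul_eq_one, ← h, neg_add_cancel, add_zero' h]

theorem mul_one' {X Y : Type*} [Group X] [Group Y] {f : X → Y}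
    (h : ∀ a b, f (a * b) = f a * f b) : f 1 = 1 := by
  have := h 1 1
  rw [mul_one] at this
  exact left_eq_mul.1 this

theorem mul_inv' {X Y : Type*} [Group X] [Group Y] {f : X → Y}
    (h : ∀ a b, f (a * b) = f a * f b) (a : X) : f a⁻¹ = (f a)⁻¹ := by
  rw [eq_inv_iff_mul_eq_one, ← h, inv_mul_cancel, mul_one' h]

variable {F : Type*} [Field F] {V : Type*} [AddCommGroup V] [Module F V]

namespace B2Rel

variable {D : PQDatum F V} {Y : Type*} [Group Y] {m : B2Maps D Y} (h : B2Rel m)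

include h

/-! ### Commutators, general ones -/

theorem x'_z₁ (a : F) (p : D.T) :
    ⁅m.x' a, m.z₁ p⁆ = m.z₂ (D.sc a p) * m.y (D.σ a * p.c) := by
  have e1 : m.nI * m.x (-a) * m.nI⁻¹ = m.x' a := by rw [h.nI_x, neg_neg]
  rw [← e1, ← h.nI_z₂ p, br_conj, h.x_z₂, mul_conj, h.nI_z₁, h.nI_y, D.sc_sc]
  congr 2
  · congr 1; ring
  · simp only [map_neg, map_mul, D.σσ, D.σε]
    have := D.ε_ne
    field_simp

variable {p₀ : D.T} (hp : p₀.c ≠ 0)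

include hp in
theorem y_z₂' (b : F) (q : D.T) :
    ⁅m.y b, m.z₂' q⁆ = m.z₁ (D.sc (D.ε⁻¹ * b) q) * m.x (-(b * D.σ q.c)) := by
  have hs := D.σ_ne hp
  have he := D.ε_ne
  have e1 : m.nII p₀ * m.x ((D.ε * D.σ p₀.c)⁻¹ * b) * (m.nII p₀)⁻¹ = m.y b := by
    rw [h.nII_x p₀ hp]; congr 1; field_simp
  have e2 : m.nII p₀ * m.z₂ (D.unrefl p₀ hp (D.sc (D.σ p₀.c) q)) * (m.nII p₀)⁻¹ = m.z₂' q := by
    rw [h.nII_z₂ p₀ hp, D.refl_unrefl, D.sc_sc, inv_mul_cancel₀ hs, D.sc_one]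
  rw [← e1, ← e2, br_conj, h.x_z₂, mul_conj, h.nII_z₁ p₀ hp, h.nII_y p₀ hp,
    D.refl_sc, D.refl_unrefl, D.sc_sc, D.unrefl_c]
  congr 2
  · congr 1; field_simp
  · simp only [PQDatum.sc_c, map_mul, D.σσ]
    field_simp

include hp in
theorem y_z₁' (b : F) (q : D.T) :
    ⁅m.y b, m.z₁' q⁆ = m.z₂ (D.sc (-D.σ b) q) * m.x' (D.ε * D.σ b * D.σ q.c) := by
  have he := D.ε_ne
  have e1 : m.nI * m.y (D.ε * D.σ b) * m.nI⁻¹ = m.y b := by
    rw [h.nI_y]; congr 1; simp only [map_mul, D.σσ, D.σε]; field_simp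
  rw [← e1, ← h.nI_z₂' q, br_conj, h.y_z₂' hp, mul_conj, h.nI_z₁, h.nI_x, D.sc_sc]
  congr 2
  · congr 1; field_simp
  · ring

include hp in
theorem x_z₁' (a : F) (q : D.T) :
    ⁅m.x a, m.z₁' q⁆ = m.z₂' (D.sc (-D.σ a) q) * m.y' (-(D.ε⁻¹ * a * q.c)) := by
  have hs := D.σ_ne hp
  have he := D.ε_ne
  have e1 : m.nII p₀ * m.y (p₀.c * a) * (m.nII p₀)⁻¹ = m.x a := by
    rw [h.nII_y p₀ hp]; congr 1; field_simp
  have e2 : m.nII p₀ * m.z₁' (D.unrefl p₀ hp q) * (m.nII p₀)⁻¹ = m.z₁' q := by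
    rw [h.nII_z₁' p₀ hp, D.refl_unrefl]
  rw [← e1, ← e2, br_conj, h.y_z₁' hp, mul_conj, h.nII_z₂ p₀ hp, h.nII_x' p₀ hp,
    D.refl_sc, D.refl_unrefl, D.sc_sc, D.unrefl_c]
  congr 2
  · congr 1; simp only [map_mul]; field_simp
  · simp only [map_mul, D.σσ, D.σε]; field_simp

include hp in
theorem x'_z₂' (a : F) (q : D.T) :
    ⁅m.x' a, m.z₂' q⁆ = m.z₁' (D.sc (-D.σ a) q) * m.y' (D.σ a * D.σ q.c) := by
  have he := D.ε_ne
  have e1 : m.nI * m.x (-a) * m.nI⁻¹ = m.x' a := by rw [h.nI_x, neg_neg]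
  have e2 : m.nI * m.z₁' (D.sc (-1) q) * m.nI⁻¹ = m.z₂' q := by
    rw [h.nI_z₁', D.sc_sc]; norm_num [D.sc_one]
  rw [← e1, ← e2, br_conj, h.x_z₁' hp, mul_conj, h.nI_z₂', h.nI_y', D.sc_sc]
  congr 2
  · congr 1; simp
  · simp only [map_mul, map_neg, PQDatum.sc_c, map_one, D.σε, map_inv₀, inv_inv]; field_simp

include hp in
theorem y'_z₂ (b : F) (q : D.T) :
    ⁅m.y' b, m.z₂ q⁆ = m.z₁' (D.sc (D.ε * b) q) * m.x' (D.ε⁻¹ * D.σ b * q.c) := by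
  have hs := D.σ_ne hp
  have he := D.ε_ne
  have e1 : m.nII p₀ * m.x' (-(D.σ p₀.c * D.σ b)) * (m.nII p₀)⁻¹ = m.y' b := by
    rw [h.nII_x' p₀ hp]; congr 1; simp only [map_neg, map_mul, D.σσ]; field_simp
  have e2 : m.nII p₀ * m.z₂' (D.unrefl p₀ hp (D.sc (D.ε * p₀.c⁻¹) q)) * (m.nII p₀)⁻¹ = m.z₂ q := by
    rw [h.nII_z₂' p₀ hp, D.refl_unrefl, D.sc_sc]
    have : D.ε⁻¹ * p₀.c * (D.ε * p₀.c⁻¹) = 1 := by field_simp
    rw [this, D.sc_one]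
  rw [← e1, ← e2, br_conj, h.x'_z₂' hp, mul_conj, h.nII_z₁' p₀ hp, h.nII_y' p₀ hp,
    D.refl_sc, D.refl_unrefl, D.sc_sc, D.unrefl_c]
  congr 2
  · congr 1; simp only [map_neg, map_mul, D.σσ]; field_simp
  · simp only [map_neg, map_mul, PQDatum.sc_c, D.σσ, D.σε, map_inv₀, inv_inv]; field_simp

include hp in
theorem y'_z₁ (b : F) (q : D.T) :
    ⁅m.y' b, m.z₁ q⁆ = m.z₂' (D.sc (-D.σ b) q) * m.x (-(b * q.c)) := by
  have he := D.ε_ne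
  have e1 : m.nI * m.y' (D.ε⁻¹ * D.σ b) * m.nI⁻¹ = m.y' b := by
    rw [h.nI_y']; congr 1; simp only [map_mul, D.σσ, D.σε, map_inv₀, inv_inv]; field_simp
  rw [← e1, ← h.nI_z₂ q, br_conj, h.y'_z₂ hp, mul_conj, h.nI_z₁', h.nI_x', D.sc_sc]
  congr 2
  · congr 1; field_simp
  · simp only [map_mul, D.σσ, D.σε, map_inv₀, inv_inv]; field_simp

/-! ### Commutators with values in the type II groups -/

theorem x'_y (a b : F) : ⁅m.x' a, m.y b⁆ = m.z₂ (D.tr 1 (a * b)) := by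
  have he := D.ε_ne
  have e1 : m.nI * m.x (-a) * m.nI⁻¹ = m.x' a := by rw [h.nI_x, neg_neg]
  have e2 : m.nI * m.y (D.ε * D.σ b) * m.nI⁻¹ = m.y b := by
    rw [h.nI_y]; congr 1; simp only [map_mul, D.σσ, D.σε]; field_simp
  rw [← e1, ← e2, br_conj, h.x_y, h.nI_z₁, D.sc_tr]
  congr 1
  ext
  · rfl
  · simp only [PQDatum.tr_c, map_mul, map_neg, map_one, D.σσ, D.σε]
    field_simp
    ring

include hp in
theorem x_y' (a b : F) : ⁅m.x a, m.y' b⁆ = m.z₂' (D.tr b a) := by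
  have hs := D.σ_ne hp
  have he := D.ε_ne
  have e1 : m.nII p₀ * m.x' (-(D.σ p₀.c * D.σ b)) * (m.nII p₀)⁻¹ = m.y' b := by
    rw [h.nII_x' p₀ hp]; congr 1; simp only [map_neg, map_mul, D.σσ]; field_simp
  have e2 : m.nII p₀ * m.y (p₀.c * a) * (m.nII p₀)⁻¹ = m.x a := by
    rw [h.nII_y p₀ hp]; congr 1; field_simp
  rw [← commutatorElement_inv, ← e1, ← e2, br_conj, h.x'_y, h.nII_z₂ p₀ hp,
    ← mul_inv' h.z₂'_mul]
  congr 1
  ext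
  · simp [D.zero_left]
  · simp only [PQDatum.tr_c, PQDatum.T.inv_c, PQDatum.sc_c, PQDatum.refl_c, map_mul, map_neg,
      map_one, D.σσ, D.σε, map_inv₀, map_sub]
    field_simp
    ring

include hp in
theorem x'_y' (a b : F) : ⁅m.x' a, m.y' b⁆ = m.z₁' (D.tr (a * b) 1) := by
  have he := D.ε_ne
  have e1 : m.nI * m.x (-a) * m.nI⁻¹ = m.x' a := by rw [h.nI_x, neg_neg]
  have e2 : m.nI * m.y' (D.ε⁻¹ * D.σ b) * m.nI⁻¹ = m.y' b := by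
    rw [h.nI_y']; congr 1; simp only [map_mul, D.σσ, D.σε, map_inv₀, inv_inv]; field_simp
  rw [← e1, ← e2, br_conj, h.x_y' hp, h.nI_z₂']
  congr 1
  ext
  · rfl
  · simp only [PQDatum.tr_c, map_mul, map_neg, map_one, D.σσ, D.σε, map_inv₀, inv_inv]
    field_simp
    ring

/-! ### Commutators of two type II groups -/

include hp in
theorem z₁_z₂' (p q : D.T) : ⁅m.z₁ p, m.z₂' q⁆ = m.x (-D.h q.w p.w) := by
  have hs := D.σ_ne hp
  have e1 : m.nII p₀ * m.z₁ (D.unrefl p₀ hp p) * (m.nII p₀)⁻¹ = m.z₁ p := by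
    rw [h.nII_z₁ p₀ hp, D.refl_unrefl]
  have e2 : m.nII p₀ * m.z₂ (D.unrefl p₀ hp (D.sc (D.σ p₀.c) q)) * (m.nII p₀)⁻¹ = m.z₂' q := by
    rw [h.nII_z₂ p₀ hp, D.refl_unrefl, D.sc_sc, inv_mul_cancel₀ hs, D.sc_one]
  rw [← e1, ← e2, br_conj, h.z₁_z₂, h.nII_y p₀ hp]
  congr 1
  rw [← D.h_refl p₀ hp, D.refl_unrefl, D.refl_unrefl]
  simp only [PQDatum.sc_w, D.smul_left, D.σσ]
  field_simp

include hp in
theorem z₂_z₁' (p q : D.T) : ⁅m.z₂ p, m.z₁' q⁆ = m.x' (-D.h q.w p.w) := by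
  have e1 : m.nI * m.z₁ (D.sc (-1) p) * m.nI⁻¹ = m.z₂ p := by
    rw [h.nI_z₁, D.sc_sc]; norm_num [D.sc_one]
  rw [← e1, ← h.nI_z₂' q, br_conj, h.z₁_z₂' hp, h.nI_x]
  congr 1
  simp only [PQDatum.sc_w, D.smul_right, map_neg, map_one]
  ring

include hp in
theorem z₂'_z₁' (p q : D.T) : ⁅m.z₂' p, m.z₁' q⁆ = m.y' (D.ε⁻¹ * D.h p.w q.w) := by
  have hs := D.σ_ne hp
  have he := D.ε_ne
  have e1 : m.nII p₀ * m.z₂ (D.unrefl p₀ hp (D.sc (D.σ p₀.c) p)) * (m.nII p₀)⁻¹ = m.z₂' p := by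
    rw [h.nII_z₂ p₀ hp, D.refl_unrefl, D.sc_sc, inv_mul_cancel₀ hs, D.sc_one]
  have e2 : m.nII p₀ * m.z₁' (D.unrefl p₀ hp q) * (m.nII p₀)⁻¹ = m.z₁' q := by
    rw [h.nII_z₁' p₀ hp, D.refl_unrefl]
  rw [← e1, ← e2, br_conj, h.z₂_z₁' hp, h.nII_x' p₀ hp]
  congr 1
  rw [← D.h_refl p₀ hp, D.refl_unrefl, D.refl_unrefl, D.swap]
  simp only [PQDatum.sc_w, D.smul_left, D.σσ, map_neg, map_mul, D.σε]
  field_simp

/-! ### Commuting root groups -/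

theorem x'_z₂ (a : F) (p : D.T) : Commute (m.x' a) (m.z₂ p) := by
  have e1 : m.nI * m.x (-a) * m.nI⁻¹ = m.x' a := by rw [h.nI_x, neg_neg]
  have e2 : m.nI * m.z₁ (D.sc (-1) p) * m.nI⁻¹ = m.z₂ p := by
    rw [h.nI_z₁, D.sc_sc]; norm_num [D.sc_one]
  rw [← e1, ← e2]
  exact commute_conj _ (h.x_z₁ _ _)

include hp in
theorem y'_z₂' (b : F) (p : D.T) : Commute (m.y' b) (m.z₂' p) := by
  have hs := D.σ_ne hp
  have e1 : m.nII p₀ * m.x' (-(D.σ p₀.c * D.σ b)) * (m.nII p₀)⁻¹ = m.y' b := by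
    rw [h.nII_x' p₀ hp]; congr 1; simp only [map_neg, map_mul, D.σσ]; field_simp
  have e2 : m.nII p₀ * m.z₂ (D.unrefl p₀ hp (D.sc (D.σ p₀.c) p)) * (m.nII p₀)⁻¹ = m.z₂' p := by
    rw [h.nII_z₂ p₀ hp, D.refl_unrefl, D.sc_sc, inv_mul_cancel₀ hs, D.sc_one]
  rw [← e1, ← e2]
  exact commute_conj _ (h.x'_z₂ _ _)

include hp in
theorem y'_z₁' (b : F) (p : D.T) : Commute (m.y' b) (m.z₁' p) := by
  have he := D.ε_ne
  have e1 : m.nI * m.y' (D.ε⁻¹ * D.σ b) * m.nI⁻¹ = m.y' b := by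
    rw [h.nI_y']; congr 1; simp only [map_mul, D.σσ, D.σε, map_inv₀, inv_inv]; field_simp
  rw [← e1, ← h.nI_z₂' p]
  exact commute_conj _ (h.y'_z₂' hp _ _)

include hp in
theorem x'_z₁' (a : F) (p : D.T) : Commute (m.x' a) (m.z₁' p) := by
  have he := D.ε_ne
  have hs := D.σ_ne hp
  have e1 : m.nII p₀ * m.y' (-(D.ε⁻¹ * (D.σ p₀.c)⁻¹ * D.σ a)) * (m.nII p₀)⁻¹ = m.x' a := by
    rw [h.nII_y' p₀ hp]; congr 1
    simp only [map_neg, map_mul, D.σσ, D.σε, map_inv₀, inv_inv]; field_simp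
  have e2 : m.nII p₀ * m.z₁' (D.unrefl p₀ hp p) * (m.nII p₀)⁻¹ = m.z₁' p := by
    rw [h.nII_z₁' p₀ hp, D.refl_unrefl]
  rw [← e1, ← e2]
  exact commute_conj _ (h.y'_z₁' hp _ _)

include hp in
theorem x_z₂' (a : F) (p : D.T) : Commute (m.x a) (m.z₂' p) := by
  have e1 : m.nI * m.x' (-a) * m.nI⁻¹ = m.x a := by rw [h.nI_x', neg_neg]
  have e2 : m.nI * m.z₁' (D.sc (-1) p) * m.nI⁻¹ = m.z₂' p := by
    rw [h.nI_z₁', D.sc_sc]; norm_num [D.sc_one]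
  rw [← e1, ← e2]
  exact commute_conj _ (h.x'_z₁' hp _ _)

/-! ### Conjugation by `n_I(t)` -/

omit h in
theorem conj3 (a b c g : Y) :
    (a * b * c) * g * (a * b * c)⁻¹ = a * (b * (c * g * c⁻¹) * b⁻¹) * a⁻¹ := by group

omit h in
theorem conj_of_br {a b c : Y} (h : ⁅a, b⁆ = c) : a * b * a⁻¹ = c * b := by
  rw [← h, commutatorElement_def]; group

omit h in
theorem conj_of_commute {a b : Y} (h : Commute a b) : a * b * a⁻¹ = b := by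
  rw [h.eq]; group

theorem N_z₂ (u : D.T) (b : F) (v q : D.T) :
    m.z₂ u * m.y b * m.z₁ v * m.z₂ q = m.z₂ (u * q) * m.y (b - D.h q.w v.w) * m.z₁ v := by
  have e1 : m.z₁ v * m.z₂ q = m.y (-D.h q.w v.w) * m.z₂ q * m.z₁ v := by
    rw [← h.z₁_z₂, commutatorElement_def]; group
  rw [mul_assoc _ (m.z₁ v), e1, sub_eq_add_neg, h.y_add, h.z₂_mul]
  have e2 := (h.y_z₂ b q).eq
  have e3 := (h.y_z₂ (-D.h q.w v.w) q).eq
  calc m.z₂ u * m.y b * (m.y (-D.h q.w v.w) * m.z₂ q * m.z₁ v)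
      = m.z₂ u * m.y b * (m.y (-D.h q.w v.w) * m.z₂ q) * m.z₁ v := by group
    _ = m.z₂ u * (m.y b * m.z₂ q) * m.y (-D.h q.w v.w) * m.z₁ v := by rw [e3]; group
    _ = _ := by rw [e2]; group

theorem N_y (u : D.T) (b : F) (v : D.T) (b' : F) :
    m.z₂ u * m.y b * m.z₁ v * m.y b' = m.z₂ u * m.y (b + b') * m.z₁ v := by
  rw [mul_assoc _ (m.z₁ v), ← (h.y_z₁ b' v).eq, h.y_add]; group

include hp in
theorem M_z₂ (u : D.T) (b : F) (v q : D.T) :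
    m.z₂' u * m.y' b * m.z₁' v * m.z₂' q =
      m.z₂' (u * q) * m.y' (b - D.ε⁻¹ * D.h q.w v.w) * m.z₁' v := by
  have e1 : m.z₁' v * m.z₂' q = m.y' (-(D.ε⁻¹ * D.h q.w v.w)) * m.z₂' q * m.z₁' v := by
    rw [add_neg' h.y'_add, ← h.z₂'_z₁' hp, commutatorElement_def]; group
  rw [mul_assoc _ (m.z₁' v), e1, sub_eq_add_neg, h.y'_add, h.z₂'_mul]
  have e2 := (h.y'_z₂' hp b q).eq
  have e3 := (h.y'_z₂' hp (-(D.ε⁻¹ * D.h q.w v.w)) q).eq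
  calc m.z₂' u * m.y' b * (m.y' (-(D.ε⁻¹ * D.h q.w v.w)) * m.z₂' q * m.z₁' v)
      = m.z₂' u * m.y' b * (m.y' (-(D.ε⁻¹ * D.h q.w v.w)) * m.z₂' q) * m.z₁' v := by group
    _ = m.z₂' u * (m.y' b * m.z₂' q) * m.y' (-(D.ε⁻¹ * D.h q.w v.w)) * m.z₁' v := by
      rw [e3]; group
    _ = _ := by rw [e2]; group

include hp in
theorem M_y (u : D.T) (b : F) (v : D.T) (b' : F) :
    m.z₂' u * m.y' b * m.z₁' v * m.y' b' = m.z₂' u * m.y' (b + b') * m.z₁' v := by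
  rw [mul_assoc _ (m.z₁' v), ← (h.y'_z₁' hp b' v).eq, h.y'_add]; group

omit h in
theorem nn_one : nn m.x m.x' 1 = m.nI := by
  rw [nn, B2Maps.nI, inv_one]

theorem nn_inv (t : F) : (nn m.x m.x' t)⁻¹ = nn m.x m.x' (-t) := by
  simp only [nn, inv_neg, neg_neg, mul_inv_rev, add_neg' h.x_add, add_neg' h.x'_add, inv_inv,
    mul_assoc]

theorem nn_z₂ {t : F} (ht : t ≠ 0) (p : D.T) :
    nn m.x m.x' t * m.z₂ p * (nn m.x m.x' t)⁻¹ = m.z₁ (D.sc t p) := by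
  have hs := D.σ_ne ht
  have he := D.ε_ne
  have e1 : D.sc (-t⁻¹) (D.sc t p) * D.tr 1 (-t⁻¹ * -(D.ε * t * D.σ p.c)) * p = 1 := by
    ext
    · simp only [PQDatum.T.mul_w, PQDatum.sc_w, PQDatum.tr_w, smul_smul, ← map_mul]
      rw [neg_mul, inv_mul_cancel₀ ht]
      simp
    · have h1 := p.rel
      simp only [PQDatum.T.mul_w, PQDatum.sc_w, PQDatum.tr_w, smul_smul, ← map_mul,
        PQDatum.T.mul_c, PQDatum.sc_c, PQDatum.tr_c, PQDatum.T.one_c, D.zero_left,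
        neg_mul, inv_mul_cancel₀ ht]
      simp only [map_neg, map_one, map_mul, map_inv₀, D.σσ, D.σε, neg_smul, one_smul, add_zero,
        D.neg_right]
      field_simp
      linear_combination h1
  have e2 : D.σ (-t⁻¹) * (D.sc t p).c - D.h (D.tr 1 (-t⁻¹ * -(D.ε * t * D.σ p.c))).w (D.sc t p).w
      + -(D.ε * t * D.σ p.c) - D.h p.w (D.sc t p).w = 0 := by
    have h1 := p.rel
    simp only [PQDatum.sc_w, PQDatum.tr_w, PQDatum.sc_c, D.zero_left, D.smul_right, D.σσ,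
      map_neg, map_inv₀]
    field_simp
    linear_combination (-t) * h1
  have key : m.x' (-t⁻¹) * (m.x t * m.z₂ p * (m.x t)⁻¹) * (m.x' (-t⁻¹))⁻¹ = m.z₁ (D.sc t p) := by
    rw [conj_of_br (h.x_z₂ _ _), mul_conj (m.x' (-t⁻¹)), mul_conj (m.x' (-t⁻¹)),
      conj_of_br (h.x'_z₁ _ _), conj_of_br (h.x'_y _ _), conj_of_commute (h.x'_z₂ _ _),
      ← mul_assoc, h.N_z₂, h.N_y, h.N_z₂, e1, e2, mul_one' h.z₂_mul, add_zero' h.y_add, one_mul,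
      one_mul]
  rw [nn, conj3, key, conj_of_commute (h.x_z₁ _ _)]

theorem nn_z₁ {t : F} (ht : t ≠ 0) (p : D.T) :
    nn m.x m.x' t * m.z₁ p * (nn m.x m.x' t)⁻¹ = m.z₂ (D.sc (-t⁻¹) p) := by
  have e1 := h.nn_z₂ (neg_ne_zero.2 ht) (D.sc (-t⁻¹) p)
  have e2 : (-t) * (-t⁻¹) = 1 := by field_simp
  rw [D.sc_sc, e2, D.sc_one, ← h.nn_inv] at e1
  rw [← e1]; group

theorem nn_y {t : F} (ht : t ≠ 0) (b : F) :
    nn m.x m.x' t * m.y b * (nn m.x m.x' t)⁻¹ = m.y (D.ε * t * (D.σ t)⁻¹ * D.σ b) := by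
  have hs := D.σ_ne ht
  have he := D.ε_ne
  have e1 : D.sc (-t⁻¹) (D.tr t b) * D.tr 1 (-t⁻¹ * b) = 1 := by
    ext
    · simp
    · simp only [PQDatum.sc_w, PQDatum.tr_w, smul_zero,
        PQDatum.T.mul_c, PQDatum.sc_c, PQDatum.tr_c, PQDatum.T.one_c, D.zero_left,
        map_neg, map_one, map_mul, map_inv₀]
      field_simp
      ring
  have e2 : D.σ (-t⁻¹) * (D.tr t b).c - D.h (D.tr 1 (-t⁻¹ * b)).w (D.tr t b).w + b =
      D.ε * t * (D.σ t)⁻¹ * D.σ b := by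
    simp only [PQDatum.tr_w, PQDatum.tr_c, D.zero_left, map_neg, map_inv₀]
    field_simp
    ring
  have e3 : D.tr t (D.ε * t * (D.σ t)⁻¹ * D.σ b) * D.tr t b = 1 := by
    ext
    · simp
    · simp only [PQDatum.tr_w, PQDatum.T.mul_c, PQDatum.tr_c, PQDatum.T.one_c, D.zero_left,
        map_mul, map_inv₀, D.σσ, D.σε]
      field_simp
      ring
  have key : m.x' (-t⁻¹) * (m.x t * m.y b * (m.x t)⁻¹) * (m.x' (-t⁻¹))⁻¹ =
      m.y (D.ε * t * (D.σ t)⁻¹ * D.σ b) * m.z₁ (D.tr t b) := by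
    rw [conj_of_br (h.x_y _ _), mul_conj (m.x' (-t⁻¹)), conj_of_br (h.x'_z₁ _ _),
      conj_of_br (h.x'_y _ _), ← mul_assoc, h.N_z₂, h.N_y, e1, e2, mul_one' h.z₂_mul, one_mul]
  rw [nn, conj3, key, mul_conj (m.x t), conj_of_br (h.x_y _ _), conj_of_commute (h.x_z₁ _ _),
    mul_assoc, (h.y_z₁ _ _).eq, ← mul_assoc, ← h.z₁_mul, e3, mul_one' h.z₁_mul, one_mul]

include hp in
theorem nn_z₂' {t : F} (ht : t ≠ 0) (p : D.T) :
    nn m.x m.x' t * m.z₂' p * (nn m.x m.x' t)⁻¹ = m.z₁' (D.sc (D.σ t)⁻¹ p) := by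
  have hs := D.σ_ne ht
  have he := D.ε_ne
  rw [nn, conj3, conj_of_commute (h.x_z₂' hp _ _), conj_of_br (h.x'_z₂' hp _ _), mul_conj,
    mul_conj, conj_of_br (h.x_z₁' hp _ _), conj_of_br (h.x_y' hp _ _),
    conj_of_commute (h.x_z₂' hp _ _), ← mul_assoc, h.M_z₂ hp, h.M_y hp, h.M_z₂ hp]
  have e0 : -D.σ (-t⁻¹) = (D.σ t)⁻¹ := by rw [map_neg, neg_neg, map_inv₀]
  rw [e0]
  have e1 : D.sc (-D.σ t) (D.sc (D.σ t)⁻¹ p) * D.tr (D.σ (-t⁻¹) * D.σ p.c) t * p = 1 := by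
    ext
    · simp only [PQDatum.T.mul_w, PQDatum.sc_w, PQDatum.tr_w, smul_smul, ← map_mul]
      rw [neg_mul, mul_inv_cancel₀ hs]
      simp
    · have h1 := p.rel
      simp only [PQDatum.T.mul_w, PQDatum.sc_w, PQDatum.tr_w, smul_smul, ← map_mul,
        PQDatum.T.mul_c, PQDatum.sc_c, PQDatum.tr_c, PQDatum.T.one_c, D.zero_left,
        neg_mul, mul_inv_cancel₀ hs]
      simp only [map_neg, map_one, map_mul, map_inv₀, D.σσ, neg_smul, one_smul, add_zero,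
        D.neg_right]
      field_simp
      linear_combination h1
  have e2 : -(D.ε⁻¹ * t * (D.sc (D.σ t)⁻¹ p).c) -
      D.ε⁻¹ * D.h (D.tr (D.σ (-t⁻¹) * D.σ p.c) t).w (D.sc (D.σ t)⁻¹ p).w +
      D.σ (-t⁻¹) * D.σ p.c - D.ε⁻¹ * D.h p.w (D.sc (D.σ t)⁻¹ p).w = 0 := by
    have h1 := p.rel
    simp only [PQDatum.sc_w, PQDatum.tr_w, PQDatum.sc_c, D.zero_left, D.smul_right, D.σσ,
      map_neg, map_inv₀]
    field_simp
    linear_combination (-1) * h1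
  rw [e1, e2, mul_one' h.z₂'_mul, add_zero' h.y'_add, one_mul, one_mul]

include hp in
theorem nn_z₁' {t : F} (ht : t ≠ 0) (p : D.T) :
    nn m.x m.x' t * m.z₁' p * (nn m.x m.x' t)⁻¹ = m.z₂' (D.sc (-D.σ t) p) := by
  have hs := D.σ_ne ht
  have e1 := h.nn_z₂' hp (neg_ne_zero.2 ht) (D.sc (-D.σ t) p)
  have e2 : (D.σ (-t))⁻¹ * (-D.σ t) = 1 := by rw [map_neg]; field_simp
  rw [D.sc_sc, e2, D.sc_one, ← h.nn_inv] at e1
  rw [← e1]; group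

include hp in
theorem nn_y' {t : F} (ht : t ≠ 0) (b : F) :
    nn m.x m.x' t * m.y' b * (nn m.x m.x' t)⁻¹ = m.y' (D.ε⁻¹ * t * (D.σ t)⁻¹ * D.σ b) := by
  have hs := D.σ_ne ht
  have he := D.ε_ne
  -- x t
  rw [nn, conj3, conj_of_br (h.x_y' hp _ _), mul_conj (m.x' (-t⁻¹)),
    conj_of_br (h.x'_z₂' hp _ _), conj_of_br (h.x'_y' hp _ _)]
  have e0 : -D.σ (-t⁻¹) = (D.σ t)⁻¹ := by rw [map_neg, neg_neg, map_inv₀]
  rw [e0]
  have e1 : D.sc (D.σ t)⁻¹ (D.tr b t) * D.tr (-t⁻¹ * b) 1 = 1 := by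
    ext
    · simp
    · simp only [PQDatum.sc_w, PQDatum.tr_w, smul_zero,
        PQDatum.T.mul_c, PQDatum.sc_c, PQDatum.tr_c, PQDatum.T.one_c, D.zero_left,
        map_neg, map_one, map_mul, map_inv₀, D.σσ]
      field_simp
      ring
  have e2 : D.σ (-t⁻¹) * D.σ (D.tr b t).c + b = D.ε⁻¹ * t * (D.σ t)⁻¹ * D.σ b := by
    simp only [PQDatum.tr_c, map_neg, map_inv₀, map_sub, map_mul, D.σσ, D.σε]
    field_simp
    ring
  have e3 : m.z₁' (D.sc (D.σ t)⁻¹ (D.tr b t)) * m.y' (D.σ (-t⁻¹) * D.σ (D.tr b t).c) *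
      m.z₂' (D.tr b t) * (m.z₁' (D.tr (-t⁻¹ * b) 1) * m.y' b) =
      m.y' (D.ε⁻¹ * t * (D.σ t)⁻¹ * D.σ b) * m.z₂' (D.tr b t) := by
    have c1 : m.z₂' (D.tr b t) * m.z₁' (D.tr (-t⁻¹ * b) 1) =
        m.z₁' (D.tr (-t⁻¹ * b) 1) * m.z₂' (D.tr b t) := by
      have := h.z₂'_z₁' hp (D.tr b t) (D.tr (-t⁻¹ * b) 1)
      rw [PQDatum.tr_w, D.zero_left, mul_zero, add_zero' h.y'_add] at this
      exact (commutatorElement_eq_one_iff_mul_comm.1 this)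
    have c2 := (h.y'_z₁' hp (D.σ (-t⁻¹) * D.σ (D.tr b t).c) (D.tr (-t⁻¹ * b) 1)).eq
    have c3 := (h.y'_z₂' hp b (D.tr b t)).eq
    calc _ = m.z₁' (D.sc (D.σ t)⁻¹ (D.tr b t)) * m.y' (D.σ (-t⁻¹) * D.σ (D.tr b t).c) *
        (m.z₂' (D.tr b t) * m.z₁' (D.tr (-t⁻¹ * b) 1)) * m.y' b := by group
      _ = m.z₁' (D.sc (D.σ t)⁻¹ (D.tr b t)) * (m.y' (D.σ (-t⁻¹) * D.σ (D.tr b t).c) *
        m.z₁' (D.tr (-t⁻¹ * b) 1)) * (m.z₂' (D.tr b t) * m.y' b) := by rw [c1]; group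
      _ = (m.z₁' (D.sc (D.σ t)⁻¹ (D.tr b t)) * m.z₁' (D.tr (-t⁻¹ * b) 1)) *
        (m.y' (D.σ (-t⁻¹) * D.σ (D.tr b t).c) * m.y' b) * m.z₂' (D.tr b t) := by
          rw [c2, ← c3]; group
      _ = _ := by rw [← h.z₁'_mul, e1, mul_one' h.z₁'_mul, one_mul, ← h.y'_add, e2]
  rw [e3, mul_conj, conj_of_br (h.x_y' hp _ _), conj_of_commute (h.x_z₂' hp _ _)]
  have e4 : D.tr (D.ε⁻¹ * t * (D.σ t)⁻¹ * D.σ b) t * D.tr b t = 1 := by
    ext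
    · simp
    · simp only [PQDatum.tr_w, PQDatum.T.mul_c, PQDatum.tr_c, PQDatum.T.one_c, D.zero_left,
        map_mul, map_inv₀, D.σσ, D.σε, inv_inv]
      field_simp
      ring
  rw [mul_assoc, (h.y'_z₂' hp _ _).eq, ← mul_assoc, ← h.z₂'_mul, e4, mul_one' h.z₂'_mul, one_mul]

omit h in
theorem mul3_conj (n a b c : Y) :
    n * (a * b * c) * n⁻¹ = (n * a * n⁻¹) * (n * b * n⁻¹) * (n * c * n⁻¹) := by group

include hp in
theorem nn_nII_aux {t : F} (ht : t ≠ 0) {p : D.T} (hpc : p.c ≠ 0) :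
    nn m.x m.x' t * m.nII p * (nn m.x m.x' t)⁻¹ = m.nI * m.nII (D.sc t p) * m.nI⁻¹ := by
  have hs := D.σ_ne ht
  have hsc := D.σ_ne hpc
  have he := D.ε_ne
  rw [B2Maps.nII, B2Maps.nII, mul3_conj, mul3_conj, h.nn_z₂' hp ht, h.nn_z₂' hp ht, h.nn_z₂ ht,
    h.nI_z₂, h.nI_z₂', h.nI_z₂']
  simp only [D.sc_sc]
  congr 2
  · congr 2
    simp only [PQDatum.sc_c, map_mul, D.σσ]
    field_simp
  · congr 1
    simp only [PQDatum.sc_c]
    field_simp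

include hp in
theorem nn_x {t : F} (ht : t ≠ 0) (a : F) :
    nn m.x m.x' t * m.x a * (nn m.x m.x' t)⁻¹ = m.x' (-(t⁻¹ * t⁻¹ * a)) := by
  have hs := D.σ_ne ht
  have hsc := D.σ_ne hp
  have he := D.ε_ne
  have e1 : m.nII p₀ * m.y (p₀.c * a) * (m.nII p₀)⁻¹ = m.x a := by
    rw [h.nII_y p₀ hp]; congr 1; field_simp
  have e2 : nn m.x m.x' t * m.x a * (nn m.x m.x' t)⁻¹ =
      (nn m.x m.x' t * m.nII p₀ * (nn m.x m.x' t)⁻¹) *
      (nn m.x m.x' t * m.y (p₀.c * a) * (nn m.x m.x' t)⁻¹) *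
      (nn m.x m.x' t * m.nII p₀ * (nn m.x m.x' t)⁻¹)⁻¹ := by rw [← e1]; group
  have hc' : (D.sc t p₀).c ≠ 0 := by
    rw [PQDatum.sc_c]; exact mul_ne_zero (mul_ne_zero ht hs) hp
  have e3 : m.nI⁻¹ * m.y (D.ε * t * (D.σ t)⁻¹ * D.σ (p₀.c * a)) * m.nI =
      m.y (D.σ t * t⁻¹ * (p₀.c * a)) := by
    have e4 : m.nI * m.y (D.σ t * t⁻¹ * (p₀.c * a)) * m.nI⁻¹ =
        m.y (D.ε * t * (D.σ t)⁻¹ * D.σ (p₀.c * a)) := by
      rw [h.nI_y]; congr 1; simp only [map_mul, D.σσ, map_inv₀]; ring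
    rw [← e4]; group
  rw [e2, h.nn_nII_aux hp ht hp, h.nn_y ht]
  have e5 : m.nI * m.nII (D.sc t p₀) * m.nI⁻¹ * m.y (D.ε * t * (D.σ t)⁻¹ * D.σ (p₀.c * a)) *
      (m.nI * m.nII (D.sc t p₀) * m.nI⁻¹)⁻¹ = m.nI * (m.nII (D.sc t p₀) *
      (m.nI⁻¹ * m.y (D.ε * t * (D.σ t)⁻¹ * D.σ (p₀.c * a)) * m.nI) * (m.nII (D.sc t p₀))⁻¹) *
      m.nI⁻¹ := by group
  rw [e5, e3, h.nII_y _ hc', h.nI_x]
  congr 1
  rw [PQDatum.sc_c]
  field_simp

include hp in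
theorem nn_x' {t : F} (ht : t ≠ 0) (a : F) :
    nn m.x m.x' t * m.x' a * (nn m.x m.x' t)⁻¹ = m.x (-(t * t * a)) := by
  have e1 := h.nn_x hp (neg_ne_zero.2 ht) (-(t * t * a))
  rw [← h.nn_inv] at e1
  have e2 : -((-t)⁻¹ * (-t)⁻¹ * -(t * t * a)) = a := by field_simp
  rw [e2] at e1
  rw [← e1]; group

include hp in
/-- The parametrisation of the two type I root groups is of type `SL₂`. -/
theorem sl2Par (hx : Function.Injective m.x) (hx' : Function.Injective m.x')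
    (norm : ∀ s, (∀ r, ∃ r', m.x' s * m.x r * (m.x' s)⁻¹ = m.x r') → s = 0) :
    Hua.SL2Par m.x m.x' where
  addp := h.x_add
  addm := h.x'_add
  injp := hx
  injm := hx'
  conjp _ ht s := h.nn_x hp ht s
  conjm _ ht s := h.nn_x' hp ht s
  norm := norm

/-! ### Relations between the `n`'s -/

theorem nII_inv (p : D.T) : (m.nII p)⁻¹ = m.nII p⁻¹ := by
  have he := D.ε_ne
  rw [B2Maps.nII, B2Maps.nII, mul_inv_rev, mul_inv_rev, ← mul_inv' h.z₂'_mul,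
    ← mul_inv' h.z₂'_mul, ← mul_inv' h.z₂_mul, ← D.sc_inv, ← D.sc_inv, ← mul_assoc]
  congr 2
  · congr 2
    simp only [PQDatum.T.inv_c, map_mul, D.σσ, D.σε]
    field_simp
  · congr 2
    simp only [PQDatum.T.inv_c]
    field_simp

include hp in
theorem nn_mid {t : F} (ht : t ≠ 0) :
    m.x' (-t⁻¹) * m.x t * m.x' (-t⁻¹) = nn m.x m.x' t := by
  have e1 : nn m.x m.x' t = nn m.x m.x' t * (m.x t * m.x' (-t⁻¹) * m.x t) *
      (nn m.x m.x' t)⁻¹ := by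
    have : m.x t * m.x' (-t⁻¹) * m.x t = nn m.x m.x' t := rfl
    rw [this]; group
  rw [e1, mul3_conj, h.nn_x hp ht, h.nn_x' hp ht]
  have e2 : -(t⁻¹ * t⁻¹ * t) = -t⁻¹ := by field_simp
  have e3 : -(t * t * -t⁻¹) = t := by field_simp
  rw [e2, e3]

/-- `z₂(..) z₂'(q) z₂(..)` is one of the elements `n_II`. -/
theorem nII_mid {q : D.T} (hq : q.c ≠ 0) :
    m.z₂ (D.sc (-(D.ε⁻¹ * (D.σ q.c)⁻¹)) q) * m.z₂' q * m.z₂ (D.sc (-q.c⁻¹) q) =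
      m.nII (D.sc (-(D.ε * D.σ q.c * (q.c⁻¹ * q.c⁻¹))) q) := by
  have he := D.ε_ne
  have hs := D.σ_ne hq
  obtain ⟨r, hr⟩ : ∃ r, r = D.sc (-(D.ε * D.σ q.c * (q.c⁻¹ * q.c⁻¹))) q := ⟨_, rfl⟩
  have hrc : r.c = (D.σ q.c)⁻¹ := by
    rw [hr, PQDatum.sc_c]
    simp only [map_neg, map_mul, map_inv₀, D.σσ, D.σε]
    field_simp
  have hrne : r.c ≠ 0 := by rw [hrc]; exact inv_ne_zero hs
  have e1 : m.nII r = m.nII r * (m.z₂' (D.sc (-(D.σ r.c)⁻¹) r) * m.z₂ r *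
      m.z₂' (D.sc (-(D.ε * r.c⁻¹)) r)) * (m.nII r)⁻¹ := by
    have : m.z₂' (D.sc (-(D.σ r.c)⁻¹) r) * m.z₂ r * m.z₂' (D.sc (-(D.ε * r.c⁻¹)) r) = m.nII r := rfl
    rw [this]; group
  have key : ∀ a b : F, a = -(b * (D.ε * D.σ q.c * (q.c⁻¹ * q.c⁻¹))) → D.sc a q = D.sc b r := by
    intro a b hab
    rw [hr, D.sc_sc, hab, mul_neg]
  rw [← hr, e1, mul3_conj, h.nII_z₂' r hrne, h.nII_z₂' r hrne, h.nII_z₂ r hrne,
    D.refl_sc r hrne _ r, D.refl_sc r hrne _ r, D.refl_self]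
  simp only [D.sc_sc]
  refine congr_arg₂ (· * ·) (congr_arg₂ (· * ·) (congrArg m.z₂ (key _ _ ?_))
    (congrArg m.z₂' ((D.sc_one q).symm.trans (key _ _ ?_)))) (congrArg m.z₂ (key _ _ ?_))
  · rw [hrc]
    simp only [map_inv₀, D.σσ]
    field_simp
  · rw [hrc]
    simp only [map_inv₀, D.σσ]
    field_simp
  · rw [hrc]
    simp only [map_inv₀, D.σσ]
    field_simp

include hp in
theorem nI_nn {s : F} (hs : s ≠ 0) :
    m.nI * nn m.x m.x' s * m.nI⁻¹ = nn m.x m.x' s⁻¹ := by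
  rw [nn, mul3_conj, h.nI_x, h.nI_x', ← h.nn_mid hp (inv_ne_zero hs), inv_inv, neg_neg]

theorem nII_nII {p q : D.T} (hpc : p.c ≠ 0) (hq : q.c ≠ 0) :
    ∃ r : D.T, r.c ≠ 0 ∧ m.nII p * m.nII q * (m.nII p)⁻¹ = m.nII r := by
  have he := D.ε_ne
  have hsp := D.σ_ne hpc
  have hsq := D.σ_ne hq
  have hc : (D.sc (D.σ p.c)⁻¹ (D.refl p hpc q)).c ≠ 0 := by
    simp only [PQDatum.sc_c, PQDatum.refl_c, map_inv₀, D.σσ]
    exact mul_ne_zero (mul_ne_zero (inv_ne_zero hsp) (inv_ne_zero hpc)) hq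
  refine ⟨_, ?_, Eq.trans ?_ (h.nII_mid hc)⟩
  · have hs := D.σ_ne hc
    have h2 : D.ε * D.σ (D.sc (D.σ p.c)⁻¹ (D.refl p hpc q)).c *
      ((D.sc (D.σ p.c)⁻¹ (D.refl p hpc q)).c⁻¹ * (D.sc (D.σ p.c)⁻¹ (D.refl p hpc q)).c⁻¹) ≠ 0 :=
      mul_ne_zero (mul_ne_zero he hs) (mul_ne_zero (inv_ne_zero hc) (inv_ne_zero hc))
    rw [PQDatum.sc_c]
    exact mul_ne_zero (mul_ne_zero (neg_ne_zero.2 h2) (D.σ_ne (neg_ne_zero.2 h2))) hc
  · nth_rewrite 2 [B2Maps.nII]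
    rw [mul3_conj, h.nII_z₂' p hpc, h.nII_z₂' p hpc, h.nII_z₂ p hpc, D.refl_sc p hpc _ q,
      D.refl_sc p hpc _ q]
    simp only [D.sc_sc]
    congr 2
    · congr 2
      simp only [PQDatum.sc_c, PQDatum.refl_c, map_inv₀, map_mul, D.σσ]
      field_simp
    · congr 1
      simp only [PQDatum.sc_c, PQDatum.refl_c, map_inv₀, D.σσ]
      field_simp

include hp in
theorem hI_nII {s t : F} (hs : s ≠ 0) (ht : t ≠ 0) {p : D.T} (hpc : p.c ≠ 0) :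
    (nn m.x m.x' s * (nn m.x m.x' t)⁻¹) * m.nII p * (nn m.x m.x' s * (nn m.x m.x' t)⁻¹)⁻¹ =
      m.nII (D.sc (s⁻¹ * t) p) := by
  have hst := D.σ_ne ht
  have e1 := h.nn_nII_aux hp (neg_ne_zero.2 ht) hpc
  have hc : (D.sc (s⁻¹ * t) p).c ≠ 0 := by
    rw [PQDatum.sc_c]
    have : s⁻¹ * t ≠ 0 := mul_ne_zero (inv_ne_zero hs) ht
    exact mul_ne_zero (mul_ne_zero this (D.σ_ne this)) hpc
  have e2 := h.nn_nII_aux hp (neg_ne_zero.2 hs) hc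
  rw [D.sc_sc] at e2
  have e3 : -s * (s⁻¹ * t) = -t := by field_simp
  rw [e3] at e2
  rw [← h.nn_inv] at e1 e2
  have e4 : (nn m.x m.x' s * (nn m.x m.x' t)⁻¹) * m.nII p *
      (nn m.x m.x' s * (nn m.x m.x' t)⁻¹)⁻¹ = nn m.x m.x' s *
      ((nn m.x m.x' t)⁻¹ * m.nII p * (nn m.x m.x' t)⁻¹⁻¹) * (nn m.x m.x' s)⁻¹ := by group
  rw [e4, e1, ← e2]
  group

theorem hII_x {p q : D.T} (hpc : p.c ≠ 0) (hq : q.c ≠ 0) (a : F) :
    (m.nII p * (m.nII q)⁻¹) * m.x a * (m.nII p * (m.nII q)⁻¹)⁻¹ = m.x (p.c⁻¹ * q.c * a) := by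
  have e4 : (m.nII p * (m.nII q)⁻¹) * m.x a * (m.nII p * (m.nII q)⁻¹)⁻¹ =
    m.nII p * ((m.nII q)⁻¹ * m.x a * (m.nII q)⁻¹⁻¹) * (m.nII p)⁻¹ := by group
  have he := D.ε_ne
  rw [e4, h.nII_inv, h.nII_x _ (D.inv_c_ne hq), h.nII_y _ hpc]
  congr 1
  simp only [PQDatum.T.inv_c, map_mul, D.σσ, D.σε]
  field_simp

theorem hII_x' {p q : D.T} (hpc : p.c ≠ 0) (hq : q.c ≠ 0) (a : F) :
    (m.nII p * (m.nII q)⁻¹) * m.x' a * (m.nII p * (m.nII q)⁻¹)⁻¹ = m.x' (p.c * q.c⁻¹ * a) := by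
  have e4 : (m.nII p * (m.nII q)⁻¹) * m.x' a * (m.nII p * (m.nII q)⁻¹)⁻¹ =
    m.nII p * ((m.nII q)⁻¹ * m.x' a * (m.nII q)⁻¹⁻¹) * (m.nII p)⁻¹ := by group
  have he := D.ε_ne
  rw [e4, h.nII_inv, h.nII_x' _ (D.inv_c_ne hq), h.nII_y' _ hpc]
  congr 1
  simp only [PQDatum.T.inv_c, map_mul, map_neg, map_inv₀, D.σσ, D.σε]
  field_simp

theorem hII_nn {p q : D.T} (hpc : p.c ≠ 0) (hq : q.c ≠ 0) (t : F) :
    (m.nII p * (m.nII q)⁻¹) * nn m.x m.x' t * (m.nII p * (m.nII q)⁻¹)⁻¹ =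
      nn m.x m.x' (p.c⁻¹ * q.c * t) := by
  rw [nn, mul3_conj, h.hII_x hpc hq, h.hII_x' hpc hq, nn]
  congr 3
  rw [mul_inv, mul_inv, inv_inv]
  ring

end B2Rel

end Cfsg.Agent.TitsThree.B2Pkg
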