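import Cfsg.Agent.TitsThree.RankTwoIdent
import Cfsg.Agent.TitsThree.CoreB2

/-!
# Two simple groups generated by `B₂` packages over the same datum are isomorphic (S1144, [ID], `m = 4`)
-/

set_option autoImplicit false

namespace Cfsg.Agent.TitsThree.RankTwoIdentB2

open Cfsg.Agent.TitsThree.B2Pkg Cfsg.Agent.TitsThree.RankTwoRGD Cfsg.Agent.TitsThree.RankTwoIdx
  Cfsg.Agent.TitsThree.RankTwoIdent Cfsg.Agent.TitsThree.CoreB2

universe u v

variable {F : Type*} [Field F] {V : Type*} [AddCommGroup V] [Module F V] {D : PQDatum F V}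

/-- The simple root elements and their opposites. -/
def genSet {Y : Type*} (m : B2Maps D Y) : Set Y :=
  {g | (∃ a, g = m.x a ∨ g = m.x' a) ∨ ∃ p, g = m.z₂ p ∨ g = m.z₂' p}

/-- The positive root elements. -/
def posSet {Y : Type*} (m : B2Maps D Y) : Set Y :=
  {g | (∃ a, g = m.x a ∨ g = m.y a) ∨ ∃ p, g = m.z₁ p ∨ g = m.z₂ p}

/-- The positive part of the root datum is generated by the positive root elements. -/
theorem U_le {Y : Type u} [Group Y] {m : B2Maps D Y} (h : B2Rel m) (hn : NIRel m) (r : D.T) (hr : r.c ≠ 0) :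
    (r2 h hn r hr).U ≤ Subgroup.closure (posSet m) := by
  refine iSup₂_le fun k hk => ?_
  obtain ⟨h1, h2⟩ := hk
  have hk' : k = 1 ∨ k = 2 ∨ k = 3 ∨ k = 4 := by omega
  rcases hk' with rfl | rfl | rfl | rfl
  · rintro _ ⟨a, rfl⟩
    exact Subgroup.subset_closure (Or.inl ⟨a, Or.inl rfl⟩)
  · rintro _ ⟨a, rfl⟩
    exact Subgroup.subset_closure (Or.inr ⟨a, Or.inl rfl⟩)
  · rintro _ ⟨a, rfl⟩
    exact Subgroup.subset_closure (Or.inl ⟨a, Or.inr rfl⟩)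
  · rintro _ ⟨a, rfl⟩
    exact Subgroup.subset_closure (Or.inr ⟨a, Or.inr rfl⟩)

theorem gen_le {Y : Type u} [Group Y] {m : B2Maps D Y} (h : B2Rel m) (hn : NIRel m) (r : D.T) (hr : r.c ≠ 0) :
    Subgroup.closure (genSet m) ≤ (r2 h hn r hr).core.G := by
  rw [Subgroup.closure_le]
  rintro g (⟨a, rfl | rfl⟩ | ⟨p, rfl | rfl⟩)
  · exact (r2 h hn r hr).core.AI_le ⟨a, rfl⟩
  · exact (r2 h hn r hr).core.AI'_le ⟨a, rfl⟩
  · exact (r2 h hn r hr).core.AJ_le ⟨p, rfl⟩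
  · exact (r2 h hn r hr).core.AJ'_le ⟨p, rfl⟩

/-- **[ID] for `m = 4`**: simple groups generated by `B₂` packages over the same datum are isomorphic. -/
theorem ident_b2 {G : Type u} {K : Type v} [Group G] [Group K] [IsSimpleGroup G] [IsSimpleGroup K]
    {mG : B2Maps D G} {mK : B2Maps D K} (hG : B2Rel mG) (hK : B2Rel mK) (hn : NIRel (mG.prod mK))
    (ex : ∃ p : D.T, p.c ≠ 0)
    (gG : Subgroup.closure (genSet mG) = ⊤) (gK : Subgroup.closure (genSet mK) = ⊤)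
    (hGI : ∃ a, mG.x' a ∉ Subgroup.closure (posSet mG))
    (hGJ : ∃ p, mG.z₂' p ∉ Subgroup.closure (posSet mG))
    (hKI : ∃ a, mK.x' a ∉ Subgroup.closure (posSet mK)) : Nonempty (G ≃* K) := by
  obtain ⟨r, hr⟩ := ex
  have h := hG.prod hK
  have hU := U_le h hn r hr
  have hGen := gen_le h hn r hr
  have hUG : ((r2 h hn r hr).core.U).map (MonoidHom.fst G K) ≤ Subgroup.closure (posSet mG) := by
    refine (Subgroup.map_mono hU).trans ?_
    rw [MonoidHom.map_closure, Subgroup.closure_le]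
    rintro _ ⟨g, (⟨a, rfl | rfl⟩ | ⟨p, rfl | rfl⟩), rfl⟩
    · exact Subgroup.subset_closure (Or.inl ⟨a, Or.inl rfl⟩)
    · exact Subgroup.subset_closure (Or.inl ⟨a, Or.inr rfl⟩)
    · exact Subgroup.subset_closure (Or.inr ⟨p, Or.inl rfl⟩)
    · exact Subgroup.subset_closure (Or.inr ⟨p, Or.inr rfl⟩)
  have hUK : ((r2 h hn r hr).core.U).map (MonoidHom.snd G K) ≤ Subgroup.closure (posSet mK) := by
    refine (Subgroup.map_mono hU).trans ?_
    rw [MonoidHom.map_closure, Subgroup.closure_le]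
    rintro _ ⟨g, (⟨a, rfl | rfl⟩ | ⟨p, rfl | rfl⟩), rfl⟩
    · exact Subgroup.subset_closure (Or.inl ⟨a, Or.inl rfl⟩)
    · exact Subgroup.subset_closure (Or.inl ⟨a, Or.inr rfl⟩)
    · exact Subgroup.subset_closure (Or.inr ⟨p, Or.inl rfl⟩)
    · exact Subgroup.subset_closure (Or.inr ⟨p, Or.inr rfl⟩)
  refine ident_core (by norm_num) (r2 h hn r hr).core ?_ ?_ ?_ ?_ ?_
  · rw [eq_top_iff, ← gG, Subgroup.closure_le]
    rintro g (⟨a, rfl | rfl⟩ | ⟨p, rfl | rfl⟩)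
    · exact ⟨(mG.x a, mK.x a), hGen (Subgroup.subset_closure (Or.inl ⟨a, Or.inl rfl⟩)), rfl⟩
    · exact ⟨(mG.x' a, mK.x' a), hGen (Subgroup.subset_closure (Or.inl ⟨a, Or.inr rfl⟩)), rfl⟩
    · exact ⟨(mG.z₂ p, mK.z₂ p), hGen (Subgroup.subset_closure (Or.inr ⟨p, Or.inl rfl⟩)), rfl⟩
    · exact ⟨(mG.z₂' p, mK.z₂' p), hGen (Subgroup.subset_closure (Or.inr ⟨p, Or.inr rfl⟩)), rfl⟩
  · rw [eq_top_iff, ← gK, Subgroup.closure_le]
    rintro g (⟨a, rfl | rfl⟩ | ⟨p, rfl | rfl⟩)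
    · exact ⟨(mG.x a, mK.x a), hGen (Subgroup.subset_closure (Or.inl ⟨a, Or.inl rfl⟩)), rfl⟩
    · exact ⟨(mG.x' a, mK.x' a), hGen (Subgroup.subset_closure (Or.inl ⟨a, Or.inr rfl⟩)), rfl⟩
    · exact ⟨(mG.z₂ p, mK.z₂ p), hGen (Subgroup.subset_closure (Or.inr ⟨p, Or.inl rfl⟩)), rfl⟩
    · exact ⟨(mG.z₂' p, mK.z₂' p), hGen (Subgroup.subset_closure (Or.inr ⟨p, Or.inr rfl⟩)), rfl⟩
  · obtain ⟨a, ha⟩ := hGI
    exact ⟨(mG.x' a, mK.x' a), ⟨a, rfl⟩, fun h' => ha (hUG h')⟩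
  · obtain ⟨p, hp⟩ := hGJ
    exact ⟨(mG.z₂' p, mK.z₂' p), ⟨p, rfl⟩, fun h' => hp (hUG h')⟩
  · obtain ⟨a, ha⟩ := hKI
    exact ⟨(mG.x' a, mK.x' a), ⟨a, rfl⟩, fun h' => ha (hUK h')⟩

end Cfsg.Agent.TitsThree.RankTwoIdentB2
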