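import Cfsg.Agent.TitsThree.GUProd
import Cfsg.Agent.TitsThree.Pack

/-!
# Common part of the GU assembly (S1143)

`gu_extra`: `GUProd.gu'` when the stabilisers of `c` in the rank two subgroups are generated by the
stabilisers in the rank one subgroups and a set `E` of extra elements (`y b` for the double bond).
`comm_stab`: the case of commuting rank one subgroups.  Consequences of `NodeAct`.
-/

set_option autoImplicit false

namespace Cfsg.Agent.TitsThree.AssembleBase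

open Cfsg.Agent.Tits.Core Cfsg.Agent.Tits.Core.Bldg Cfsg.Agent.Tits.Exchange
open Cfsg.Agent.TitsThree.Pack

variable {I : Type*} {M : CoxeterMatrix I} {W : Type*} [Group W] {cs : CoxeterSystem M W}
variable {C A K : Type*} [Group A] [Group K] [MulAction A C]

section Extra

variable {Δ : Bldg cs C} {c : C} {Γi : I → Subgroup (A × K)}

theorem Bt_fix {g : A × K} (hg : g ∈ GUProd.Bt Γi c) : g.1 • c = c := by
  have : GUProd.Bt Γi c ≤ (MulAction.stabilizer A c).comap (MonoidHom.fst A K) := by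
    refine (Subgroup.closure_le _).2 ?_
    rintro g ⟨i, j, -, h⟩
    exact h
  exact this hg

/-- For `g` fixing `c` and `h ∈ Γ_k` there is `h' ∈ Γ_k` with `h' c = g h c`. -/
theorem exists_fix (iso : ∀ (a : A) x y, Δ.δ (a • x) (a • y) = Δ.δ x y)
    (pan : ∀ i, ∀ g ∈ Γi i, g.1 • c ∈ Δ.Pan i c)
    (trans : ∀ i, ∀ y ∈ Δ.Pan i c, ∃ g ∈ Γi i, g.1 • c = y)
    {g : A × K} (hg : g.1 • c = c) (k : I) {h : A × K} (hh : h ∈ Γi k) :
    ∃ h' ∈ Γi k, (h'⁻¹ * g * h).1 • c = c := by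
  have h1 : g.1 • (h.1 • c) ∈ Δ.Pan k c := by
    rcases pan k h hh with h1 | h1
    · rw [h1, hg]; exact Or.inl rfl
    · right
      have := iso g.1 c (h.1 • c)
      rw [hg] at this
      rw [this, h1]
  obtain ⟨h', hh', h2⟩ := trans k _ h1
  refine ⟨h', hh', ?_⟩
  show (h'.1⁻¹ * g.1 * h.1) • c = c
  rw [mul_smul, mul_smul, inv_smul_eq_iff, h2]

/-- The property `Gen` of an element `g`. -/
def GenP (Γi : I → Subgroup (A × K)) (c : C) (g : A × K) : Prop :=
  ∀ k, ∀ h ∈ Γi k, ∃ h' ∈ Γi k, h'⁻¹ * g * h ∈ GUProd.Bt Γi c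

/-- Elements of a rank two subgroup with respect to its own nodes. -/
theorem genP_self (iso : ∀ (a : A) x y, Δ.δ (a • x) (a • y) = Δ.δ x y)
    (pan : ∀ i, ∀ g ∈ Γi i, g.1 • c ∈ Δ.Pan i c)
    (trans : ∀ i, ∀ y ∈ Δ.Pan i c, ∃ g ∈ Γi i, g.1 • c = y)
    {i j : I} {g : A × K} (hg : g ∈ Γi i ⊔ Γi j) (hgc : g.1 • c = c) {k : I} (hk : k = i ∨ k = j)
    {h : A × K} (hh : h ∈ Γi k) : ∃ h' ∈ Γi k, h'⁻¹ * g * h ∈ GUProd.Bt Γi c := by
  obtain ⟨h', hh', h1⟩ := exists_fix iso pan trans hgc k hh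
  refine ⟨h', hh', Subgroup.subset_closure ⟨i, j, ?_, h1⟩⟩
  have hle : Γi k ≤ Γi i ⊔ Γi j := by
    rcases hk with rfl | rfl
    · exact le_sup_left
    · exact le_sup_right
  exact mul_mem (mul_mem (inv_mem (hle hh')) hg) (hle hh)

theorem genP_rankOne (iso : ∀ (a : A) x y, Δ.δ (a • x) (a • y) = Δ.δ x y)
    (pan : ∀ i, ∀ g ∈ Γi i, g.1 • c ∈ Δ.Pan i c)
    (trans : ∀ i, ∀ y ∈ Δ.Pan i c, ∃ g ∈ Γi i, g.1 • c = y)
    {l : I} {g : A × K} (hg : g ∈ Γi l) (hgc : g.1 • c = c) : GenP Γi c g := by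
  intro k h hh
  exact genP_self iso pan trans (i := l) (j := k) (Subgroup.mem_sup_left hg) hgc (Or.inr rfl) hh

theorem genP_closure (iso : ∀ (a : A) x y, Δ.δ (a • x) (a • y) = Δ.δ x y)
    (pan : ∀ i, ∀ g ∈ Γi i, g.1 • c ∈ Δ.Pan i c)
    (trans : ∀ i, ∀ y ∈ Δ.Pan i c, ∃ g ∈ Γi i, g.1 • c = y) {S : Set (A × K)}
    (hS : ∀ g ∈ S, g.1 • c = c ∧ GenP Γi c g) :
    ∀ g ∈ Subgroup.closure S, g.1 • c = c ∧ GenP Γi c g := by
  intro g hg
  induction hg using Subgroup.closure_induction with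
  | mem x hx => exact hS x hx
  | one => exact ⟨one_smul _ _, fun k h hh => ⟨h, hh, by simp [one_mem]⟩⟩
  | mul x y _ _ hx hy =>
    refine ⟨by rw [Prod.fst_mul, mul_smul, hy.1, hx.1], fun k h hh => ?_⟩
    obtain ⟨h1, hh1, e1⟩ := hy.2 k h hh
    obtain ⟨h2, hh2, e2⟩ := hx.2 k h1 hh1
    refine ⟨h2, hh2, ?_⟩
    have : h2⁻¹ * (x * y) * h = (h2⁻¹ * x * h1) * (h1⁻¹ * y * h) := by group
    rw [this]
    exact mul_mem e2 e1
  | inv x _ hx =>
    have hxc : x⁻¹.1 • c = c := by rw [Prod.fst_inv, inv_smul_eq_iff, hx.1]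
    refine ⟨hxc, fun k h'' hh'' => ?_⟩
    obtain ⟨h, hh, e0⟩ := exists_fix iso pan trans hxc k hh''
    obtain ⟨h', hh', e1⟩ := hx.2 k h hh
    refine ⟨h, hh, ?_⟩
    have e3 := Bt_fix e1
    have e6 : h''⁻¹ * h' ∈ GUProd.Bt Γi c := by
      refine Subgroup.subset_closure
        ⟨k, k, mul_mem (inv_mem (Subgroup.mem_sup_left hh'')) (Subgroup.mem_sup_left hh'), ?_⟩
      have e4 : h'.1 • c = x.1 • (h.1 • c) := by
        have e3' : (h'.1⁻¹ * x.1 * h.1) • c = c := e3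
        rw [mul_smul, mul_smul, inv_smul_eq_iff] at e3'
        exact e3'.symm
      have e5 : x.1 • (h.1 • c) = h''.1 • c := by
        have e0' : (h.1⁻¹ * x.1⁻¹ * h''.1) • c = c := e0
        rw [mul_smul, mul_smul, inv_smul_eq_iff, inv_smul_eq_iff] at e0'
        exact e0'.symm
      show (h''.1⁻¹ * h'.1) • c = c
      rw [mul_smul, e4, e5, inv_smul_smul]
    have : h⁻¹ * x⁻¹ * h'' = ((h''⁻¹ * h') * (h'⁻¹ * x * h))⁻¹ := by group
    rw [this]
    exact inv_mem (mul_mem e6 e1)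

/-- **GU with extra generators.** -/
theorem gu_extra [Finite W] (Δ : Bldg cs C) (c : C)
    (iso : ∀ (a : A) x y, Δ.δ (a • x) (a • y) = Δ.δ x y) (Bor : Subgroup K)
    (Γi : I → Subgroup (A × K))
    (pan : ∀ i, ∀ g ∈ Γi i, g.1 • c ∈ Δ.Pan i c)
    (trans : ∀ i, ∀ y ∈ Δ.Pan i c, ∃ g ∈ Γi i, g.1 • c = y)
    (E : Set (A × K)) (hE : ∀ g ∈ E, g.1 • c = c ∧ g.2 ∈ Bor ∧ GenP Γi c g)
    (R1 : ∀ i, ∀ g ∈ Γi i, g.1 • c = c → g.2 ∈ Bor)
    (R : ∀ i j, i ≠ j → ∀ g ∈ Γi i ⊔ Γi j, g.1 • c = c →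
      g ∈ Subgroup.closure ({h : A × K | ∃ k, h ∈ Γi k ∧ h.1 • c = c} ∪ E)) :
    ∀ g ∈ ⨆ i, Γi i, g.1 • c = c → g.2 ∈ Bor := by
  have R' : ∀ i j, ∀ g ∈ Γi i ⊔ Γi j, g.1 • c = c →
      g ∈ Subgroup.closure ({h : A × K | ∃ k, h ∈ Γi k ∧ h.1 • c = c} ∪ E) := by
    intro i j g hg hgc
    by_cases hij : i = j
    · subst hij
      rw [sup_idem] at hg
      exact Subgroup.subset_closure (Or.inl ⟨i, hg, hgc⟩)
    · exact R i j hij g hg hgc
  refine GUProd.gu' Δ c iso Bor Γi pan trans ?_ ?_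
  · intro i j g hg hgc
    have h1 : Subgroup.closure ({h : A × K | ∃ k, h ∈ Γi k ∧ h.1 • c = c} ∪ E) ≤
        Bor.comap (MonoidHom.snd A K) := by
      refine (Subgroup.closure_le _).2 ?_
      rintro h (⟨k, h1, h2⟩ | h3)
      · exact R1 k h h1 h2
      · exact (hE h h3).2.1
    exact h1 (R' i j g hg hgc)
  · intro i j g hg hgc
    refine (genP_closure iso pan trans ?_ g (R' i j g hg hgc)).2
    rintro h (⟨k, h1, h2⟩ | h3)
    · exact ⟨h2, genP_rankOne iso pan trans h1 h2⟩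
    · exact ⟨(hE h h3).1, (hE h h3).2.2⟩

/-- **Commuting rank one subgroups.** -/
theorem comm_stab {Γi : I → Subgroup (A × K)} (pan : ∀ i, ∀ g ∈ Γi i, g.1 • c ∈ Δ.Pan i c)
    {i j : I} (hij : cs.simple i ≠ cs.simple j)
    (hc : ∀ x ∈ Γi i, ∀ y ∈ Γi j, x * y = y * x) {g : A × K} (hg : g ∈ Γi i ⊔ Γi j)
    (hgc : g.1 • c = c) :
    g ∈ Subgroup.closure {h : A × K | ∃ k, h ∈ Γi k ∧ h.1 • c = c} := by
  have hxy : ∃ x ∈ Γi i, ∃ y ∈ Γi j, g = x * y := by
    have hn : Γi j ≤ Subgroup.normalizer (Γi i : Set (A × K)) := by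
      intro y hy
      rw [Subgroup.mem_normalizer_iff]
      intro x
      constructor
      · intro hx
        have e := hc x hx y hy
        rw [← e]
        simpa using hx
      · intro hx
        have e := hc _ hx y hy
        have e2 : y * x * y⁻¹ = x := by
          have e3 : y * (y * x * y⁻¹) = y * x := by rw [← e]; group
          exact mul_left_cancel e3
        rwa [e2] at hx
    have h2 := Subgroup.coe_mul_of_right_le_normalizer_left (Γi i) (Γi j) hn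
    have h3 : g ∈ (↑(Γi i ⊔ Γi j) : Set (A × K)) := hg
    rw [h2, Set.mem_mul] at h3
    obtain ⟨x, hx, y, hy, e⟩ := h3
    exact ⟨x, hx, y, hy, e.symm⟩
  obtain ⟨x, hx, y, hy, rfl⟩ := hxy
  have h1 : y.1 • c = x⁻¹.1 • c := by
    have : (x.1 * y.1) • c = c := hgc
    rw [mul_smul] at this
    rw [Prod.fst_inv, eq_inv_smul_iff]
    exact this
  have h2 := pan j y hy
  have h3 := pan i x⁻¹ (inv_mem hx)
  rw [← h1] at h3
  have h4 : y.1 • c = c := by
    rcases h2 with h2 | h2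
    · exact h2
    · rcases h3 with h3 | h3
      · exact h3
      · exact absurd (h3.symm.trans h2) hij
  have h5 : x.1 • c = c := by
    rw [h4, Prod.fst_inv, eq_inv_smul_iff] at h1
    exact h1
  exact mul_mem (Subgroup.subset_closure ⟨i, hx, h5⟩) (Subgroup.subset_closure ⟨j, hy, h4⟩)

end Extra

/-! ### Rank one -/

section Node

variable {Δ : Bldg cs C} {c : C} {i : I} {ci : C} {X : Type*} {xp xm : X → A}

/-- The rank one subgroup of `A × K`. -/
def Gam (xp xm : X → A) (xp' xm' : X → K) : Subgroup (A × K) :=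
  Subgroup.closure (Set.range (fun t => (xp t, xp' t)) ∪ Set.range (fun t => (xm t, xm' t)))

theorem Gam.pos {xp xm : X → A} {xp' xm' : X → K} (t : X) : (xp t, xp' t) ∈ Gam xp xm xp' xm' :=
  Subgroup.subset_closure (Or.inl ⟨t, rfl⟩)

theorem Gam.neg {xp xm : X → A} {xp' xm' : X → K} (t : X) : (xm t, xm' t) ∈ Gam xp xm xp' xm' :=
  Subgroup.subset_closure (Or.inr ⟨t, rfl⟩)

theorem smul_Pan (iso : ∀ (a : A) x y, Δ.δ (a • x) (a • y) = Δ.δ x y) {a : A} {x y : C}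
    (hx : a • x = x) (hy : y ∈ Δ.Pan i x) : a • y ∈ Δ.Pan i x := by
  rcases hy with rfl | hy
  · rw [hx]; exact Or.inl rfl
  · right
    have := iso a x y
    rw [hx] at this
    rw [this, hy]

theorem Pan_symm {x y : C} (h : y ∈ Δ.Pan i x) : x ∈ Δ.Pan i y := by
  rcases h with rfl | h
  · exact Or.inl rfl
  · exact Or.inr (Δ.δ_symm_simple h)

theorem Pan_trans {x y z : C} (h : y ∈ Δ.Pan i x) (h' : z ∈ Δ.Pan i y) : z ∈ Δ.Pan i x := by
  rcases h with rfl | h
  · exact h'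
  · rcases h' with rfl | h'
    · exact Or.inr h
    · rcases Δ.step x y z i h' with h1 | h1
      · rw [h, cs.simple_mul_simple_self] at h1
        exact Or.inl ((Δ.eq_one x z).1 h1).symm
      · right; rw [h1, h]

theorem pan_Gam (iso : ∀ (a : A) x y, Δ.δ (a • x) (a • y) = Δ.δ x y)
    (h : NodeAct Δ c i ci xp xm) (xp' xm' : X → K) :
    ∀ g ∈ Gam xp xm xp' xm', g.1 • c ∈ Δ.Pan i c := by
  have key : ∀ g ∈ Gam xp xm xp' xm', ∀ y ∈ Δ.Pan i c, g.1 • y ∈ Δ.Pan i c := by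
    intro g hg
    induction hg using Subgroup.closure_induction with
    | mem x hx =>
      intro y hy
      rcases hx with ⟨t, rfl⟩ | ⟨t, rfl⟩
      · exact smul_Pan iso (h.fix t) hy
      · have h1 : y ∈ Δ.Pan i ci := Pan_trans (Pan_symm h.mem) hy
        exact Pan_trans h.mem (smul_Pan iso (h.fix' t) h1)
    | one => intro y hy; simpa using hy
    | mul x y _ _ hx hy => intro z hz; rw [Prod.fst_mul, mul_smul]; exact hx _ (hy _ hz)
    | inv x _ hx =>
      intro y hy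
      -- `x` maps the panel into itself; so does `x⁻¹`
      have h1 : x.1 • c ∈ Δ.Pan i c := hx c (Or.inl rfl)
      have h2 : x⁻¹.1 • c ∈ Δ.Pan i c := by
        rcases h1 with h1 | h1
        · left
          rw [Prod.fst_inv, inv_smul_eq_iff]; exact h1.symm
        · right
          have h3 := iso x.1 c (x⁻¹.1 • c)
          rw [Prod.fst_inv, smul_inv_smul] at h3
          rw [Prod.fst_inv, ← h3]
          exact Δ.δ_symm_simple h1
      have h3 : x⁻¹.1 • y ∈ Δ.Pan i (x⁻¹.1 • c) := by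
        rcases hy with rfl | hy
        · exact Or.inl rfl
        · right; rw [iso, hy]
      exact Pan_trans h2 h3
  exact fun g hg => key g hg c (Or.inl rfl)

/-- An element which conjugates the positive root group into the negative one maps `c` to `ci`. -/
theorem swap_smul (hth : Δ.Thick) (h : NodeAct Δ c i ci xp xm) {a : A}
    (ha : a • c ∈ Δ.Pan i c) (hconj : ∀ t, ∃ s, a * xp s * a⁻¹ = xm t) : a • c = ci := by
  by_contra hne
  -- the negative root group fixes `a • c`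
  have h1 : ∀ t, xm t • (a • c) = a • c := by
    intro t
    obtain ⟨s, hs⟩ := hconj t
    rw [← hs, ← mul_smul, inv_mul_cancel_right, mul_smul, h.fix]
  obtain ⟨t, ht⟩ := h.trans' _ ha hne
  have h2 : a • c = c := by
    have h3 := h1 t
    rw [← ht] at h3
    have h4 := smul_left_cancel _ h3
    rw [← ht, h4]
  have h1' : ∀ t, xm t • c = c := fun t => by have := h1 t; rwa [h2] at this
  obtain ⟨y, z, hyz, hy, hz⟩ := hth c i
  have h5 : ∀ y, Δ.δ c y = cs.simple i → y = ci := by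
    intro y hy
    by_contra hy'
    obtain ⟨t, ht⟩ := h.trans' y (Or.inr hy) hy'
    rw [h1' t] at ht
    exact Δ.ne_of_δ_simple hy ht
  exact hyz ((h5 y hy).trans (h5 z hz).symm)

theorem trans_Gam (h : NodeAct Δ c i ci xp xm) (xp' xm' : X → K) {n : A × K}
    (hn : n ∈ Gam xp xm xp' xm') (hnc : n.1 • c = ci) :
    ∀ y ∈ Δ.Pan i c, ∃ g ∈ Gam xp xm xp' xm', g.1 • c = y := by
  intro y hy
  by_cases hyc : y = ci
  · exact ⟨n, hn, by rw [hyc]; exact hnc⟩
  · obtain ⟨t, ht⟩ := h.trans' y hy hyc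
    exact ⟨_, Gam.neg t, ht⟩

end Node

end Cfsg.Agent.TitsThree.AssembleBase
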