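import Cfsg.Agent.TitsThree.AssembleBase
import Cfsg.Agent.TitsThree.RankTwoA2

/-!
# GU assembly: a simple bond (S1143)

For two nodes joined by a simple bond, with root elements in `A × K` forming a Steinberg system of
type `A₂`: the elements `n(t)` map `c` to `ci`, and the stabiliser of `c` in the rank two subgroup is
generated by its intersections with the rank one subgroups and its second components lie in `Bor`.
-/

set_option autoImplicit false

namespace Cfsg.Agent.TitsThree.AssembleEdge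

open Cfsg.Agent.Tits.Core Cfsg.Agent.Tits.Core.Bldg Cfsg.Agent.AGraded
open Cfsg.Agent.TitsThree.Pack Cfsg.Agent.TitsThree.AssembleBase

variable {I : Type*} {M : CoxeterMatrix I} {W : Type*} [Group W] {cs : CoxeterSystem M W}
variable {C A K : Type*} [Group A] [Group K] [MulAction A C] {F : Type*} [Field F]
variable {Δ : Bldg cs C} {c : C} {i j : I} {ci cj : C}
variable {xp xm yp ym : F → A} {xp' xm' yp' ym' : F → K}

/-- pairs -/
abbrev pr {X : Type*} (x : X → A) (x' : X → K) : X → A × K := fun t => (x t, x' t)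

theorem nn_mem (t : F) : nn (pr xp xp') (pr xm xm') t ∈ Gam xp xm xp' xm' :=
  mul_mem (mul_mem (Gam.pos t) (Gam.neg _)) (Gam.pos t)

/-- `n(t) c = ci`, if `n(t)` swaps the two root groups. -/
theorem nn_smul_of (iso : ∀ (a : A) x y, Δ.δ (a • x) (a • y) = Δ.δ x y) (hth : Δ.Thick)
    (h : NodeAct Δ c i ci xp xm) {t : F}
    (hconj : ∀ r, ∃ s, nn (pr xp xp') (pr xm xm') t * (xp s, xp' s) *
      (nn (pr xp xp') (pr xm xm') t)⁻¹ = (xm r, xm' r)) :
    (nn (pr xp xp') (pr xm xm') t).1 • c = ci := by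
  apply swap_smul hth h (pan_Gam iso h xp' xm' _ (nn_mem t))
  intro r
  obtain ⟨s, hs⟩ := hconj r
  exact ⟨s, congrArg Prod.fst hs⟩

section

variable (iso : ∀ (a : A) x y, Δ.δ (a • x) (a • y) = Δ.δ x y) (hth : Δ.Thick)
  (hi : NodeAct Δ c i ci xp xm) (hj : NodeAct Δ c j cj yp ym)
  (he : Edge3 (pr xp xp') (pr xm xm') (pr yp yp') (pr ym ym'))

include iso hth he

omit iso hth in
theorem conj_left (t : F) (ht : t ≠ 0) (r : F) : ∃ s, nn (pr xp xp') (pr xm xm') t * (xp s, xp' s) *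
      (nn (pr xp xp') (pr xm xm') t)⁻¹ = (xm r, xm' r) := by
  obtain ⟨x, hx, h1, h2, -, -⟩ := he
  refine ⟨-(t * r * t), ?_⟩
  have e := RankTwoA2.n_ab hx (a := 0) (b := 1) (c := 2) (by decide) (by decide) (by decide) ht
    (-(t * r * t))
  have e1 : -(t⁻¹ * -(t * r * t) * t⁻¹) = r := by field_simp
  rw [e1] at e
  unfold RankTwoA2.n at e
  rw [h1, h2] at e
  exact e

omit iso hth in
theorem conj_right (t : F) (ht : t ≠ 0) (r : F) : ∃ s, nn (pr yp yp') (pr ym ym') t * (yp s, yp' s) *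
      (nn (pr yp yp') (pr ym ym') t)⁻¹ = (ym r, ym' r) := by
  obtain ⟨x, hx, -, -, h1, h2⟩ := he
  refine ⟨-(t * r * t), ?_⟩
  have e := RankTwoA2.n_ab hx (a := 1) (b := 2) (c := 0) (by decide) (by decide) (by decide) ht
    (-(t * r * t))
  have e1 : -(t⁻¹ * -(t * r * t) * t⁻¹) = r := by field_simp
  rw [e1] at e
  unfold RankTwoA2.n at e
  rw [h1, h2] at e
  exact e

include hi in
theorem nn_smul_left (t : F) (ht : t ≠ 0) : (nn (pr xp xp') (pr xm xm') t).1 • c = ci :=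
  nn_smul_of iso hth hi (conj_left he t ht)

include hj in
theorem nn_smul_right (t : F) (ht : t ≠ 0) : (nn (pr yp yp') (pr ym ym') t).1 • c = cj :=
  nn_smul_of iso hth hj (conj_right he t ht)

include hi hj in
/-- **The stabiliser of `c` for a simple bond.** -/
theorem stab {Bor : Subgroup K} (h1 : ∀ t, xp' t ∈ Bor) (h2 : ∀ t, yp' t ∈ Bor)
    (h3 : ∀ t, t ≠ 0 → hh xp' xm' t ∈ Bor) (h4 : ∀ t, t ≠ 0 → hh yp' ym' t ∈ Bor)
    {g : A × K} (hg : g ∈ Gam xp xm xp' xm' ⊔ Gam yp ym yp' ym') (hgc : g.1 • c = c) :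
    g.2 ∈ Bor ∧ g ∈ Subgroup.closure
      {h : A × K | (h ∈ Gam xp xm xp' xm' ∨ h ∈ Gam yp ym yp' ym') ∧ h.1 • c = c} := by
  have n1 := nn_smul_left iso hth hi he
  have n2 := nn_smul_right iso hth hj he
  obtain ⟨x, hx, e1, e2, e3, e4⟩ := he
  set T : Subgroup (A × K) := (MulAction.stabilizer A c).comap (MonoidHom.fst A K) with hT
  have memT : ∀ g : A × K, g ∈ T ↔ g.1 • c = c := fun g => Iff.rfl
  have en : ∀ t, RankTwoA2.n x 0 1 t = nn (pr xp xp') (pr xm xm') t := by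
    intro t; unfold RankTwoA2.n nn; rw [e1, e2]
  have en' : ∀ t, RankTwoA2.n x 1 2 t = nn (pr yp yp') (pr ym ym') t := by
    intro t; unfold RankTwoA2.n nn; rw [e3, e4]
  have k1 : ∀ s t : F, s ≠ 0 → t ≠ 0 → RankTwoA2.n x 0 1 s * (RankTwoA2.n x 0 1 t)⁻¹ ∈ T := by
    intro s t hs ht
    rw [memT, en, en, Prod.fst_mul, Prod.fst_inv, mul_smul]
    have h5 : (nn (pr xp xp') (pr xm xm') t).1⁻¹ • c = (nn (pr xp xp') (pr xm xm') t).1⁻¹ • c := rfl
    -- `n(t)⁻¹ c = ci`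
    have h6 : ∀ t, t ≠ 0 → (nn (pr xp xp') (pr xm xm') t).1⁻¹ • c = ci := by
      intro t ht
      have h7 := n1 (-t) (neg_ne_zero.2 ht)
      rw [← en, ← RankTwoA2.n_inv hx (by decide) t, en, Prod.fst_inv] at h7
      exact h7
    rw [h6 t ht, ← h6 s hs, smul_inv_smul]
  have k2 : ∀ s t : F, s ≠ 0 → t ≠ 0 → RankTwoA2.n x 1 2 s * (RankTwoA2.n x 1 2 t)⁻¹ ∈ T := by
    intro s t hs ht
    rw [memT, en', en', Prod.fst_mul, Prod.fst_inv, mul_smul]
    have h6 : ∀ t, t ≠ 0 → (nn (pr yp yp') (pr ym ym') t).1⁻¹ • c = cj := by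
      intro t ht
      have h7 := n2 (-t) (neg_ne_zero.2 ht)
      rw [← en', ← RankTwoA2.n_inv hx (by decide) t, en', Prod.fst_inv] at h7
      exact h7
    rw [h6 t ht, ← h6 s hs, smul_inv_smul]
  have hle1 : Gam xp xm xp' xm' ≤ Gam xp xm xp' xm' ⊔ Gam yp ym yp' ym' := le_sup_left
  have hle2 : Gam yp ym yp' ym' ≤ Gam xp xm xp' xm' ⊔ Gam yp ym yp' ym' := le_sup_right
  have key : (Gam xp xm xp' xm' ⊔ Gam yp ym yp' ym') ⊓ T =
      Subgroup.closure (RankTwoA2.gensB x) := by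
    apply RankTwoA2.stab_eq hx
    · refine le_trans inf_le_left (sup_le ?_ ?_)
      · refine (Subgroup.closure_le _).2 ?_
        rintro g (⟨t, rfl⟩ | ⟨t, rfl⟩)
        · exact Subgroup.subset_closure ⟨0, 1, t, by decide, (congrFun e1 t).symm⟩
        · exact Subgroup.subset_closure ⟨1, 0, t, by decide, (congrFun e2 t).symm⟩
      · refine (Subgroup.closure_le _).2 ?_
        rintro g (⟨t, rfl⟩ | ⟨t, rfl⟩)
        · exact Subgroup.subset_closure ⟨1, 2, t, by decide, (congrFun e3 t).symm⟩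
        · exact Subgroup.subset_closure ⟨2, 1, t, by decide, (congrFun e4 t).symm⟩
    · intro t
      refine ⟨?_, ?_⟩
      · rw [e1]; exact hle1 (Gam.pos t)
      · show x 0 1 t ∈ T
        rw [e1]; exact hi.fix t
    · intro t
      refine ⟨?_, ?_⟩
      · rw [e3]; exact hle2 (Gam.pos t)
      · show x 1 2 t ∈ T
        rw [e3]; exact hj.fix t
    · intro s t hs ht
      refine ⟨?_, k1 s t hs ht⟩
      rw [en, en]
      exact hle1 (mul_mem (nn_mem s) (inv_mem (nn_mem t)))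
    · intro s t hs ht
      refine ⟨?_, k2 s t hs ht⟩
      rw [en', en']
      exact hle2 (mul_mem (nn_mem s) (inv_mem (nn_mem t)))
    · intro h
      have h5 : (RankTwoA2.n x 0 1 1).1 • c = c := h.2
      rw [en, n1 1 one_ne_zero] at h5
      exact hi.ne h5
    · intro h
      have h5 : (RankTwoA2.n x 1 2 1).1 • c = c := h.2
      rw [en', n2 1 one_ne_zero] at h5
      exact hj.ne h5
  have hg' : g ∈ Subgroup.closure (RankTwoA2.gensB x) := by
    rw [← key]; exact ⟨hg, hgc⟩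
  have b1 : ∀ s t : F, s ≠ 0 → t ≠ 0 → (RankTwoA2.n x 0 1 s * (RankTwoA2.n x 0 1 t)⁻¹).2 ∈ Bor := by
    intro s t hs ht
    have h5 := mul_mem (h3 s hs) (inv_mem (h3 t ht))
    have e : (RankTwoA2.n x 0 1 s * (RankTwoA2.n x 0 1 t)⁻¹).2 =
        hh xp' xm' s * (hh xp' xm' t)⁻¹ := by
      rw [en, en]
      show nn xp' xm' s * (nn xp' xm' t)⁻¹ = _
      unfold hh
      group
    rw [e]; exact h5
  have b2 : ∀ s t : F, s ≠ 0 → t ≠ 0 → (RankTwoA2.n x 1 2 s * (RankTwoA2.n x 1 2 t)⁻¹).2 ∈ Bor := by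
    intro s t hs ht
    have h5 := mul_mem (h4 s hs) (inv_mem (h4 t ht))
    have e : (RankTwoA2.n x 1 2 s * (RankTwoA2.n x 1 2 t)⁻¹).2 =
        hh yp' ym' s * (hh yp' ym' t)⁻¹ := by
      rw [en', en']
      show nn yp' ym' s * (nn yp' ym' t)⁻¹ = _
      unfold hh
      group
    rw [e]; exact h5
  constructor
  · have h5 : Subgroup.closure (RankTwoA2.gensB x) ≤ Bor.comap (MonoidHom.snd A K) := by
      refine (Subgroup.closure_le _).2 ?_
      rintro h ((⟨t, rfl⟩ | ⟨t, rfl⟩) | (⟨s, t, hs, ht, rfl⟩ | ⟨s, t, hs, ht, rfl⟩))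
      · show (x 0 1 t).2 ∈ Bor
        rw [e1]; exact h1 t
      · show (x 1 2 t).2 ∈ Bor
        rw [e3]; exact h2 t
      · exact b1 s t hs ht
      · exact b2 s t hs ht
    exact h5 hg'
  · refine Subgroup.closure_le _ |>.2 ?_ hg'
    rintro h ((⟨t, rfl⟩ | ⟨t, rfl⟩) | (⟨s, t, hs, ht, rfl⟩ | ⟨s, t, hs, ht, rfl⟩))
    · rw [e1]; exact Subgroup.subset_closure ⟨Or.inl (Gam.pos t), hi.fix t⟩
    · rw [e3]; exact Subgroup.subset_closure ⟨Or.inr (Gam.pos t), hj.fix t⟩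
    · refine Subgroup.subset_closure ⟨Or.inl ?_, k1 s t hs ht⟩
      rw [en, en]
      exact mul_mem (nn_mem s) (inv_mem (nn_mem t))
    · refine Subgroup.subset_closure ⟨Or.inr ?_, k2 s t hs ht⟩
      rw [en', en']
      exact mul_mem (nn_mem s) (inv_mem (nn_mem t))

end

end Cfsg.Agent.TitsThree.AssembleEdge
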