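import Cfsg.Agent.TitsThree.B2Pkg
import Cfsg.Agent.TitsThree.WittWeyl

/-!
# The `B2(X)` package of a Witt frame

For a Witt frame `Fr` of `(V, H)`, two different indices `i`, `k` and a parameter system `D` mapping to the `V0`-part of
the frame (`Emb D Fr`), the eight families of root elements satisfy helper669's package `B2Rel`.
-/

set_option autoImplicit false

namespace Cfsg.Agent.TitsThree.B2Frame

open Cfsg.Agent.TitsThree.Siegel Cfsg.Agent.TitsThree.WittFrame Cfsg.Agent.TitsThree.WittWeyl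
open Cfsg.Agent.TitsThree.B2Pkg
open scoped commutatorElement

variable {F : Type*} [Field F] {V : Type*} [AddCommGroup V] [Module F V] {H : HForm F V}
  {ι : Type*} [DecidableEq ι] {V₁ : Type*} [AddCommGroup V₁] [Module F V₁]

/-- A parameter system mapping to the anisotropic part of a frame. -/
structure Emb (D : PQDatum F V₁) (Fr : Frame H ι) where
  j : V₁ →ₗ[F] V
  σ_eq : D.σ = H.σ
  ε_eq : D.ε = H.ε
  h_eq : ∀ v w, H.h (j v) (j w) = D.h v w
  ok_of : ∀ {w c}, D.ok w c → Fr.ok (j w) (H.ε⁻¹ * c)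

theorem refl_smul_left (Fr : Frame H ι) (p : Fr.Adm) (hc : p.c ≠ 0) {a : F} (ha : a ≠ 0)
    (hc' : (Frame.Adm.smul a p).c ≠ 0) (q : Fr.Adm) :
    refl Fr (Frame.Adm.smul a p) hc' q = refl Fr p hc q := by
  apply Frame.Adm.ext
  · rw [refl_w, refl_w, Frame.Adm.smul_w, Frame.Adm.smul_c, H.smul_right, _root_.smul_smul]
    congr 2
    have h1 : H.σ a ≠ 0 := by simpa using ha
    have h2 := H.ε_ne
    field_simp
  · rw [refl_c, refl_c]

namespace Emb

variable {D : PQDatum F V₁} {Fr : Frame H ι} (E : Emb D Fr)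

/-- parameters for the negative roots `-e_k` -/
def ngt (p : D.T) : Fr.Adm := ⟨E.j p.w, H.ε⁻¹ * p.c, E.ok_of p.ok⟩

@[simp] theorem ngt_w (p : D.T) : (E.ngt p).w = E.j p.w := rfl
@[simp] theorem ngt_c (p : D.T) : (E.ngt p).c = H.ε⁻¹ * p.c := rfl

/-- parameters for the positive roots `e_k` -/
def pos (p : D.T) : Fr.Adm := Frame.Adm.smul H.ε⁻¹ (E.ngt p)

@[simp] theorem pos_w (p : D.T) : (E.pos p).w = H.ε⁻¹ • E.j p.w := rfl
@[simp] theorem pos_c (p : D.T) : (E.pos p).c = H.ε⁻¹ * p.c := by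
  have := H.ε_ne
  rw [pos, Frame.Adm.smul_c, ngt_c, H.σε']
  field_simp

theorem ngt_mul (p q : D.T) : E.ngt (p * q) = E.ngt p * E.ngt q := by
  apply Frame.Adm.ext
  · simp
  · simp only [ngt_c, Frame.Adm.mul_c, PQDatum.T.mul_c, ngt_w, E.h_eq]; ring

theorem pos_mul (p q : D.T) : E.pos (p * q) = E.pos p * E.pos q := by
  rw [pos, ngt_mul, Frame.Adm.smul_mul]; rfl

theorem ngt_sc (a : F) (p : D.T) : E.ngt (D.sc a p) = Frame.Adm.smul (H.σ a) (E.ngt p) := by
  apply Frame.Adm.ext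
  · rw [ngt_w, PQDatum.sc_w, map_smul, E.σ_eq]; rfl
  · rw [ngt_c, PQDatum.sc_c, Frame.Adm.smul_c, ngt_c, H.σσ, E.σ_eq]; ring

theorem pos_sc (a : F) (p : D.T) : E.pos (D.sc a p) = Frame.Adm.smul (H.σ a) (E.pos p) := by
  rw [pos, ngt_sc, Frame.Adm.smul_smul, pos, Frame.Adm.smul_smul, mul_comm]

theorem pos_tr (a b : F) : E.pos (D.tr a b) = Frame.Adm.tr (H.ε⁻¹ * H.σ a * b) := by
  have := H.ε_ne
  apply Frame.Adm.ext
  · rw [pos_w, PQDatum.tr_w, map_zero, smul_zero]; rfl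
  · rw [pos_c, PQDatum.tr_c, Frame.Adm.tr_c, E.σ_eq, E.ε_eq]
    simp only [map_mul, H.σε', H.σσ]
    field_simp

theorem ngt_refl {p : D.T} (hp : p.c ≠ 0) (hp' : (E.ngt p).c ≠ 0) (q : D.T) :
    refl Fr (E.ngt p) hp' (E.ngt q) = E.ngt (D.refl p hp q) := by
  apply Frame.Adm.ext
  · rw [refl_w, ngt_w, ngt_w, ngt_w, ngt_c, PQDatum.refl_w, map_add, map_smul, E.h_eq]
    congr 2
    have := H.ε_ne
    field_simp
  · rw [refl_c, ngt_c, ngt_c, PQDatum.refl_c]

theorem pos_refl {p : D.T} (hp : p.c ≠ 0) (hp' : (E.ngt p).c ≠ 0) (q : D.T) :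
    refl Fr (E.ngt p) hp' (E.pos q) = E.pos (D.refl p hp q) := by
  rw [pos, refl_smul, E.ngt_refl hp]; rfl

/-- The eight families. -/
def maps (i k : ι) : B2Maps D (V ≃ₗ[F] V) where
  x := Fr.X (i, true) (k, false)
  x' := Fr.X (k, true) (i, false)
  y := Fr.X (i, true) (k, true)
  y' := Fr.X (i, false) (k, false)
  z₁ p := Fr.Z (i, true) (E.pos p)
  z₂ p := Fr.Z (k, true) (E.pos p)
  z₁' p := Fr.Z (i, false) (E.ngt p)
  z₂' p := Fr.Z (k, false) (E.ngt p)

theorem nI_eq (i k : ι) : (E.maps i k).nI = nX Fr (i, true) (k, false) 1 := by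
  rw [B2Maps.nI, nX, inv_one]; rfl

theorem ngt_ne {p : D.T} (hp : p.c ≠ 0) : (E.ngt p).c ≠ 0 :=
  mul_ne_zero (inv_ne_zero H.ε_ne) hp

theorem sc_ne {p : D.T} (hp : p.c ≠ 0) : (E.ngt (D.sc (-(D.σ p.c)⁻¹) p)).c ≠ 0 := by
  have h1 : H.σ p.c ≠ 0 := by simpa using hp
  have := H.ε_ne
  rw [ngt_c, PQDatum.sc_c, E.σ_eq]
  simp [*]

theorem sc_c {p : D.T} (hp : p.c ≠ 0) :
    (E.ngt (D.sc (-(D.σ p.c)⁻¹) p)).c = H.ε⁻¹ * (H.σ p.c)⁻¹ := by
  have hs : H.σ p.c ≠ 0 := by simpa using hp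
  have := H.ε_ne
  rw [ngt_c, PQDatum.sc_c, E.σ_eq]
  simp only [map_neg, map_inv₀, H.σσ]
  field_simp

theorem ngt_refl' {p : D.T} (hp : p.c ≠ 0) (q : D.T) :
    refl Fr (E.ngt (D.sc (-(D.σ p.c)⁻¹) p)) (E.sc_ne hp) (E.ngt q) = E.ngt (D.refl p hp q) := by
  have h1 : H.σ p.c ≠ 0 := by simpa using hp
  rw [← E.ngt_refl hp (E.ngt_ne hp) q]
  have h2 : H.σ (-(D.σ p.c)⁻¹) ≠ 0 := by rw [E.σ_eq]; simpa using hp
  have h3 := refl_smul_left Fr (E.ngt p) (E.ngt_ne hp) h2
    (by rw [← ngt_sc]; exact E.sc_ne hp) (E.ngt q)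
  rw [← h3]
  congr 1
  exact E.ngt_sc _ _

theorem pos_refl' {p : D.T} (hp : p.c ≠ 0) (q : D.T) :
    refl Fr (E.ngt (D.sc (-(D.σ p.c)⁻¹) p)) (E.sc_ne hp) (E.pos q) = E.pos (D.refl p hp q) := by
  rw [pos, refl_smul, ngt_refl']; rfl

theorem nII_eq (i k : ι) {p : D.T} (hp : p.c ≠ 0) :
    (E.maps i k).nII p = nZ Fr (k, false) (E.ngt (D.sc (-(D.σ p.c)⁻¹) p)) := by
  have h1 : H.σ p.c ≠ 0 := by simpa using hp
  have h5 := H.ε_ne
  have e1 : Fr.η (k, false) = 1 := if_neg (by simp)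
  rw [B2Maps.nII, nZ, e1]
  congr 1
  · congr 1
    change Fr.Z (k, true) (E.pos p) = Fr.Z (k, true) _
    congr 1
    rw [ngt_sc, Frame.Adm.smul_smul, pos]
    congr 1
    rw [Frame.Adm.smul_c, ngt_c, E.σ_eq]
    simp only [map_neg, map_mul, map_inv₀, H.σσ, H.σε, inv_inv]
    field_simp
  · change Fr.Z (k, false) (E.ngt _) = Fr.Z (k, false) _
    congr 1
    rw [ngt_sc, ngt_sc, Frame.Adm.smul_smul]
    congr 1
    rw [Frame.Adm.smul_c, ngt_c, E.σ_eq, E.ε_eq]
    simp only [map_neg, map_mul, map_inv₀, H.σσ, H.σε, inv_inv]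
    field_simp

end Emb

open Emb

variable {D : PQDatum F V₁} {Fr : Frame H ι} (E : Emb D Fr)

/-- **The `B2(X)` package of a Witt frame.** -/
theorem rel {i k : ι} (hik : i ≠ k) : B2Rel (E.maps i k) where
  x_add := Fr.X_add _ _
  x'_add := Fr.X_add _ _
  y_add := Fr.X_add _ _
  y'_add := Fr.X_add _ _
  z₁_mul p q := by
    change Fr.Z _ (E.pos _) = Fr.Z _ (E.pos _) * Fr.Z _ (E.pos _)
    rw [pos_mul, Fr.Z_mul]
  z₂_mul p q := by
    change Fr.Z _ (E.pos _) = Fr.Z _ (E.pos _) * Fr.Z _ (E.pos _)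
    rw [pos_mul, Fr.Z_mul]
  z₁'_mul p q := by
    change Fr.Z _ (E.ngt _) = Fr.Z _ (E.ngt _) * Fr.Z _ (E.ngt _)
    rw [ngt_mul, Fr.Z_mul]
  z₂'_mul p q := by
    change Fr.Z _ (E.ngt _) = Fr.Z _ (E.ngt _) * Fr.Z _ (E.ngt _)
    rw [ngt_mul, Fr.Z_mul]
  x_z₂ a p := by
    have := Fr.conj_X_Z (x := (i, true)) (y := (k, true)) hik a (E.pos p)
    have e1 : Fr.η (k, true) = H.ε := if_pos rfl
    have h5 := H.ε_ne
    rw [e1] at this
    rw [commutatorElement_def, mul_inv_eq_iff_eq_mul]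
    refine this.trans ?_
    change _ = Fr.Z _ (E.pos _) * Fr.X _ _ _ * Fr.Z _ _
    rw [pos_sc]
    congr 3
    rw [pos_c, E.ε_eq, E.σ_eq, map_mul, H.σε']
    field_simp
  z₁_z₂ p q := by
    have := Fr.Z_mul_Z (x := (i, true)) (y := (k, true)) hik (E.pos p) (E.pos q)
    have e1 : Fr.η (k, true) = H.ε := if_pos rfl
    have h5 := H.ε_ne
    rw [e1] at this
    rw [commutatorElement_def, mul_inv_eq_iff_eq_mul, mul_inv_eq_iff_eq_mul, mul_assoc]
    refine this.trans ?_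
    change _ = Fr.X _ _ _ * _
    congr 2
    rw [← E.h_eq, H.swap (E.j p.w) (E.j q.w), pos_w, pos_w, H.smul_left, H.smul_right, H.σε']
    have e3 : H.ε⁻¹ * (H.ε * H.h (E.j p.w) (E.j q.w)) = H.h (E.j p.w) (E.j q.w) := by
      field_simp
    rw [e3]
  x_y a b := by
    have := Fr.X_mul_X_same (x := (i, true)) (y := (k, false)) hik a b
    have e1 : Fr.η (neg (k, false)) = H.ε := if_pos rfl
    rw [e1] at this
    rw [commutatorElement_def, mul_inv_eq_iff_eq_mul, mul_inv_eq_iff_eq_mul, mul_assoc]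
    refine this.trans ?_
    change _ = Fr.Z _ (E.pos _) * _
    rw [pos_tr]
    congr 3
    ring
  x_z₁ s p := (Fr.commute_ZX (x := (i, true)) (y := (i, true)) (z := (k, false))
    (by simp [neg]) (by simp [neg]; exact fun h => hik h.symm) _ s).symm
  y_z₁ s p := (Fr.commute_ZX (x := (i, true)) (y := (i, true)) (z := (k, true))
    (by simp [neg]) (by simp [neg]) _ s).symm
  y_z₂ s p := (Fr.commute_ZX (x := (k, true)) (y := (i, true)) (z := (k, true))
    (by simp [neg]) (by simp [neg]) _ s).symm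
  nI_x s := by
    rw [nI_eq]
    refine (nX_conj_X Fr (x := (i, true)) (y := (k, false)) hik one_ne_zero s).trans ?_
    rw [inv_one, one_pow, one_mul]; rfl
  nI_x' s := by
    rw [nI_eq]
    refine (nX_conj_X_neg Fr (x := (i, true)) (y := (k, false)) hik one_ne_zero s).trans ?_
    rw [one_pow, one_mul]; rfl
  nI_y s := by
    rw [nI_eq]
    have e1 : Fr.η (neg (k, false)) = H.ε := if_pos rfl
    refine (nX_conj_Y Fr (x := (i, true)) (y := (k, false)) hik one_ne_zero s).trans ?_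
    rw [e1]
    change Fr.X (i, true) (k, true) _ = Fr.X (i, true) (k, true) _
    congr 1
    have := H.ε_ne
    rw [E.ε_eq, E.σ_eq, map_one]; field_simp
  nI_y' s := by
    rw [nI_eq]
    have e1 : Fr.η (i, true) = H.ε := if_pos rfl
    have e2 : Fr.η (k, false) = 1 := if_neg (by simp)
    have e3 : Fr.η (i, false) = 1 := if_neg (by simp)
    have h5 := H.ε_ne
    have h1 := nX_apply_self' Fr (x := (i, true)) (y := (k, false)) hik (one_ne_zero (α := F))
    have h2 := nX_apply_neg' Fr (x := (i, true)) (y := (k, false)) hik (one_ne_zero (α := F))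
    rw [← neg_smul] at h2
    refine (conj_X Fr (isIso_nX Fr (i, true) (k, false) 1) (x := (i, false)) (y := (k, false))
      hik (x' := (k, false)) (y' := (i, false)) hik.symm h2 h1 s).trans ?_
    rw [Fr.X_swap (x := (k, false)) (y := (i, false)) hik.symm]
    change Fr.X (i, false) (k, false) _ = Fr.X (i, false) (k, false) _
    congr 1
    rw [E.ε_eq, E.σ_eq]
    simp only [e1, e2, e3, map_neg, map_mul, map_inv₀, H.σε, inv_inv,
      inv_one, map_one]
    field_simp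
  nI_z₁ p := by
    rw [nI_eq]
    refine (nX_conj_Z Fr (x := (i, true)) (y := (k, false)) hik one_ne_zero _).trans ?_
    change _ = Fr.Z (k, true) (E.pos _)
    rw [pos_sc, map_one, inv_one, map_neg, map_one]; rfl
  nI_z₂ p := by
    rw [nI_eq]
    refine (nX_conj_Z_neg Fr (x := (i, true)) (y := (k, false)) hik one_ne_zero _).trans ?_
    rw [map_one, Frame.Adm.one_smul]; rfl
  nI_z₁' p := by
    rw [nI_eq]
    refine (nX_conj_Z_neg' Fr (x := (i, true)) (y := (k, false)) hik one_ne_zero _).trans ?_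
    have e1 : Fr.η (i, true) = H.ε := if_pos rfl
    have e2 : Fr.η (k, false) = 1 := if_neg (by simp)
    have := H.ε_ne
    change _ = Fr.Z (k, false) (E.ngt _)
    rw [e1, e2, ngt_sc, map_neg, map_one]
    congr 2
    field_simp
  nI_z₂' p := by
    rw [nI_eq]
    refine (nX_conj_Z' Fr (x := (i, true)) (y := (k, false)) hik one_ne_zero _).trans ?_
    have e1 : Fr.η (i, true) = H.ε := if_pos rfl
    have e2 : Fr.η (k, false) = 1 := if_neg (by simp)
    have := H.ε_ne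
    change _ = Fr.Z (i, false) (E.ngt _)
    have e3 : H.ε⁻¹ * Fr.η (i, true) * Fr.η (k, false) * 1⁻¹ = 1 := by
      rw [e1, e2]; field_simp
    rw [e3, Frame.Adm.one_smul]; rfl
  nII_x p hp s := by
    rw [nII_eq E i k hp]
    refine (nZ_conj_X Fr (k, false) _ (E.sc_ne hp) (y := (i, true)) hik s).trans ?_
    have e2 : Fr.η (k, false) = 1 := if_neg (by simp)
    have h5 := H.ε_ne
    have h1 : H.σ p.c ≠ 0 := by simpa using hp
    change Fr.X (i, true) (k, true) _ = Fr.X (i, true) (k, true) _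
    congr 1
    rw [e2, ngt_c, PQDatum.sc_c, E.ε_eq, E.σ_eq]
    simp only [map_neg, map_inv₀, H.σσ]
    field_simp
  nII_y p hp s := by
    rw [nII_eq E i k hp]
    refine (nZ_conj_X_neg Fr (k, false) _ (E.sc_ne hp) (y := (i, true)) hik s).trans ?_
    have e2 : Fr.η (k, false) = 1 := if_neg (by simp)
    have h5 := H.ε_ne
    have h1 : H.σ p.c ≠ 0 := by simpa using hp
    change Fr.X (i, true) (k, false) _ = Fr.X (i, true) (k, false) _
    congr 1
    rw [e2, ngt_c, PQDatum.sc_c, E.σ_eq]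
    simp only [map_neg, map_mul, map_inv₀, H.σσ, H.σε, inv_inv]
    field_simp
  nII_x' p hp s := by
    rw [nII_eq E i k hp]
    have e2 : Fr.η (k, false) = 1 := if_neg (by simp)
    have e3 : Fr.η (i, false) = 1 := if_neg (by simp)
    have h5 := H.ε_ne
    have hs : H.σ p.c ≠ 0 := by simpa using hp
    have h1 := nZ_apply_neg Fr (k, false) _ (E.sc_ne hp)
    have h2 : nZ Fr (k, false) (E.ngt (D.sc (-(D.σ p.c)⁻¹) p)) (Fr.b (i, false)) =
        (1 : F) • Fr.b (i, false) := by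
      rw [nZ_apply_of_ne Fr (x := (k, false)) (z := (i, false)) hik, one_smul]
    refine (conj_X Fr (isIso_nZ Fr (k, false) _) (x := (k, true)) (y := (i, false))
      hik.symm (x' := (k, false)) (y' := (i, false)) hik.symm h1 h2 s).trans ?_
    rw [Fr.X_swap (x := (k, false)) (y := (i, false)) hik.symm]
    change Fr.X (i, false) (k, false) _ = Fr.X (i, false) (k, false) _
    congr 1
    rw [ngt_c, PQDatum.sc_c, E.σ_eq]
    simp only [e2, e3, map_neg, map_mul, map_inv₀, H.σσ, H.σε, inv_inv, inv_one, map_one]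
    field_simp
  nII_y' p hp s := by
    rw [nII_eq E i k hp]
    have e2 : Fr.η (k, false) = 1 := if_neg (by simp)
    have e3 : Fr.η (i, false) = 1 := if_neg (by simp)
    have e4 : Fr.η (neg (k, false)) = H.ε := if_pos rfl
    have h5 := H.ε_ne
    have hs : H.σ p.c ≠ 0 := by simpa using hp
    refine (nZ_conj_X Fr (k, false) _ (E.sc_ne hp) (y := (i, false)) hik s).trans ?_
    rw [Fr.X_swap (x := (i, false)) (y := neg (k, false)) hik]
    change Fr.X (k, true) (i, false) _ = Fr.X (k, true) (i, false) _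
    congr 1
    rw [e2, e3, e4, ngt_c, PQDatum.sc_c, E.ε_eq, E.σ_eq]
    simp only [map_neg, map_mul, map_inv₀, H.σσ, H.σε, inv_inv, inv_one, map_one]
    field_simp
  nII_z₁ p hp q := by
    rw [nII_eq E i k hp]
    refine (nZ_conj_Z_of_ne Fr (k, false) _ (E.sc_ne hp) (y := (i, true)) hik _).trans ?_
    rw [E.pos_refl' hp]; rfl
  nII_z₁' p hp q := by
    rw [nII_eq E i k hp]
    refine (nZ_conj_Z_of_ne Fr (k, false) _ (E.sc_ne hp) (y := (i, false)) hik _).trans ?_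
    rw [E.ngt_refl' hp]; rfl
  nII_z₂ p hp q := by
    rw [nII_eq E i k hp]
    refine (nZ_conj_Z_neg Fr (k, false) _ (E.sc_ne hp) _).trans ?_
    have e2 : Fr.η (k, false) = 1 := if_neg (by simp)
    have h5 := H.ε_ne
    have hs : H.σ p.c ≠ 0 := by simpa using hp
    rw [E.pos_refl' hp, E.sc_c hp]
    change _ = Fr.Z (k, false) (E.ngt _)
    rw [pos, Frame.Adm.smul_smul, ngt_sc]
    congr 2
    rw [e2, E.σ_eq]
    simp only [map_mul, map_inv₀, H.σσ, H.σε, inv_inv, inv_one]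
    field_simp
  nII_z₂' p hp q := by
    rw [nII_eq E i k hp]
    refine (nZ_conj_Z Fr (k, false) _ (E.sc_ne hp) _).trans ?_
    have e2 : Fr.η (k, false) = 1 := if_neg (by simp)
    have h5 := H.ε_ne
    have hs : H.σ p.c ≠ 0 := by simpa using hp
    rw [E.ngt_refl' hp, E.sc_c hp]
    change _ = Fr.Z (k, true) (E.pos _)
    rw [E.pos_sc, pos, Frame.Adm.smul_smul]
    change Fr.Z (k, true) _ = _
    congr 2
    rw [e2, E.ε_eq]
    simp only [map_mul, map_inv₀, H.σε, inv_inv]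
    field_simp

end Cfsg.Agent.TitsThree.B2Frame
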