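import Mathlib

/-!
# Rank one modules (S1143, C₃ algebra)

`hua_ring`: Hua's theorem for additive maps of a finite field into a ring.
`RMod u v A B`: root groups `u`, `v` of a rank one group interchanging two commuting abelian subgroups
`A`, `B`; then `A` is a vector space over the field: `act`.
-/

set_option autoImplicit false

namespace Cfsg.Agent.TitsThree.C3Mod

open scoped commutatorElement

/-- noncommutative Hua identity -/
theorem hua_units {R : Type*} [Ring R] (a b d e : Rˣ) (hd : (d : R) = ↑b⁻¹ - ↑a)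
    (he : (e : R) = ↑a⁻¹ + ↑d⁻¹) : (a : R) - ↑e⁻¹ = a * b * a := by
  have h1 : (a : R) * e = (1 : R) + a * ↑d⁻¹ := by rw [he, mul_add, Units.mul_inv]
  have h2 : (b : R) * d = 1 - b * a := by rw [hd, mul_sub, Units.mul_inv]
  have h3 : (d : R) * b = 1 - a * b := by rw [hd, sub_mul, Units.inv_mul]
  -- e = a⁻¹ b⁻¹ d⁻¹ : a e d = d + a = b⁻¹
  have h4 : (a : R) * e * d = ↑b⁻¹ := by
    rw [h1, add_mul, mul_assoc, Units.inv_mul, hd]; simp
  have h5 : (a : R) - a * b * a = (d * b * a : R) := by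
    rw [h3]; simp [sub_mul]
  have h6 : (e : R) * (d * b * a) = 1 := by
    have : (a : R) * (e * (d * b * a)) = a := by
      calc (a : R) * (e * (d * b * a)) = (a * e * d) * b * a := by simp only [mul_assoc]
        _ = a := by rw [h4, Units.inv_mul, one_mul]
    have h7 := congrArg (fun z => (↑a⁻¹ : R) * z) this
    simpa [← mul_assoc] using h7
  have h8 : (↑e⁻¹ : R) = d * b * a := by
    have := congrArg (fun z => (↑e⁻¹ : R) * z) h6
    simpa [← mul_assoc] using this.symm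
  rw [h8, ← h5]; abel

/-- **Hua.** -/
theorem hua_ring {F : Type*} [Field F] [Finite F] {R : Type*} [Ring R] (A A' : F →+ R)
    (h1 : A 1 = 1) (h : ∀ s, s ≠ 0 → A s * A' s⁻¹ = 1) (h' : ∀ s, s ≠ 0 → A' s⁻¹ * A s = 1) :
    (∀ s, A' s = A s) ∧ ∀ a b, A (a * b) = A a * A b := by
  let U : (s : F) → s ≠ 0 → Rˣ := fun s hs => ⟨A s, A' s⁻¹, h s hs, h' s hs⟩
  let U' : (s : F) → s ≠ 0 → Rˣ := fun s hs => ⟨A' s, A s⁻¹, by
    have := h' s⁻¹ (inv_ne_zero hs); rwa [inv_inv] at this, by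
    have := h s⁻¹ (inv_ne_zero hs); rwa [inv_inv] at this⟩
  have key : ∀ a b : F, A (a * a * b) = A a * A' b * A a := by
    intro a b
    by_cases ha : a = 0
    · simp [ha]
    by_cases hb : b = 0
    · simp [hb]
    by_cases hab : a * b = 1
    · have hb' : b = a⁻¹ := eq_inv_of_mul_eq_one_right hab
      rw [hb', h a ha, mul_inv_cancel_right₀ ha, one_mul]
    have hd : b⁻¹ - a ≠ 0 := by
      intro e
      apply hab
      have : a = b⁻¹ := (sub_eq_zero.1 e).symm
      rw [this, inv_mul_cancel₀ hb]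
    have he : a⁻¹ + (b⁻¹ - a)⁻¹ ≠ 0 := by
      intro e
      have h3 : (b⁻¹ - a)⁻¹ = -a⁻¹ := by rw [← sub_eq_zero, sub_neg_eq_add, add_comm]; exact e
      have h4 : b⁻¹ - a = -a := by rw [← inv_inv (b⁻¹ - a), h3, inv_neg, inv_inv]
      have h5 : b⁻¹ = 0 := by
        have := congrArg (· + a) h4
        simpa using this
      exact inv_ne_zero hb h5
    have h6 := hua_units (U a ha) (U' b hb) (U _ hd) (U' _ he) (by
      change A (b⁻¹ - a) = A b⁻¹ - A a
      exact map_sub _ _ _) (by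
      change A' (a⁻¹ + (b⁻¹ - a)⁻¹) = A' a⁻¹ + A' (b⁻¹ - a)⁻¹
      exact map_add _ _ _)
    change A a - A (a⁻¹ + (b⁻¹ - a)⁻¹)⁻¹ = A a * A' b * A a at h6
    rw [← h6, ← map_sub]
    congr 1
    have h2 : 1 - a * b ≠ 0 := fun h => hab (sub_eq_zero.1 h).symm
    have h3 : b⁻¹ - a = (1 - a * b) * b⁻¹ := by
      field_simp
    have h4 : a⁻¹ + (b⁻¹ - a)⁻¹ = a⁻¹ * (1 - a * b)⁻¹ := by
      rw [h3, mul_inv, inv_inv]
      field_simp
      ring
    rw [h4, mul_inv, inv_inv, inv_inv]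
    ring
  have hA : ∀ s, A' s = A s := by
    intro s
    have := key 1 s
    simpa [h1] using this.symm
  refine ⟨hA, ?_⟩
  simp only [hA] at key
  obtain ⟨g, hg⟩ := IsCyclic.exists_generator (α := Fˣ)
  have hpow : ∀ n : ℕ, A ((g : F) ^ n) = A (g : F) ^ n := by
    intro n
    induction n using Nat.strong_induction_on with
    | _ n ih =>
      match n with
      | 0 => simp [h1]
      | 1 => simp
      | n + 2 =>
        have h2 : (g : F) ^ (n + 2) = g * g * g ^ n := by ring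
        rw [h2, key, ih n (by omega)]
        rw [← pow_succ', ← pow_succ]
  intro a b
  by_cases ha : a = 0
  · simp [ha]
  by_cases hb : b = 0
  · simp [hb]
  obtain ⟨m, hm⟩ := (mem_powers_iff_mem_zpowers (x := g) (y := Units.mk0 a ha)).2 (hg _)
  obtain ⟨n, hn⟩ := (mem_powers_iff_mem_zpowers (x := g) (y := Units.mk0 b hb)).2 (hg _)
  have hm' : (g : F) ^ m = a := by
    have := congrArg Units.val hm
    simpa using this
  have hn' : (g : F) ^ n = b := by
    have := congrArg Units.val hn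
    simpa using this
  rw [← hm', ← hn', ← pow_add, hpow, hpow, hpow, pow_add]

/-! ### conjugation -/

variable {G : Type*} [Group G]

/-- conjugation -/
def cg (g y : G) : G := g * y * g⁻¹

theorem cg_mul (g y z : G) : cg g (y * z) = cg g y * cg g z := by simp [cg]
theorem cg_inv (g y : G) : cg g y⁻¹ = (cg g y)⁻¹ := by simp [cg, mul_assoc]
theorem cg_one (g : G) : cg g 1 = 1 := by simp [cg]
theorem one_cg (y : G) : cg 1 y = y := by simp [cg]
theorem mul_cg (g h y : G) : cg (g * h) y = cg g (cg h y) := by simp [cg, mul_assoc]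
theorem cg_cg_inv (g y : G) : cg g (cg g⁻¹ y) = y := by simp [cg, mul_assoc]
theorem cg_inv_cg (g y : G) : cg g⁻¹ (cg g y) = y := by simp [cg, mul_assoc]
theorem cg_comm (g a b : G) : cg g ⁅a, b⁆ = ⁅cg g a, cg g b⁆ := by
  simp [cg, commutatorElement_def, mul_assoc]
theorem cg_eq (g y : G) : cg g y = ⁅g, y⁆ * y := by simp [cg, commutatorElement_def]
theorem comm_eq (g y : G) : ⁅g, y⁆ = cg g y * y⁻¹ := by simp [cg, commutatorElement_def]
theorem cg_of_commute {g y : G} (h : g * y = y * g) : cg g y = y := by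
  rw [cg, h, mul_inv_cancel_right]
theorem commute_of_cg {g y : G} (h : cg g y = y) : g * y = y * g := by
  rw [cg, mul_inv_eq_iff_eq_mul] at h; exact h
theorem cg_injective (g : G) : Function.Injective (cg g) := fun a b h => by
  simpa [cg_inv_cg] using congrArg (cg g⁻¹) h
theorem cg_inv_of {g y y' : G} (h : cg g y = y') : cg g⁻¹ y' = y := by
  rw [← h, cg_inv_cg]
theorem cg_self (g : G) : cg g g = g := by simp [cg]

/-! ### Rank one modules -/

variable {F : Type*} [Field F]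

/-- the standard element -/
def nn (u v : F → G) (s : F) : G := u s * v (-s⁻¹) * u s

/-- `u`, `v`: root groups of a rank one group interchanging two commuting abelian groups. -/
structure RMod (u v : F → G) (A B : Subgroup G) : Prop where
  u_add : ∀ s t, u (s + t) = u s * u t
  v_add : ∀ s t, v (s + t) = v s * v t
  uA : ∀ s, ∀ a ∈ A, u s * a = a * u s
  vB : ∀ s, ∀ b ∈ B, v s * b = b * v s
  uB : ∀ s, ∀ b ∈ B, ⁅u s, b⁆ ∈ A
  vA : ∀ s, ∀ a ∈ A, ⁅v s, a⁆ ∈ B
  AB : ∀ a ∈ A, ∀ b ∈ B, a * b = b * a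
  AA : ∀ a ∈ A, ∀ b ∈ A, a * b = b * a
  BB : ∀ a ∈ B, ∀ b ∈ B, a * b = b * a
  disj : ∀ g, g ∈ A → g ∈ B → g = 1
  nB : ∀ s, s ≠ 0 → ∀ b ∈ B, cg (nn u v s) b ∈ A
  nA : ∀ s, s ≠ 0 → ∀ a ∈ A, cg (nn u v s) a ∈ B

namespace RMod

variable {u v : F → G} {A B : Subgroup G} (h : RMod u v A B)
include h

theorem u_zero : u 0 = 1 := by
  have := h.u_add 0 0; rw [add_zero] at this; simpa using this
theorem v_zero : v 0 = 1 := by
  have := h.v_add 0 0; rw [add_zero] at this; simpa using this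
theorem u_neg (s : F) : u (-s) = (u s)⁻¹ := by
  rw [eq_inv_iff_mul_eq_one, ← h.u_add, neg_add_cancel, h.u_zero]
theorem v_neg (s : F) : v (-s) = (v s)⁻¹ := by
  rw [eq_inv_iff_mul_eq_one, ← h.v_add, neg_add_cancel, h.v_zero]

theorem nn_inv (s : F) : (nn u v s)⁻¹ = nn u v (-s) := by
  rw [nn, nn, inv_neg, neg_neg, h.u_neg, h.v_neg]; simp [mul_assoc]

theorem cuA (s : F) {a : G} (ha : a ∈ A) : cg (u s) a = a := cg_of_commute (h.uA s a ha)
theorem cvB (s : F) {b : G} (hb : b ∈ B) : cg (v s) b = b := cg_of_commute (h.vB s b hb)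

/-- `⁅u s, ·⁆` is multiplicative on `B` -/
theorem u_mul (s : F) {b b' : G} (hb : b ∈ B) (hb' : b' ∈ B) : ⁅u s, b * b'⁆ = ⁅u s, b⁆ * ⁅u s, b'⁆ := by
  rw [comm_eq, cg_mul, cg_eq, cg_eq]
  have h1 := h.AB _ (h.uB s b' hb') b hb
  have h2 : ⁅u s, b⁆ * b * (⁅u s, b'⁆ * b') * (b * b')⁻¹ = ⁅u s, b⁆ * (b * ⁅u s, b'⁆) * b⁻¹ := by
    group
  rw [h2, ← h1]; group

theorem v_mul (s : F) {a a' : G} (ha : a ∈ A) (ha' : a' ∈ A) : ⁅v s, a * a'⁆ = ⁅v s, a⁆ * ⁅v s, a'⁆ := by
  rw [comm_eq, cg_mul, cg_eq, cg_eq]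
  have h1 := h.AB a ha _ (h.vA s a' ha')
  have h2 : ⁅v s, a⁆ * a * (⁅v s, a'⁆ * a') * (a * a')⁻¹ = ⁅v s, a⁆ * (a * ⁅v s, a'⁆) * a⁻¹ := by
    group
  rw [h2, h1]; group

theorem u_add' (s t : F) {b : G} (hb : b ∈ B) : ⁅u (s + t), b⁆ = ⁅u s, b⁆ * ⁅u t, b⁆ := by
  rw [comm_eq, h.u_add, mul_cg, cg_eq (u t), cg_mul, h.cuA s (h.uB t b hb), cg_eq (u s)]
  rw [← mul_assoc, mul_inv_cancel_right]
  exact h.AA _ (h.uB t b hb) _ (h.uB s b hb)

theorem v_add' (s t : F) {a : G} (ha : a ∈ A) : ⁅v (s + t), a⁆ = ⁅v s, a⁆ * ⁅v t, a⁆ := by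
  rw [comm_eq, h.v_add, mul_cg, cg_eq (v t), cg_mul, h.cvB s (h.vA t a ha), cg_eq (v s)]
  rw [← mul_assoc, mul_inv_cancel_right]
  exact h.BB _ (h.vA t a ha) _ (h.vA s a ha)

/-- `n(s)` acts on `B` as `⁅u s, ·⁆` -/
theorem n_B {s : F} (hs : s ≠ 0) {b : G} (hb : b ∈ B) : cg (nn u v s) b = ⁅u s, b⁆ := by
  have h1 := h.nB s hs b hb
  set N := ⁅u s, b⁆ with hN
  have hNA : N ∈ A := h.uB s b hb
  set M := ⁅v (-s⁻¹), N⁆ with hM
  have hMB : M ∈ B := h.vA _ _ hNA
  set L := ⁅u s, M⁆ with hL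
  have hLA : L ∈ A := h.uB s _ hMB
  have h2 : cg (nn u v s) b = L * M * N * (N * b) := by
    rw [nn, mul_cg, mul_cg, cg_eq (u s) b, ← hN, cg_mul, h.cvB _ hb, cg_eq _ N, ← hM, cg_mul, cg_mul,
      cg_eq (u s) M, ← hL, h.cuA s hNA, cg_eq (u s) b, ← hN]
  have h3 : L * M * N * (N * b) = (L * N * N) * (M * b) := by
    have e1 := h.AB N hNA M hMB
    calc L * M * N * (N * b) = L * (M * N) * N * b := by group
      _ = L * (N * M) * N * b := by rw [e1]
      _ = L * N * (M * N) * b := by group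
      _ = L * N * (N * M) * b := by rw [e1]
      _ = _ := by group
  have h4 : M * b ∈ A := by
    rw [h2, h3] at h1
    exact (Subgroup.mul_mem_cancel_left _ (A.mul_mem (A.mul_mem hLA hNA) hNA)).1 h1
  have h5 : M * b = 1 := h.disj _ h4 (B.mul_mem hMB hb)
  have h6 : M = b⁻¹ := eq_inv_of_mul_eq_one_left h5
  have h7 : L = N⁻¹ := by
    rw [eq_inv_iff_mul_eq_one, hL, hN, ← h.u_mul s hMB hb, h5]
    simp
  rw [h2, h3, h5, h7]; group

/-- `n(s)` acts on `A` as `⁅v (-s⁻¹), ·⁆` -/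
theorem n_A {s : F} (hs : s ≠ 0) {a : G} (ha : a ∈ A) : cg (nn u v s) a = ⁅v (-s⁻¹), a⁆ := by
  have h1 := h.nA s hs a ha
  set M := ⁅v (-s⁻¹), a⁆ with hM
  have hMB : M ∈ B := h.vA _ _ ha
  set N := ⁅u s, M⁆ with hN
  have hNA : N ∈ A := h.uB s _ hMB
  have h2 : cg (nn u v s) a = N * M * a := by
    rw [nn, mul_cg, mul_cg, h.cuA s ha, cg_eq _ a, ← hM, cg_mul, h.cuA s ha, cg_eq _ M, ← hN]
  have h3 : N * M * a = (N * a) * M := by
    rw [mul_assoc, ← h.AB a ha M hMB, mul_assoc]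
  have h4 : N * a ∈ B := by
    rw [h2, h3] at h1
    exact (Subgroup.mul_mem_cancel_right _ hMB).1 h1
  have h5 : N * a = 1 := h.disj _ (A.mul_mem hNA ha) h4
  rw [h2, h3, h5, one_mul]

theorem ninv_A {s : F} (hs : s ≠ 0) {a : G} (ha : a ∈ A) : cg (nn u v s)⁻¹ a = ⁅v s⁻¹, a⁆ := by
  rw [h.nn_inv, h.n_A (neg_ne_zero.2 hs) ha, inv_neg, neg_neg]

theorem ninv_B {s : F} (hs : s ≠ 0) {b : G} (hb : b ∈ B) : cg (nn u v s)⁻¹ b = ⁅u (-s), b⁆ := by
  rw [h.nn_inv, h.n_B (neg_ne_zero.2 hs) hb]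

theorem ninv_A_mem {s : F} (hs : s ≠ 0) {a : G} (ha : a ∈ A) : cg (nn u v s)⁻¹ a ∈ B := by
  rw [h.ninv_A hs ha]; exact h.vA _ _ ha

theorem ninv_B_mem {s : F} (hs : s ≠ 0) {b : G} (hb : b ∈ B) : cg (nn u v s)⁻¹ b ∈ A := by
  rw [h.ninv_B hs hb]; exact h.uB _ _ hb

omit h in
variable (u v) in
/-- the scalar action on `A` -/
def act (s : F) (a : G) : G := ⁅u s, cg (nn u v 1)⁻¹ a⁆

theorem act_mem (s : F) {a : G} (ha : a ∈ A) : act u v s a ∈ A :=
  h.uB _ _ (h.ninv_A_mem one_ne_zero ha)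

theorem act_mul (s : F) {a a' : G} (ha : a ∈ A) (ha' : a' ∈ A) :
    act u v s (a * a') = act u v s a * act u v s a' := by
  rw [act, cg_mul, h.u_mul s (h.ninv_A_mem one_ne_zero ha) (h.ninv_A_mem one_ne_zero ha')]; rfl

theorem act_add (s t : F) {a : G} (ha : a ∈ A) : act u v (s + t) a = act u v s a * act u v t a :=
  h.u_add' s t (h.ninv_A_mem one_ne_zero ha)

theorem act_one {a : G} (ha : a ∈ A) : act u v 1 a = a := by
  rw [act, ← h.n_B one_ne_zero (h.ninv_A_mem one_ne_zero ha), cg_cg_inv]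

theorem act_zero (a : G) : act u v 0 a = 1 := by
  rw [act, h.u_zero]; simp

/-- the inverse action -/
theorem act_inv_left {s : F} (hs : s ≠ 0) {a : G} (ha : a ∈ A) :
    act u v s (cg (nn u v 1) ⁅v s⁻¹, a⁆) = a := by
  have hb : ⁅v s⁻¹, a⁆ ∈ B := h.vA _ _ ha
  rw [act, cg_inv_cg, ← h.n_B hs hb, ← h.ninv_A hs ha, cg_cg_inv]

theorem act_inv_right {s : F} (hs : s ≠ 0) {a : G} (ha : a ∈ A) :
    cg (nn u v 1) ⁅v s⁻¹, act u v s a⁆ = a := by
  rw [← h.ninv_A hs (h.act_mem s ha), act, ← h.n_B hs (h.ninv_A_mem one_ne_zero ha), cg_inv_cg, cg_cg_inv]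

/-- multiplicativity of the action -/
theorem act_act [Finite F] (s t : F) {a : G} (ha : a ∈ A) :
    act u v (s * t) a = act u v s (act u v t a) := by
  letI : CommGroup A := { (inferInstance : Group A) with mul_comm := fun a b => Subtype.ext (h.AA a a.2 b b.2) }
  let P : F →+ AddMonoid.End (Additive A) :=
    { toFun := fun s =>
        { toFun := fun a => Additive.ofMul ⟨act u v s (a.toMul : A), h.act_mem s (a.toMul).2⟩
          map_zero' := by
            apply Additive.toMul.injective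
            apply Subtype.ext
            change act u v s 1 = 1
            simp [act, cg]
          map_add' := fun a b => by
            apply Additive.toMul.injective
            apply Subtype.ext
            exact h.act_mul s (a.toMul).2 (b.toMul).2 }
      map_zero' := by
        ext a
        exact h.act_zero _
      map_add' := fun s t => by
        ext a
        exact h.act_add s t (a.toMul).2 }
  let P' : F →+ AddMonoid.End (Additive A) :=
    { toFun := fun s =>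
        { toFun := fun a => Additive.ofMul ⟨cg (nn u v 1) ⁅v s, ((a.toMul : A) : G)⁆,
            h.nB 1 one_ne_zero _ (h.vA _ _ (a.toMul).2)⟩
          map_zero' := by
            apply Additive.toMul.injective
            apply Subtype.ext
            change cg (nn u v 1) ⁅v s, (1 : G)⁆ = 1
            simp [cg]
          map_add' := fun a b => by
            apply Additive.toMul.injective
            apply Subtype.ext
            change cg (nn u v 1) ⁅v s, ((a.toMul : A) : G) * ((b.toMul : A) : G)⁆ = _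
            rw [h.v_mul s (a.toMul).2 (b.toMul).2, cg_mul]; rfl }
      map_zero' := by
        ext a
        change cg (nn u v 1) ⁅v 0, ((a.toMul : A) : G)⁆ = 1
        rw [h.v_zero]; simp [cg]
      map_add' := fun s t => by
        ext a
        change cg (nn u v 1) ⁅v (s + t), ((a.toMul : A) : G)⁆ = _
        rw [h.v_add' s t (a.toMul).2, cg_mul]; rfl }
  have hP := hua_ring P P' (by
      ext a
      exact h.act_one (a.toMul).2) (fun s hs => by
      ext a
      exact h.act_inv_left hs (a.toMul).2) (fun s hs => by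
      ext a
      exact h.act_inv_right hs (a.toMul).2)
  have := congrArg (fun f : AddMonoid.End (Additive A) => ((f (Additive.ofMul ⟨a, ha⟩)).toMul : G)) (hP.2 s t)
  exact this

end RMod

end Cfsg.Agent.TitsThree.C3Mod
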