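import Mathlib
import Cfsg.Agent.TitsThree.C3Grp
import Cfsg.Agent.Tits.RGEdge
/-!
# Permuting the indices of a group with root groups of type `C₃` (S1143)

`perm π C` : the same root groups with permuted indices; `Crd.perm` : the coordinates of the long root groups.
`exists_crd` : coordinates over a finite field for the triple of nodes `n` of a system of root groups.
-/

set_option autoImplicit false

namespace Cfsg.Agent.TitsThree.C3Perm

open scoped commutatorElement
open Cfsg.Agent.AGraded Cfsg.Agent.TitsThree.C3Grp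

variable {G : Type*} [Group G]

/-- The permutation of the signed indices. -/
def pm (π : Equiv.Perm (Fin 3)) (x : S) : S := (π x.1, x.2)

theorem pm_inj {π : Equiv.Perm (Fin 3)} {x y : S} : pm π x = pm π y ↔ x = y := by
  constructor
  · intro h
    have h1 := congrArg Prod.fst h
    have h2 := congrArg Prod.snd h
    exact Prod.ext (π.injective h1) h2
  · rintro rfl
    rfl

theorem pm_rZ (π : Equiv.Perm (Fin 3)) (x a : S) : pm π (rZ x a) = rZ (pm π x) (pm π a) := by
  unfold rZ
  by_cases h : a.1 = x.1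
  · rw [if_pos h, if_pos (show (pm π a).1 = (pm π x).1 from congrArg π h)]
    rfl
  · rw [if_neg h, if_neg (show ¬ (pm π a).1 = (pm π x).1 from fun h' => h (π.injective h'))]

theorem pm_rX (π : Equiv.Perm (Fin 3)) (x y a : S) : pm π (rX x y a) = rX (pm π x) (pm π y) (pm π a) := by
  have e : ∀ z : S, op (pm π z) = pm π (op z) := fun z => rfl
  unfold rX
  simp only [e, pm_inj]
  split_ifs <;> rfl

/-- Permuted indices. -/
def perm (π : Equiv.Perm (Fin 3)) (C : Grp G) : Grp G where
  X x y := C.X (pm π x) (pm π y)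
  Z x := C.Z (pm π x)
  symm x y := C.symm _ _
  xx60 x y z h1 h2 h3 := C.xx60 _ _ _ (π.injective.ne h1) (π.injective.ne h2) (π.injective.ne h3)
  xx120 x y z h1 h2 h3 := C.xx120 _ _ _ (π.injective.ne h1) (π.injective.ne h2) (π.injective.ne h3)
  xx90 x y h1 := C.xx90 _ _ (π.injective.ne h1)
  zx45 x y h1 := C.zx45 _ _ (π.injective.ne h1)
  zx90 x y z h1 h2 h3 := C.zx90 _ _ _ (π.injective.ne h1) (π.injective.ne h2) (π.injective.ne h3)
  zx135 x y h1 := C.zx135 (pm π x) (pm π y) (π.injective.ne h1)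
  zz x y h1 := C.zz _ _ (π.injective.ne h1)
  u3 x y z h1 h2 h3 := C.u3 _ _ _ (π.injective.ne h1) (π.injective.ne h2) (π.injective.ne h3)
  u2 x y h1 := C.u2 _ _ (π.injective.ne h1)
  nZ x u hu hu1 := by
    obtain ⟨v, hv, w, hw, h⟩ := C.nZ (pm π x) u hu hu1
    refine ⟨v, hv, w, hw, fun a b hab g => ?_, fun a g => ?_⟩
    · rw [pm_rZ, pm_rZ]
      exact h.X _ _ (π.injective.ne hab) g
    · rw [pm_rZ]
      exact h.Z _ g
  nX x y hxy u hu hu1 := by
    obtain ⟨v, hv, w, hw, h⟩ := C.nX (pm π x) (pm π y) (π.injective.ne hxy) u hu hu1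
    refine ⟨v, hv, w, hw, fun a b hab g => ?_, fun a g => ?_⟩
    · rw [pm_rX, pm_rX]
      exact h.X _ _ (π.injective.ne hab) g
    · rw [pm_rX]
      exact h.Z _ g
  Z_ne x := C.Z_ne _

theorem perm_X (π : Equiv.Perm (Fin 3)) (C : Grp G) (x y : S) : (perm π C).X x y = C.X (pm π x) (pm π y) := rfl

theorem perm_Z (π : Equiv.Perm (Fin 3)) (C : Grp G) (x : S) : (perm π C).Z x = C.Z (pm π x) := rfl

theorem crd_perm (π : Equiv.Perm (Fin 3)) {C : Grp G} {F : Type*} [Field F] {x : Fin 3 → Fin 3 → F → G}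
    (hx : Crd C x) : Crd (perm π C) (fun i j => x (π i) (π j)) where
  stein :=
    { add := fun i j hij => hx.stein.add _ _ (π.injective.ne hij)
      comm := fun i j k l h1 h2 h3 h4 => hx.stein.comm _ _ _ _ (π.injective.ne h1) (π.injective.ne h2)
        (π.injective.ne h3) (π.injective.ne h4)
      br := fun i j k h1 h2 h3 => hx.stein.br _ _ _ (π.injective.ne h1) (π.injective.ne h2)
        (π.injective.ne h3) }
  mem i j hij := by
    rw [perm_X]
    exact hx.mem _ _ (π.injective.ne hij)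
  surj i j hij := by
    rw [perm_X]
    exact hx.surj _ _ (π.injective.ne hij)
  inj i j hij := hx.inj _ _ (π.injective.ne hij)

section RG

open CoxeterSystem Cfsg.Agent.ChevalleyStructure.CoxeterGeom Cfsg.Agent.Tits.Roots
open Cfsg.Agent.Tits.RGSys Cfsg.Agent.Tits.MouA2 Cfsg.Agent.Tits

variable {I W : Type*} [Fintype I] [DecidableEq I] [Group W] {M : CoxeterMatrix I}
  {cs : CoxeterSystem M W} {A : I → I → ℤ} {h : IsCartan M A} {Y : Type*} [Group Y]
  {X : (I → ℤ) → Subgroup Y} {St : W → Subgroup Y} (hX : RG cs h X St)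

omit [Fintype I] in
theorem E_sub (n : Fin 3 → I) (a b : Fin 3) :
    C3Roots.E n a - C3Roots.E n b = p (n 0) (n 1) a - p (n 0) (n 1) b := by
  have e : ∀ c, C3Roots.E n c = p (n 0) (n 1) c + sr (n 2) := by
    intro c
    fin_cases c <;> simp [C3Roots.E, p]
  rw [e, e, add_sub_add_right_eq_sub]

include hX in
/-- Coordinates of the long root groups of a triple of nodes. -/
theorem exists_crd [Finite Y] {n : Fin 3 → I} (h01 : M (n 0) (n 1) = 3) (C : Grp Y)
    (hC : ∀ x y, x.1 ≠ y.1 → C.X x y = X (C3Roots.b n x + C3Roots.b n y)) :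
    ∃ (F : Type) (_ : Field F) (_ : Finite F) (x : Fin 3 → Fin 3 → F → Y), Crd C x := by
  obtain ⟨F, i1, i2, x, hx, hr⟩ := A2Field.exists_field (graded h01 hX) (rgd h01 hX)
  have e : ∀ i j : Fin 3, i ≠ j → C.X (i, true) (j, false) = X3 X (n 0) (n 1) i j := by
    intro i j hij
    rw [hC _ _ hij, X3, ← E_sub]
    simp [C3Roots.b, sub_eq_add_neg]
  refine ⟨F, i1, Finite.of_fintype F, x, hx, ?_, ?_, ?_⟩
  · intro i j hij t
    rw [e i j hij]
    exact (hr i j hij).1 t
  · intro i j hij g hg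
    rw [e i j hij] at hg
    obtain ⟨t, ht, -⟩ := (hr i j hij).2 g hg
    exact ⟨t, ht⟩
  · intro i j hij s t hst
    exact ((hr i j hij).2 _ ((hr i j hij).1 s)).unique rfl hst.symm

end RG

end Cfsg.Agent.TitsThree.C3Perm
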