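import Cfsg.Agent.TitsThree.C3Grp
import Cfsg.Agent.TitsThree.PQAbs

/-!
# Short root groups of a group of type `C₃` (S1143)

`L : Long C F` coordinates of the long root groups.  For `u ∈ Z y` we have
`E x y a * u * (E x y a)⁻¹ = P x y a u * E x (op y) (Q x y a u) * u`.  The functions `P`, `Q` satisfy
`P x z a (P z y b u) = P x y (a b) u`, `Q x y a u = a * Q₁ y u`, `Q₁ z (P z y b u) = g z / g y * b σ b * Q₁ y u`.
-/

set_option autoImplicit false

namespace Cfsg.Agent.TitsThree.C3Short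

open scoped commutatorElement
open Cfsg.Agent.AGraded Cfsg.Agent.TitsThree.C3Grp

variable {G : Type*} [Group G] {C : Grp G} {F : Type*} [Field F] (L : Long C F)

/-- the scalars -/
def g (x : S) : F := gg L.ε x

theorem ε_ne : L.ε ≠ 0 := by
  intro h
  have := L.ε_mul
  rw [h, zero_mul] at this
  exact zero_ne_one this

theorem σε : L.σ L.ε = L.ε⁻¹ := eq_inv_of_mul_eq_one_right L.ε_mul

theorem g_ne (x : S) : g L x ≠ 0 := by
  unfold g gg
  split_ifs
  · exact ε_ne L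
  · exact one_ne_zero

theorem σg (x : S) : L.σ (g L x) = L.ε⁻¹ * g L (op x) := by
  obtain ⟨i, b⟩ := x
  have := ε_ne L
  cases b
  · simp [g, ε_ne L]
  · simp [g, σε L]

theorem zero {x y : S} (hxy : x.1 ≠ y.1) : L.E x y 0 = 1 := by
  have := L.add x y hxy 0 0
  rw [add_zero] at this; simpa using this

theorem neg {x y : S} (hxy : x.1 ≠ y.1) (t : F) : L.E x y (-t) = (L.E x y t)⁻¹ := by
  rw [eq_inv_iff_mul_eq_one, ← L.add x y hxy, neg_add_cancel, zero L hxy]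

theorem eq_one_iff {x y : S} (hxy : x.1 ≠ y.1) {t : F} : L.E x y t = 1 ↔ t = 0 := by
  constructor
  · intro h
    apply L.inj x y hxy
    rw [h, zero L hxy]
  · rintro rfl; exact zero L hxy

/-- membership in the group of the other orientation -/
theorem mem' {x y : S} (hxy : x.1 ≠ y.1) (t : F) : L.E x y t ∈ C.X (op y) x := by
  rw [C.symm]; exact L.mem x y hxy t

theorem memo {x y : S} (hxy : x.1 ≠ y.1) (t : F) : L.E x (op y) t ∈ C.X x y := by
  have := L.mem x (op y) (by simpa using hxy) t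
  rwa [op_op] at this

/-! ### conjugation formulas for the long root groups -/

section Long

variable {x y z : S} (hxy : x.1 ≠ y.1) (hxz : x.1 ≠ z.1) (hyz : y.1 ≠ z.1)
include hxy hxz hyz

theorem c_xx (s t : F) : cg (L.E x y s) (L.E x z t) = L.E x z t :=
  cg_of_comm (C.xx60 x (op y) (op z) (by simpa) (by simpa) (by simpa) _ (L.mem _ _ hxy _) _
    (L.mem _ _ hxz _))

theorem c_yy (s t : F) : cg (L.E x y s) (L.E z y t) = L.E z y t :=
  cg_of_comm (C.xx60 (op y) x z (by simpa using Ne.symm hxy) (by simpa) hxz _ (mem' L hxy _) _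
    (mem' L (Ne.symm hyz) _))

theorem c_l (s t : F) : cg (L.E x y s) (L.E y z t) = L.E x z (s * t) * L.E y z t := by
  rw [cg_eq, L.br x y z hxy hxz hyz]

theorem c_r (s t : F) : cg (L.E y z t) (L.E x y s) = L.E x z (-(s * t)) * L.E x y s := by
  rw [cg_eq, ← commutatorElement_inv, L.br x y z hxy hxz hyz, neg L hxz]

/-- conjugation of `E x (op y)` by `E z y` -/
theorem c_f (b s : F) : cg (L.E z y b) (L.E x (op y) s) =
    L.E x (op z) (g L z * (g L y)⁻¹ * L.σ b * s) * L.E x (op y) s := by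
  have h1 := L.swap x (op y) (by simpa using hxy) s
  rw [op_op] at h1
  rw [h1, c_l L (x := z) (y := y) (z := op x) (Ne.symm hyz) (by simpa using Ne.symm hxz)
    (by simpa using Ne.symm hxy)]
  congr 1
  rw [L.swap z (op x) (by simpa using Ne.symm hxz), op_op]
  congr 1
  change -(g L z * (g L (op x))⁻¹ * L.σ (b * -(g L x * (g L (op y))⁻¹ * L.σ s))) = _
  rw [map_mul, map_neg, map_mul, map_mul, map_inv₀, σg, σg, L.σσ, op_op]
  have h2 := g_ne L (op x)
  have h3 := ε_ne L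
  have h4 := g_ne L y
  field_simp

/-- `E y z` fixes `Z x` -/
theorem c_z90 (t : F) {u : G} (hu : u ∈ C.Z x) : cg (L.E y z t) u = u :=
  cg_of_comm (C.zx90 x y (op z) hxy (by simpa) (by simpa) u hu _ (L.mem y z hyz t)).symm

theorem c_z90' (t : F) {u : G} (hu : u ∈ C.Z x) : cg u (L.E y z t) = L.E y z t :=
  cg_of_comm (C.zx90 x y (op z) hxy (by simpa) (by simpa) u hu _ (L.mem y z hyz t))

end Long

section Two

variable {x y : S} (hxy : x.1 ≠ y.1)
include hxy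

/-- `E x y` fixes `Z x` -/
theorem c_z45 (t : F) {u : G} (hu : u ∈ C.Z x) : cg (L.E x y t) u = u :=
  cg_of_comm (C.zx45 x (op y) (by simpa) u hu _ (L.mem x y hxy t)).symm

theorem c_z45' (t : F) {u : G} (hu : u ∈ C.Z x) : cg u (L.E x y t) = L.E x y t :=
  cg_of_comm (C.zx45 x (op y) (by simpa) u hu _ (L.mem x y hxy t))

/-- `E x (op y)` commutes with `Z y` -/
theorem c_z45o (t : F) {u : G} (hu : u ∈ C.Z y) : cg (L.E x (op y) t) u = u :=
  cg_of_comm (C.zx45 y x (Ne.symm hxy) u hu _ (by rw [C.symm]; exact memo L hxy t)).symm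

theorem c_z45o' (t : F) {u : G} (hu : u ∈ C.Z y) : cg u (L.E x (op y) t) = L.E x (op y) t :=
  cg_of_comm (C.zx45 y x (Ne.symm hxy) u hu _ (by rw [C.symm]; exact memo L hxy t))

end Two

/-! ### `P` and `Q` -/

theorem exists_PQ {x y : S} (hxy : x.1 ≠ y.1) (a : F) {u : G} (hu : u ∈ C.Z y) :
    ∃ p : G, ∃ q : F, p ∈ C.Z x ∧ cg (L.E x y a) u = p * L.E x (op y) q * u := by
  obtain ⟨p, hp, e, he, h⟩ := C.zx135 x y hxy _ (L.mem x y hxy a) u hu
  obtain ⟨q, rfl⟩ := L.surj x (op y) (by simpa) e (by simpa using he)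
  exact ⟨p, q, hp, by rw [cg_eq, h]⟩

open Classical in
/-- the `Z x` component -/
noncomputable def P (x y : S) (a : F) (u : G) : G :=
  if h : x.1 ≠ y.1 ∧ u ∈ C.Z y then (exists_PQ L h.1 a h.2).choose else 1

open Classical in
/-- the `X x y` component -/
noncomputable def Q (x y : S) (a : F) (u : G) : F :=
  if h : x.1 ≠ y.1 ∧ u ∈ C.Z y then (exists_PQ L h.1 a h.2).choose_spec.choose else 0

theorem P_mem {x y : S} (hxy : x.1 ≠ y.1) (a : F) {u : G} (hu : u ∈ C.Z y) : P L x y a u ∈ C.Z x := by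
  unfold P
  rw [dif_pos ⟨hxy, hu⟩]
  exact (exists_PQ L hxy a hu).choose_spec.choose_spec.1

theorem PQ {x y : S} (hxy : x.1 ≠ y.1) (a : F) {u : G} (hu : u ∈ C.Z y) :
    cg (L.E x y a) u = P L x y a u * L.E x (op y) (Q L x y a u) * u := by
  unfold P Q
  rw [dif_pos ⟨hxy, hu⟩, dif_pos ⟨hxy, hu⟩]
  exact (exists_PQ L hxy a hu).choose_spec.choose_spec.2

/-- uniqueness in `Z x * X x y` -/
theorem uniq2 {x y : S} (hxy : x.1 ≠ y.1) {p p' : G} {q q' : F} (hp : p ∈ C.Z x) (hp' : p' ∈ C.Z x)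
    (h : p * L.E x (op y) q = p' * L.E x (op y) q') : p = p' ∧ q = q' := by
  have h1 : (p'⁻¹ * p) * L.E x (op y) (q - q') * 1 = 1 := by
    have e : L.E x (op y) (q - q') = L.E x (op y) q * (L.E x (op y) q')⁻¹ := by
      rw [sub_eq_add_neg, L.add x (op y) (by simpa), neg L (by simpa)]
    rw [e, mul_one, mul_assoc, ← mul_assoc p, h]
    group
  obtain ⟨h2, h3, -⟩ := C.u2 x y hxy _ (mul_mem (inv_mem hp') hp) _ (memo L hxy _) _ (one_mem _) h1
  exact ⟨(inv_mul_eq_one.1 h2).symm, sub_eq_zero.1 ((eq_one_iff L (by simpa)).1 h3)⟩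

/-- uniqueness in `Z x * X x z * X x y` -/
theorem uniq3 {x y z : S} (hxy : x.1 ≠ y.1) (hxz : x.1 ≠ z.1) (hyz : y.1 ≠ z.1) {p p' : G}
    {v w w' : F} (hp : p ∈ C.Z x) (hp' : p' ∈ C.Z x)
    (h : p * L.E x (op z) v * L.E x (op y) w = p' * L.E x (op y) w') : v = 0 ∧ p = p' ∧ w = w' := by
  have h1 : (p'⁻¹ * p) * 1 * 1 * 1 * L.E x (op z) v * 1 * L.E x (op y) (w - w') = 1 := by
    have e : L.E x (op y) (w - w') = L.E x (op y) w * (L.E x (op y) w')⁻¹ := by
      rw [sub_eq_add_neg, L.add x (op y) (by simpa), neg L (by simpa)]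
    have : p'⁻¹ * (p * L.E x (op z) v * L.E x (op y) w) * (L.E x (op y) w')⁻¹ = 1 := by
      rw [h]; group
    rw [e]
    refine Eq.trans ?_ this
    group
  have c1 : L.E x (op z) v * L.E x (op y) (w - w') = L.E x (op y) (w - w') * L.E x (op z) v :=
    comm_of_cg (c_xx L (by simpa) (by simpa) (by simpa using Ne.symm hyz) _ _)
  have h2 : (p'⁻¹ * p) * 1 * 1 * L.E x (op y) (w - w') * L.E x (op z) v * 1 = 1 := by
    refine Eq.trans ?_ h1
    simp only [mul_one]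
    rw [mul_assoc, ← c1, ← mul_assoc]
  obtain ⟨h3, -, -, h4, h5, -⟩ := C.u3 x y z hxy hxz hyz _ (mul_mem (inv_mem hp') hp) _ (one_mem _) _
    (one_mem _) _ (memo L hxy _) _ (memo L hxz _) _ (one_mem _) h2
  exact ⟨(eq_one_iff L (by simpa)).1 h5, (inv_mul_eq_one.1 h3).symm,
    sub_eq_zero.1 ((eq_one_iff L (by simpa)).1 h4)⟩

theorem PQ_unique {x y : S} (hxy : x.1 ≠ y.1) {a : F} {u p : G} {q : F} (hu : u ∈ C.Z y)
    (hp : p ∈ C.Z x) (h : cg (L.E x y a) u = p * L.E x (op y) q * u) : P L x y a u = p ∧ Q L x y a u = q := by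
  rw [PQ L hxy a hu] at h
  exact uniq2 L hxy (P_mem L hxy a hu) hp (mul_right_cancel h)

theorem P_one {x y : S} (hxy : x.1 ≠ y.1) (a : F) : P L x y a 1 = 1 :=
  (PQ_unique L hxy (q := 0) (one_mem _) (one_mem _) (by
    rw [cg_one, zero L (by simpa), mul_one, mul_one])).1

/-! ### the main relation -/

theorem main {x y z : S} (hxy : x.1 ≠ y.1) (hxz : x.1 ≠ z.1) (hyz : y.1 ≠ z.1) (a b : F) {u : G}
    (hu : u ∈ C.Z y) :
    P L x y (a * b) u = P L x z (-a) (P L z y (-b) u) ∧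
      Q L x y (a * b) u = -(a * Q L z y (-b) u) ∧
      Q L x z (-a) (P L z y (-b) u) = g L z * (g L y)⁻¹ * L.σ b * a * Q L z y (-b) u := by
  have hzy := Ne.symm hyz
  have hzx := Ne.symm hxz
  have hyx := Ne.symm hxy
  set p := P L z y (-b) u with hp
  set q := Q L z y (-b) u with hq
  have hpm : p ∈ C.Z z := P_mem L hzy _ hu
  set p' := P L x z (-a) p with hp'
  set q' := Q L x z (-a) p with hq'
  have hpm' : p' ∈ C.Z x := P_mem L hxz _ hpm
  have s1 : cg (L.E z y b)⁻¹ u = p * L.E z (op y) q * u := by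
    rw [← neg L hzy, PQ L hzy _ hu]
  have k1 : p * L.E x (op y) (-(a * q)) = L.E x (op y) (-(a * q)) * p :=
    comm_of_cg (c_z90' L (x := z) (y := x) (z := op y) hzx (by simpa) (by simpa) _ hpm)
  have s2 : cg (L.E x z a)⁻¹ (cg (L.E z y b)⁻¹ u) =
      p' * L.E x (op z) q' * L.E x (op y) (-(a * q)) * (cg (L.E z y b)⁻¹ u) := by
    rw [s1, ← neg L hxz, cg_mul, cg_mul, PQ L hxz _ hpm, c_l L hxz (z := op y) (by simpa) (by simpa),
      c_z90 L (x := y) (y := x) (z := z) hyx hyz hxz _ hu, neg_mul]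
    calc p' * L.E x (op z) q' * p * (L.E x (op y) (-(a * q)) * L.E z (op y) q) * u
        = p' * L.E x (op z) q' * (p * L.E x (op y) (-(a * q))) * (L.E z (op y) q * u) := by group
      _ = p' * L.E x (op z) q' * (L.E x (op y) (-(a * q)) * p) * (L.E z (op y) q * u) := by rw [k1]
      _ = _ := by group
  set κ := g L z * (g L y)⁻¹ * L.σ b * (-(a * q)) with hκ
  have s3 : cg (L.E z y b) (cg (L.E x z a)⁻¹ (cg (L.E z y b)⁻¹ u)) =
      p' * L.E x (op z) (q' + κ) * L.E x (op y) (-(a * q)) * u := by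
    rw [s2, cg_mul, cg_mul, cg_mul, cg_cg_inv, c_z90 L (x := x) (y := z) (z := y) hxz hxy hzy _ hpm',
      c_f L hxy hxz hyz, ← hκ, L.add x (op z) (by simpa)]
    have k2 : cg (L.E z y b) (L.E x (op z) q') = L.E x (op z) q' :=
      cg_of_comm (C.xx60 z (op y) x (by simpa) hzx (by simpa) _ (L.mem z y hzy b) _
        (by rw [C.symm]; exact memo L hxz _))
    rw [k2]
    group
  have s4 : cg (L.E x y (a * b)) u =
      (p' * ⁅L.E x z a, L.E x (op z) (q' + κ)⁆) * L.E x (op z) (q' + κ) * L.E x (op y) (-(a * q)) * u := by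
    rw [← L.br x z y hxz hxy hzy, commutatorElement_def, mul_cg, mul_cg, mul_cg, s3, cg_mul, cg_mul,
      cg_mul, c_z45 L hxz _ hpm', cg_eq _ (L.E x (op z) (q' + κ)),
      c_xx L hxz (z := op y) (by simpa) (by simpa),
      c_z90 L (x := y) (y := x) (z := z) hyx hyz hxz _ hu]
    group
  have hc : ⁅L.E x z a, L.E x (op z) (q' + κ)⁆ ∈ C.Z x := by
    have := C.xx90 x (op z) (by simpa) _ (L.mem x z hxz a) _ (L.mem x (op z) (by simpa) (q' + κ))
    exact this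
  rw [PQ L hxy _ hu] at s4
  obtain ⟨h1, h2, h3⟩ := uniq3 L hxy hxz hyz (mul_mem hpm' hc) (P_mem L hxy _ hu)
    (mul_right_cancel s4).symm
  refine ⟨?_, h3.symm, ?_⟩
  · rw [← h2, h1, zero L (by simpa)]; simp
  · rw [hκ] at h1
    linear_combination h1

/-! ### consequences for `Q` and `P` -/

theorem P_zero {x y : S} (hxy : x.1 ≠ y.1) {u : G} (hu : u ∈ C.Z y) : P L x y 0 u = 1 :=
  (PQ_unique L hxy (q := 0) hu (one_mem _) (by
    rw [zero L hxy, zero L (by simpa)]; simp [cg])).1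

/-- `Q x y a u = a * Q₁ y u`, first form -/
theorem Q_lin {x y z : S} (hxy : x.1 ≠ y.1) (hxz : x.1 ≠ z.1) (hyz : y.1 ≠ z.1) (a : F) {u : G}
    (hu : u ∈ C.Z y) : Q L x y a u = a * Q L z y 1 u := by
  have h1 := (main L (Ne.symm hyz) (Ne.symm hxz) (Ne.symm hxy) (-1) 1 hu).2.1
  rw [mul_one] at h1
  have h2 := (main L hxy hxz hyz a 1 hu).2.1
  have h3 := (main L (Ne.symm hyz) (Ne.symm hxz) (Ne.symm hxy) 1 1 hu).2.1
  have h4 := (main L hxy hxz hyz (-1) 1 hu).2.1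
  rw [mul_one] at h2 h3 h4
  rw [h2, h3]
  have h5 : Q L z y (-1) u = Q L x y (-1) u := by rw [h1]; ring
  rw [h5]
  ring

theorem Q_eq {x x' y : S} (hxy : x.1 ≠ y.1) (hxy' : x'.1 ≠ y.1) {u : G} (hu : u ∈ C.Z y) :
    Q L x y 1 u = Q L x' y 1 u := by
  by_cases hxx : x.1 = x'.1
  · obtain ⟨z, hzx, hzy⟩ := exists_third x y
    rw [Q_lin L hxy (Ne.symm hzx) (Ne.symm hzy) 1 hu,
      Q_lin L hxy' (hxx ▸ Ne.symm hzx) (Ne.symm hzy) 1 hu]
  · rw [Q_lin L hxy hxx (Ne.symm hxy') 1 hu, one_mul]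

theorem Q_smul {x y : S} (hxy : x.1 ≠ y.1) (a : F) {u : G} (hu : u ∈ C.Z y) :
    Q L x y a u = a * Q L x y 1 u := by
  obtain ⟨z, hzx, hzy⟩ := exists_third x y
  rw [Q_lin L hxy (Ne.symm hzx) (Ne.symm hzy) a hu, Q_eq L hzy hxy hu]

/-- composition of the `P`'s -/
theorem P_P {x y z : S} (hxy : x.1 ≠ y.1) (hxz : x.1 ≠ z.1) (hyz : y.1 ≠ z.1) (a b : F) {u : G}
    (hu : u ∈ C.Z y) : P L x z a (P L z y b u) = P L x y (a * b) u := by
  have := (main L hxy hxz hyz (-a) (-b) hu).1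
  rw [neg_neg, neg_neg, neg_mul_neg] at this
  exact this.symm

/-- `Q` of `P` -/
theorem Q_P {y z : S} (hyz : y.1 ≠ z.1) (x : S) (hxz : x.1 ≠ z.1) (b : F) {u : G}
    (hu : u ∈ C.Z y) : Q L x z 1 (P L z y b u) =
      g L z * (g L y)⁻¹ * (b * L.σ b) * Q L z y 1 u := by
  obtain ⟨x', hx'y, hx'z⟩ := exists_third y z
  rw [Q_eq L hxz hx'z (P_mem L (Ne.symm hyz) b hu)]
  have h1 := (main L hx'y hx'z hyz (-1) (-b) hu).2.2
  rw [neg_neg, neg_neg, Q_smul L (Ne.symm hyz) b hu, map_neg] at h1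
  rw [h1]
  ring

/-! ### the elements `n` of the short roots -/

/-- The standard element attached to `u ∈ Z y`: conjugation maps `E x y a` to `E x (op y) (-Q)`. -/
theorem m_E {x y : S} (hxy : x.1 ≠ y.1) {u v w : G} (hu : u ∈ C.Z y) (hv : v ∈ C.Z (op y))
    (hw : w ∈ C.Z (op y)) (hm : Acts C.X C.Z (v * u * w) (rZ y)) (a : F) :
    cg (v * u * w) (L.E x y a) = L.E x (op y) (-(Q L x y a u)) := by
  set p := P L x y a u with hp
  set q := Q L x y a u with hq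
  have hpm : p ∈ C.Z x := P_mem L hxy a hu
  have hEo : x.1 ≠ (op y).1 := by simpa
  -- conjugation by `u`
  have s1 : cg u (L.E x y a) = (L.E x (op y) q)⁻¹ * (p⁻¹ * L.E x y a) := by
    have h1 := PQ L hxy a hu
    rw [← hp, ← hq] at h1
    unfold cg at h1 ⊢
    have h2 : L.E x y a * u = p * L.E x (op y) q * u * L.E x y a := by rw [← h1]; group
    have h3 : u * L.E x y a = (L.E x (op y) q)⁻¹ * p⁻¹ * (L.E x y a * u) := by rw [h2]; group
    rw [h3]; group
  have s0 : cg w (L.E x y a) = L.E x y a := by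
    have := c_z45o' L (x := x) (y := op y) (by simpa) a (u := w) hw
    rwa [op_op] at this
  have s2 : cg (v * u * w) (L.E x y a) = cg v (L.E x (op y) q)⁻¹ * cg v (p⁻¹ * L.E x y a) := by
    rw [mul_cg, mul_cg, s0, s1, cg_mul]
  -- the subgroup `K = Z x * X x (op y)`
  have hzX : ∀ z ∈ C.Z x, ∀ f ∈ C.X x (op y), z * f = f * z := fun z hz f hf => C.zx45 x (op y) hEo z hz f hf
  obtain ⟨z1, hz1, f1, hf1, e1⟩ := C.zx135 x (op y) hEo (L.E x (op y) q)
    (by rw [op_op]; exact memo L hxy q) v hv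
  -- `cg v (p⁻¹ * E) = f2 * p⁻¹ * E`
  have s3 : cg v (p⁻¹ * L.E x y a) = ⁅v, p⁻¹⁆ * p⁻¹ * L.E x y a := by
    rw [cg_mul, cg_eq v p⁻¹]
    have := c_z45o' L (x := x) (y := op y) (by simpa) a (u := v) hv
    rw [op_op] at this
    rw [this]
  have hf2 : ⁅v, p⁻¹⁆ ∈ C.X x (op y) := by
    rw [C.symm]; exact C.zz (op y) x (by simpa using Ne.symm hxy) v hv _ (inv_mem hpm)
  set f2 := ⁅v, p⁻¹⁆ with hf2'
  -- `cg v e⁻¹`
  have s4 : cg v (L.E x (op y) q)⁻¹ = (L.E x (op y) q)⁻¹ * (z1 * f1) := by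
    rw [← e1, comm_eq]
    unfold cg
    group
  have hE := L.mem x y hxy a
  have s5 : cg (v * u * w) (L.E x y a) =
      (L.E x (op y) q)⁻¹ * ((z1 * p⁻¹) * (f1 * f2 * L.E x y a)) := by
    rw [s2, s3, s4]
    have k1 := hzX _ (inv_mem hpm) _ (mul_mem hf1 hf2)
    calc (L.E x (op y) q)⁻¹ * (z1 * f1) * (f2 * p⁻¹ * L.E x y a)
        = (L.E x (op y) q)⁻¹ * (z1 * ((f1 * f2) * p⁻¹) * L.E x y a) := by group
      _ = (L.E x (op y) q)⁻¹ * (z1 * (p⁻¹ * (f1 * f2)) * L.E x y a) := by rw [k1]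
      _ = _ := by group
  have h6 : cg (v * u * w) (L.E x y a) ∈ C.X x y := by
    have h7 := (acts_X hm hEo).1 hE
    have e : rZ y x = x := by simp [rZ, hxy]
    have e' : rZ y (op y) = y := by simp [rZ]
    rwa [e, e'] at h7
  set t := cg (v * u * w) (L.E x y a) with ht
  have h8 : L.E x (op y) q * t ∈ C.X x y := mul_mem (memo L hxy q) h6
  have h9 : (z1 * p⁻¹) * (L.E x (op y) q * t)⁻¹ * (f1 * f2 * L.E x y a) = 1 := by
    have k2 : L.E x (op y) q * t = (z1 * p⁻¹) * (f1 * f2 * L.E x y a) := by rw [s5]; group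
    have k3 := C.zx45 x y hxy _ (mul_mem hz1 (inv_mem hpm)) _ (inv_mem h8)
    rw [k3, mul_assoc, ← k2]; group
  obtain ⟨-, h10, -⟩ := C.u2 x y hxy _ (mul_mem hz1 (inv_mem hpm)) _ (inv_mem h8) _
    (mul_mem (mul_mem hf1 hf2) hE) h9
  rw [neg L hEo]
  have h11 : L.E x (op y) q * t = 1 := inv_eq_one.1 h10
  exact eq_inv_of_mul_eq_one_right h11

theorem Q_ne {x y : S} (hxy : x.1 ≠ y.1) {u : G} (hu : u ∈ C.Z y) (hu1 : u ≠ 1) :
    Q L x y 1 u ≠ 0 := by
  intro h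
  obtain ⟨v, hv, w, hw, hm⟩ := C.nZ y u hu hu1
  have h1 := m_E L hxy hu hv hw hm 1
  rw [h, neg_zero, zero L (by simpa)] at h1
  have h2 : L.E x y 1 = 1 := by
    apply cg_injective (v * u * w)
    rw [h1, cg_one]
  exact one_ne_zero ((eq_one_iff L hxy).1 h2)

theorem P_ne {x y : S} (hxy : x.1 ≠ y.1) {a : F} (ha : a ≠ 0) {u : G} (hu : u ∈ C.Z y) (hu1 : u ≠ 1) :
    P L x y a u ≠ 1 := by
  intro h
  have h1 := Q_P L (Ne.symm hxy) y (Ne.symm hxy) a hu
  rw [h] at h1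
  have h2 : Q L y x 1 1 = 0 := by
    have := (PQ_unique L (Ne.symm hxy) (a := 1) (u := (1 : G)) (q := 0) (one_mem _) (one_mem _) (by
      rw [cg_one, zero L (by simpa using Ne.symm hxy), mul_one, mul_one])).2
    exact this
  rw [h2] at h1
  have h3 : a * L.σ a ≠ 0 := mul_ne_zero ha ((map_ne_zero_iff L.σ L.σ.injective).2 ha)
  exact (mul_ne_zero (mul_ne_zero (mul_ne_zero (g_ne L x) (inv_ne_zero (g_ne L y))) h3)
    (Q_ne L hxy hu hu1)) h1.symm

end Cfsg.Agent.TitsThree.C3Short
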