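import Cfsg.Agent.TitsThree.C3Short

/-!
# The pseudo-quadratic system of a group of type `C₃` (S1143)

`H x y p q` : the commutator of `Z x` and `Z y`; `Φ x u` : the commutators of `X x y` and `X x (op y)`.
`ζ x : Z (0,true) → Z x` compatible isomorphisms.
-/

set_option autoImplicit false

namespace Cfsg.Agent.TitsThree.C3Sys

open scoped commutatorElement
open Cfsg.Agent.AGraded Cfsg.Agent.TitsThree.C3Grp Cfsg.Agent.TitsThree.C3Short

variable {G : Type*} [Group G] {C : Grp G} {F : Type*} [Field F] (L : Long C F)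

/-! ### commutators of short root groups -/

theorem exists_H {x y : S} (hxy : x.1 ≠ y.1) {p q : G} (hp : p ∈ C.Z x) (hq : q ∈ C.Z y) :
    ∃ t : F, ⁅p, q⁆ = L.E x (op y) t := by
  obtain ⟨t, ht⟩ := L.surj x (op y) (by simpa) _ (by simpa using C.zz x y hxy p hp q hq)
  exact ⟨t, ht.symm⟩

open Classical in
/-- the commutator of two short root elements -/
noncomputable def H (x y : S) (p q : G) : F :=
  if h : x.1 ≠ y.1 ∧ p ∈ C.Z x ∧ q ∈ C.Z y then (exists_H L h.1 h.2.1 h.2.2).choose else 0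

theorem H_spec {x y : S} (hxy : x.1 ≠ y.1) {p q : G} (hp : p ∈ C.Z x) (hq : q ∈ C.Z y) :
    ⁅p, q⁆ = L.E x (op y) (H L x y p q) := by
  unfold H
  rw [dif_pos ⟨hxy, hp, hq⟩]
  exact (exists_H L hxy hp hq).choose_spec

theorem E_inj {x y : S} (hxy : x.1 ≠ y.1) {s t : F} (h : L.E x y s = L.E x y t) : s = t :=
  L.inj x y hxy h

theorem H_unique {x y : S} (hxy : x.1 ≠ y.1) {p q : G} (hp : p ∈ C.Z x) (hq : q ∈ C.Z y) {t : F}
    (h : ⁅p, q⁆ = L.E x (op y) t) : H L x y p q = t :=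
  E_inj L (x := x) (y := op y) (by simpa) (by rw [← h, H_spec L hxy hp hq])

theorem comm_mul_left (a b c : G) : ⁅a * b, c⁆ = cg a ⁅b, c⁆ * ⁅a, c⁆ := by
  simp [cg, commutatorElement_def, mul_assoc]

theorem comm_mul_right (a b c : G) : ⁅a, b * c⁆ = ⁅a, b⁆ * cg b ⁅a, c⁆ := by
  simp [cg, commutatorElement_def, mul_assoc]

theorem H_mul {x y : S} (hxy : x.1 ≠ y.1) {p p' q : G} (hp : p ∈ C.Z x) (hp' : p' ∈ C.Z x)
    (hq : q ∈ C.Z y) : H L x y (p * p') q = H L x y p q + H L x y p' q := by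
  apply H_unique L hxy (mul_mem hp hp') hq
  rw [comm_mul_left, H_spec L hxy hp hq, H_spec L hxy hp' hq,
    c_z45' L (x := x) (y := op y) (by simpa) _ hp, add_comm, L.add x (op y) (by simpa)]

/-- `E x (op y)` in the other orientation -/
theorem swap' {x y : S} (hxy : x.1 ≠ y.1) (t : F) :
    L.E x (op y) t = L.E y (op x) (-(g L x * (g L (op y))⁻¹ * L.σ t)) := by
  have h1 := L.swap x (op y) (by simpa using hxy) t
  rw [op_op] at h1
  exact h1

theorem H_swap {x y : S} (hxy : x.1 ≠ y.1) {p q : G} (hp : p ∈ C.Z x) (hq : q ∈ C.Z y) :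
    H L y x q p = g L x * (g L (op y))⁻¹ * L.σ (H L x y p q) := by
  apply H_unique L (Ne.symm hxy) hq hp
  rw [← commutatorElement_inv, H_spec L hxy hp hq, swap' L hxy, ← neg L (by simpa using Ne.symm hxy),
    neg_neg]

theorem H_P {x y z : S} (hxy : x.1 ≠ y.1) (hxz : x.1 ≠ z.1) (hyz : y.1 ≠ z.1) (a : F) {p q : G}
    (hp : p ∈ C.Z x) (hq : q ∈ C.Z y) : H L z y (P L z x a p) q = a * H L x y p q := by
  have hzx := Ne.symm hxz
  have hzy := Ne.symm hyz
  have hyx := Ne.symm hxy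
  have hP := P_mem L hzx a hp
  have h1 : cg (L.E z x a) ⁅p, q⁆ = L.E z (op y) (a * H L x y p q) * L.E x (op y) (H L x y p q) := by
    rw [H_spec L hxy hp hq, c_l L hzx (z := op y) (by simpa) (by simpa)]
  have h2 : cg (L.E z x a) ⁅p, q⁆ = L.E x (op y) (H L x y p q) * L.E z (op y) (H L z y (P L z x a p) q) := by
    have k1 : ⁅L.E z (op x) (Q L z x a p), q⁆ = 1 := by
      rw [commutatorElement_eq_one_iff_mul_comm]
      exact comm_of_cg (c_z90 L (x := y) (y := z) (z := op x) hyz (by simpa) (by simpa) _ hq)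
    have k2 : cg (L.E z (op x) (Q L z x a p)) (L.E x (op y) (H L x y p q)) =
        L.E x (op y) (H L x y p q) :=
      cg_of_comm (C.xx60 x z y hxz hxy hzy _ (by rw [C.symm]; exact memo L hzx _) _ (memo L hxy _))
    rw [cg_comm, PQ L hzx a hp, c_z90 L (x := y) (y := z) (z := x) hyz hyx hzx _ hq, comm_mul_left,
      comm_mul_left, k1, cg_one, one_mul, mul_cg, H_spec L hxy hp hq, k2,
      c_z90' L (x := z) (y := x) (z := op y) hzx (by simpa) (by simpa) _ hP, H_spec L hzy hP hq]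
  have h3 : L.E x (op y) (H L x y p q) * L.E z (op y) (H L z y (P L z x a p) q) =
      L.E z (op y) (H L z y (P L z x a p) q) * L.E x (op y) (H L x y p q) :=
    comm_of_cg (c_yy L (x := x) (y := op y) (z := z) (by simpa) hxz (by simpa) _ _)
  rw [h2, h3] at h1
  exact E_inj L (x := z) (y := op y) (by simpa) (mul_right_cancel h1)

/-- multiplicativity of `P`, the law for `Q` -/
theorem P_mul {x y : S} (hxy : x.1 ≠ y.1) (a : F) {u u' : G} (hu : u ∈ C.Z y) (hu' : u' ∈ C.Z y) :
    P L x y a (u * u') = P L x y a u * P L x y a u' ∧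
      Q L x y a (u * u') = Q L x y a u + Q L x y a u' - H L x y (P L x y a u') u := by
  have hP := P_mem L hxy a hu
  have hP' := P_mem L hxy a hu'
  apply PQ_unique L hxy (mul_mem hu hu') (mul_mem hP hP')
  rw [cg_mul, PQ L hxy a hu, PQ L hxy a hu']
  set p := P L x y a u
  set p' := P L x y a u'
  set q := Q L x y a u
  set q' := Q L x y a u'
  set k := H L x y p' u with hk
  have e1 : u * p' = L.E x (op y) (-k) * p' * u := by
    rw [neg L (by simpa), ← H_spec L hxy hP' hu, commutatorElement_def]; group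
  have e2 : u * L.E x (op y) q' = L.E x (op y) q' * u := comm_of_cg (c_z45o' L hxy _ hu)
  have e3 : ∀ t, L.E x (op y) t * p' = p' * L.E x (op y) t := fun t =>
    comm_of_cg (c_z45 L (x := x) (y := op y) (by simpa) _ hP')
  have e4 : L.E x (op y) (q + q' - k) = L.E x (op y) q * L.E x (op y) (-k) * L.E x (op y) q' := by
    rw [← L.add x (op y) (by simpa), ← L.add x (op y) (by simpa)]
    congr 1; ring
  rw [e4]
  calc p * L.E x (op y) q * u * (p' * L.E x (op y) q' * u')
      = p * L.E x (op y) q * (u * p') * L.E x (op y) q' * u' := by group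
    _ = p * L.E x (op y) q * (L.E x (op y) (-k) * p' * u) * L.E x (op y) q' * u' := by rw [e1]
    _ = p * L.E x (op y) q * (L.E x (op y) (-k) * p') * (u * L.E x (op y) q') * u' := by group
    _ = p * L.E x (op y) q * (p' * L.E x (op y) (-k)) * (L.E x (op y) q' * u) * u' := by rw [e3, e2]
    _ = p * (L.E x (op y) q * p') * L.E x (op y) (-k) * L.E x (op y) q' * (u * u') := by group
    _ = p * (p' * L.E x (op y) q) * L.E x (op y) (-k) * L.E x (op y) q' * (u * u') := by rw [e3]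
    _ = _ := by group

/-! ### the trace elements -/

/-- commutators of `X x y` and `X x (op y)` -/
def B (x y : S) (s t : F) : G := ⁅L.E x (op y) s, L.E x y t⁆

theorem B_mem {x y : S} (hxy : x.1 ≠ y.1) (s t : F) : B L x y s t ∈ C.Z x :=
  C.xx90 x y hxy _ (memo L hxy s) _ (L.mem x y hxy t)

theorem B_aux {x y z : S} (hxy : x.1 ≠ y.1) (hxz : x.1 ≠ z.1) (hyz : y.1 ≠ z.1) (s a b : F) :
    B L x y s (a * b) = B L x z (-(g L z * (g L y)⁻¹ * L.σ b * s)) (-a) := by
  have hzy := Ne.symm hyz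
  set κ := g L z * (g L y)⁻¹ * L.σ b * s with hκ
  set D := ⁅L.E x z (-a), L.E x (op z) (-κ)⁆ with hD
  have hDm : D ∈ C.Z x := by
    have := C.xx90 x (op z) (by simpa) _ (L.mem x z hxz (-a)) _ (L.mem x (op z) (by simpa) (-κ))
    exact this
  have s1 : cg (L.E z y b)⁻¹ (L.E x (op y) s) = L.E x (op z) (-κ) * L.E x (op y) s := by
    rw [← neg L hzy, c_f L hxy hxz hyz]
    congr 2
    rw [map_neg, hκ]; ring
  have s2 : cg (L.E x z a)⁻¹ (cg (L.E z y b)⁻¹ (L.E x (op y) s)) =
      D * cg (L.E z y b)⁻¹ (L.E x (op y) s) := by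
    rw [s1, ← neg L hxz, cg_mul, cg_eq _ (L.E x (op z) (-κ)), ← hD,
      c_xx L hxz (z := op y) (by simpa) (by simpa), mul_assoc]
  have s3 : cg (L.E x y (a * b)) (L.E x (op y) s) = D * L.E x (op y) s := by
    rw [← L.br x z y hxz hxy hzy, commutatorElement_def, mul_cg, mul_cg, mul_cg, s2, cg_mul, cg_cg_inv,
      c_z90 L (x := x) (y := z) (z := y) hxz hxy hzy _ hDm, cg_mul, c_z45 L hxz _ hDm,
      c_xx L hxz (z := op y) (by simpa) (by simpa)]
  unfold B
  rw [← commutatorElement_inv, comm_eq, s3, mul_inv_cancel_right, hD, commutatorElement_inv]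

theorem B_left {x y : S} (hxy : x.1 ≠ y.1) (s a b : F) :
    B L x y s (a * b) = B L x y (L.σ b * s) a := by
  obtain ⟨z, hzx, hzy⟩ := exists_third x y
  have hxz := Ne.symm hzx
  have hyz := Ne.symm hzy
  have h1 := B_aux L hxz hxy hzy (-(g L z * (g L y)⁻¹ * L.σ b * s)) (-a) 1
  rw [mul_one] at h1
  rw [B_aux L hxy hxz hyz, h1, neg_neg, map_one, mul_one]
  congr 1
  have := g_ne L y
  have := g_ne L z
  field_simp

theorem B_one {x y : S} (hxy : x.1 ≠ y.1) (s t : F) : B L x y s t = B L x y (L.σ t * s) 1 := by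
  have := B_left L hxy s 1 t
  rwa [one_mul] at this

theorem B_change {x y z : S} (hxy : x.1 ≠ y.1) (hxz : x.1 ≠ z.1) (hyz : y.1 ≠ z.1) (u : F) :
    B L x y (g L y * u) 1 = B L x z (g L z * u) 1 := by
  have h1 := B_aux L hxy hxz hyz (g L y * u) 1 1
  rw [mul_one, B_one L hxz] at h1
  rw [h1]
  congr 1
  rw [map_neg, map_one]
  have := g_ne L y
  field_simp

/-- the trace elements of `Z x` -/
def Φ (x : S) (u : F) : G :=
  if x.1 = 0 then B L x (1, true) (g L (1, true) * u) 1 else B L x (0, true) (g L (0, true) * u) 1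

theorem B_eq {x y : S} (hxy : x.1 ≠ y.1) (s t : F) : B L x y s t = Φ L x ((g L y)⁻¹ * L.σ t * s) := by
  have key : ∀ y y' : S, x.1 ≠ y.1 → x.1 ≠ y'.1 → ∀ u,
      B L x y (g L y * u) 1 = B L x y' (g L y' * u) 1 := by
    intro y y' hxy hxy' u
    by_cases hyy : y.1 = y'.1
    · obtain ⟨z, hzx, hzy⟩ := exists_third x y
      rw [B_change L hxy (Ne.symm hzx) (Ne.symm hzy), B_change L (Ne.symm hzx) hxy' (hyy ▸ hzy)]
    · exact B_change L hxy hxy' hyy u
  have e : L.σ t * s = g L y * ((g L y)⁻¹ * L.σ t * s) := by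
    have := g_ne L y
    field_simp
  rw [B_one L hxy, e]
  unfold Φ
  split_ifs with h
  · exact key _ _ hxy (by rw [h]; decide) _
  · exact key _ _ hxy h _

theorem Φ_eq {x y : S} (hxy : x.1 ≠ y.1) (u : F) : Φ L x u = B L x y (g L y * u) 1 := by
  rw [B_eq L hxy, map_one]
  congr 1
  have := g_ne L y
  field_simp

theorem Φ_mem (x : S) (u : F) : Φ L x u ∈ C.Z x := by
  obtain ⟨z, hzx, -⟩ := exists_third x x
  rw [Φ_eq L (Ne.symm hzx)]
  exact B_mem L (Ne.symm hzx) _ _

/-- trace elements commute with the other short root groups -/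
theorem Φ_comm {x y : S} (hxy : x.1 ≠ y.1) (u : F) {p : G} (hp : p ∈ C.Z y) :
    ⁅Φ L x u, p⁆ = 1 := by
  obtain ⟨z, hzx, hzy⟩ := exists_third x y
  rw [Φ_eq L (Ne.symm hzx), commutatorElement_eq_one_iff_mul_comm]
  symm
  apply comm_of_cg
  unfold B
  rw [cg_comm, c_z90' L (x := y) (y := x) (z := op z) (Ne.symm hxy) (by simpa using Ne.symm hzy)
    (by simpa using Ne.symm hzx) _ hp, c_z90' L (x := y) (y := x) (z := z) (Ne.symm hxy)
    (Ne.symm hzy) (Ne.symm hzx) _ hp]

/-- `P`, `Q` of trace elements -/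
theorem PQ_Φ {x z : S} (hzx : z.1 ≠ x.1) (a u : F) :
    P L z x a (Φ L x u) = Φ L z (a * L.σ a * u) ∧
      Q L z x a (Φ L x u) = a * g L x * (L.ε⁻¹ * L.σ u - u) := by
  obtain ⟨y, hyx, hyz⟩ := exists_third x z
  have hxy := Ne.symm hyx
  have hxz := Ne.symm hzx
  have hzy := Ne.symm hyz
  rw [Φ_eq L hxy]
  set s := g L y * u with hs
  have hBz : B L z y (a * s) a = Φ L z (a * L.σ a * u) := by
    rw [B_eq L hzy]
    congr 1
    have := g_ne L y
    rw [hs]; field_simp
  have hBx := B_mem L hxy s 1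
  have hBzm := B_mem L hzy (a * s) a
  rw [← hBz]
  apply PQ_unique L hzx hBx hBzm
  -- the four commutators
  have c1 : ⁅L.E x (op y) s, L.E z y a⁆ = L.E z (op x) (a * g L x * (L.ε⁻¹ * L.σ u)) := by
    have h1 := c_f L hxy hxz hyz a s
    rw [cg_eq] at h1
    rw [← commutatorElement_inv, mul_right_cancel h1, ← neg L (by simpa), swap' L hxz]
    congr 1
    rw [hs, map_neg, map_mul, map_mul, map_mul, map_inv₀, map_mul, L.σσ, σg, σg]
    have := g_ne L (op y)
    have := g_ne L (op z)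
    have := ε_ne L
    field_simp
  have c2 : ⁅L.E z (op y) (a * s), L.E x y 1⁆ = L.E z (op x) (-(a * g L x * u)) := by
    have h1 := c_f L (x := z) (y := y) (z := x) hzy hzx hyx 1 (a * s)
    rw [cg_eq] at h1
    rw [← commutatorElement_inv, mul_right_cancel h1, ← neg L (by simpa)]
    congr 2
    rw [hs, map_one]
    have := g_ne L y
    field_simp
  have e0 : cg (L.E z x a) (B L x y s 1) =
      ⁅L.E z (op y) (a * s) * L.E x (op y) s, L.E z y a * L.E x y 1⁆ := by
    unfold B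
    rw [cg_comm, c_l L hzx (z := op y) (by simpa) (by simpa), c_l L hzx hzy hxy, mul_one]
  have k1 : cg (L.E z y a) (B L x y s 1) = B L x y s 1 :=
    c_z90 L (x := x) (y := z) (z := y) hxz hxy hzy _ hBx
  have k2 : cg (L.E z y a) (L.E z (op x) (-(a * g L x * u))) = L.E z (op x) (-(a * g L x * u)) :=
    c_xx L hzy (z := op x) (by simpa) (by simpa) _ _
  have k3 : cg (L.E z (op y) (a * s)) (L.E z (op x) (a * g L x * (L.ε⁻¹ * L.σ u))) =
      L.E z (op x) (a * g L x * (L.ε⁻¹ * L.σ u)) :=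
    c_xx L (y := op y) (z := op x) (by simpa) (by simpa) (by simpa) _ _
  have k4 : cg (L.E z (op y) (a * s)) (B L x y s 1) = B L x y s 1 :=
    c_z90 L (x := x) (y := z) (z := op y) hxz (by simpa) (by simpa) _ hBx
  have k5 : B L x y s 1 * B L z y (a * s) a = B L z y (a * s) a * B L x y s 1 := by
    apply comm_of_cg
    change cg (B L x y s 1) ⁅L.E z (op y) (a * s), L.E z y a⁆ = ⁅L.E z (op y) (a * s), L.E z y a⁆
    rw [cg_comm, c_z90' L (x := x) (y := z) (z := op y) hxz (by simpa) (by simpa) _ hBx,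
      c_z90' L (x := x) (y := z) (z := y) hxz hxy hzy _ hBx]
  have k6 : ∀ t, B L x y s 1 * L.E z (op x) t = L.E z (op x) t * B L x y s 1 := fun t =>
    comm_of_cg (c_z45o' L hzx t hBx)
  have k7 : ∀ t, L.E z (op x) t * B L z y (a * s) a = B L z y (a * s) a * L.E z (op x) t := fun t =>
    comm_of_cg (c_z45 L (x := z) (y := op x) (by simpa) t hBzm)
  have e1 : a * g L x * (L.ε⁻¹ * L.σ u - u) = a * g L x * (L.ε⁻¹ * L.σ u) + -(a * g L x * u) := by ring
  have e2 : B L z y (a * s) a = ⁅L.E z (op y) (a * s), L.E z y a⁆ := rfl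
  have e3 : ⁅L.E x (op y) s, L.E x y 1⁆ = B L x y s 1 := rfl
  rw [e0, comm_mul_left, comm_mul_right, comm_mul_right, c1, c2, e3, k1, k2, cg_mul, k3, k4, ← e2, e1,
    L.add z (op x) (by simpa)]
  set e := L.E z (op x) (a * g L x * (L.ε⁻¹ * L.σ u))
  set e' := L.E z (op x) (-(a * g L x * u))
  set bx := B L x y s 1
  set bz := B L z y (a * s) a
  calc e * bx * (bz * e') = e * (bx * bz) * e' := by group
    _ = e * (bz * bx) * e' := by rw [k5]
    _ = (e * bz) * (bx * e') := by group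
    _ = (bz * e) * (e' * bx) := by rw [k6, k7]
    _ = _ := by group

/-! ### compatible parametrisations of the short root groups -/

theorem P1_inj {x y : S} (hxy : x.1 ≠ y.1) {u u' : G} (hu : u ∈ C.Z y) (hu' : u' ∈ C.Z y)
    (h : P L x y 1 u = P L x y 1 u') : u = u' := by
  by_contra hne
  have h1 : u * u'⁻¹ ≠ 1 := fun e => hne (mul_inv_eq_one.1 e)
  apply P_ne L hxy one_ne_zero (mul_mem hu (inv_mem hu')) h1
  have h2 := (P_mul L hxy 1 (mul_mem hu (inv_mem hu')) hu').1
  rw [inv_mul_cancel_right, h] at h2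
  exact (right_eq_mul.1 h2)

private theorem n01 : (0 : Fin 3) ≠ 1 := by decide
private theorem n02 : (0 : Fin 3) ≠ 2 := by decide
private theorem n10 : (1 : Fin 3) ≠ 0 := by decide
private theorem n12 : (1 : Fin 3) ≠ 2 := by decide
private theorem n20 : (2 : Fin 3) ≠ 0 := by decide
private theorem n21 : (2 : Fin 3) ≠ 1 := by decide

/-- A functional cocycle is a coboundary. -/
theorem cocycle_fun {π : S → S → G → G} (hmem : ∀ x y : S, x.1 ≠ y.1 → ∀ u ∈ C.Z y, π x y u ∈ C.Z x)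
    (hco : ∀ x y z : S, x.1 ≠ y.1 → x.1 ≠ z.1 → y.1 ≠ z.1 → ∀ u ∈ C.Z y,
      π x z (π z y u) = π x y u)
    (hinj : ∀ x y : S, x.1 ≠ y.1 → ∀ u ∈ C.Z y, ∀ u' ∈ C.Z y, π x y u = π x y u' → u = u') :
    ∃ ζ : S → G → G, (∀ x, ∀ p ∈ C.Z (0, true), ζ x p ∈ C.Z x) ∧
      (∀ p ∈ C.Z (0, true), ζ (0, true) p = p) ∧
      (∀ x y : S, x.1 ≠ y.1 → ∀ p ∈ C.Z (0, true), π x y (ζ y p) = ζ x p) ∧
      ∀ x, ∀ u ∈ C.Z x, ∃ p ∈ C.Z (0, true), ζ x p = u := by
  have hinv : ∀ x y : S, x.1 ≠ y.1 → ∀ u ∈ C.Z x, π x y (π y x u) = u := by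
    intro x y hxy u hu
    obtain ⟨z, hzx, hzy⟩ := exists_third x y
    have h1 := hmem y x (Ne.symm hxy) u hu
    apply hinj z x hzx _ (hmem x y hxy _ h1) _ hu
    rw [hco z y x hzy hzx (Ne.symm hxy) _ h1, hco z x y hzx hzy hxy _ hu]
  let ζ : S → G → G := fun x p =>
    if x.1 = 0 then π x (1, true) (π (1, true) (0, true) p) else π x (0, true) p
  have hζ : ∀ x, ∀ p ∈ C.Z (0, true), ζ x p ∈ C.Z x := by
    intro x p hp
    change (if _ then _ else _) ∈ _
    split_ifs with h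
    · exact hmem _ _ (by rw [h]; decide) _ (hmem _ _ n10 _ hp)
    · exact hmem _ _ h _ hp
  have hπ : ∀ x y : S, x.1 ≠ y.1 → ∀ p ∈ C.Z (0, true), π x y (ζ y p) = ζ x p := by
    intro x y hxy p hp
    obtain ⟨i, s⟩ := x
    obtain ⟨j, t⟩ := y
    have hij : i ≠ j := hxy
    have hr := hmem (1, true) (0, true) n10 p hp
    change π (i, s) (j, t) (if j = 0 then _ else _) = (if i = 0 then _ else _)
    fin_cases i <;> fin_cases j <;> simp at hij ⊢
    · -- 0 1
      have h1 := hmem (1, t) (0, true) n10 p hp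
      rw [← hco (0, s) (1, t) (2, true) n01 n02 n12 _ h1,
        ← hco (0, s) (1, true) (2, true) n01 n02 n12 _ hr,
        hco (2, true) (0, true) (1, t) n20 n21 n01 p hp,
        hco (2, true) (0, true) (1, true) n20 n21 n01 p hp]
    · -- 0 2
      rw [← hco (2, t) (0, true) (1, true) n20 n21 n01 p hp,
        hco (0, s) (1, true) (2, t) n01 n02 n12 _ hr]
    · -- 1 0
      have h1 := hmem (0, t) (1, true) n01 _ hr
      rw [← hco (1, s) (0, t) (2, true) n10 n12 n02 _ h1,
        hco (2, true) (1, true) (0, t) n21 n20 n10 _ hr,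
        hco (2, true) (0, true) (1, true) n20 n21 n01 p hp,
        hco (1, s) (0, true) (2, true) n10 n12 n02 p hp]
    · -- 1 2
      rw [hco (1, s) (0, true) (2, t) n10 n12 n02 p hp]
    · -- 2 0
      rw [hco (2, s) (1, true) (0, t) n21 n20 n10 _ hr,
        hco (2, s) (0, true) (1, true) n20 n21 n01 p hp]
    · -- 2 1
      rw [hco (2, s) (0, true) (1, t) n20 n21 n01 p hp]
  have h0 : ∀ p ∈ C.Z (0, true), ζ (0, true) p = p := by
    intro p hp
    change (if (0 : Fin 3) = 0 then π (0, true) (1, true) (π (1, true) (0, true) p) else _) = p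
    rw [if_pos rfl, hinv (0, true) (1, true) n01 p hp]
  refine ⟨ζ, hζ, h0, hπ, ?_⟩
  intro x u hu
  by_cases hx : x.1 = 0
  · have hx1 : x.1 ≠ (1, true).1 := by rw [hx]; exact n01
    have h1 := hmem (1, true) x (Ne.symm hx1) u hu
    have h2 := hmem (0, true) (1, true) n01 _ h1
    refine ⟨_, h2, ?_⟩
    rw [← hπ x (1, true) hx1 _ h2, ← hπ (1, true) (0, true) n10 _ h2, h0 _ h2,
      hinv (1, true) (0, true) n10 _ h1, hinv x (1, true) hx1 u hu]
  · have h1 := hmem (0, true) x (Ne.symm hx) u hu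
    refine ⟨_, h1, ?_⟩
    rw [← hπ x (0, true) hx _ h1, h0 _ h1, hinv x (0, true) hx u hu]

/-- The short root groups with compatible parametrisations, at the level of the group `Z (0,true)`. -/
structure Short (L : Long C F) where
  ζ : S → C.Z (0, true) →* G
  sys : PQAbs.Sys F (C.Z (0, true))
  hσ : sys.σ = L.σ
  hε : sys.ε = L.ε
  mem : ∀ x p, ζ x p ∈ C.Z x
  surj : ∀ x, ∀ u ∈ C.Z x, ∃ p, ζ x p = u
  inj : ∀ x, Function.Injective (ζ x)
  zero : ∀ p, ζ (0, true) p = p
  xz : ∀ x y, x.1 ≠ y.1 → ∀ a p, cg (L.E x y a) (ζ y p) =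
    ζ x (sys.smul (L.σ a) p) * L.E x (op y) (-(a * g L y * L.σ (sys.c p))) * ζ y p
  xx : ∀ x y, x.1 ≠ y.1 → ∀ a b, ⁅L.E x y a, L.E x (op y) b⁆ =
    ζ x (sys.tr (L.ε * (g L y)⁻¹ * b * L.σ a))
  zz : ∀ x y, x.1 ≠ y.1 → ∀ p q, ⁅ζ x p, ζ y q⁆ =
    L.E x (op y) (-(g L y * L.ε⁻¹ * sys.h q p))

theorem exists_short : Nonempty (Short L) := by
  obtain ⟨ζ0, hζ, hζ0, hπ, hsurj⟩ := cocycle_fun (C := C) (π := fun x y u => P L x y 1 u)
    (fun x y hxy u hu => P_mem L hxy 1 hu)
    (fun x y z hxy hxz hyz u hu => by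
      change P L x z 1 (P L z y 1 u) = P L x y 1 u
      rw [P_P L hxy hxz hyz 1 1 hu, one_mul])
    (fun x y hxy u hu u' hu' h => P1_inj L hxy hu hu' h)
  have hmul1 : ∀ x y : S, x.1 ≠ y.1 → ∀ u ∈ C.Z y, ∀ u' ∈ C.Z y,
      P L x y 1 (u * u') = P L x y 1 u * P L x y 1 u' := fun x y hxy u hu u' hu' =>
    (P_mul L hxy 1 hu hu').1
  have hζmul0 : ∀ x : S, x.1 ≠ 0 → ∀ p ∈ C.Z (0, true), ∀ q ∈ C.Z (0, true),
      ζ0 x (p * q) = ζ0 x p * ζ0 x q := by
    intro x hx p hp q hq
    rw [← hπ x (0, true) hx _ (mul_mem hp hq), ← hπ x (0, true) hx p hp, ← hπ x (0, true) hx q hq,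
      hζ0 _ (mul_mem hp hq), hζ0 p hp, hζ0 q hq]
    exact hmul1 x (0, true) hx p hp q hq
  have hζmul : ∀ x : S, ∀ p ∈ C.Z (0, true), ∀ q ∈ C.Z (0, true),
      ζ0 x (p * q) = ζ0 x p * ζ0 x q := by
    intro x p hp q hq
    by_cases hx : x.1 = 0
    · have hx1 : x.1 ≠ (1, true).1 := by rw [hx]; exact n01
      rw [← hπ x (1, true) hx1 _ (mul_mem hp hq), ← hπ x (1, true) hx1 p hp, ← hπ x (1, true) hx1 q hq,
        hζmul0 (1, true) n10 p hp q hq]
      exact hmul1 x (1, true) hx1 _ (hζ _ p hp) _ (hζ _ q hq)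
    · exact hζmul0 x hx p hp q hq
  have hζinj : ∀ x : S, ∀ p ∈ C.Z (0, true), ∀ q ∈ C.Z (0, true), ζ0 x p = ζ0 x q → p = q := by
    intro x p hp q hq h
    by_cases hx : x.1 = 0
    · have hx1 : x.1 ≠ (1, true).1 := by rw [hx]; exact n01
      have h1 : ζ0 (1, true) p = ζ0 (1, true) q := by
        rw [← hπ (1, true) x (Ne.symm hx1) p hp, ← hπ (1, true) x (Ne.symm hx1) q hq, h]
      rw [← hπ (1, true) (0, true) n10 p hp, ← hπ (1, true) (0, true) n10 q hq] at h1
      have h2 := P1_inj L (x := (1, true)) (y := (0, true)) n10 (hζ _ p hp) (hζ _ q hq) h1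
      rwa [hζ0 p hp, hζ0 q hq] at h2
    · rw [← hπ x (0, true) hx p hp, ← hπ x (0, true) hx q hq] at h
      have h2 := P1_inj L (x := x) (y := (0, true)) hx (hζ _ p hp) (hζ _ q hq) h
      rwa [hζ0 p hp, hζ0 q hq] at h2
  let ζ : S → C.Z (0, true) →* G := fun x =>
    { toFun := fun p => ζ0 x p
      map_one' := by
        have := hζmul x 1 (one_mem _) 1 (one_mem _)
        rw [mul_one] at this
        exact left_eq_mul.1 this
      map_mul' := fun p q => hζmul x p p.2 q q.2 }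
  have ζmem : ∀ x p, ζ x p ∈ C.Z x := fun x p => hζ x p p.2
  have ζinj : ∀ x, Function.Injective (ζ x) := fun x p q h => Subtype.ext (hζinj x p p.2 q q.2 h)
  have ζsurj : ∀ x, ∀ u ∈ C.Z x, ∃ p, ζ x p = u := fun x u hu => by
    obtain ⟨p, hp, h⟩ := hsurj x u hu
    exact ⟨⟨p, hp⟩, h⟩
  have ζπ : ∀ x y : S, x.1 ≠ y.1 → ∀ p, P L x y 1 (ζ y p) = ζ x p := fun x y hxy p => hπ x y hxy p p.2
  -- scaling
  have hW1 : ∀ x y z : S, x.1 ≠ y.1 → x.1 ≠ z.1 → y.1 ≠ z.1 → ∀ a p,
      P L x y a (ζ y p) = P L x z a (ζ z p) := by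
    intro x y z hxy hxz hyz a p
    rw [← ζπ z y (Ne.symm hyz) p, P_P L hxy hxz hyz a 1 (ζmem y p), mul_one]
  have hW : ∀ x y y' : S, x.1 ≠ y.1 → x.1 ≠ y'.1 → ∀ a p, P L x y a (ζ y p) = P L x y' a (ζ y' p) := by
    intro x y y' hxy hxy' a p
    by_cases hyy : y.1 = y'.1
    · obtain ⟨z, hzx, hzy⟩ := exists_third x y
      rw [hW1 x y z hxy (Ne.symm hzx) (Ne.symm hzy), hW1 x y' z hxy' (Ne.symm hzx) (hyy ▸ Ne.symm hzy)]
    · exact hW1 x y y' hxy hxy' hyy a p
  let α : F → C.Z (0, true) → C.Z (0, true) := fun a p =>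
    ⟨P L (0, true) (1, true) a (ζ (1, true) p), P_mem L n01 a (ζmem _ p)⟩
  have hα0 : ∀ x y : S, x.1 ≠ 0 → x.1 ≠ y.1 → ∀ a p, P L x y a (ζ y p) = ζ x (α a p) := by
    intro x y hx hxy a p
    obtain ⟨z, hzx, hz0⟩ := exists_third x (0, true)
    rw [hW x y z hxy (Ne.symm hzx), ← ζπ x (0, true) hx (α a p)]
    have e1 : ζ (0, true) (α a p) = P L (0, true) z a (ζ z p) := by
      change ζ0 (0, true) (α a p) = _
      rw [hζ0 _ (α a p).2]
      exact hW (0, true) (1, true) z n01 (Ne.symm hz0) a p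
    rw [e1, P_P L (x := x) (y := z) (z := (0, true)) (Ne.symm hzx) hx hz0 1 a (ζmem z p), one_mul]
  have hα : ∀ x y : S, x.1 ≠ y.1 → ∀ a p, P L x y a (ζ y p) = ζ x (α a p) := by
    intro x y hxy a p
    by_cases hx : x.1 = 0
    · have hx1 : x.1 ≠ (1, true).1 := by rw [hx]; exact n01
      have hx2 : x.1 ≠ (2, true).1 := by rw [hx]; exact n02
      rw [hW x y (2, true) hxy hx2, ← ζπ x (1, true) hx1 (α a p), ← hα0 (1, true) (2, true) n10 n12 a p,
        P_P L (x := x) (y := (2, true)) (z := (1, true)) hx2 hx1 n21 1 a (ζmem _ p), one_mul]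
    · exact hα0 x y hx hxy a p
  -- the form `c`
  let qf : C.Z (0, true) → F := fun p => Q L (0, true) (1, true) 1 (ζ (1, true) p) * (g L (1, true))⁻¹
  have hqf1 : ∀ x y z : S, x.1 ≠ z.1 → y.1 ≠ z.1 → ∀ p,
      Q L x z 1 (ζ z p) = g L z * (g L y)⁻¹ * Q L z y 1 (ζ y p) := by
    intro x y z hxz hyz p
    rw [← ζπ z y (Ne.symm hyz) p, Q_P L hyz x hxz 1 (ζmem y p), map_one, mul_one, mul_one]
  have hqf : ∀ x y : S, x.1 ≠ y.1 → ∀ p, Q L x y 1 (ζ y p) = g L y * qf p := by
    have h1 : ∀ x y : S, x.1 ≠ y.1 → y.1 ≠ 1 → ∀ p, Q L x y 1 (ζ y p) = g L y * qf p := by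
      intro x y hxy hy p
      rw [hqf1 x (1, true) y hxy (Ne.symm hy) p,
        Q_eq L (x := y) (x' := (0, true)) (y := (1, true)) hy n01 (ζmem _ p)]
      change _ = g L y * (_ * _)
      ring
    intro x y hxy p
    by_cases hy : y.1 = 1
    · have hy0 : (0, true).1 ≠ y.1 := by rw [hy]; exact n01
      rw [hqf1 x (0, true) y hxy hy0 p, h1 y (0, true) (Ne.symm hy0) n01 p]
      have := g_ne L (0, true)
      field_simp
    · exact h1 x y hxy hy p
  have hqfα : ∀ a p, qf (α a p) = a * L.σ a * qf p := by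
    intro a p
    have h1 := Q_P L (y := (1, true)) (z := (0, true)) n10 (1, true) n10 a (ζmem (1, true) p)
    rw [hα (0, true) (1, true) n01 a p, hqf (1, true) (0, true) n10, hqf (0, true) (1, true) n01] at h1
    have := g_ne L (0, true)
    have := g_ne L (1, true)
    field_simp at h1
    linear_combination h1
  -- the form `h`
  let K : S → C.Z (0, true) → C.Z (0, true) → F := fun y p q =>
    (g L y)⁻¹ * H L (if y.1 = 0 then (1, true) else (0, true)) y
      (ζ (if y.1 = 0 then (1, true) else (0, true)) p) (ζ y q)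
  have hH1 : ∀ x y z : S, x.1 ≠ y.1 → x.1 ≠ z.1 → y.1 ≠ z.1 → ∀ a p q,
      H L z y (ζ z (α a p)) (ζ y q) = a * H L x y (ζ x p) (ζ y q) := by
    intro x y z hxy hxz hyz a p q
    rw [← hα z x (Ne.symm hxz) a p, H_P L hxy hxz hyz a (ζmem x p) (ζmem y q)]
  have hα1 : ∀ p, α 1 p = p := by
    intro p
    apply ζinj (0, true)
    rw [← hα (0, true) (1, true) n01 1 p, ζπ (0, true) (1, true) n01 p]
  have hH2 : ∀ x x' y : S, x.1 ≠ y.1 → x'.1 ≠ y.1 → ∀ p q,
      H L x y (ζ x p) (ζ y q) = H L x' y (ζ x' p) (ζ y q) := by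
    have h1 : ∀ x y z : S, x.1 ≠ y.1 → x.1 ≠ z.1 → y.1 ≠ z.1 → ∀ p q,
        H L z y (ζ z p) (ζ y q) = H L x y (ζ x p) (ζ y q) := by
      intro x y z hxy hxz hyz p q
      have := hH1 x y z hxy hxz hyz 1 p q
      rwa [hα1, one_mul] at this
    intro x x' y hxy hxy' p q
    by_cases hxx : x.1 = x'.1
    · obtain ⟨z, hzx, hzy⟩ := exists_third x y
      rw [← h1 x y z hxy (Ne.symm hzx) (Ne.symm hzy), ← h1 x' y z hxy' (hxx ▸ Ne.symm hzx) (Ne.symm hzy)]
    · rw [← h1 x y x' hxy hxx (Ne.symm hxy')]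
  have hK : ∀ x y : S, x.1 ≠ y.1 → ∀ p q, H L x y (ζ x p) (ζ y q) = g L y * K y p q := by
    intro x y hxy p q
    have := g_ne L y
    change _ = g L y * ((g L y)⁻¹ * _)
    rw [mul_inv_cancel_left₀ this]
    apply hH2 _ _ _ hxy
    split_ifs with h
    · rw [h]; exact n10
    · exact Ne.symm h
  have hKswap : ∀ x y : S, x.1 ≠ y.1 → ∀ p q, K x q p = L.ε⁻¹ * L.σ (K y p q) := by
    intro x y hxy p q
    have h1 := H_swap L hxy (ζmem x p) (ζmem y q)
    rw [hK y x (Ne.symm hxy), hK x y hxy, map_mul, σg] at h1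
    have := g_ne L x
    have := g_ne L (op y)
    have := ε_ne L
    field_simp at h1 ⊢
    linear_combination h1
  have hKeq : ∀ x y : S, ∀ p q, K x p q = K y p q := by
    intro x y p q
    obtain ⟨z, hzx, hzy⟩ := exists_third x y
    rw [hKswap x z (Ne.symm hzx), hKswap y z (Ne.symm hzy)]
  let k : C.Z (0, true) → C.Z (0, true) → F := K (0, true)
  have hk : ∀ x y : S, x.1 ≠ y.1 → ∀ p q, H L x y (ζ x p) (ζ y q) = g L y * k p q := by
    intro x y hxy p q
    rw [hK x y hxy, hKeq y (0, true)]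
  have kswap : ∀ p q, k q p = L.ε⁻¹ * L.σ (k p q) := by
    intro p q
    have := hKswap (0, true) (1, true) n01 p q
    rwa [hKeq (1, true) (0, true)] at this
  have kα : ∀ a p q, k (α a p) q = a * k p q := by
    intro a p q
    have h1 := hH1 (0, true) (1, true) (2, true) n01 n02 n12 a p q
    rw [hk _ _ n21, hk _ _ n01] at h1
    have := g_ne L (1, true)
    have h2 : g L (1, true) * k (α a p) q = g L (1, true) * (a * k p q) := by linear_combination h1
    exact mul_left_cancel₀ this h2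
  have kmul : ∀ p p' q, k (p * p') q = k p q + k p' q := by
    intro p p' q
    have h1 := H_mul L (x := (0, true)) (y := (1, true)) n01 (ζmem _ p) (ζmem _ p') (ζmem _ q)
    rw [← map_mul, hk _ _ n01, hk _ _ n01, hk _ _ n01] at h1
    have := g_ne L (1, true)
    have h2 : g L (1, true) * k (p * p') q = g L (1, true) * (k p q + k p' q) := by
      linear_combination h1
    exact mul_left_cancel₀ this h2
  -- the trace elements
  let φ : F → C.Z (0, true) := fun u => ⟨Φ L (0, true) u, Φ_mem L (0, true) u⟩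
  have hφ0 : ∀ u, ζ (0, true) (φ u) = Φ L (0, true) u := fun u => hζ0 _ (φ u).2
  have hΦπ : ∀ z x : S, z.1 ≠ x.1 → ∀ u, P L z x 1 (Φ L x u) = Φ L z u := by
    intro z x hzx u
    rw [(PQ_Φ L hzx 1 u).1, map_one, one_mul, one_mul]
  have hφ1 : ∀ x : S, x.1 ≠ 0 → ∀ u, ζ x (φ u) = Φ L x u := by
    intro x hx u
    rw [← ζπ x (0, true) hx, hφ0, hΦπ x (0, true) hx]
  have hφ : ∀ x u, ζ x (φ u) = Φ L x u := by
    intro x u
    by_cases hx : x.1 = 0
    · have hx1 : x.1 ≠ (1, true).1 := by rw [hx]; exact n01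
      rw [← ζπ x (1, true) hx1, hφ1 (1, true) n10, hΦπ x (1, true) hx1]
    · exact hφ1 x hx u
  have qfφ : ∀ u, qf (φ u) = L.ε⁻¹ * L.σ u - u := by
    intro u
    have h1 := (PQ_Φ L (x := (1, true)) (z := (0, true)) n01 1 u).2
    rw [← hφ, hqf (0, true) (1, true) n01] at h1
    have := g_ne L (1, true)
    have h2 : g L (1, true) * qf (φ u) = g L (1, true) * (L.ε⁻¹ * L.σ u - u) := by
      linear_combination h1
    exact mul_left_cancel₀ this h2
  have kφ : ∀ u p, k (φ u) p = 0 := by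
    intro u p
    have h1 := Φ_comm L (x := (0, true)) (y := (1, true)) n01 u (ζmem (1, true) p)
    rw [← hφ, H_spec L n01 (ζmem _ _) (ζmem _ _), eq_one_iff L (by exact n01), hk _ _ n01] at h1
    exact (mul_eq_zero.1 h1).resolve_left (g_ne L _)
  -- the law for `qf`
  have qfmul : ∀ p p', qf (p * p') = qf p + qf p' - k p' p := by
    intro p p'
    have h1 := (P_mul L (x := (0, true)) (y := (1, true)) n01 1 (ζmem _ p) (ζmem _ p')).2
    rw [← map_mul, hqf _ _ n01, hqf _ _ n01, hqf _ _ n01, ζπ _ _ n01, hk _ _ n01] at h1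
    have := g_ne L (1, true)
    have h2 : g L (1, true) * qf (p * p') = g L (1, true) * (qf p + qf p' - k p' p) := by
      linear_combination h1
    exact mul_left_cancel₀ this h2
  have ε0 := ε_ne L
  have hxz : ∀ x y : S, x.1 ≠ y.1 → ∀ a p, cg (L.E x y a) (ζ y p) =
      ζ x (α a p) * L.E x (op y) (a * g L y * qf p) * ζ y p := by
    intro x y hxy a p
    rw [PQ L hxy a (ζmem y p), hα x y hxy, Q_smul L hxy a (ζmem y p), hqf x y hxy]
    congr 3
    ring
  have hxx : ∀ x y : S, x.1 ≠ y.1 → ∀ a b, ⁅L.E x y a, L.E x (op y) b⁆ =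
      (ζ x (φ ((g L y)⁻¹ * L.σ a * b)))⁻¹ := by
    intro x y hxy a b
    rw [hφ, ← B_eq L hxy, B, commutatorElement_inv]
  -- the hermitian relation
  have hherm : ∀ p, p * (φ (qf p) * α (-1) p) = 1 := by
    intro p
    have h1 := hxz (0, true) (1, true) n01 1 p
    have h2 : cg (L.E (0, true) (1, true) (-1)) (cg (L.E (0, true) (1, true) 1) (ζ (1, true) p)) =
        ζ (1, true) p := by
      rw [neg L n01, cg_inv_cg]
    have h3 := hxx (0, true) (1, true) n01 (-1) (g L (1, true) * qf p)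
    have e1 : (g L (1, true))⁻¹ * L.σ (-1) * (g L (1, true) * qf p) = -qf p := by
      have := g_ne L (1, true)
      rw [map_neg, map_one]; field_simp
    rw [e1] at h3
    rw [h1, cg_mul, cg_mul, c_z45 L (x := (0, true)) (y := (1, true)) n01 _ (ζmem _ _), hα1, one_mul,
      cg_eq _ (L.E (0, true) (op (1, true)) (g L (1, true) * qf p)), h3, hxz (0, true) (1, true) n01 (-1) p] at h2
    have h4 : L.E (0, true) (op (1, true)) (-1 * g L (1, true) * qf p) =
        (L.E (0, true) (op (1, true)) (g L (1, true) * qf p))⁻¹ := by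
      rw [← neg L (by exact n01)]; congr 1; ring
    rw [h4] at h2
    have h5 : L.E (0, true) (op (1, true)) (g L (1, true) * qf p) * ζ (0, true) (α (-1) p) =
        ζ (0, true) (α (-1) p) * L.E (0, true) (op (1, true)) (g L (1, true) * qf p) :=
      comm_of_cg (c_z45 L (x := (0, true)) (y := op (1, true)) n01 _ (ζmem _ _))
    have h6 : ζ (0, true) p * (ζ (0, true) (φ (-qf p)))⁻¹ * ζ (0, true) (α (-1) p) = 1 := by
      have e : ζ (0, true) p * (ζ (0, true) (φ (-qf p)))⁻¹ * ζ (0, true) (α (-1) p) =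
          ζ (0, true) p * ((ζ (0, true) (φ (-qf p)))⁻¹ *
            L.E (0, true) (op (1, true)) (g L (1, true) * qf p)) *
          (ζ (0, true) (α (-1) p) *
            (L.E (0, true) (op (1, true)) (g L (1, true) * qf p))⁻¹ * ζ (1, true) p) *
            (ζ (1, true) p)⁻¹ := by
        have h7 : L.E (0, true) (op (1, true)) (g L (1, true) * qf p) *
            (ζ (0, true) (α (-1) p) *
            (L.E (0, true) (op (1, true)) (g L (1, true) * qf p))⁻¹) = ζ (0, true) (α (-1) p) := by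
          rw [← mul_assoc, h5, mul_inv_cancel_right]
        calc ζ (0, true) p * (ζ (0, true) (φ (-qf p)))⁻¹ * ζ (0, true) (α (-1) p)
            = ζ (0, true) p * (ζ (0, true) (φ (-qf p)))⁻¹ *
              (L.E (0, true) (op (1, true)) (g L (1, true) * qf p) *
            (ζ (0, true) (α (-1) p) *
            (L.E (0, true) (op (1, true)) (g L (1, true) * qf p))⁻¹)) := by rw [h7]
          _ = _ := by group
      rw [e, h2, mul_inv_cancel]
    have h8 : (ζ (0, true) (φ (-qf p)))⁻¹ = ζ (0, true) (φ (qf p)) := by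
      rw [hφ, hφ]
      have h9 : Φ L (0, true) (-qf p) = B L (0, true) (1, true) (-(g L (1, true) * qf p)) 1 := by
        rw [Φ_eq L (x := (0, true)) (y := (1, true)) n01]; congr 1; ring
      have h10 : Φ L (0, true) (qf p) = B L (0, true) (1, true) (g L (1, true) * qf p) 1 := by
        rw [Φ_eq L (x := (0, true)) (y := (1, true)) n01]
      rw [h9, h10]
      set s := g L (1, true) * qf p
      have hb := B_mem L (x := (0, true)) (y := (1, true)) n01 s 1
      have h11 : cg (L.E (0, true) (op (1, true)) (-s)) (B L (0, true) (1, true) s 1) =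
          B L (0, true) (1, true) s 1 :=
        c_z45 L (x := (0, true)) (y := op (1, true)) n01 _ hb
      have h12 : B L (0, true) (1, true) (-s + s) 1 =
          cg (L.E (0, true) (op (1, true)) (-s)) (B L (0, true) (1, true) s 1) *
            B L (0, true) (1, true) (-s) 1 := by
        unfold B
        rw [L.add _ _ (by exact n01), comm_mul_left]
      rw [h11, neg_add_cancel] at h12
      have h13 : B L (0, true) (1, true) 0 1 = 1 := by
        unfold B
        rw [zero L (by exact n01)]; simp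
      rw [h13] at h12
      exact inv_eq_of_mul_eq_one_left h12.symm
    rw [h8, mul_assoc, ← map_mul, ← map_mul] at h6
    apply ζinj (0, true)
    rw [h6, map_one]
  let c : C.Z (0, true) → F := fun p => -L.σ (qf p)
  have hqc : ∀ p, qf p = -L.σ (c p) := by
    intro p
    change _ = -L.σ (-L.σ (qf p))
    rw [map_neg, L.σσ, neg_neg]
  refine ⟨{ ζ := ζ
            sys := { σ := L.σ, σσ := L.σσ, ε := L.ε, ε_mul := L.ε_mul
                     c := c
                     h := fun p q => -L.σ (k p q)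
                     smul := fun a p => α (L.σ a) p
                     tr := fun m => φ (-(L.ε⁻¹ * m))
                     h_mul := ?_, h_swap := ?_, c_mul := ?_, c_herm := ?_, h_smul := ?_, c_smul := ?_,
                     h_tr := ?_, c_tr := ?_, eq_one := ?_ }
            hσ := rfl
            hε := rfl
            mem := ζmem
            surj := ζsurj
            inj := ζinj
            zero := fun p => hζ0 p p.2
            xz := ?_
            xx := ?_
            zz := ?_ }⟩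
  · intro p q r
    change -L.σ (k (p * q) r) = -L.σ (k p r) + -L.σ (k q r)
    rw [kmul, map_add]; ring
  · intro p q
    change -L.σ (k q p) = L.ε * L.σ (-L.σ (k p q))
    rw [kswap, map_mul, map_neg, L.σσ, map_inv₀, σε, inv_inv]; ring
  · intro p q
    change -L.σ (qf (p * q)) = -L.σ (qf p) + -L.σ (qf q) - -L.σ (k q p)
    rw [qfmul, map_sub, map_add]; ring
  · intro p
    change -L.σ (qf p) + L.ε * L.σ (-L.σ (qf p)) = - -L.σ (k p p)
    have h1 := congrArg qf (hherm p)
    rw [qfmul, qfmul, hqfα, qfφ] at h1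
    have h2 : qf 1 = 0 := by
      have := qfmul 1 1
      have h3 := kmul 1 1 1
      rw [mul_one] at this h3
      linear_combination -this - h3
    have h4 : ∀ p q, k (p * q) p = k p p + k q p := fun p q => kmul p q p
    rw [h2, kα, map_neg, map_one] at h1
    have h5 : k (φ (qf p) * α (-1) p) p = -k p p := by
      rw [kmul, kφ, kα]; ring
    have h6 : k (α (-1) p) (φ (qf p)) = 0 := by
      rw [kswap, kφ, map_zero, mul_zero]
    rw [h5] at h1
    have h7 : k p (φ (qf p)) = 0 := by rw [kswap, kφ, map_zero, mul_zero]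
    rw [h7] at h1
    have h8 : L.σ (qf p + L.ε⁻¹ * L.σ (qf p) + k p p) = 0 := by
      rw [← map_zero L.σ]
      congr 1
      linear_combination h1
    rw [map_add, map_add, map_mul L.σ L.ε⁻¹ (L.σ (qf p)), L.σσ, map_inv₀, σε, inv_inv] at h8
    rw [map_neg, L.σσ]
    linear_combination -h8
  · intro a p q
    change -L.σ (k (α (L.σ a) p) q) = a * -L.σ (k p q)
    rw [kα, map_mul, L.σσ]; ring
  · intro a p
    change -L.σ (qf (α (L.σ a) p)) = a * L.σ a * -L.σ (qf p)
    rw [hqfα, map_mul, map_mul, L.σσ]; ring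
  · intro m p
    change -L.σ (k (φ _) p) = 0
    rw [kφ, map_zero, neg_zero]
  · intro m
    change -L.σ (qf (φ (-(L.ε⁻¹ * m)))) = m - L.ε * L.σ m
    rw [qfφ]
    simp only [map_sub, map_mul, map_neg, L.σσ, map_inv₀, σε, inv_inv]
    field_simp
    ring
  · intro p hp
    change -L.σ (qf p) = 0 at hp
    have h1 : qf p = 0 := by
      have := neg_eq_zero.1 hp
      exact (map_eq_zero_iff L.σ L.σ.injective).1 this
    by_contra hne
    have h2 : ζ (1, true) p ≠ 1 := fun e => hne (ζinj (1, true) (by rw [e, map_one]))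
    apply Q_ne L (x := (0, true)) (y := (1, true)) n01 (ζmem _ p) h2
    rw [hqf _ _ n01, h1, mul_zero]
  · intro x y hxy a p
    change _ = ζ x (α (L.σ (L.σ a)) p) * L.E x (op y) (-(a * g L y * L.σ (c p))) * ζ y p
    rw [L.σσ, hxz x y hxy a p, hqc]
    congr 3
    ring
  · intro x y hxy a b
    change _ = ζ x (φ (-(L.ε⁻¹ * (L.ε * (g L y)⁻¹ * b * L.σ a))))
    rw [hxx x y hxy a b]
    have h1 : (-(L.ε⁻¹ * (L.ε * (g L y)⁻¹ * b * L.σ a))) = -((g L y)⁻¹ * L.σ a * b) := by
      field_simp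
    rw [h1]
    -- `Φ (-u) = (Φ u)⁻¹`
    rw [hφ, hφ]
    generalize (g L y)⁻¹ * L.σ a * b = u
    rw [Φ_eq L hxy, Φ_eq L hxy]
    have e : g L y * -u = -(g L y * u) := by ring
    rw [e]
    generalize g L y * u = s
    have hb := B_mem L hxy s 1
    have h11 : cg (L.E x (op y) (-s)) (B L x y s 1) = B L x y s 1 :=
      c_z45 L (x := x) (y := op y) (by simpa) _ hb
    have h12 : B L x y (-s + s) 1 = cg (L.E x (op y) (-s)) (B L x y s 1) * B L x y (-s) 1 := by
      unfold B
      rw [L.add _ _ (by simpa), comm_mul_left]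
    rw [h11, neg_add_cancel] at h12
    have h13 : B L x y 0 1 = 1 := by
      unfold B
      rw [zero L (by simpa)]; simp
    rw [h13] at h12
    exact inv_eq_of_mul_eq_one_right h12.symm
  · intro x y hxy p q
    change _ = L.E x (op y) (-(g L y * L.ε⁻¹ * -L.σ (k q p)))
    rw [H_spec L hxy (ζmem x p) (ζmem y q), hk x y hxy, kswap q p]
    congr 1
    ring

end Cfsg.Agent.TitsThree.C3Sys
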