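import Cfsg.Agent.TitsThree.EndRange
import Cfsg.Agent.TitsThree.EndHyp

/-!
# The hypotheses of END for type `F₄` (S1143)

`RangesFF`: the root elements of a package `FF` in `G' = Gg cs U` exhaust the fundamental root groups.
From this and `A_{c,d} ⊓ G' ≤ T` (`T = torusFF P`): `A_{c,d}` is solvable, `A_{c,d} ⊓ G'` is a `p'`-group,
the root groups are `p`-groups.
-/

set_option autoImplicit false

namespace Cfsg.Agent.TitsThree.EndFF

open Cfsg.Agent.Tits.Core Cfsg.Agent.Tits.Core.Bldg Cfsg.Agent.Tits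
open Cfsg.Agent.Tits.MouDefs (rt Aut)
open Cfsg.Agent.Tits.MouOut
open Cfsg.Agent.TitsThree Cfsg.Agent.TitsThree.Pack Cfsg.Agent.TitsThree.B2Pkg
open Cfsg.Agent.TitsThree.Hua Cfsg.Agent.TitsThree.EndGen Cfsg.Agent.TitsThree.TorusAct
open Cfsg.Agent.TitsThree.EndRange

variable {M : CoxeterMatrix (Fin 4)} {W : Type*} [Group W] {cs : CoxeterSystem M W}
variable {C A : Type*} [Group A] [MulAction A C] {Δ : Bldg cs C}
variable {σ : W → C} {U : Set W → Subgroup A}
variable {F : Type*} [Field F] {V : Type*} [AddCommGroup V] [Module F V] {D : PQDatum F V}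
variable {E : Type*} [Field E] {τ τ' : E → D.T}

/-- The package exhausts the fundamental root groups. -/
structure RangesFF (P : FF ↥(Gg cs U) D τ τ') : Prop where
  r0 : NodeRange U 0 P.x0 P.y0
  r1 : NodeRange U 1 P.x1 P.y1
  r2 : NodeRange U 2 P.x2 P.y2
  r3 : NodeRange U 3 P.x3 P.y3
  inj0 : Function.Injective P.x0
  inj2 : Function.Injective P.x2

variable {P : FF ↥(Gg cs U) D τ τ'}

/-- `A_{c,d}` is solvable. -/
theorem solvable [Finite W] [Finite F] [Finite E] (H : Sys Δ A σ U) (R : RangesFF P) :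
    Group.IsSolvable ↥(Tor cs A σ) := by
  obtain ⟨s0, s1⟩ := edge_sl2 P.e01 R.inj0
  obtain ⟨s2, s3⟩ := edge_sl2 P.e23 R.inj2
  obtain ⟨f0, h0⟩ := hom_of_node H R.r0 s0
  obtain ⟨f1, h1⟩ := hom_of_node H R.r1 s1
  obtain ⟨f2, h2⟩ := hom_of_node H R.r2 s2
  obtain ⟨f3, h3⟩ := hom_of_node H R.r3 s3
  have sF : Group.IsSolvable (GL1 F) := isSolvable_GL1
  have sE : Group.IsSolvable (GL1 E) := isSolvable_GL1
  have sP : Group.IsSolvable (GL1 F × GL1 E) := by
    refine Group.isSolvable_of_ker_le_range (MonoidHom.inr (GL1 F) (GL1 E)) (MonoidHom.fst _ _) ?_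
    rintro ⟨a, b⟩ hab
    exact ⟨b, Prod.ext (show (1 : GL1 F) = a from (MonoidHom.mem_ker.1 hab).symm) rfl⟩
  refine tor_solvable H (Q := fun _ => GL1 F × GL1 E) (fun _ => sP)
    (fun i => ![(MonoidHom.inl _ _).comp f0, (MonoidHom.inl _ _).comp f1, (MonoidHom.inr _ _).comp f2,
      (MonoidHom.inr _ _).comp f3] i) ?_
  intro i h hi
  fin_cases i
  · exact h0 h (congrArg Prod.fst hi)
  · exact h1 h (congrArg Prod.fst hi)
  · exact h2 h (congrArg Prod.snd hi)
  · exact h3 h (congrArg Prod.snd hi)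

/-- `A_{c,d} ⊓ G'` is a `p'`-group. -/
theorem coprime [Finite W] [Finite A] (H : Sys Δ A σ U) {p : ℕ} [Fact p.Prime] [CharP F p]
    [CharP E p] (R : RangesFF P) (hτ : Function.Surjective τ) (hτ' : Function.Surjective τ')
    (hT : Tor cs A σ ⊓ Gg cs U ≤ (torusFF P).map (Gg cs U).subtype) :
    (Nat.card ↥(Tor cs A σ ⊓ Gg cs U)).Coprime p := by
  refine tor_coprime H inf_le_left ?_
  intro s hs ho i
  obtain ⟨g, hg, rfl⟩ := hT hs
  obtain ⟨a0, a1, a2, a3⟩ := scalFF P hτ hτ' R.inj2 hg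
  have hp : g ^ p = 1 := by
    apply Subgroup.subtype_injective (Gg cs U)
    rw [map_pow, map_one, ← ho, pow_orderOf_eq_one]
  have inj1 := (edge_sl2 P.e01 R.inj0).2.injp
  have inj3 := (edge_sl2 P.e23 R.inj2).2.injp
  fin_cases i
  · exact comm_of_scal R.r0 R.inj0 a0 hp
  · exact comm_of_scal R.r1 inj1 a1 hp
  · exact comm_of_scal R.r2 R.inj2 a2 hp
  · exact comm_of_scal R.r3 inj3 a3 hp

/-- A root group parametrised as in `SL₂` is a `p`-group. -/
theorem isPGroup_of_node {I : Type*} {M : CoxeterMatrix I} {cs : CoxeterSystem M W}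
    {U : Set W → Subgroup A} {p : ℕ} [Fact p.Prime] [CharP F p] {i : I}
    {xp xm : F → ↥(Gg cs U)} (hr : NodeRange U i xp xm) (par : SL2Par xp xm) :
    IsPGroup p ↥(U (rt cs 1 i)) := by
  rintro ⟨u, hu⟩
  obtain ⟨t, rfl⟩ := hr.exists_eq hu
  have h1 : ∀ k : ℕ, xp t ^ k = xp (k * t) := by
    intro k
    induction k with
    | zero => rw [pow_zero, Nat.cast_zero, zero_mul, par.zerop]
    | succ k ih => rw [pow_succ, ih, ← par.addp]; congr 1; push_cast; ring
  refine ⟨1, Subtype.ext ?_⟩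
  rw [pow_one]
  change (xp t : A) ^ p = 1
  rw [← Subgroup.coe_pow, h1, CharP.cast_eq_zero, zero_mul, par.zerop]
  rfl

/-- The fundamental root groups are `p`-groups. -/
theorem isPGroup {p : ℕ} [Fact p.Prime] [CharP F p] [CharP E p] (R : RangesFF P) (i : Fin 4) :
    IsPGroup p ↥(U (rt cs 1 i)) := by
  obtain ⟨s0, s1⟩ := edge_sl2 P.e01 R.inj0
  obtain ⟨s2, s3⟩ := edge_sl2 P.e23 R.inj2
  fin_cases i
  · exact isPGroup_of_node R.r0 s0
  · exact isPGroup_of_node R.r1 s1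
  · exact isPGroup_of_node R.r2 s2
  · exact isPGroup_of_node R.r3 s3

/-- **END for `F₄`**: `Solved Δ` from a package with ranges, `A_{c,d} ⊓ G' ≤ T` and the identification of
`G'`. -/
theorem solved [Finite W] {C : Type*} [Finite C] {Δ : Bldg cs C} {σ : W → C}
    (H : Sys Δ (Aut Δ) σ (UU Δ σ)) {p : ℕ} [Fact p.Prime] [Finite F] [Finite E] [CharP F p]
    [CharP E p] {P : FF ↥(Gg cs (UU Δ σ)) D τ τ'} (R : RangesFF P) (hτ : Function.Surjective τ)
    (hτ' : Function.Surjective τ')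
    (hT : Tor cs (Aut Δ) σ ⊓ Gg cs (UU Δ σ) ≤ (torusFF P).map (Gg cs (UU Δ σ)).subtype)
    (hK : IsSimpleGroup ↥(Gg cs (UU Δ σ)) → Top.LieConcl ↥(Gg cs (UU Δ σ))) : Top.Solved Δ := by
  have : Finite (Aut Δ) := by
    refine Finite.of_injective (fun a : Aut Δ => (MulAction.toPerm a : Equiv.Perm C)) fun a b hab => ?_
    have h1 : b⁻¹ * a = 1 := H.faith _ fun x => by
      rw [mul_smul, inv_smul_eq_iff]
      exact congrFun (congrArg DFunLike.coe hab) x
    exact (inv_mul_eq_one.1 h1).symm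
  exact EndHyp.solved H (p := p) (isPGroup R) (solvable H R) (coprime H R hτ hτ' hT) hK

end Cfsg.Agent.TitsThree.EndFF
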