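import Cfsg.Agent.TitsThree.EndGen
/-!
S1143, END: elements of the rank one groups `L_j` acting on the apartment.
-/

set_option autoImplicit false

namespace Cfsg.Agent.TitsThree.EndPerm

open Cfsg.Agent.Tits.Core Cfsg.Agent.Tits.Core.Bldg Cfsg.Agent.Tits.Exchange
open Cfsg.Agent.Tits
open Cfsg.Agent.Tits.MouDefs (rt)
open Cfsg.Agent.Tits.MouOut Cfsg.Agent.Tits.MouTrans
open Cfsg.Agent.TitsThree.EndGen
open MulAction

variable {I : Type*} {M : CoxeterMatrix I} {W : Type*} [Group W] {cs : CoxeterSystem M W}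
variable {C A : Type*} [Group A] [MulAction A C] {Δ : Bldg cs C}

local prefix:100 "ℓ" => cs.length
local prefix:100 "s" => cs.simple

theorem mem_rt_w0 [Finite W] {w v : W} {i : I} : v * w0 cs ∈ rt cs w i ↔ v ∉ rt cs w i := by
  change ℓ (w⁻¹ * (v * w0 cs)) < ℓ (cs.simple i * (w⁻¹ * (v * w0 cs))) ↔
    ¬ ℓ (w⁻¹ * v) < ℓ (cs.simple i * (w⁻¹ * v))
  have h1 := Exchange.length_mul_w0 cs (w⁻¹ * v)
  have h2 := Exchange.length_mul_w0 cs (cs.simple i * (w⁻¹ * v))
  rw [← mul_assoc w⁻¹ v, ← mul_assoc (cs.simple i)]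
  have := cs.length_simple_mul_ne (w⁻¹ * v) i
  omega

variable {σ : W → C} {U : Set W → Subgroup A} (H : Sys Δ A σ U)

include H

/-- An element fixing two opposite chambers of the apartment fixes the apartment. -/
theorem fix_all [Finite W] {h : A} {a : W} (h1 : h • σ a = σ a)
    (h2 : h • σ (a * w0 cs) = σ (a * w0 cs)) (v : W) : h • σ v = σ v := by
  obtain ⟨n, -, hn⟩ := H.exists_weyl a
  have h3 : ∀ v, (n⁻¹ * h * n) • σ v = σ v := by
    intro v
    refine H.fix_of_fix ?_ ?_ v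
    · rw [mul_smul, mul_smul, hn, mul_one, h1, inv_smul_eq_iff, hn, mul_one]
    · rw [mul_smul, mul_smul, hn, h2, inv_smul_eq_iff, hn]
  have h4 := h3 (a⁻¹ * v)
  rw [mul_smul, mul_smul, hn, mul_inv_cancel_left, inv_smul_eq_iff, hn, mul_inv_cancel_left] at h4
  exact h4

/-- An element of a root group fixing a chamber of the apartment outside the root is trivial. -/
theorem eq_one_of_fix [Finite W] {w v : W} {i : I} {u : A} (hu : u ∈ U (rt cs w i))
    (hv : v ∉ rt cs w i) (h : u • σ v = σ v) : u = 1 :=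
  H.free w i u hu (fix_all H h (H.fix hu (mem_rt_w0.2 hv)) _)

/-- Different root groups meet trivially. -/
theorem eq_one_of_mem_two [Finite W] {w w' v : W} {i i' : I} {u : A} (hu : u ∈ U (rt cs w i))
    (hu' : u ∈ U (rt cs w' i')) (hv : v ∉ rt cs w i) (hv' : v ∈ rt cs w' i') : u = 1 :=
  eq_one_of_fix H hu hv (H.fix hu' hv')

theorem Lg_pan_op [Finite W] {j : I} {g : A} (hg : g ∈ Lg cs U j) :
    g • σ (w0 cs) ∈ Δ.Pan (op cs j) (σ (w0 cs)) := by
  have e1 : Δ.δ (σ (w0 cs)) (σ (s j * w0 cs)) = s (op cs j) := by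
    rw [H.chart, ← w0_mul_simple_op cs j, inv_mul_cancel_left]
  have hs : σ (s j * w0 cs) ∈ Δ.Pan (op cs j) (σ (w0 cs)) := Or.inr e1
  let S : Subgroup A :=
    { carrier := {g | g • σ (w0 cs) ∈ Δ.Pan (op cs j) (σ (w0 cs))}
      one_mem' := by
        change (1 : A) • σ (w0 cs) ∈ Δ.Pan (op cs j) (σ (w0 cs))
        rw [one_smul]; exact Δ.self_mem_Pan _ _
      mul_mem' := by
        intro a b ha hb
        change (a * b) • σ (w0 cs) ∈ Δ.Pan (op cs j) (σ (w0 cs))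
        rw [mul_smul]
        exact Δ.mem_Pan_trans ha (pan_smul H.iso a hb)
      inv_mem' := by
        intro a ha
        change a⁻¹ • σ (w0 cs) ∈ Δ.Pan (op cs j) (σ (w0 cs))
        have := pan_smul H.iso a⁻¹ ha
        rw [inv_smul_smul] at this
        exact Δ.mem_Pan_symm this }
  have hw : (w0 cs) ∉ rt cs 1 j := by
    have h1 := (mem_rt_w0 (cs := cs) (w := 1) (v := 1) (i := j)).not_left.2 (self_mem_rt 1 j)
    rwa [one_mul] at h1
  have hw1 : s j * w0 cs ∈ rt cs 1 j := mem_rt_w0.2 (by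
    have := mul_simple_notMem_rt (cs := cs) 1 j
    rwa [one_mul] at this)
  have hw2 : w0 cs ∈ rt cs (s j) j := by
    have h1 : (1 : W) * w0 cs ∈ rt cs (s j) j := mem_rt_w0.2 (by
      have := mul_simple_notMem_rt (cs := cs) (s j) j
      rwa [cs.simple_mul_simple_self] at this)
    rwa [one_mul] at h1
  have h1 : U (rt cs 1 j) ≤ S := fun g hg => by
    change g • σ (w0 cs) ∈ Δ.Pan (op cs j) (σ (w0 cs))
    have h3 := pan_smul H.iso g (Δ.mem_Pan_symm hs)
    rw [H.fix hg hw1] at h3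
    exact Δ.mem_Pan_trans hs h3
  have h2 : U (rt cs (s j) j) ≤ S := fun g hg => by
    change g • σ (w0 cs) ∈ Δ.Pan (op cs j) (σ (w0 cs))
    rw [H.fix hg hw2]
    exact Δ.self_mem_Pan _ _
  exact (sup_le h1 h2) hg

/-- An element of `L_j` fixing `σ 1` and `σ s_j` fixes the apartment. -/
theorem fix_of_Lg [Finite W] {j : I} {k : A} (hk : k ∈ Lg cs U j) (h1 : k • σ 1 = σ 1)
    (h2 : k • σ (s j) = σ (s j)) (v : W) : k • σ v = σ v := by
  refine H.fix_of_fix h1 ?_ v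
  have h3 := Lg_pan_op H hk
  have h4 : Δ.δ (σ (s j)) (σ (w0 cs)) = s j * w0 cs := by rw [H.chart, cs.inv_simple]
  have h5 : Δ.δ (σ (s j)) (k • σ (w0 cs)) = s j * w0 cs := by
    rw [← h4, ← H.iso k (σ (s j)) (σ (w0 cs)), h2]
  rcases h3 with h3 | h3
  · exact h3
  · exfalso
    have h6 := Δ.step_lt (σ (s j)) (σ (w0 cs)) (k • σ (w0 cs)) (op cs j) h3
    have e : s j * w0 cs * s (op cs j) = w0 cs := by
      rw [mul_assoc, w0_mul_simple_op, ← mul_assoc, cs.simple_mul_simple_self, one_mul]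
    rw [h4, h5, e] at h6
    have h7 := length_mul_w0 cs (s j)
    rw [cs.length_simple] at h7
    have h8 := h6 (by omega)
    rw [h8] at h7
    omega

/-- An element of `L_j` swapping `σ 1` and `σ s_j` induces the reflection on the apartment. -/
theorem perm_of_Lg [Finite W] {j : I} {n : A} (hn : n ∈ Lg cs U j) (h1 : n • σ 1 = σ (s j))
    (h2 : n • σ (s j) = σ 1) (v : W) : n • σ v = σ (s j * v) := by
  obtain ⟨m, hm, hm'⟩ := H.weyl j
  have h3 := fix_of_Lg H (mul_mem (inv_mem (show m ∈ Lg cs U j from hm)) hn) (k := m⁻¹ * n)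
    (by rw [mul_smul, h1, inv_smul_eq_iff, hm', mul_one])
    (by rw [mul_smul, h2, inv_smul_eq_iff, hm', cs.simple_mul_simple_self]) v
  rw [mul_smul, inv_smul_eq_iff, hm'] at h3
  exact h3

/-- An element of `L_j` fixing `σ 1` and `σ s_j` lies in the torus. -/
theorem mem_Tor_of_Lg [Finite W] {j : I} {k : A} (hk : k ∈ Lg cs U j) (h1 : k • σ 1 = σ 1)
    (h2 : k • σ (s j) = σ (s j)) : k ∈ Tor cs A σ :=
  mem_tor_of_fix (fix_of_Lg H hk h1 h2)

omit H in
/-- Two elements inducing the same permutation of the apartment differ by the torus. -/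
theorem mul_inv_mem_Tor {a b : A} {w : W} (ha : ∀ v, a • σ v = σ (w * v))
    (hb : ∀ v, b • σ v = σ (w * v)) : a * b⁻¹ ∈ Tor cs A σ := by
  refine mem_tor_of_fix fun v => ?_
  have h : b⁻¹ • σ v = σ (w⁻¹ * v) := by rw [inv_smul_eq_iff, hb, mul_inv_cancel_left]
  rw [mul_smul, h, ha, mul_inv_cancel_left]

omit H in
theorem inv_mul_mem_Tor {a b : A} {w : W} (ha : ∀ v, a • σ v = σ (w * v))
    (hb : ∀ v, b • σ v = σ (w * v)) : a⁻¹ * b ∈ Tor cs A σ := by
  refine mem_tor_of_fix fun v => ?_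
  rw [mul_smul, hb, inv_smul_eq_iff, ha]

/-- Products `v u v'` (`u ∈ U_j` mapping ..., `v, v' ∈ U_{-j}`) swapping `σ 1` and `σ s_j`. -/
theorem perm_of_mul [Finite W] {j : I} {u v v' : A} (hv : v ∈ U (rt cs (s j) j))
    (hu : u ∈ U (rt cs 1 j)) (hv' : v' ∈ U (rt cs (s j) j))
    (h1 : (v * u * v') • σ 1 = σ (s j)) (h2 : (v * u * v') • σ (s j) = σ 1) (x : W) :
    (v * u * v') • σ x = σ (s j * x) :=
  perm_of_Lg H (mul_mem (mul_mem (Subgroup.mem_sup_right hv) (Subgroup.mem_sup_left hu))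
    (Subgroup.mem_sup_right hv')) h1 h2 x

/-- A chamber of the panel of `σ w` fixed by `U (rt w i)` is `σ w`. -/
theorem eq_of_fixed {w : W} {i : I} {x : C} (hx : x ∈ Δ.Pan i (σ w))
    (h : ∀ u ∈ U (rt cs w i), u • x = x) : x = σ w := by
  by_contra hne
  have h1 : Δ.δ (σ w) x = s i := hx.resolve_left hne
  obtain ⟨y, z, hyz, hy, hz⟩ := H.thick (σ w) i
  obtain ⟨t, ht, htn⟩ : ∃ t, Δ.δ (σ w) t = s i ∧ t ≠ x := by
    by_cases h2 : y = x
    · exact ⟨z, hz, fun h' => hyz (h2.trans h'.symm)⟩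
    · exact ⟨y, hy, h2⟩
  obtain ⟨u, hu, hut⟩ := H.trans w i x t h1 ht
  rw [h u hu] at hut
  exact htn hut.symm

/-- An element of `L_j` interchanging the two root groups induces the reflection on the
apartment. -/
theorem perm_of_conj [Finite W] {j : I} {n : A} (hn : n ∈ Lg cs U j)
    (h1 : ∀ u ∈ U (rt cs (s j) j), n⁻¹ * u * n ∈ U (rt cs 1 j))
    (h2 : ∀ u ∈ U (rt cs 1 j), n⁻¹ * u * n ∈ U (rt cs (s j) j)) (v : W) :
    n • σ v = σ (s j * v) := by
  have e1 : Δ.δ (σ 1) (σ (s j)) = s j := by rw [H.chart, inv_one, one_mul]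
  have hs : σ (s j) ∈ Δ.Pan j (σ 1) := Or.inr e1
  have hp : n • σ 1 ∈ Δ.Pan j (σ 1) := H.pan hn
  refine perm_of_Lg H hn ?_ ?_ v
  · refine eq_of_fixed H (i := j) (Δ.mem_Pan_trans (Δ.mem_Pan_symm hs) hp) fun u hu => ?_
    have e : u * n = n * (n⁻¹ * u * n) := by group
    rw [← mul_smul, e, mul_smul, H.fix (h1 u hu) (self_mem_rt 1 j)]
  · refine eq_of_fixed H (i := j) (Δ.mem_Pan_trans hp (pan_smul H.iso n hs)) fun u hu => ?_
    have e : u * n = n * (n⁻¹ * u * n) := by group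
    rw [← mul_smul, e, mul_smul, H.fix (h2 u hu) (self_mem_rt (s j) j)]

end Cfsg.Agent.TitsThree.EndPerm
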