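import Mathlib
import Cfsg.Agent.TitsThree.B2Transport
import Cfsg.Agent.TitsThree.Hua

/-!
# A double bond seen from both sides (S1143, type `F₄`)

`Two m m'`: two relation packages of type `B₂`, over parameter systems `D` (field `F`) and `D'` (field `E`), on the same
two nodes, the types I and II being interchanged.  `th : E → D.T` is the change of parametrisation of the root group
of the second node, `rho t = Q(t)/Q(1)`, `Q(t) = (th t).c`.
-/

set_option autoImplicit false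
set_option linter.unusedSectionVars false

namespace Cfsg.Agent.TitsThree.F4Two

open Cfsg.Agent.TitsThree.Siegel Cfsg.Agent.TitsThree.B2Pkg Cfsg.Agent.TitsThree.Hua
open scoped commutatorElement

section unique

variable {F G : Type*} [Field F] [Group G] {xp xm : F → G} (h : SL2Par xp xm)

include h

theorem nn_mid {t : F} (ht : t ≠ 0) : xm (-t⁻¹) * xp t * xm (-t⁻¹) = nn xp xm t := by
  have h1 := h.conjp t ht t
  have e : -(t⁻¹ * t⁻¹ * t) = -t⁻¹ := by field_simp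
  rw [e] at h1
  have h2 : nn xp xm t = xm (-t⁻¹) * nn xp xm t * (xp t)⁻¹ := by
    rw [← h1]; group
  rw [h2]
  unfold nn
  group

theorem swap_unique {t α β : F} (ht : t ≠ 0)
    (h1 : ∀ r, ∃ r', (xm α * xp t * xm β) * xp r * (xm α * xp t * xm β)⁻¹ = xm r')
    (h2 : ∀ r, ∃ r', (xm α * xp t * xm β) * xm r * (xm α * xp t * xm β)⁻¹ = xp r') :
    α = -t⁻¹ ∧ β = -t⁻¹ := by
  have hn := nn_mid h ht
  have hg : xm α * xp t * xm β = xm (α + t⁻¹) * nn xp xm t * xm (β + t⁻¹) := by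
    rw [← hn, h.addm α, add_comm β, h.addm _ β, h.negm]
    group
  constructor
  · have h3 : α + t⁻¹ = 0 := by
      apply h.norm
      intro s
      obtain ⟨r', hr'⟩ := h2 (-(t⁻¹ * t⁻¹ * s))
      refine ⟨r', ?_⟩
      have h4 := h.conjm t ht (-(t⁻¹ * t⁻¹ * s))
      have e : -(t * t * -(t⁻¹ * t⁻¹ * s)) = s := by field_simp
      rw [e] at h4
      rw [← hr', hg, ← h4]
      have hc : xm (β + t⁻¹) * xm (-(t⁻¹ * t⁻¹ * s)) * (xm (β + t⁻¹))⁻¹ = xm (-(t⁻¹ * t⁻¹ * s)) := by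
        rw [← h.negm, ← h.addm, ← h.addm]
        congr 1
        ring
      have : xm (α + t⁻¹) * nn xp xm t * xm (β + t⁻¹) * xm (-(t⁻¹ * t⁻¹ * s)) *
          (xm (α + t⁻¹) * nn xp xm t * xm (β + t⁻¹))⁻¹ = xm (α + t⁻¹) * (nn xp xm t *
          (xm (β + t⁻¹) * xm (-(t⁻¹ * t⁻¹ * s)) * (xm (β + t⁻¹))⁻¹) * (nn xp xm t)⁻¹) *
          (xm (α + t⁻¹))⁻¹ := by group
      rw [this, hc]
    exact eq_neg_of_add_eq_zero_left h3
  · have h3 : β + t⁻¹ = 0 := by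
      apply h.norm
      intro s
      obtain ⟨r', hr'⟩ := h1 s
      refine ⟨-(t * t * r'), ?_⟩
      have h4 := h.conjp t ht (-(t * t * r'))
      have e : -(t⁻¹ * t⁻¹ * -(t * t * r')) = r' := by field_simp
      rw [e] at h4
      rw [hg] at hr'
      have hc : (xm (α + t⁻¹))⁻¹ * xm r' * xm (α + t⁻¹) = xm r' := by
        rw [← h.negm, ← h.addm, ← h.addm]
        congr 1
        ring
      have h5 : xp (-(t * t * r')) = (nn xp xm t)⁻¹ * xm r' * nn xp xm t := by rw [← h4]; group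
      rw [h5, ← hc, ← hr']
      group
    exact eq_neg_of_add_eq_zero_left h3

end unique

section inj

variable {F : Type*} [Field F] {V : Type*} [AddCommGroup V] [Module F V] {D : PQDatum F V}
  {Y : Type*} [Group Y] {m : B2Maps D Y}

theorem y_inj (h : B2Rel m) (hne : ∃ p : D.T, p.c ≠ 0) (hx : Function.Injective m.x) :
    Function.Injective m.y := by
  obtain ⟨p, hp⟩ := hne
  intro a b hab
  have h1 := h.nII_y p hp a
  rw [hab, h.nII_y p hp b] at h1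
  exact (mul_left_cancel₀ (inv_ne_zero hp) (hx h1)).symm

theorem z₂_one (h : B2Rel m) (hne : ∃ p : D.T, p.c ≠ 0) (hx : Function.Injective m.x) {p : D.T}
    (hp : m.z₂ p = 1) : p = 1 := by
  have h1 := h.x_z₂ 1 p
  rw [hp, commutatorElement_one_right, D.sc_one] at h1
  have h2 := h.nI_z₂ p
  rw [hp, mul_one, mul_inv_cancel] at h2
  rw [← h2, one_mul, ← B2Pkg.add_zero' h.y_add] at h1
  have h3 := y_inj h hne hx h1
  rw [zero_eq_neg, mul_one] at h3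
  have h4 : D.σ p.c = 0 := (mul_eq_zero.1 h3).resolve_left D.ε_ne
  rw [← PQDatum.T.c_eq_zero_iff]
  by_contra h5
  exact D.σ_ne h5 h4

theorem z₂_inj (h : B2Rel m) (hne : ∃ p : D.T, p.c ≠ 0) (hx : Function.Injective m.x) :
    Function.Injective m.z₂ := by
  intro p q hpq
  have h1 : m.z₂ (p * q⁻¹) = 1 := by
    rw [h.z₂_mul, B2Pkg.mul_inv' h.z₂_mul, hpq, mul_inv_cancel]
  exact mul_inv_eq_one.1 (z₂_one h hne hx h1)

theorem z₂'_inj (h : B2Rel m) (hne : ∃ p : D.T, p.c ≠ 0) (hx : Function.Injective m.x) :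
    Function.Injective m.z₂' := by
  obtain ⟨r, hr⟩ := hne
  intro p q hpq
  have h1 := h.nII_z₂' r hr p
  rw [hpq, h.nII_z₂' r hr q] at h1
  have h2 := z₂_inj h ⟨r, hr⟩ hx h1
  have h3 : D.ε⁻¹ * r.c ≠ 0 := mul_ne_zero (inv_ne_zero D.ε_ne) hr
  have h4 := congrArg (D.sc (D.ε⁻¹ * r.c)⁻¹) h2
  rw [D.sc_sc, D.sc_sc, inv_mul_cancel₀ h3, D.sc_one, D.sc_one] at h4
  exact (D.refl_injective r hr h4).symm

end inj

variable {F : Type*} [Field F] {V : Type*} [AddCommGroup V] [Module F V] {D : PQDatum F V}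
  {E : Type*} [Field E] {V' : Type*} [AddCommGroup V'] [Module E V'] {D' : PQDatum E V'}
  {Y : Type*} [Group Y]

/-- A double bond seen from both sides. -/
structure Two (m : B2Maps D Y) (m' : B2Maps D' Y) : Prop where
  rel : B2Rel m
  rel' : B2Rel m'
  ne : ∃ p : D.T, p.c ≠ 0
  ne' : ∃ p : D'.T, p.c ≠ 0
  par : SL2Par m.x m.x'
  par' : SL2Par m'.x m'.x'
  r1 : Set.range m'.z₂ = Set.range m.x
  r1' : Set.range m'.z₂' = Set.range m.x'
  r2 : Set.range m.z₂ = Set.range m'.x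
  r2' : Set.range m.z₂' = Set.range m'.x'

variable {m : B2Maps D Y} {m' : B2Maps D' Y}

theorem Two.symm (T : Two m m') : Two m' m where
  rel := T.rel'
  rel' := T.rel
  ne := T.ne'
  ne' := T.ne
  par := T.par'
  par' := T.par
  r1 := T.r2
  r1' := T.r2'
  r2 := T.r1
  r2' := T.r1'

namespace Two

variable (T : Two m m')

include T

theorem exists_th (t : E) : ∃ p, m.z₂ p = m'.x t := by
  have h : m'.x t ∈ Set.range m.z₂ := T.r2 ▸ ⟨t, rfl⟩
  exact h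

/-- The change of parametrisation. -/
noncomputable def th (t : E) : D.T := (T.exists_th t).choose

theorem z₂_th (t : E) : m.z₂ (T.th t) = m'.x t := (T.exists_th t).choose_spec

theorem z_inj : Function.Injective m.z₂ := z₂_inj T.rel T.ne T.par.injp

theorem z'_inj : Function.Injective m.z₂' := z₂'_inj T.rel T.ne T.par.injp

theorem th_add (s t : E) : T.th (s + t) = T.th s * T.th t := by
  apply T.z_inj
  rw [T.rel.z₂_mul, T.z₂_th, T.z₂_th, T.z₂_th, T.par'.addp]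

theorem th_zero : T.th 0 = 1 := by
  apply T.z_inj
  rw [T.z₂_th, T.par'.zerop, B2Pkg.mul_one' T.rel.z₂_mul]

theorem th_inj : Function.Injective T.th := fun s t h => T.par'.injp (by
  rw [← T.z₂_th, h, T.z₂_th])

theorem th_surj : Function.Surjective T.th := fun p => by
  have h : m.z₂ p ∈ Set.range m'.x := T.r2 ▸ ⟨p, rfl⟩
  obtain ⟨t, ht⟩ := h
  exact ⟨t, T.z_inj (by rw [T.z₂_th, ht])⟩

/-- `T` is abelian. -/
theorem T_comm (p q : D.T) : p * q = q * p := by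
  obtain ⟨s, rfl⟩ := T.th_surj p
  obtain ⟨t, rfl⟩ := T.th_surj q
  rw [← T.th_add, ← T.th_add, add_comm]

/-- `Q(t)` -/
noncomputable def Q (t : E) : F := (T.th t).c

theorem Q_zero : T.Q 0 = 0 := by
  rw [Q, T.th_zero]; rfl

theorem Q_ne {t : E} (ht : t ≠ 0) : T.Q t ≠ 0 := by
  intro h
  have h1 : T.th t = 1 := PQDatum.T.c_eq_zero_iff.1 h
  rw [← T.th_zero] at h1
  exact ht (T.th_inj h1)

theorem Q_eq_zero {t : E} : T.Q t = 0 ↔ t = 0 :=
  ⟨fun h => by_contra fun h1 => T.Q_ne h1 h, fun h => by rw [h, T.Q_zero]⟩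

/-- `n_II` is `n(t)` of the other side. -/
theorem nII_aux {t : E} (ht : t ≠ 0) : m.z₂' (D.sc (-(D.σ (T.th t).c)⁻¹) (T.th t)) = m'.x' (-t⁻¹) ∧
    m.z₂' (D.sc (-(D.ε * (T.th t).c⁻¹)) (T.th t)) = m'.x' (-t⁻¹) := by
  have hc : (T.th t).c ≠ 0 := T.Q_ne ht
  have h1 : m.z₂' (D.sc (-(D.σ (T.th t).c)⁻¹) (T.th t)) ∈ Set.range m'.x' := T.r2' ▸ ⟨_, rfl⟩
  have h2 : m.z₂' (D.sc (-(D.ε * (T.th t).c⁻¹)) (T.th t)) ∈ Set.range m'.x' := T.r2' ▸ ⟨_, rfl⟩
  obtain ⟨α, hα⟩ := h1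
  obtain ⟨β, hβ⟩ := h2
  have hn : m.nII (T.th t) = m'.x' α * m'.x t * m'.x' β := by
    rw [B2Maps.nII, ← hα, ← hβ, T.z₂_th]
  obtain ⟨e1, e2⟩ := swap_unique T.par' ht (α := α) (β := β) (fun r => by
    have h3 : m'.x r ∈ Set.range m.z₂ := T.r2 ▸ ⟨r, rfl⟩
    obtain ⟨q, hq⟩ := h3
    have h4 : m.z₂' (D.sc (D.σ (T.th t).c)⁻¹ (D.refl (T.th t) hc q)) ∈ Set.range m'.x' :=
      T.r2' ▸ ⟨_, rfl⟩
    obtain ⟨r', hr'⟩ := h4
    exact ⟨r', by rw [← hn, ← hq, T.rel.nII_z₂ _ hc, hr']⟩) (fun r => by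
    have h3 : m'.x' r ∈ Set.range m.z₂' := T.r2' ▸ ⟨r, rfl⟩
    obtain ⟨q, hq⟩ := h3
    have h4 : m.z₂ (D.sc (D.ε⁻¹ * (T.th t).c) (D.refl (T.th t) hc q)) ∈ Set.range m'.x :=
      T.r2 ▸ ⟨_, rfl⟩
    obtain ⟨r', hr'⟩ := h4
    exact ⟨r', by rw [← hn, ← hq, T.rel.nII_z₂' _ hc, hr']⟩)
  rw [← hα, ← hβ, e1, e2]
  exact ⟨rfl, rfl⟩

theorem nII_th {t : E} (ht : t ≠ 0) : m.nII (T.th t) = nn m'.x m'.x' t := by
  obtain ⟨h1, h2⟩ := T.nII_aux ht
  rw [B2Maps.nII, h1, h2, T.z₂_th, nn_mid T.par' ht]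

/-- The torus element `h_I(a)` acts on the root group of the second node as the multiplication by a scalar. -/
theorem th_sc {a : F} (ha : a ≠ 0) (t : E) :
    T.th ((T.symm.Q a) * (T.symm.Q 1)⁻¹ * t) = D.sc a (T.th t) := by
  have hQa : T.symm.Q a ≠ 0 := T.symm.Q_ne ha
  have hQ1 : T.symm.Q 1 ≠ 0 := T.symm.Q_ne one_ne_zero
  apply T.z_inj
  rw [T.z₂_th]
  -- `h = n(1) n(a)⁻¹` acts by `sc a` and by `Q'(1)⁻¹ Q'(a)`
  have h1 := T.rel'.hII_x (p := T.symm.th 1) (q := T.symm.th a) hQ1 hQa t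
  rw [T.symm.nII_th one_ne_zero, T.symm.nII_th ha] at h1
  have h2 : (nn m.x m.x' 1 * (nn m.x m.x' a)⁻¹) * m.z₂ (T.th t) *
      (nn m.x m.x' 1 * (nn m.x m.x' a)⁻¹)⁻¹ = m.z₂ (D.sc a (T.th t)) := by
    have e1 : (nn m.x m.x' 1 * (nn m.x m.x' a)⁻¹) * m.z₂ (T.th t) *
        (nn m.x m.x' 1 * (nn m.x m.x' a)⁻¹)⁻¹ = nn m.x m.x' 1 * ((nn m.x m.x' a)⁻¹ *
        m.z₂ (T.th t) * ((nn m.x m.x' a)⁻¹)⁻¹) * (nn m.x m.x' 1)⁻¹ := by group
    rw [e1, T.rel.nn_inv, T.rel.nn_z₂ (neg_ne_zero.2 ha), T.rel.nn_z₁ one_ne_zero, D.sc_sc]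
    congr 2
    simp
  rw [T.z₂_th, h1] at h2
  rw [← h2]
  congr 1
  change T.symm.Q a * (T.symm.Q 1)⁻¹ * t = (T.symm.Q 1)⁻¹ * T.symm.Q a * t
  ring

/-- `ρ(t) = Q(t)/Q(1)` -/
noncomputable def rho (t : E) : F := T.Q t * (T.Q 1)⁻¹

theorem rho_one : T.rho 1 = 1 := mul_inv_cancel₀ (T.Q_ne one_ne_zero)

theorem rho_zero : T.rho 0 = 0 := by rw [rho, T.Q_zero, zero_mul]

theorem Q_eq (t : E) : T.Q t = T.rho t * T.Q 1 := by
  rw [rho, inv_mul_cancel_right₀ (T.Q_ne one_ne_zero)]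

theorem rho_eq_zero {t : E} : T.rho t = 0 ↔ t = 0 := by
  rw [rho, mul_eq_zero, T.Q_eq_zero]
  exact ⟨fun h => h.resolve_right (inv_ne_zero (T.Q_ne one_ne_zero)), Or.inl⟩

/-- `θ(ρ'(a) t) = a · θ(t)` -/
theorem th_rho (a : F) (t : E) : T.th (T.symm.rho a * t) = D.sc a (T.th t) := by
  by_cases ha : a = 0
  · rw [ha, T.symm.rho_zero, zero_mul, T.th_zero, D.sc_zero]
  · exact T.th_sc ha t

/-- `ρ` is multiplicative. -/
theorem rho_mul (s t : E) : T.rho (s * t) = T.rho s * T.rho t := by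
  apply T.symm.th_inj
  have h1 := T.symm.th_rho (s * t) 1
  have h2 := T.symm.th_rho s (T.rho t)
  have h3 := T.symm.th_rho t 1
  rw [mul_one] at h1 h3
  change T.symm.th (T.rho (s * t)) = _ at h1
  change T.symm.th (T.rho s * T.rho t) = _ at h2
  change T.symm.th (T.rho t) = _ at h3
  rw [h1, h2, h3, D'.sc_sc]

/-- `Q(ρ'(a) t) = a σ(a) Q(t)` -/
theorem Q_rho (a : F) (t : E) : T.Q (T.symm.rho a * t) = a * D.σ a * T.Q t := by
  rw [Q, T.th_rho]; rfl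

theorem rho_rho (a : F) (t : E) : T.rho (T.symm.rho a * t) = a * D.σ a * T.rho t := by
  rw [rho, T.Q_rho, rho, mul_assoc]

end Two

end Cfsg.Agent.TitsThree.F4Two
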