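import Mathlib
import Cfsg.Agent.TitsThree.FFData

/-!
# Multiplicative quadratic forms on field extensions (S1143, type `F₄`)

`exists_conj`: a multiplicative quadratic form on an extension `E/F`, with nonzero polar form, is the norm of a
`ConjPair F E`.  `card_eq`, `conj_eq_pow`: for finite fields and `conj ≠ 1`, `|E| = |F|²` and `conj t = t ^ |F|`.
-/

set_option autoImplicit false
set_option linter.unusedSectionVars false

namespace Cfsg.Agent.TitsThree.FFComp

open Cfsg.Agent.TitsThree.FFData

section comp

variable {F E : Type*} [Field F] [Field E] [Algebra F E]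

/-- The conjugation of a multiplicative quadratic form. -/
theorem exists_conj (N : E → F) (B : E → E → F) (hmul : ∀ s t, N (s * t) = N s * N t)
    (hN : ∀ a : F, N (algebraMap F E a) = a * a)
    (hadd : ∀ s t, N (s + t) = N s + N t + B s t) (hB : ∀ s s' t, B (s + s') t = B s t + B s' t)
    (hBs : ∀ (a : F) s t, B (algebraMap F E a * s) t = a * B s t) (hne : ∃ s t, B s t ≠ 0) :
    ∃ P : ConjPair F E, P.N = N := by
  have hN1 : N 1 = 1 := by
    have := hN 1
    rwa [map_one, mul_one] at this
  have hN0 : N 0 = 0 := by
    have := hN 0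
    rwa [map_zero, mul_zero] at this
  have hsymm : ∀ s t, B s t = B t s := by
    intro s t
    have h1 := hadd s t
    have h2 := hadd t s
    rw [add_comm t s] at h2
    linear_combination h2 - h1
  have hB2 : ∀ s t t', B s (t + t') = B s t + B s t' := by
    intro s t t'
    rw [hsymm, hB, hsymm t, hsymm t']
  have hBs2 : ∀ (a : F) s t, B s (algebraMap F E a * t) = a * B s t := by
    intro a s t
    rw [hsymm, hBs, hsymm]
  have hneg : ∀ s t, B s (-t) = -B s t := by
    intro s t
    have := hBs2 (-1) s t
    rw [map_neg, map_one, neg_one_mul, neg_one_mul] at this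
    exact this
  -- `B (us) (ut) = N u B s t`
  have hB3 : ∀ u s t, B (u * s) (u * t) = N u * B s t := by
    intro u s t
    have h1 := hadd (u * s) (u * t)
    rw [← mul_add, hmul, hmul, hmul, hadd s t] at h1
    linear_combination -h1
  -- polarisation
  have hB4 : ∀ u v s t, B (u * s) (v * t) + B (v * s) (u * t) = B u v * B s t := by
    intro u v s t
    have h1 := hB3 (u + v) s t
    rw [add_mul, add_mul, hB, hB2, hB2, hB3, hB3, hadd] at h1
    linear_combination h1
  set T : E → F := fun t => B t 1 with hT
  have hB5 : ∀ u s t, B (u * s) t = B s ((algebraMap F E (T u) - u) * t) := by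
    intro u s t
    have h1 := hB4 u 1 s t
    rw [one_mul, one_mul] at h1
    rw [sub_mul, sub_eq_add_neg, hB2, hneg, hBs2]
    linear_combination h1
  -- nondegeneracy
  have hnd : ∀ t, (∀ s, B s t = 0) → t = 0 := by
    intro t ht
    by_contra h
    obtain ⟨s₀, t₀, h1⟩ := hne
    apply h1
    by_cases hs : s₀ = 0
    · rw [hs]
      have := hBs 0 0 t₀
      rwa [map_zero, zero_mul, zero_mul] at this
    by_cases ht0 : t₀ = 0
    · rw [ht0, hsymm]
      have := hBs 0 0 s₀
      rwa [map_zero, zero_mul, zero_mul] at this
    have h2 := hB3 (t₀ / t) (s₀ * t / t₀) t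
    have e1 : t₀ / t * (s₀ * t / t₀) = s₀ := by field_simp
    have e2 : t₀ / t * t = t₀ := by field_simp
    rw [e1, e2, ht, mul_zero] at h2
    exact h2
  have hconj : ∀ u, (algebraMap F E (T u) - u) * u = algebraMap F E (N u) := by
    intro u
    have h1 : (algebraMap F E (T u) - u) * u - algebraMap F E (N u) = 0 := by
      apply hnd
      intro s
      rw [sub_eq_add_neg, hB2, hneg]
      have h2 := hB5 u s u
      have h3 := hB3 u s 1
      have h4 := hBs2 (N u) s 1
      rw [mul_one] at h3 h4
      rw [← h2, h3, h4]
      ring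
    exact sub_eq_zero.1 h1
  have hTadd : ∀ s t, T (s + t) = T s + T t := fun s t => hB s t 1
  have hTalg : ∀ a : F, T (algebraMap F E a) = 2 * a := by
    intro a
    have h1 := hBs a 1 1
    have h2 := hadd 1 1
    have h3 := hN 2
    have e : (1 : E) + 1 = algebraMap F E 2 := by rw [map_ofNat]; norm_num
    rw [e, h3, hN1] at h2
    rw [mul_one] at h1
    simp only [hT]
    rw [h1]
    linear_combination (-a) * h2
  have hTT : ∀ t, T (algebraMap F E (T t) - t) = T t := by
    intro t
    have h1 := hTadd (algebraMap F E (T t) - t) t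
    rw [sub_add_cancel, hTalg] at h1
    linear_combination -h1
  have hcadd : ∀ s t, algebraMap F E (T (s + t)) - (s + t) =
      (algebraMap F E (T s) - s) + (algebraMap F E (T t) - t) := by
    intro s t
    rw [hTadd, map_add]; ring
  have hcmul : ∀ s t, algebraMap F E (T (s * t)) - s * t =
      (algebraMap F E (T s) - s) * (algebraMap F E (T t) - t) := by
    intro s t
    by_cases hst : s * t = 0
    · rcases mul_eq_zero.1 hst with h | h
      · rw [h, zero_mul]
        have : T 0 = 0 := by
          have := hTalg 0
          rwa [map_zero, mul_zero] at this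
        rw [this]; simp
      · rw [h, mul_zero]
        have : T 0 = 0 := by
          have := hTalg 0
          rwa [map_zero, mul_zero] at this
        rw [this]; simp
    · apply mul_right_cancel₀ hst
      rw [hconj, hmul, map_mul, ← hconj, ← hconj]
      ring
  let c : E ≃+* E :=
    { toFun := fun t => algebraMap F E (T t) - t
      invFun := fun t => algebraMap F E (T t) - t
      left_inv := fun t => by simp only [hTT]; ring
      right_inv := fun t => by simp only [hTT]; ring
      map_mul' := hcmul
      map_add' := hcadd }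
  have hc : ∀ t, c t = algebraMap F E (T t) - t := fun t => rfl
  refine ⟨⟨c, N, T, fun t => ?_, fun a => ?_, fun t => ?_, fun t => ?_⟩, rfl⟩
  · rw [hc, hc, hTT]; ring
  · rw [hc, hTalg, map_mul, map_ofNat]; ring
  · rw [hc, mul_comm, hconj]
  · rw [hc]; ring

end comp

section finite

variable {F E : Type*} [Field F] [Field E] [Algebra F E] (P : ConjPair F E) [Finite F] [Finite E]

/-- The elements fixed by the Frobenius map of `F`. -/
theorem mem_of_pow {t : E} (ht : t ^ Nat.card F = t) : ∃ a, algebraMap F E a = t := by
  classical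
  have := Fintype.ofFinite F
  by_contra hcon
  push Not at hcon
  have hq : 1 < Nat.card F := Finite.one_lt_card
  let p : Polynomial E := Polynomial.X ^ Nat.card F - Polynomial.X
  have hp0 : p ≠ 0 := FiniteField.X_pow_card_sub_X_ne_zero E hq
  have hdeg : p.natDegree = Nat.card F := FiniteField.X_pow_card_sub_X_natDegree_eq E hq
  let S : Finset E := insert t (Finset.univ.map ⟨algebraMap F E, (algebraMap F E).injective⟩)
  have hS : S.card = Nat.card F + 1 := by
    rw [Finset.card_insert_of_notMem, Finset.card_map, Finset.card_univ, Nat.card_eq_fintype_card]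
    intro h
    rw [Finset.mem_map] at h
    obtain ⟨a, -, ha⟩ := h
    exact hcon a ha
  have hroot : ∀ s ∈ S, p.IsRoot s := by
    intro s hs
    have h1 : s ^ Nat.card F = s := by
      rcases Finset.mem_insert.1 hs with h | h
      · rw [h]; exact ht
      · rw [Finset.mem_map] at h
        obtain ⟨a, -, rfl⟩ := h
        change algebraMap F E a ^ Nat.card F = algebraMap F E a
        rw [← map_pow, Nat.card_eq_fintype_card, FiniteField.pow_card]
    rw [Polynomial.IsRoot.def, Polynomial.eval_sub, Polynomial.eval_pow, Polynomial.eval_X, h1, sub_self]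
  have h2 := Polynomial.card_le_degree_of_subset_roots (p := p) (Z := S) (fun s hs => by
    rw [Polynomial.mem_roots hp0]
    exact hroot s hs)
  omega

/-- `conj` is the Frobenius map. -/
theorem conj_eq_pow (t : E) : P.conj t = t ^ Nat.card F := by
  classical
  have := Fintype.ofFinite F
  by_cases hmem : ∃ a, algebraMap F E a = t
  · obtain ⟨a, rfl⟩ := hmem
    rw [P.conj_alg, ← map_pow, Nat.card_eq_fintype_card, FiniteField.pow_card]
  · have h1 : t ^ Nat.card F ≠ t := fun h => hmem (mem_of_pow h)
    have hφ : ∀ s : E, FiniteField.frobeniusAlgHom F E s = s ^ Nat.card F := fun s => by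
      rw [FiniteField.coe_frobeniusAlgHom, Nat.card_eq_fintype_card]
    -- `t ^ q` is a root of `X² - T X + N`
    have h2 : t * t - algebraMap F E (P.T t) * t + algebraMap F E (P.N t) = 0 := by
      rw [P.hT, P.hN]; ring
    have h3 := congrArg (FiniteField.frobeniusAlgHom F E) h2
    rw [map_add, map_sub, map_mul, map_mul, AlgHom.commutes, AlgHom.commutes, map_zero, hφ] at h3
    have h4 : (t ^ Nat.card F - t) * (t ^ Nat.card F + t - algebraMap F E (P.T t)) = 0 := by
      linear_combination h3 - h2
    have h5 := (mul_eq_zero.1 h4).resolve_left (sub_ne_zero.2 h1)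
    rw [P.hT] at h5
    linear_combination -h5

theorem card_eq (h : ∃ t, P.conj t ≠ t) : Nat.card E = Nat.card F ^ 2 := by
  classical
  have := Fintype.ofFinite F
  have := Fintype.ofFinite E
  have hq : 1 < Nat.card F := Finite.one_lt_card
  have hpow : ∀ t : E, t ^ (Nat.card F ^ 2) = t := by
    intro t
    rw [pow_two, pow_mul, ← conj_eq_pow P, ← conj_eq_pow P, P.conj_conj]
  have hle : Nat.card E ≤ Nat.card F ^ 2 := by
    have hq2 : 1 < Nat.card F ^ 2 := Nat.one_lt_pow (by norm_num) hq
    have hp0 := FiniteField.X_pow_card_sub_X_ne_zero E hq2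
    have hdeg := FiniteField.X_pow_card_sub_X_natDegree_eq E hq2
    have h2 := Polynomial.card_le_degree_of_subset_roots
      (p := (Polynomial.X ^ Nat.card F ^ 2 - Polynomial.X : Polynomial E)) (Z := Finset.univ)
      (fun s _ => by
        rw [Polynomial.mem_roots hp0, Polynomial.IsRoot.def, Polynomial.eval_sub, Polynomial.eval_pow,
          Polynomial.eval_X, hpow, sub_self])
    rw [hdeg, Finset.card_univ, ← Nat.card_eq_fintype_card] at h2
    exact h2
  have hE : Nat.card E = Nat.card F ^ Module.finrank F E := Module.natCard_eq_pow_finrank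
  rw [hE] at hle ⊢
  have h1 : Module.finrank F E ≤ 2 := (Nat.pow_le_pow_iff_right hq).1 hle
  have h2 : 0 < Module.finrank F E := Module.finrank_pos
  have h3 : Module.finrank F E ≠ 1 := by
    intro h3
    obtain ⟨t, ht⟩ := h
    apply ht
    have h4 : Nat.card F = Nat.card E := by rw [hE, h3, pow_one]
    have h5 : Function.Bijective (algebraMap F E) :=
      (Nat.bijective_iff_injective_and_card _).2 ⟨(algebraMap F E).injective, h4⟩
    obtain ⟨a, rfl⟩ := h5.2 t
    exact P.conj_alg a
  congr 1
  omega

end finite

end Cfsg.Agent.TitsThree.FFComp
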