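import Mathlib
import Cfsg.Agent.TitsThree.F4Two
import Cfsg.Agent.TitsThree.FFComp
import Cfsg.Agent.TitsThree.PQClass

/-!
# The middle part of the package of type `F₄` (S1143)

`orth_or`: for a double bond seen from both sides one of the two parameter systems is orthogonal.
`Two.mid`: if `D` is orthogonal, the package can be rewritten over `P.datum` for a `ConjPair P`, either with `E = F` or
with `E/F` quadratic, such that the root group of the second node is parametrised through `τ`, `τ'`.
-/

set_option autoImplicit false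
set_option linter.unusedSectionVars false

namespace Cfsg.Agent.TitsThree.F4Orth

open Cfsg.Agent.TitsThree.Siegel Cfsg.Agent.TitsThree.B2Pkg Cfsg.Agent.TitsThree.Hua
  Cfsg.Agent.TitsThree.StdData Cfsg.Agent.TitsThree.F4Two Cfsg.Agent.TitsThree.FFData
open scoped commutatorElement

/-- Orthogonal parameter systems. -/
def Orth {F : Type*} [Field F] {V : Type*} [AddCommGroup V] [Module F V] (D : PQDatum F V) : Prop :=
  (∀ x, D.σ x = x) ∧ D.ε = 1

section or

variable {F : Type*} [Field F] {V : Type*} [AddCommGroup V] [Module F V] {D : PQDatum F V}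
  {E : Type*} [Field E] {V' : Type*} [AddCommGroup V'] [Module E V'] {D' : PQDatum E V'}
  {Y : Type*} [Group Y] {m : B2Maps D Y} {m' : B2Maps D' Y}

/-- A non trivial commutator of type I root elements. -/
theorem exists_tr (h : ¬ Orth D) : ∃ b, D.tr 1 b ≠ 1 := by
  by_contra hcon
  push Not at hcon
  apply h
  have h1 : ∀ b, b = D.ε * D.σ b := by
    intro b
    have h2 := congrArg PQDatum.T.c (hcon b)
    rw [PQDatum.tr_c, PQDatum.T.one_c, map_one, one_mul, mul_one] at h2
    exact sub_eq_zero.1 h2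
  have hε : D.ε = 1 := by
    have := h1 1
    rw [map_one, mul_one] at this
    exact this.symm
  exact ⟨fun x => by
    have := h1 x
    rw [hε, one_mul] at this
    exact this.symm, hε⟩

theorem h_ne (T : Two m m') (h : ¬ Orth D) : ∃ p q : D'.T, D'.h p.w q.w ≠ 0 := by
  obtain ⟨b, hb⟩ := exists_tr h
  by_contra hcon
  push Not at hcon
  apply hb
  have h1 := T.rel.x_y 1 b
  -- `y b = n x(a) n⁻¹`
  have hc := T.Q_ne (one_ne_zero : (1 : E) ≠ 0)
  have hc' : D.ε * D.σ (T.th 1).c ≠ 0 := mul_ne_zero D.ε_ne (D.σ_ne hc)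
  have h2 := T.rel.nII_x (T.th 1) hc ((D.ε * D.σ (T.th 1).c)⁻¹ * b)
  rw [mul_inv_cancel_left₀ hc', T.nII_th one_ne_zero, B2Rel.nn_one] at h2
  rw [← T.symm.z₂_th 1, ← h2, ← T.symm.z₂_th, T.rel'.nI_z₂, ← commutatorElement_inv,
    T.rel'.z₁_z₂, hcon, neg_zero, add_zero' T.rel'.y_add, inv_one] at h1
  have h3 : m.z₁ (D.tr 1 b) = 1 := h1.symm
  rw [← T.rel.nI_z₂, mul_inv_eq_one, mul_eq_left] at h3
  exact z₂_one T.rel T.ne T.par.injp h3

theorem orth_or (T : Two m m') : Orth D ∨ Orth D' := by
  by_contra hcon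
  push Not at hcon
  obtain ⟨h1, h2⟩ := hcon
  apply h2
  obtain ⟨p, q, hpq⟩ := h_ne T h1
  have hsymm : ∀ p q : D'.T, D'.h p.w q.w = D'.h q.w p.w := by
    intro p q
    have h3 := congrArg PQDatum.T.c (T.symm.T_comm p q)
    rw [PQDatum.T.mul_c, PQDatum.T.mul_c] at h3
    linear_combination h3
  have hσ : ∀ x, D'.σ x = x := by
    intro x
    have h3 := hsymm p (D'.sc (D'.σ x) q)
    rw [PQDatum.sc_w, D'.σσ, D'.smul_right, D'.smul_left, hsymm q p] at h3
    exact mul_right_cancel₀ hpq h3
  refine ⟨hσ, ?_⟩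
  have h3 := D'.swap p.w q.w
  rw [hσ, ← hsymm p q] at h3
  exact (mul_right_cancel₀ hpq ((one_mul _).trans h3)).symm

end or

/-- The middle part of the package of type `F₄`. -/
def Mid {F E : Type*} [Field F] [Field E] [Algebra F E] (P : ConjPair F E) {Y : Type*} [Group Y]
    (X1 X1' X2 X2' Bc : Set Y) : Prop :=
  ∃ m : B2Maps P.datum Y, B2Rel m ∧ SL2Par m.x m.x' ∧
    SL2Par (fun t => m.z₂ (P.τ t)) (fun t => m.z₂' (P.τ' t)) ∧ Set.range m.x = X1 ∧
    Set.range m.x' = X1' ∧ Set.range (fun t => m.z₂ (P.τ t)) = X2 ∧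
    Set.range (fun t => m.z₂' (P.τ' t)) = X2' ∧ ∀ b, m.y b ∈ Bc

section general

variable {F : Type*} [Field F] {V : Type*} [AddCommGroup V] [Module F V] {D : PQDatum F V}
  {E : Type*} [Field E] {V' : Type*} [AddCommGroup V'] [Module E V'] {D' : PQDatum E V'}
  {Y : Type*} [Group Y] {m : B2Maps D Y} {m' : B2Maps D' Y}

theorem sl2Par_comp {E₀ G : Type*} [Field E₀] [Group G] {xp xm : E → G} (h : SL2Par xp xm)
    (ψ : E₀ ≃+* E) : SL2Par (fun t => xp (ψ t)) (fun t => xm (ψ t)) := by
  have hn : ∀ t, nn (fun t => xp (ψ t)) (fun t => xm (ψ t)) t = nn xp xm (ψ t) := by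
    intro t
    simp only [nn, map_neg, map_inv₀]
  refine ⟨fun s t => ?_, fun s t => ?_, fun s t hst => ψ.injective (h.injp hst),
    fun s t hst => ψ.injective (h.injm hst), fun t ht s => ?_, fun t ht s => ?_, fun s hs => ?_⟩
  · simp only [map_add]; exact h.addp _ _
  · simp only [map_add]; exact h.addm _ _
  · rw [hn]
    have := h.conjp (ψ t) ((map_ne_zero ψ).2 ht) (ψ s)
    simp only [map_neg, map_mul, map_inv₀]
    exact this
  · rw [hn]
    have := h.conjm (ψ t) ((map_ne_zero ψ).2 ht) (ψ s)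
    simp only [map_neg, map_mul]
    exact this
  · have h1 : ψ s = 0 := by
      apply h.norm
      intro r
      obtain ⟨r', hr'⟩ := hs (ψ.symm r)
      refine ⟨ψ r', ?_⟩
      simpa using hr'
    exact (map_eq_zero ψ).1 h1

/-- The first coordinate of the parametrisation. -/
theorem th_w_add (T : Two m m') (s t : E) : (T.th (s + t)).w = (T.th s).w + (T.th t).w := by
  rw [T.th_add]; rfl

theorem th_w_smul (T : Two m m') (ho : Orth D) (a : F) (t : E) :
    (T.th (T.symm.rho a * t)).w = a • (T.th t).w := by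
  rw [T.th_rho, PQDatum.sc_w, ho.1]

theorem rho_add (T : Two m m') (s t : E) : T.rho (s + t) = T.rho s + T.rho t -
    D.h (T.th t).w (T.th s).w * (T.Q 1)⁻¹ := by
  rw [Two.rho, Two.Q, T.th_add, PQDatum.T.mul_c]
  change ((T.Q s) + (T.Q t) - _) * _ = T.Q s * _ + T.Q t * _ - _
  ring

theorem ok_unique (ho : Orth D) (h0 : ∀ c, D.ok 0 c → c = 0) {w : V} {c c' : F} (h : D.ok w c)
    (h' : D.ok w c') : c = c' := by
  have h3 := D.ok_mul (D.ok_inv h) h'
  rw [neg_add_cancel, ho.2, ho.1, one_mul, D.neg_right] at h3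
  have h4 := h0 _ h3
  have h5 := D.ok_rel h
  rw [ho.2, ho.1, one_mul] at h5
  linear_combination h5 - h4

theorem ok_ext (ho : Orth D) (h0 : ∀ c, D.ok 0 c → c = 0) {p q : D.T} (h : p.w = q.w) : p = q := by
  ext
  · exact h
  · have h3 := p.ok
    rw [h] at h3
    exact ok_unique ho h0 h3 q.ok

/-- The general rewriting lemma. -/
theorem mid_of (T : Two m m') (ho : Orth D) (h0 : ∀ c, D.ok 0 c → c = 0)
    (hs : ∀ w, ∃ c, D.ok w c) {E₀ : Type*} [Field E₀] [Algebra F E₀] (P : ConjPair F E₀)
    (ψ : E₀ ≃+* E) (h1 : ∀ a, ψ (algebraMap F E₀ a) = T.symm.rho a)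
    (h2 : ∀ t, T.rho (ψ t) = P.N t) :
    Mid P (Set.range m.x) (Set.range m.x') (Set.range m'.x) (Set.range m'.x') (Set.range m.y) := by
  have hσ := ho.1
  have hε := ho.2
  have hQ1 : T.Q 1 ≠ 0 := T.Q_ne one_ne_zero
  have huniq : ∀ {w : V} {c c' : F}, D.ok w c → D.ok w c' → c = c' := ok_unique ho h0
  -- the linear equivalence
  let f : E₀ →ₗ[F] V :=
    { toFun := fun t => (T.th (ψ t)).w
      map_add' := fun s t => by rw [map_add, th_w_add]
      map_smul' := fun a t => by
        rw [Algebra.smul_def, map_mul, h1, th_w_smul T ho, RingHom.id_apply] }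
  have hf : ∀ t, f t = (T.th (ψ t)).w := fun t => rfl
  have hfinj : Function.Injective f := by
    intro s t hst
    rw [hf, hf] at hst
    apply ψ.injective
    apply T.th_inj
    ext
    · exact hst
    · have h3 := (T.th (ψ s)).ok
      rw [hst] at h3
      exact huniq h3 (T.th (ψ t)).ok
  have hfsurj : Function.Surjective f := by
    intro w
    obtain ⟨c, hc⟩ := hs w
    obtain ⟨t, ht⟩ := T.th_surj ⟨w, c, hc⟩
    exact ⟨ψ.symm t, by rw [hf, ψ.apply_symm_apply, ht]⟩
  let e : E₀ ≃ₗ[F] V := LinearEquiv.ofBijective f ⟨hfinj, hfsurj⟩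
  have he : ∀ t, e t = (T.th (ψ t)).w := fun t => rfl
  have hl : -(T.Q 1)⁻¹ ≠ 0 := neg_ne_zero.2 (inv_ne_zero hQ1)
  have hQ : ∀ t, T.Q (ψ t) = P.N t * T.Q 1 := fun t => by rw [← h2, T.Q_eq]
  let s : Sim D P.datum :=
    { l := -(T.Q 1)⁻¹
      l_ne := hl
      e := e.symm
      σ_eq := fun x => (hσ x).symm
      ε_eq := by
        rw [hσ, hε, one_mul, mul_inv_cancel₀ hl]
        rfl
      h_eq := fun v w => by
        obtain ⟨x, rfl⟩ := e.surjective v
        obtain ⟨y, rfl⟩ := e.surjective w
        rw [e.symm_apply_apply, e.symm_apply_apply, P.datum_h, he, he]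
        have h3 := P.N_add x y
        have h4 := rho_add T (ψ x) (ψ y)
        rw [← map_add, h2, h2, h2] at h4
        have h5 : D.h (T.th (ψ y)).w (T.th (ψ x)).w = D.h (T.th (ψ x)).w (T.th (ψ y)).w := by
          rw [D.swap, hε, hσ, one_mul]
        rw [h5] at h4
        linear_combination h4 - h3
      ok_iff := fun w c => by
        obtain ⟨x, rfl⟩ := e.surjective w
        rw [e.symm_apply_apply, P.datum_ok, he]
        constructor
        · intro h3
          have h4 : c = (T.th (ψ x)).c := by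
            change c = T.Q (ψ x)
            rw [hQ]
            field_simp at h3
            linear_combination -h3
          rw [h4]
          exact (T.th (ψ x)).ok
        · intro h3
          have h4 : c = T.Q (ψ x) := huniq h3 (T.th (ψ x)).ok
          rw [h4, hQ]
          field_simp }
  have hz : ∀ t, (B2Transport.maps s m).z₂ (P.τ t) = m'.x (ψ t) := by
    intro t
    rw [B2Transport.maps_z₂, ← T.z₂_th]
    congr 1
    ext
    · rw [B2Transport.τ_w]
      change e.symm.symm (P.τ t).w = _
      rw [LinearEquiv.symm_symm, he, P.τ_w]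
    · rw [B2Transport.τ_c]
      change (-(T.Q 1)⁻¹)⁻¹ * (P.τ t).c = T.Q (ψ t)
      rw [P.τ_c, hQ]
      field_simp
  have hsub : Set.range (B2Transport.maps s m).z₂' = Set.range m'.x' := by
    rw [B2Transport.range_z₂', T.r2']
  have T'' : Two (B2Transport.maps s m) m' :=
    { rel := B2Transport.rel s T.rel
      rel' := T.rel'
      ne := B2Transport.exists_c_ne s T.ne
      ne' := T.ne'
      par := T.par
      par' := T.par'
      r1 := T.r1
      r1' := T.r1'
      r2 := by rw [B2Transport.range_z₂, T.r2]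
      r2' := hsub }
  have hth : ∀ t, T''.th (ψ t) = P.τ t := fun t => T''.z_inj (by rw [T''.z₂_th, hz])
  have hz' : ∀ t, (B2Transport.maps s m).z₂' (P.τ' t) = m'.x' (ψ t) := by
    intro t
    by_cases ht : t = 0
    · have h3 : P.τ' 0 = 1 := P.T_ext (by rw [P.τ'_w, map_zero, neg_zero]; rfl)
      rw [ht, h3, mul_one' T''.rel.z₂'_mul, map_zero, T.par'.zerom]
    · have hu : -t⁻¹ ≠ 0 := neg_ne_zero.2 (inv_ne_zero ht)
      have h3 := (T''.nII_aux (t := ψ (-t⁻¹)) ((map_ne_zero ψ).2 hu)).1
      rw [hth] at h3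
      have h4 : P.datum.sc (-(P.datum.σ (P.τ (-t⁻¹)).c)⁻¹) (P.τ (-t⁻¹)) = P.τ' t := by
        apply P.T_ext
        rw [PQDatum.sc_w, P.datum_σ, P.datum_σ, P.τ_c, P.τ_w, P.τ'_w, inv_neg, neg_neg, P.N_neg, P.N_inv,
          inv_inv, Algebra.smul_def, P.hN]
        field_simp
      rw [h4] at h3
      rw [h3, ← map_inv₀, ← map_neg]
      congr 2
      rw [inv_neg, inv_inv, neg_neg]
  have e1 : (fun t => (B2Transport.maps s m).z₂ (P.τ t)) = fun t => m'.x (ψ t) := funext hz
  have e2 : (fun t => (B2Transport.maps s m).z₂' (P.τ' t)) = fun t => m'.x' (ψ t) := funext hz'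
  refine ⟨B2Transport.maps s m, T''.rel, T.par, ?_, rfl, rfl, ?_, ?_, fun b => ⟨_, rfl⟩⟩
  · rw [e1, e2]
    exact sl2Par_comp T.par' ψ
  · rw [e1]
    exact ψ.surjective.range_comp m'.x
  · rw [e2]
    exact ψ.surjective.range_comp m'.x'

end general

section final

variable {F : Type} [Field F] [Finite F] {V : Type*} [AddCommGroup V] [Module F V]
  {D : PQDatum F V} {E : Type} [Field E] [Finite E] {V' : Type*} [AddCommGroup V'] [Module E V']
  {D' : PQDatum E V'} {Y : Type*} [Group Y] {m : B2Maps D Y} {m' : B2Maps D' Y}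

/-- The embedding of `F` into `E`. -/
noncomputable def lam (T : Two m m') (ho : Orth D) (h0 : ∀ c, D.ok 0 c → c = 0) : F →+* E where
  toFun := T.symm.rho
  map_one' := T.symm.rho_one
  map_zero' := T.symm.rho_zero
  map_mul' := T.symm.rho_mul
  map_add' a b := by
    have h1 : (T.th (T.symm.rho (a + b) * 1)).w = (T.th ((T.symm.rho a + T.symm.rho b) * 1)).w := by
      rw [add_mul, th_w_add, th_w_smul T ho, th_w_smul T ho, th_w_smul T ho, add_smul]
    rw [mul_one, mul_one] at h1
    apply T.th_inj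
    apply ok_ext ho h0 h1

/-- **The middle part.** -/
theorem mid (T : Two m m') (ho : Orth D) (h0 : ∀ c, D.ok 0 c → c = 0)
    (hs : ∀ w, ∃ c, D.ok w c) :
    Mid (ConjPair.triv F) (Set.range m.x) (Set.range m.x') (Set.range m'.x) (Set.range m'.x')
      (Set.range m.y) ∨
    ∃ (_ : Algebra F E) (P : ConjPair F E), (∃ t, P.conj t ≠ t) ∧
      Mid P (Set.range m.x) (Set.range m.x') (Set.range m'.x) (Set.range m'.x') (Set.range m.y) := by
  have hQ1 : T.Q 1 ≠ 0 := T.Q_ne one_ne_zero
  have hrr : ∀ a, T.rho (lam T ho h0 a) = a * a := by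
    intro a
    have h1 := T.rho_rho a 1
    rw [mul_one, T.rho_one, mul_one, ho.1] at h1
    exact h1
  by_cases hsurj : Function.Surjective (lam T ho h0)
  · left
    have hbij : Function.Bijective (lam T ho h0) := ⟨(lam T ho h0).injective, hsurj⟩
    refine mid_of T ho h0 hs (ConjPair.triv F) (RingEquiv.ofBijective (lam T ho h0) hbij)
      (fun a => rfl) (fun t => ?_)
    exact hrr t
  · right
    letI := (lam T ho h0).toAlgebra
    have halg : ∀ a, algebraMap F E a = T.symm.rho a := fun a => rfl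
    let B : E → E → F := fun s t => -(D.h (T.th t).w (T.th s).w * (T.Q 1)⁻¹)
    have hBdef : ∀ s t, B s t = -(D.h (T.th t).w (T.th s).w * (T.Q 1)⁻¹) := fun s t => rfl
    have hadd : ∀ s t, T.rho (s + t) = T.rho s + T.rho t + B s t := by
      intro s t
      rw [rho_add, hBdef]; ring
    have hB : ∀ s s' t, B (s + s') t = B s t + B s' t := by
      intro s s' t
      rw [hBdef, hBdef, hBdef, th_w_add, D.add_right]; ring
    have hBs : ∀ (a : F) s t, B (algebraMap F E a * s) t = a * B s t := by
      intro a s t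
      rw [hBdef, hBdef, halg, th_w_smul T ho, D.smul_right, ho.1]; ring
    have hne : ∃ s t, B s t ≠ 0 := by
      by_contra hcon
      push Not at hcon
      apply hsurj
      have hinj : Function.Injective T.rho := by
        intro s t hst
        have h1 := hadd (s - t) t
        rw [sub_add_cancel, hcon, add_zero, hst] at h1
        have h2 : T.rho (s - t) = 0 := by linear_combination -h1
        exact sub_eq_zero.1 (T.rho_eq_zero.1 h2)
      have hcard : Nat.card F = Nat.card E := by
        apply le_antisymm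
        · exact Nat.card_le_card_of_injective _ (lam T ho h0).injective
        · exact Nat.card_le_card_of_injective _ hinj
      exact ((Nat.bijective_iff_injective_and_card _).2 ⟨(lam T ho h0).injective, hcard⟩).2
    obtain ⟨P, hP⟩ := FFComp.exists_conj T.rho B T.rho_mul (fun a => hrr a) hadd hB hBs hne
    refine ⟨inferInstance, P, ?_, mid_of T ho h0 hs P (RingEquiv.refl E) (fun a => rfl)
      (fun t => by rw [hP]; rfl)⟩
    by_contra hcon
    push Not at hcon
    by_cases h2 : (2 : E) = 0
    · obtain ⟨s, t, hst⟩ := hne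
      apply hst
      have h3 := hadd s t
      rw [← hP, P.N_add] at h3
      have h4 : P.T (s * P.conj t) = 0 := by
        apply (algebraMap F E).injective
        rw [P.hT, hcon, hcon, map_zero, ← two_mul, h2, zero_mul]
      linear_combination h4 - h3
    · apply hsurj
      intro t
      have h3 := P.hT t
      rw [hcon, ← two_mul] at h3
      refine ⟨P.T t / 2, ?_⟩
      change algebraMap F E (P.T t / 2) = t
      rw [map_div₀, h3, map_ofNat, mul_div_cancel_left₀ _ h2]

end final

end Cfsg.Agent.TitsThree.F4Orth
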