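import Mathlib
import Cfsg.Agent.Tits.RGBond
import Cfsg.Agent.TitsThree.F4Orth
import Cfsg.Agent.TitsThree.EndFF
import Cfsg.Agent.TitsThree.GCNOfSys

/-!
# The package of type `F₄` of a building (S1143, piece G7)

`exists_mid`: for a building of type `F₄`, the double bond `1 = 2`, or the double bond `2 = 1`, carries a package over
`P.datum`, `P` a `ConjPair` (`MidStd`).  `exists_ff`: in the first case the whole package `FF` in `G'`, with ranges.
-/

set_option autoImplicit false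
set_option linter.unusedSectionVars false

namespace Cfsg.Agent.TitsThree.F4Bond

open CoxeterSystem Cfsg.Agent.ChevalleyStructure.CoxeterGeom Cfsg.Agent.Tits.Roots
open Cfsg.Agent.Tits.C3Roots Cfsg.Agent.Tits.RGSys Cfsg.Agent.Tits.RGC3 Cfsg.Agent.Tits.RGBond
open Cfsg.Agent.TitsThree Cfsg.Agent.TitsThree.B2Pkg Cfsg.Agent.TitsThree.GSideMou
open Cfsg.Agent.TitsThree.StdData Cfsg.Agent.TitsThree.F4Two Cfsg.Agent.TitsThree.F4Orth
open Cfsg.Agent.TitsThree.FFData Cfsg.Agent.TitsThree.Pack Cfsg.Agent.TitsThree.Hua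
open Cfsg.Agent.Tits.Core Cfsg.Agent.Tits.Core.Bldg Cfsg.Agent.Tits.MouOut Cfsg.Agent.Tits.MouAll
open Cfsg.Agent.Tits.RGOut Cfsg.Agent.Tits.MouRG
open Cfsg.Agent.Tits.MouDefs (rt Aut Chart)
open Cfsg.Agent.Tits.RootComb (Diag)
open Cfsg.Agent.LieRecognition.BNCox (cF)
open scoped commutatorElement

/-- A double bond over an unclassified parameter system. -/
def GenBond.{u} {Y : Type u} [Group Y] (a b c d e : Set Y) : Prop :=
  ∃ (F : Type) (_ : Field F) (_ : Finite F) (V : Type u) (_ : AddCommGroup V) (_ : Module F V)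
    (D : PQDatum F V), (∀ c, D.ok 0 c → ∃ m, c = m - D.ε * D.σ m) ∧ (∀ w, ∃ c, D.ok w c) ∧
      (∃ p : D.T, p.c ≠ 0) ∧ Bond D a b c d e

section RG

universe u

variable {I W : Type*} [Fintype I] [DecidableEq I] [Group W] {M : CoxeterMatrix I}
  {cs : CoxeterSystem M W} {A : I → I → ℤ} {h : IsCartan M A} {Y : Type u} [Group Y]
  {n : Fin 3 → I} (hn : Tri A n) {X : (I → ℤ) → Subgroup Y} {St : W → Subgroup Y}
  (hX : RG cs h X St) (h01 : M (n 0) (n 1) = 3) (h12 : M (n 1) (n 2) = 4) (h02 : M (n 0) (n 2) = 2)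

include hn hX h01 h12 h02 in
theorem gen_bond [Finite Y] : GenBond (X (sr (n 1)) : Set Y) (X (-sr (n 1))) (X (sr (n 2)))
    (X (-sr (n 2))) (St 1) := by
  obtain ⟨F, i1, i2, x, hx⟩ := exists_crd hn hX h01 h12 h02
  obtain ⟨P, M, hE, hrE, hiE, hrZ, hiZ, -, hne⟩ := C3Out.exists_sgn hx
  have hB : ∃ m : B2Maps P.datum Y, B2Rel m ∧ m.x = M.E (1, true) (2, true) ∧
      m.x' = M.E (2, true) (1, true) ∧ Set.range m.z₂ = Set.range (M.Z (2, true)) ∧
      Set.range m.z₂' = Set.range (M.Z (2, false)) ∧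
      ∀ b, m.y b ∈ Set.range (M.E (1, true) (2, false)) :=
    ⟨C3B2.maps M 1 2, C3B2.b2Rel M (by decide), rfl, rfl, C3B2.range_z₂ M 1 2, C3B2.range_z₂' M 1 2,
      fun b => ⟨b, rfl⟩⟩
  obtain ⟨m, hm, ex, ex', r3, r4, hy⟩ := hB
  have hbond := bond_of_b2 hn hX h01 h12 h02 hx m hm (by rw [ex]; exact funext (hE 1 2 (by decide)))
    (by rw [ex']; exact funext (hE 2 1 (by decide))) (by rw [r3, hrZ]) (by rw [r4, hrZ])
    (fun b => by
      have := hy b
      rw [hrE (1, true) (2, false) (by decide)] at this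
      exact this)
  refine ⟨F, i1, Finite.of_fintype F, P.V, inferInstance, inferInstance, P.datum,
    fun c hc => P.datum_ok_zero hc, P.datum_surj, ?_, hbond⟩
  obtain ⟨p, hp⟩ := hne
  exact ⟨P.equiv p, by rw [P.equiv_c]; exact hp⟩

end RG

/-- The middle part, over one of the two kinds of data. -/
def MidStd {Y : Type*} [Group Y] (a b c d e : Set Y) : Prop :=
  (∃ (F : Type) (_ : Field F) (_ : Finite F), Mid (ConjPair.triv F) a b c d e) ∨
  ∃ (F E : Type) (_ : Field F) (_ : Finite F) (_ : Field E) (_ : Finite E) (_ : Algebra F E)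
    (P : ConjPair F E), (∃ t, P.conj t ≠ t) ∧ Mid P a b c d e

theorem Mid.mono {F E : Type*} [Field F] [Field E] [Algebra F E] {P : ConjPair F E} {Y : Type*}
    [Group Y] {a b c d e e' : Set Y} (h : Mid P a b c d e) (he : e ⊆ e') : Mid P a b c d e' := by
  obtain ⟨m, h1, h2, h3, h4, h5, h6, h7, h8⟩ := h
  exact ⟨m, h1, h2, h3, h4, h5, h6, h7, fun b => he (h8 b)⟩

theorem midStd_of_two {F : Type} [Field F] [Finite F] {V : Type*} [AddCommGroup V] [Module F V]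
    {D : PQDatum F V} {E : Type} [Field E] [Finite E] {V' : Type*} [AddCommGroup V'] [Module E V']
    {D' : PQDatum E V'} {Y : Type*} [Group Y] {m : B2Maps D Y} {m' : B2Maps D' Y}
    (T : Two m m') (ho : Orth D) (h0 : ∀ c, D.ok 0 c → ∃ m, c = m - D.ε * D.σ m)
    (hs : ∀ w, ∃ c, D.ok w c) {a b c d e : Set Y} (r1 : Set.range m.x = a)
    (r2 : Set.range m.x' = b) (r3 : Set.range m'.x = c) (r4 : Set.range m'.x' = d)
    (r5 : ∀ t, m.y t ∈ e) : MidStd a b c d e := by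
  have h0' : ∀ c, D.ok 0 c → c = 0 := by
    intro c hc
    obtain ⟨m, hm⟩ := h0 c hc
    rw [hm, ho.2, ho.1, one_mul, sub_self]
  have he : Set.range m.y ⊆ e := by
    rintro _ ⟨t, rfl⟩
    exact r5 t
  rcases mid T ho h0' hs with h | ⟨i, P, hP, h⟩
  · rw [r1, r2, r3, r4] at h
    exact Or.inl ⟨F, inferInstance, inferInstance, Mid.mono h he⟩
  · rw [r1, r2, r3, r4] at h
    exact Or.inr ⟨F, E, inferInstance, inferInstance, inferInstance, inferInstance, i, P, hP,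
      Mid.mono h he⟩

theorem midStd_or {Y : Type*} [Group Y] {a b c d e : Set Y} (h : GenBond a b c d e)
    (h' : GenBond c d a b e) : MidStd a b c d e ∨ MidStd c d a b e := by
  obtain ⟨F, i1, i2, V, i3, i4, D, h0, hs, hne, m, hm, hp, r1, r1', r2, r2', hy⟩ := h
  obtain ⟨E, j1, j2, V', j3, j4, D', h0', hs', hne', m', hm', hp', s1, s1', s2, s2', hy'⟩ := h'
  have T : Two m m' :=
    { rel := hm
      rel' := hm'
      ne := hne
      ne' := hne'
      par := hp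
      par' := hp'
      r1 := by rw [s2, r1]
      r1' := by rw [s2', r1']
      r2 := by rw [s1, r2]
      r2' := by rw [s1', r2'] }
  rcases orth_or T with ho | ho
  · exact Or.inl (midStd_of_two T ho h0 hs r1 r1' s1 s1' hy)
  · exact Or.inr (midStd_of_two T.symm ho h0' hs' s1 s1' r1 r1' hy')

section Bldg

variable {W C : Type*} [Group W] [Finite W] [Finite C] {M : CoxeterMatrix (Fin 4)}
  {cs : CoxeterSystem M W} {Δ : Bldg cs C} {σ : W → C} (hM : Lab234 M) (hD : Diag M)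
  (hth : Δ.Thick) (hσ : Chart Δ σ)

include hM hD hth hσ

theorem genBond {i j k : Fin 4} (hij : M i j = 3) (hjk : M j k = 4) (hik : M i k = 2) :
    GenBond (RX Δ σ (rt cs 1 j) : Set ↥(Gg cs (UU Δ σ))) (RX Δ σ (rt cs (cs.simple j) j))
      (RX Δ σ (rt cs 1 k)) (RX Δ σ (rt cs (cs.simple k) k)) {g | g • σ 1 = σ 1} := by
  have hcart := exists_cartan' hM hD hth hσ
  obtain ⟨A, h, hn⟩ := exists_tri hcart ![i, j, k] hij hjk hik
  have hX := rgG hM hD hth hσ h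
  have := gen_bond hn hX hij hjk hik
  have e : ((Subgroup.comap (inc Δ σ) (stab σ 1) : Subgroup _) : Set ↥(Gg cs (UU Δ σ))) =
      {g | g • σ 1 = σ 1} := rfl
  rw [e] at this
  change GenBond (RX Δ σ (Rt cs h (sr j)) : Set ↥(Gg cs (UU Δ σ))) (RX Δ σ (Rt cs h (-sr j)))
    (RX Δ σ (Rt cs h (sr k))) (RX Δ σ (Rt cs h (-sr k))) _ at this
  rwa [RX_sr hM hD hth hσ, RX_sr hM hD hth hσ, RX_neg_sr hM hD hth hσ,
    RX_neg_sr hM hD hth hσ] at this

/-- The package of type `F₄` of `G'` over `P.datum`. -/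
def OutP {F E : Type*} [Field F] [Field E] [Algebra F E] (Δ : Bldg cs C) (σ : W → C)
    (Q : ConjPair F E) : Prop :=
  ∃ P : FF ↥(Gg cs (UU Δ σ)) Q.datum Q.τ Q.τ', EndFF.RangesFF P

/-- **The middle part extends to the whole package.** -/
theorem outP (h01 : M 0 1 = 3) (h23 : M 2 3 = 3) (h02 : M 0 2 = 2) (h03 : M 0 3 = 2)
    (h13 : M 1 3 = 2) {F E : Type} [Field F] [Field E] [Algebra F E] {Q : ConjPair F E}
    (h : Mid Q (RX Δ σ (rt cs 1 1) : Set ↥(Gg cs (UU Δ σ))) (RX Δ σ (rt cs (cs.simple 1) 1))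
      (RX Δ σ (rt cs 1 2)) (RX Δ σ (rt cs (cs.simple 2) 2)) {g | g • σ 1 = σ 1}) :
    OutP Δ σ Q := by
  have H := Cfsg.Agent.Tits.MouAll.sys hM hD hth hσ
  obtain ⟨m, hm, p1, p2, r1, r1', r2, r2', -⟩ := h
  have e01 := edgeA2 hM hD hth hσ h01
  have e23 := edgeA2 hM hD hth hσ h23
  obtain ⟨q0, hq0⟩ := e01.symm.step ⟨m.x, m.x', p1, r1, r1'⟩
  obtain ⟨q3, hq3⟩ := e23.step ⟨_, _, p2, r2, r2'⟩
  obtain ⟨x, hx, hxi, e1, e2, e3, e4⟩ := hq0.symm
  obtain ⟨y, hy, hyi, f1, f2, f3, f4⟩ := hq3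
  have hcomm : ∀ {i j : Fin 4}, M i j = 2 → ∀ {X X' : Type} {xp xm : X → ↥(Gg cs (UU Δ σ))}
      {yp ym : X' → ↥(Gg cs (UU Δ σ))}, Set.range xp = RX Δ σ (rt cs 1 i) →
      Set.range xm = RX Δ σ (rt cs (cs.simple i) i) → Set.range yp = RX Δ σ (rt cs 1 j) →
      Set.range ym = RX Δ σ (rt cs (cs.simple j) j) → Comm4 xp xm yp ym := by
    intro i j hij X X' xp xm yp ym g1 g2 g3 g4 s t
    have k1 : xp s ∈ (RX Δ σ (rt cs 1 i) : Set ↥(Gg cs (UU Δ σ))) := g1 ▸ ⟨s, rfl⟩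
    have k2 : xm s ∈ (RX Δ σ (rt cs (cs.simple i) i) : Set ↥(Gg cs (UU Δ σ))) := g2 ▸ ⟨s, rfl⟩
    have k3 : yp t ∈ (RX Δ σ (rt cs 1 j) : Set ↥(Gg cs (UU Δ σ))) := g3 ▸ ⟨t, rfl⟩
    have k4 : ym t ∈ (RX Δ σ (rt cs (cs.simple j) j) : Set ↥(Gg cs (UU Δ σ))) := g4 ▸ ⟨t, rfl⟩
    exact ⟨comm_two hM hD hth hσ hij (Or.inl rfl) (Or.inl rfl) k1 k3,
      comm_two hM hD hth hσ hij (Or.inl rfl) (Or.inr rfl) k1 k4,
      comm_two hM hD hth hσ hij (Or.inr rfl) (Or.inl rfl) k2 k3,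
      comm_two hM hD hth hσ hij (Or.inr rfl) (Or.inr rfl) k2 k4⟩
  refine ⟨{ x0 := q0.xp, y0 := q0.xm, x1 := m.x, y1 := m.x', x2 := fun t => m.z₂ (Q.τ t)
            y2 := fun t => m.z₂' (Q.τ' t), x3 := q3.xp, y3 := q3.xm, b2 := m, rel := hm
            e01 := ⟨x, hx, e1, e2, e3, e4⟩, e23 := ⟨y, hy, f1, f2, f3, f4⟩, hx := rfl, hx' := rfl
            hz := fun _ => rfl, hz' := fun _ => rfl
            c02 := hcomm h02 q0.rp q0.rm r2 r2'
            c03 := hcomm h03 q0.rp q0.rm q3.rp q3.rm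
            c13 := hcomm h13 r1 r1' q3.rp q3.rm }, ?_⟩
  exact { r0 := GCNOfSys.nodeRange H q0.rp q0.rm
          r1 := GCNOfSys.nodeRange H r1 r1'
          r2 := GCNOfSys.nodeRange H r2 r2'
          r3 := GCNOfSys.nodeRange H q3.rp q3.rm
          inj0 := q0.par.injp
          inj2 := p2.injp }

end Bldg

/-- The output of the G side of type `F₄`. -/
def Out {W C : Type*} [Group W] {M : CoxeterMatrix (Fin 4)} {cs : CoxeterSystem M W}
    (Δ : Bldg cs C) (σ : W → C) : Prop :=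
  (∃ (F : Type) (_ : Field F) (_ : Finite F), OutP Δ σ (ConjPair.triv F)) ∨
  ∃ (F E : Type) (_ : Field F) (_ : Finite F) (_ : Field E) (_ : Finite E) (_ : Algebra F E)
    (P : ConjPair F E), (∃ t, P.conj t ≠ t) ∧ OutP Δ σ P

section F4

variable {W C : Type*} [Group W] [Finite W] [Finite C] {cs : CoxeterSystem cF W} {Δ : Bldg cs C}
  {σ : W → C} (hth : Δ.Thick) (hσ : Chart Δ σ)

include hth hσ

/-- The orientation of the diagram. -/
theorem orient : MidStd (RX Δ σ (rt cs 1 1) : Set ↥(Gg cs (UU Δ σ)))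
      (RX Δ σ (rt cs (cs.simple 1) 1)) (RX Δ σ (rt cs 1 2)) (RX Δ σ (rt cs (cs.simple 2) 2))
      {g | g • σ 1 = σ 1} ∨
    MidStd (RX Δ σ (rt cs 1 2) : Set ↥(Gg cs (UU Δ σ)))
      (RX Δ σ (rt cs (cs.simple 2) 2)) (RX Δ σ (rt cs 1 1)) (RX Δ σ (rt cs (cs.simple 1) 1))
      {g | g • σ 1 = σ 1} :=
  midStd_or (genBond lab_F Cfsg.Agent.Tits.CombInst.diag_F hth hσ (i := 0) (j := 1) (k := 2) (by decide)
    (by decide) (by decide)) (genBond lab_F Cfsg.Agent.Tits.CombInst.diag_F hth hσ (i := 3) (j := 2) (k := 1)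
    (by decide) (by decide) (by decide))

theorem out_of_midStd (h : MidStd (RX Δ σ (rt cs 1 1) : Set ↥(Gg cs (UU Δ σ)))
      (RX Δ σ (rt cs (cs.simple 1) 1)) (RX Δ σ (rt cs 1 2)) (RX Δ σ (rt cs (cs.simple 2) 2))
      {g | g • σ 1 = σ 1}) : Out Δ σ := by
  rcases h with ⟨F, i1, i2, h⟩ | ⟨F, E, i1, i2, i3, i4, i5, P, hP, h⟩
  · exact Or.inl ⟨F, i1, i2, outP lab_F Cfsg.Agent.Tits.CombInst.diag_F hth hσ (by decide) (by decide) (by decide)
      (by decide) (by decide) h⟩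
  · exact Or.inr ⟨F, E, i1, i2, i3, i4, i5, P, hP, outP lab_F Cfsg.Agent.Tits.CombInst.diag_F hth hσ (by decide)
      (by decide) (by decide) (by decide) (by decide) h⟩

end F4

end Cfsg.Agent.TitsThree.F4Bond
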