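import Cfsg.Agent.Tits.MouOut
import Cfsg.Agent.TitsThree.GSideMou

/-!
S1143: the group `G' = Gg cs (UU Δ σ) ≤ Aut Δ` embeds onto `GSideMou.rootGrp Δ σ ≤ Equiv.Perm C`.
-/

set_option autoImplicit false

namespace Cfsg.Agent.TitsThree.GRho

open Cfsg.Agent.Tits.Core Cfsg.Agent.Tits.Core.Bldg
open Cfsg.Agent.Tits.MouOut Cfsg.Agent.TitsThree.GSideMou
open Cfsg.Agent.Tits.MouDefs (rt Aut Chart)

variable {I : Type*} {M : CoxeterMatrix I} {W : Type*} [Group W] {cs : CoxeterSystem M W}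
variable {C : Type*} (Δ : Bldg cs C) (σ : W → C)

/-- The inclusion `G' → Perm C`. -/
def rho : Gg cs (UU Δ σ) →* Equiv.Perm C := (Aut Δ).subtype.comp (Gg cs (UU Δ σ)).subtype

theorem rho_injective : Function.Injective (rho Δ σ) :=
  (Subgroup.subtype_injective _).comp (Subgroup.subtype_injective _)

theorem smul_eq_rho (g : Gg cs (UU Δ σ)) (x : C) : g • x = rho Δ σ g x := rfl

theorem map_UU (R : Set W) : (UU Δ σ R).map (Aut Δ).subtype = Cfsg.Agent.Tits.MouDefs.U Δ σ R := by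
  rw [UU, Subgroup.subgroupOf_map_subtype]
  exact inf_eq_left.2 fun g hg => hg.1

theorem rho_range : (rho Δ σ).range = rootGrp Δ σ := by
  have h1 : (rho Δ σ).range = (Gg cs (UU Δ σ)).map (Aut Δ).subtype := by
    rw [rho, MonoidHom.range_comp, Subgroup.range_subtype]
  rw [h1, Gg, Subgroup.map_iSup, rootGrp, Subgroup.closure_iUnion]
  refine iSup_congr fun i => ?_
  rw [Lg, Subgroup.map_sup, map_UU, map_UU, Subgroup.closure_union, Subgroup.closure_eq,
    Subgroup.closure_eq]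
  rfl

end Cfsg.Agent.TitsThree.GRho
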