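import Cfsg.Agent.Tits.Gate
/-!
GU: the identification machine (S1143, PART 2).  A group `Γ` acts on a building `Δ` of spherical
type and on a set `Ω`; subgroups `Γi i` transitive on the panels of the base chamber `c`.  If
stabilisers of `c` in the rank two subgroups fix the base point `ω`, then the stabiliser of `c` in
the group generated by all of them fixes `ω`.
-/

set_option autoImplicit false

namespace Cfsg.Agent.TitsThree.GU

open Cfsg.Agent.Tits.Core Cfsg.Agent.Tits.Core.Bldg Cfsg.Agent.Tits.Exchange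

variable {I : Type*} {M : CoxeterMatrix I} {W : Type*} [Group W] {cs : CoxeterSystem M W}
variable {C Γ Ω : Type*} [Group Γ] [MulAction Γ C] [MulAction Γ Ω]

/-- The group generated by the stabilisers of `c` in the rank two subgroups. -/
def Bt (Γi : I → Subgroup Γ) (c : C) : Subgroup Γ :=
  Subgroup.closure {g | ∃ i j, g ∈ Γi i ⊔ Γi j ∧ g • c = c}

/-- The hypotheses of the identification theorem. -/
structure Local (Δ : Bldg cs C) (c : C) (ω : Ω) (Γi : I → Subgroup Γ) : Prop where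
  iso : ∀ (g : Γ) x y, Δ.δ (g • x) (g • y) = Δ.δ x y
  pan : ∀ i, ∀ g ∈ Γi i, g • c ∈ Δ.Pan i c
  trans : ∀ i, ∀ y ∈ Δ.Pan i c, ∃ g ∈ Γi i, g • c = y
  R : ∀ i j, ∀ g ∈ Γi i ⊔ Γi j, g • c = c → g • ω = ω
  gen : ∀ i j, ∀ g ∈ Γi i ⊔ Γi j, g • c = c → ∀ k, ∀ h ∈ Γi k, ∃ h' ∈ Γi k,
    h'⁻¹ * g * h ∈ Bt Γi c

section

variable {Δ : Bldg cs C} {c : C} {ω : Ω} {Γi : I → Subgroup Γ}

local prefix:100 "ℓ" => cs.length

theorem Bt_fix {g : Γ} (hg : g ∈ Bt Γi c) : g • c = c := by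
  have : Bt Γi c ≤ MulAction.stabilizer Γ c := by
    refine (Subgroup.closure_le _).2 ?_
    rintro g ⟨i, j, -, h⟩
    exact h
  exact this hg

/-- level of a chamber -/
noncomputable def lv (Δ : Bldg cs C) (c y : C) : ℕ := cs.length (Δ.δ c y)

theorem lv_eq_zero {y : C} (h : lv Δ c y = 0) : y = c := by
  have := cs.length_eq_zero_iff.1 h
  exact ((Δ.eq_one c y).1 this).symm

theorem lv_self : lv Δ c c = 0 := by
  unfold lv; rw [δ_self]; exact cs.length_one

variable (H : Local Δ c ω Γi)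
include H

theorem lv_smul (g : Γ) (y : C) : lv Δ c (g • y) = ℓ (Δ.δ (g⁻¹ • c) y) := by
  unfold lv
  have := H.iso g (g⁻¹ • c) y
  rw [smul_inv_smul] at this
  rw [this]

theorem lv_inv_smul (g : Γ) (y : C) : lv Δ c (g⁻¹ • y) = ℓ (Δ.δ (g • c) y) := by
  rw [lv_smul H, inv_inv]

theorem lv_of_fix {g : Γ} (hg : g • c = c) (y : C) : lv Δ c (g • y) = lv Δ c y := by
  rw [lv_smul H]
  have : g⁻¹ • c = c := by rw [inv_smul_eq_iff, hg]
  rw [this]; rfl

/-- A simple reflection that shortens `δ y c` comes from an element of `Γi i`. -/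
theorem exists_of_step {y : C} (i : I) : ∃ g ∈ Γi i, lv Δ c (g⁻¹ • y) =
    ℓ (Δ.δ y c * cs.simple i) := by
  obtain ⟨z, hz, hyz⟩ := Δ.exists_step y c i
  obtain ⟨g, hg, hgz⟩ := H.trans i z (Or.inr hz)
  refine ⟨g, hg, ?_⟩
  rw [lv_inv_smul H, hgz, length_δ_comm, hyz]

theorem exists_descent {y : C} {n : ℕ} (h : lv Δ c y = n + 1) :
    ∃ i, ∃ g ∈ Γi i, lv Δ c (g⁻¹ • y) = n := by
  have h1 : ℓ (Δ.δ y c) = n + 1 := by rw [← h, length_δ_comm]; rfl
  have h2 : Δ.δ y c ≠ 1 := by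
    intro h2; rw [h2, cs.length_one] at h1; omega
  obtain ⟨i, hi⟩ := cs.exists_rightDescent_of_ne_one h2
  obtain ⟨g, hg, hgy⟩ := exists_of_step H (y := y) i
  refine ⟨i, g, hg, ?_⟩
  rw [hgy]
  have := (cs.isRightDescent_iff).1 hi
  omega

theorem smul_mem_Res {i j : I} {g : Γ} (hg : g ∈ Γi i ⊔ Γi j) : g • c ∈ Δ.Res {i, j} c := by
  have key : ∀ g : Γ, g ∈ Γi i ⊔ Γi j → ∀ y ∈ Δ.Res {i, j} c, g • y ∈ Δ.Res {i, j} c := by
    intro g hg
    rw [Subgroup.sup_eq_closure] at hg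
    have h0 : ∀ g : Γ, (g ∈ Γi i ∨ g ∈ Γi j) → ∀ y ∈ Δ.Res {i, j} c, g • y ∈ Δ.Res {i, j} c := by
      intro g hg y hy
      have h1 : g • c ∈ Δ.Res {i, j} c := by
        rcases hg with hg | hg
        · exact Δ.Pan_subset_Res (by simp) c (H.pan i g hg)
        · exact Δ.Pan_subset_Res (by simp) c (H.pan j g hg)
      have h2 : g • y ∈ Δ.Res {i, j} (g • c) := by
        rw [mem_Res, H.iso]; exact hy
      exact Δ.mem_Res_trans h1 h2
    induction hg using Subgroup.closure_induction with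
    | mem x hx => exact h0 x hx
    | one => intro y hy; simpa using hy
    | mul x y _ _ hx hy => intro z hz; rw [mul_smul]; exact hx _ (hy _ hz)
    | inv x _ hx =>
      intro y hy
      have h3 : x • c ∈ Δ.Res {i, j} c := hx c (Δ.self_mem_Res _ c)
      have h4 : x⁻¹ • y ∈ Δ.Res {i, j} (x⁻¹ • c) := by
        rw [mem_Res, H.iso]; exact hy
      have h5 : x⁻¹ • c ∈ Δ.Res {i, j} c := by
        have : Δ.δ (x⁻¹ • c) c = Δ.δ c (x • c) := by
          have := H.iso x (x⁻¹ • c) c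
          rw [smul_inv_smul] at this
          exact this.symm
        refine Δ.mem_Res_symm ?_
        rw [mem_Res, this]; exact h3
      exact Δ.mem_Res_trans h5 h4
  exact key g hg c (Δ.self_mem_Res _ c)

/-- If no element of `Γi i`, `Γi j` lowers the level of `y`, then levels add up on the
`{i,j}`-orbit. -/
theorem lv_add {i j : I} {y : C}
    (h0 : ∀ g : Γ, (g ∈ Γi i ∨ g ∈ Γi j) → lv Δ c y ≤ lv Δ c (g⁻¹ • y))
    {h : Γ} (hh : h ∈ Γi i ⊔ Γi j) :
    lv Δ c (h • y) = lv Δ c y + ℓ (Δ.δ c (h⁻¹ • c)) := by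
  have h1 : Δ.IsProj {i, j} c y c := by
    refine Δ.isProj_of_isMinR (Δ.self_mem_Res _ c) ?_
    refine (isMinR_iff cs).2 ?_
    intro k hk
    obtain ⟨g, hg, hgy⟩ := exists_of_step H (y := y) k
    have h2 : lv Δ c y ≤ lv Δ c (g⁻¹ • y) := by
      apply h0
      rcases hk with rfl | hk
      · exact Or.inl hg
      · rw [Set.mem_singleton_iff] at hk; subst hk; exact Or.inr hg
    rw [hgy] at h2
    have h3 : lv Δ c y = ℓ (Δ.δ y c) := (Δ.length_δ_comm c y).symm
    rw [h3] at h2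
    exact lt_of_le_of_ne h2 (Ne.symm (cs.length_mul_simple_ne _ _))
  have h2 := h1.length_eq (smul_mem_Res H (inv_mem hh))
  rw [lv_smul H, length_δ_comm, h2, Δ.length_δ_comm c y]
  rfl

/-- the induction statement -/
def E (_H : Local Δ c ω Γi) (n : ℕ) : Prop := ∃ f : C → Ω, f c = ω ∧
  ∀ i j, ∀ h ∈ Γi i ⊔ Γi j, ∀ y, lv Δ c y ≤ n → lv Δ c (h • y) ≤ n → f (h • y) = h • f y

theorem E_zero : E H 0 := by
  refine ⟨fun _ => ω, rfl, ?_⟩
  intro i j h hh y hy hy'
  have h1 : y = c := lv_eq_zero (Nat.le_zero.1 hy)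
  subst h1
  have h2 : h • y = y := lv_eq_zero (Nat.le_zero.1 hy')
  exact (H.R i j h hh h2).symm

open Classical in
theorem E_succ {n : ℕ} (hE : E H n) : E H (n + 1) := by
  obtain ⟨f, hfc, hf⟩ := hE
  let P : C → Prop := fun y => ∃ g : Γ, (∃ i, g ∈ Γi i) ∧ lv Δ c (g⁻¹ • y) ≤ n
  let f' : C → Ω := fun y => if lv Δ c y ≤ n then f y else
    if h : P y then h.choose • f (h.choose⁻¹ • y) else ω
  have f'_le : ∀ y, lv Δ c y ≤ n → f' y = f y := fun y hy => if_pos hy
  -- Claim A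
  have claimA : ∀ y, lv Δ c y = n + 1 → ∀ i, ∀ g ∈ Γi i, lv Δ c (g⁻¹ • y) ≤ n →
      f' y = g • f (g⁻¹ • y) := by
    intro y hy i g hg hgy
    have hP : P y := ⟨g, ⟨i, hg⟩, hgy⟩
    have h1 : f' y = hP.choose • f (hP.choose⁻¹ • y) := by
      show (if lv Δ c y ≤ n then f y else
        if h : P y then h.choose • f (h.choose⁻¹ • y) else ω) = _
      rw [if_neg (by omega), dif_pos hP]
    obtain ⟨⟨j, hj⟩, hjy⟩ := hP.choose_spec
    set h := hP.choose with hh
    rw [h1]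
    have h2 := hf j i (h⁻¹ * g) (mul_mem (inv_mem (Subgroup.mem_sup_left hj))
      (Subgroup.mem_sup_right hg)) (g⁻¹ • y) hgy (by
        rw [mul_smul, smul_inv_smul]; exact hjy)
    rw [mul_smul, smul_inv_smul] at h2
    rw [h2, mul_smul, smul_inv_smul]
  -- Claim B0
  have claimB0 : ∀ i j, ∀ h ∈ Γi i ⊔ Γi j, ∀ y, lv Δ c y ≤ n → lv Δ c (h • y) = n + 1 →
      f' (h • y) = h • f y := by
    intro i j h hh y hy hhy
    have h1 : ∃ g : Γ, (g ∈ Γi i ∨ g ∈ Γi j) ∧ lv Δ c (g⁻¹ • (h • y)) < lv Δ c (h • y) := by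
      by_contra hcon
      push Not at hcon
      have := lv_add H hcon (inv_mem hh)
      rw [inv_smul_smul] at this
      omega
    obtain ⟨g, hg, hgy⟩ := h1
    have hg' : g ∈ Γi i ⊔ Γi j := by
      rcases hg with hg | hg
      · exact Subgroup.mem_sup_left hg
      · exact Subgroup.mem_sup_right hg
    have h2 : f' (h • y) = g • f (g⁻¹ • (h • y)) := by
      rcases hg with hg | hg
      · exact claimA _ hhy i g hg (by omega)
      · exact claimA _ hhy j g hg (by omega)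
    have h3 := hf i j (g⁻¹ * h) (mul_mem (inv_mem hg') hh) y hy (by
      rw [mul_smul]; omega)
    rw [mul_smul] at h3
    rw [h2, h3, mul_smul, smul_inv_smul]
  -- Bt
  have hBt : ∀ b ∈ Bt Γi c, ∀ y, lv Δ c y ≤ n → f (b • y) = b • f y := by
    intro b hb
    have hb' := hb
    unfold Bt at hb
    induction hb using Subgroup.closure_induction with
    | mem x hx =>
      obtain ⟨i, j, hx, hxc⟩ := hx
      intro y hy
      exact hf i j x hx y hy (by rw [lv_of_fix H hxc]; exact hy)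
    | one => intro y hy; simp
    | mul x y hx0 hy0 hx hy =>
      intro z hz
      have e1 : lv Δ c (y • z) ≤ n := by rw [lv_of_fix H (Bt_fix hy0)]; exact hz
      rw [mul_smul, hx hx0 _ e1, hy hy0 _ hz, mul_smul]
    | inv x hx0 hx =>
      intro y hy
      have e1 : lv Δ c (x⁻¹ • y) ≤ n := by
        rw [lv_of_fix H (Bt_fix (inv_mem hx0))]; exact hy
      have := hx hx0 (x⁻¹ • y) e1
      rw [smul_inv_smul] at this
      rw [this, inv_smul_smul]
  refine ⟨f', ?_, ?_⟩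
  · rw [f'_le c (by rw [lv_self]; omega)]; exact hfc
  intro i j h hh y hy hhy
  rcases Nat.lt_or_ge n (lv Δ c y) with h1 | h1
  · have e1 : lv Δ c y = n + 1 := by omega
    rcases Nat.lt_or_ge n (lv Δ c (h • y)) with h2 | h2
    · have e2 : lv Δ c (h • y) = n + 1 := by omega
      by_cases h3 : ∃ g : Γ, (g ∈ Γi i ∨ g ∈ Γi j) ∧ lv Δ c (g⁻¹ • y) < lv Δ c y
      · obtain ⟨g, hg, hgy⟩ := h3
        have hg' : g ∈ Γi i ⊔ Γi j := by
          rcases hg with hg | hg
          · exact Subgroup.mem_sup_left hg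
          · exact Subgroup.mem_sup_right hg
        have h4 : f' y = g • f (g⁻¹ • y) := by
          rcases hg with hg | hg
          · exact claimA _ e1 i g hg (by omega)
          · exact claimA _ e1 j g hg (by omega)
        have h5 := claimB0 i j (h * g) (mul_mem hh hg') (g⁻¹ • y) (by omega) (by
          rw [mul_smul, smul_inv_smul]; exact e2)
        rw [mul_smul, smul_inv_smul] at h5
        rw [h5, h4, mul_smul]
      · push Not at h3
        have h4 := lv_add H h3 hh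
        have h5 : ℓ (Δ.δ c (h⁻¹ • c)) = 0 := by omega
        have h6 : h⁻¹ • c = c := ((Δ.eq_one _ _).1 (cs.length_eq_zero_iff.1 h5)).symm
        have h7 : h • c = c := by rw [inv_smul_eq_iff] at h6; exact h6.symm
        obtain ⟨k, g, hg, hgy⟩ := exists_descent H e1
        obtain ⟨g', hg', hb⟩ := H.gen i j h hh h7 k g hg
        have h8 : g'⁻¹ • (h • y) = (g'⁻¹ * h * g) • (g⁻¹ • y) := by
          simp only [mul_smul, smul_inv_smul]
        have h9 : lv Δ c (g'⁻¹ • (h • y)) = n := by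
          rw [h8, lv_of_fix H (Bt_fix hb)]; exact hgy
        rw [claimA _ e2 k g' hg' h9.le, h8, hBt _ hb _ hgy.le, claimA _ e1 k g hg hgy.le]
        simp only [mul_smul, smul_inv_smul]
    · have h3 := claimB0 i j h⁻¹ (inv_mem hh) (h • y) h2 (by rw [inv_smul_smul]; exact e1)
      rw [inv_smul_smul] at h3
      rw [f'_le _ h2, h3, smul_inv_smul]
  · rcases Nat.lt_or_ge n (lv Δ c (h • y)) with h2 | h2
    · rw [f'_le _ h1]
      exact claimB0 i j h hh y h1 (by omega)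
    · rw [f'_le _ h1, f'_le _ h2]
      exact hf i j h hh y h1 h2

theorem E_all (n : ℕ) : E H n := by
  induction n with
  | zero => exact E_zero H
  | succ n ih => exact E_succ H ih

/-- **The identification theorem.** -/
theorem main [Finite W] {g : Γ} (hg : g ∈ ⨆ i, Γi i) (hgc : g • c = c) : g • ω = ω := by
  obtain ⟨N, hN⟩ := (Set.finite_range (fun w : W => ℓ w)).bddAbove
  have hN' : ∀ y, lv Δ c y ≤ N := fun y => hN ⟨_, rfl⟩
  obtain ⟨f, hfc, hf⟩ := E_all H N
  have key : ∀ g ∈ ⨆ i, Γi i, ∀ y, f (g • y) = g • f y := by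
    intro g hg
    rw [Subgroup.iSup_eq_closure] at hg
    induction hg using Subgroup.closure_induction with
    | mem x hx =>
      obtain ⟨i, hi⟩ := Set.mem_iUnion.1 hx
      intro y
      exact hf i i x (Subgroup.mem_sup_left hi) y (hN' _) (hN' _)
    | one => intro y; simp
    | mul x y _ _ hx hy => intro z; rw [mul_smul, hx, hy, mul_smul]
    | inv x _ hx =>
      intro y
      have := hx (x⁻¹ • y)
      rw [smul_inv_smul] at this
      rw [this, inv_smul_smul]
  have := key g hg c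
  rw [hgc, hfc] at this
  exact this.symm

end

/-- `gen` follows if the stabiliser of `c` in a rank two subgroup is generated by rank one ones. -/
theorem gen_of_gen0 {Δ : Bldg cs C} {c : C} {Γi : I → Subgroup Γ}
    (iso : ∀ (g : Γ) x y, Δ.δ (g • x) (g • y) = Δ.δ x y)
    (pan : ∀ i, ∀ g ∈ Γi i, g • c ∈ Δ.Pan i c)
    (trans : ∀ i, ∀ y ∈ Δ.Pan i c, ∃ g ∈ Γi i, g • c = y)
    (gen0 : ∀ i j, ∀ g ∈ Γi i ⊔ Γi j, g • c = c →
      g ∈ Subgroup.closure {h : Γ | ∃ k, h ∈ Γi k ∧ h • c = c}) :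
    ∀ i j, ∀ g ∈ Γi i ⊔ Γi j, g • c = c → ∀ k, ∀ h ∈ Γi k, ∃ h' ∈ Γi k,
    h'⁻¹ * g * h ∈ Bt Γi c := by
  have hfix : ∀ g : Γ, g • c = c → ∀ k, ∀ h ∈ Γi k, ∃ h' ∈ Γi k, (h'⁻¹ * g * h) • c = c := by
    intro g hg k h hh
    have h1 : g • (h • c) ∈ Δ.Pan k c := by
      rcases pan k h hh with h1 | h1
      · rw [h1, hg]; exact Or.inl rfl
      · right
        have := iso g c (h • c)
        rw [hg] at this
        rw [this, h1]
    obtain ⟨h', hh', h2⟩ := trans k _ h1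
    refine ⟨h', hh', ?_⟩
    rw [mul_smul, mul_smul, inv_smul_eq_iff, h2]
  have base : ∀ g : Γ, (∃ k, g ∈ Γi k ∧ g • c = c) → ∀ k, ∀ h ∈ Γi k, ∃ h' ∈ Γi k,
      h'⁻¹ * g * h ∈ Bt Γi c := by
    rintro g ⟨l, hgl, hgc⟩ k h hh
    obtain ⟨h', hh', h1⟩ := hfix g hgc k h hh
    refine ⟨h', hh', Subgroup.subset_closure ⟨l, k, ?_, h1⟩⟩
    exact mul_mem (mul_mem (inv_mem (Subgroup.mem_sup_right hh')) (Subgroup.mem_sup_left hgl))
      (Subgroup.mem_sup_right hh)
  have hcl : ∀ g ∈ Subgroup.closure {h : Γ | ∃ k, h ∈ Γi k ∧ h • c = c}, g • c = c ∧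
      ∀ k, ∀ h ∈ Γi k, ∃ h' ∈ Γi k, h'⁻¹ * g * h ∈ Bt Γi c := by
    intro g hg
    induction hg using Subgroup.closure_induction with
    | mem x hx => exact ⟨hx.choose_spec.2, base x hx⟩
    | one => exact ⟨one_smul _ _, fun k h hh => ⟨h, hh, by simp [one_mem]⟩⟩
    | mul x y _ _ hx hy =>
      refine ⟨by rw [mul_smul, hy.1, hx.1], fun k h hh => ?_⟩
      obtain ⟨h1, hh1, e1⟩ := hy.2 k h hh
      obtain ⟨h2, hh2, e2⟩ := hx.2 k h1 hh1
      refine ⟨h2, hh2, ?_⟩
      have : h2⁻¹ * (x * y) * h = (h2⁻¹ * x * h1) * (h1⁻¹ * y * h) := by group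
      rw [this]
      exact mul_mem e2 e1
    | inv x _ hx =>
      have hxc : x⁻¹ • c = c := by rw [inv_smul_eq_iff, hx.1]
      refine ⟨hxc, fun k h'' hh'' => ?_⟩
      obtain ⟨h, hh, e0⟩ := hfix x⁻¹ hxc k h'' hh''
      obtain ⟨h', hh', e1⟩ := hx.2 k h hh
      refine ⟨h, hh, ?_⟩
      have e2 : (h''⁻¹ * h') • c = c := by
        have e3 := Bt_fix e1
        have e4 : h' • c = x • (h • c) := by
          rw [mul_smul, mul_smul, inv_smul_eq_iff] at e3
          exact e3.symm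
        have e5 : x • (h • c) = h'' • c := by
          rw [mul_smul, mul_smul, inv_smul_eq_iff, inv_smul_eq_iff] at e0
          exact e0.symm
        rw [mul_smul, e4, e5, inv_smul_smul]
      have e6 : h''⁻¹ * h' ∈ Bt Γi c := Subgroup.subset_closure
        ⟨k, k, mul_mem (inv_mem (Subgroup.mem_sup_left hh'')) (Subgroup.mem_sup_left hh'), e2⟩
      have : h⁻¹ * x⁻¹ * h'' = ((h''⁻¹ * h') * (h'⁻¹ * x * h))⁻¹ := by group
      rw [this]
      exact inv_mem (mul_mem e6 e1)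
  exact fun i j g hg hgc => (hcl g (gen0 i j g hg hgc)).2

end Cfsg.Agent.TitsThree.GU
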