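import Cfsg.Agent.TitsThree.GU
/-!
GU for subgroups of `A × K`, and the conclusion `A ≃* K` for simple groups (S1143, PART 2).
-/

set_option autoImplicit false

namespace Cfsg.Agent.TitsThree.GUProd

open Cfsg.Agent.Tits.Core Cfsg.Agent.Tits.Core.Bldg Cfsg.Agent.Tits.Exchange

variable {I : Type*} {M : CoxeterMatrix I} {W : Type*} [Group W] {cs : CoxeterSystem M W}
variable {C A K : Type*} [Group A] [Group K] [MulAction A C]

/-- The group generated by the stabilisers of `c` in the rank two subgroups. -/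
def Bt (Γi : I → Subgroup (A × K)) (c : C) : Subgroup (A × K) :=
  Subgroup.closure {g | ∃ i j, g ∈ Γi i ⊔ Γi j ∧ g.1 • c = c}

/-- **GU** for subgroups of `A × K`, general form. -/
theorem gu' [Finite W] (Δ : Bldg cs C) (c : C)
    (iso : ∀ (a : A) x y, Δ.δ (a • x) (a • y) = Δ.δ x y) (Bor : Subgroup K)
    (Γi : I → Subgroup (A × K))
    (pan : ∀ i, ∀ g ∈ Γi i, g.1 • c ∈ Δ.Pan i c)
    (trans : ∀ i, ∀ y ∈ Δ.Pan i c, ∃ g ∈ Γi i, g.1 • c = y)
    (R : ∀ i j, ∀ g ∈ Γi i ⊔ Γi j, g.1 • c = c → g.2 ∈ Bor)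
    (gen : ∀ i j, ∀ g ∈ Γi i ⊔ Γi j, g.1 • c = c → ∀ k, ∀ h ∈ Γi k, ∃ h' ∈ Γi k,
      h'⁻¹ * g * h ∈ Bt Γi c) :
    ∀ g ∈ ⨆ i, Γi i, g.1 • c = c → g.2 ∈ Bor := by
  letI i1 : MulAction (A × K) C := MulAction.compHom C (MonoidHom.fst A K)
  letI i2 : MulAction (A × K) (K ⧸ Bor) := MulAction.compHom _ (MonoidHom.snd A K)
  have e1 : ∀ (g : A × K) (x : C), g • x = g.1 • x := fun _ _ => rfl
  have e2 : ∀ (g : A × K), g • ((1 : K) : K ⧸ Bor) = ((1 : K) : K ⧸ Bor) ↔ g.2 ∈ Bor := by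
    intro g
    have : g • ((1 : K) : K ⧸ Bor) = ((g.2 * 1 : K) : K ⧸ Bor) := rfl
    rw [this, mul_one, QuotientGroup.eq]
    simp
  have H : GU.Local (Γ := A × K) Δ c ((1 : K) : K ⧸ Bor) Γi :=
    { iso := fun g x y => iso g.1 x y
      pan := pan
      trans := trans
      R := fun i j g hg hgc => (e2 g).2 (R i j g hg hgc)
      gen := gen }
  intro g hg hgc
  exact (e2 g).1 (GU.main H hg hgc)

/-- **GU** for subgroups of `A × K`, when the rank two stabilisers are generated by rank one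
ones. -/
theorem gu [Finite W] (Δ : Bldg cs C) (c : C)
    (iso : ∀ (a : A) x y, Δ.δ (a • x) (a • y) = Δ.δ x y) (Bor : Subgroup K)
    (Γi : I → Subgroup (A × K))
    (pan : ∀ i, ∀ g ∈ Γi i, g.1 • c ∈ Δ.Pan i c)
    (trans : ∀ i, ∀ y ∈ Δ.Pan i c, ∃ g ∈ Γi i, g.1 • c = y)
    (R : ∀ i j, ∀ g ∈ Γi i ⊔ Γi j, g.1 • c = c →
      g ∈ Subgroup.closure {h : A × K | ∃ k, h ∈ Γi k ∧ h.1 • c = c ∧ h.2 ∈ Bor}) :
    ∀ g ∈ ⨆ i, Γi i, g.1 • c = c → g.2 ∈ Bor := by
  refine gu' Δ c iso Bor Γi pan trans ?_ ?_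
  · intro i j g hg hgc
    have h1 : Subgroup.closure {h : A × K | ∃ k, h ∈ Γi k ∧ h.1 • c = c ∧ h.2 ∈ Bor} ≤
        Bor.comap (MonoidHom.snd A K) := by
      refine (Subgroup.closure_le _).2 ?_
      rintro h ⟨k, -, -, h3⟩
      exact h3
    exact h1 (R i j g hg hgc)
  · letI i1 : MulAction (A × K) C := MulAction.compHom C (MonoidHom.fst A K)
    refine GU.gen_of_gen0 (Γ := A × K) (Δ := Δ) (c := c) (Γi := Γi)
      (fun g x y => iso g.1 x y) pan trans ?_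
    intro i j g hg hgc
    refine Subgroup.closure_mono ?_ (R i j g hg hgc)
    rintro h ⟨k, h1, h2, -⟩
    exact ⟨k, h1, h2⟩

/-- Goursat for two simple groups. -/
theorem nonempty_mulEquiv [IsSimpleGroup A] [IsSimpleGroup K] (D : Subgroup (A × K))
    (c : C) (Bor : Subgroup K) (hBor : Bor ≠ ⊤)
    (h1 : D.map (MonoidHom.fst A K) = ⊤) (h2 : D.map (MonoidHom.snd A K) = ⊤)
    (hD : ∀ g ∈ D, g.1 • c = c → g.2 ∈ Bor) : Nonempty (A ≃* K) := by
  have f1 : ∀ a : A, ∃ k : K, (a, k) ∈ D := by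
    intro a
    obtain ⟨⟨a', k⟩, h, rfl⟩ := (Subgroup.mem_map.1 (h1 ▸ Subgroup.mem_top a))
    exact ⟨k, h⟩
  have f2 : ∀ k : K, ∃ a : A, (a, k) ∈ D := by
    intro k
    obtain ⟨⟨a, k'⟩, h, rfl⟩ := (Subgroup.mem_map.1 (h2 ▸ Subgroup.mem_top k))
    exact ⟨a, h⟩
  -- the second kernel
  let N2 : Subgroup K := D.comap (MonoidHom.inr A K)
  have mem2 : ∀ k, k ∈ N2 ↔ ((1 : A), k) ∈ D := fun k => Iff.rfl
  have hN2 : N2.Normal := by
    refine ⟨fun k hk g => ?_⟩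
    obtain ⟨a, ha⟩ := f2 g
    have := mul_mem (mul_mem ha ((mem2 k).1 hk)) (inv_mem ha)
    rw [mem2]
    simpa using this
  have hN2' : N2 = ⊥ := by
    rcases hN2.eq_bot_or_eq_top with h | h
    · exact h
    · exfalso
      apply hBor
      rw [eq_top_iff]
      intro k _
      have hk : k ∈ N2 := h ▸ Subgroup.mem_top k
      exact hD _ ((mem2 k).1 hk) (one_smul _ _)
  let N1 : Subgroup A := D.comap (MonoidHom.inl A K)
  have mem1 : ∀ a, a ∈ N1 ↔ (a, (1 : K)) ∈ D := fun a => Iff.rfl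
  have hN1 : N1.Normal := by
    refine ⟨fun k hk g => ?_⟩
    obtain ⟨a, ha⟩ := f1 g
    have := mul_mem (mul_mem ha ((mem1 k).1 hk)) (inv_mem ha)
    rw [mem1]
    simpa using this
  have hN1' : N1 = ⊥ := by
    rcases hN1.eq_bot_or_eq_top with h | h
    · exact h
    · exfalso
      obtain ⟨k, hk⟩ := exists_ne (1 : K)
      obtain ⟨a, ha⟩ := f2 k
      have ha' : (a, (1 : K)) ∈ D := (mem1 a).1 (h ▸ Subgroup.mem_top a)
      have := mul_mem (inv_mem ha') ha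
      have h3 : k ∈ N2 := by rw [mem2]; simpa using this
      rw [hN2', Subgroup.mem_bot] at h3
      exact hk h3
  have b1 : Function.Bijective ((MonoidHom.fst A K).comp D.subtype) := by
    constructor
    · rw [injective_iff_map_eq_one]
      rintro ⟨⟨a, k⟩, h⟩ h4
      have h5 : a = 1 := h4
      subst h5
      have h6 : k ∈ N2 := (mem2 k).2 h
      rw [hN2', Subgroup.mem_bot] at h6
      subst h6
      rfl
    · intro a
      obtain ⟨k, hk⟩ := f1 a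
      exact ⟨⟨(a, k), hk⟩, rfl⟩
  have b2 : Function.Bijective ((MonoidHom.snd A K).comp D.subtype) := by
    constructor
    · rw [injective_iff_map_eq_one]
      rintro ⟨⟨a, k⟩, h⟩ h4
      have h5 : k = 1 := h4
      subst h5
      have h6 : a ∈ N1 := (mem1 a).2 h
      rw [hN1', Subgroup.mem_bot] at h6
      subst h6
      rfl
    · intro k
      obtain ⟨a, ha⟩ := f2 k
      exact ⟨⟨(a, k), ha⟩, rfl⟩
  exact ⟨(MulEquiv.ofBijective _ b1).symm.trans (MulEquiv.ofBijective _ b2)⟩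

end Cfsg.Agent.TitsThree.GUProd
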