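import Cfsg.Agent.TitsThree.GlueA
import Cfsg.Agent.TitsThree.FFData

/-!
# From a Steinberg system of type `A₃` over `E` with a conjugation to the `B₂` package of the norm form

Let `x` be a Steinberg system of type `A₃` (index set `Fin 4`) over `E`, `P : ConjPair F E`. The elements
`x 1 2 a` (`a ∈ F`) and `x 0 1 t * x 2 3 (conj t)` (`t ∈ E`) are root elements of a system of type `B₂` (this is the
embedding of the twisted group `²A₃` in `A₃`): `B2Rel (maps P x)`.
-/

set_option autoImplicit false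
set_option linter.unusedSectionVars false

namespace Cfsg.Agent.TitsThree.KExcA3

open Cfsg.Agent.AGraded Cfsg.Agent.TitsThree Cfsg.Agent.TitsThree.B2Pkg Cfsg.Agent.TitsThree.FFData
open Cfsg.Agent.TitsThree.GlueA
open scoped commutatorElement

section Mono

variable {ι : Type*} [Fintype ι] [DecidableEq ι] {E Y : Type*} [Field E] [Group Y] {x : ι → ι → E → Y}

theorem inj3 {i j k : ι} (hij : i ≠ j) (hjk : j ≠ k) (hik : i ≠ k) :
    Function.Injective (![i, j, k] : Fin 3 → ι) := by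
  intro a b h
  fin_cases a <;> fin_cases b <;> simp_all

theorem conj_ik (h : SteinRel x) {i j k : ι} (hij : i ≠ j) (hjk : j ≠ k) (hik : i ≠ k) {t : E} (ht : t ≠ 0)
    (a : E) : nn (x i j) (x j i) t * x i k a * (nn (x i j) (x j i) t)⁻¹ = x j k (-(t⁻¹ * a)) :=
  nn_conj_ik (Cfsg.Agent.TitsThree.SteinRel.comap h (inj3 hij hjk hik)) (i := 0) (j := 1) (k := 2) (by decide) (by decide) (by decide) ht a

theorem conj_kj (h : SteinRel x) {i j k : ι} (hij : i ≠ j) (hjk : j ≠ k) (hik : i ≠ k) {t : E} (ht : t ≠ 0)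
    (a : E) : nn (x i j) (x j i) t * x k j a * (nn (x i j) (x j i) t)⁻¹ = x k i (t⁻¹ * a) :=
  nn_conj_kj (Cfsg.Agent.TitsThree.SteinRel.comap h (inj3 hij hjk hik)) (i := 0) (j := 1) (k := 2) (by decide) (by decide) (by decide) ht a

theorem conj_jk (h : SteinRel x) {i j k : ι} (hij : i ≠ j) (hjk : j ≠ k) (hik : i ≠ k) {t : E} (ht : t ≠ 0)
    (a : E) : nn (x i j) (x j i) t * x j k a * (nn (x i j) (x j i) t)⁻¹ = x i k (t * a) :=
  nn_conj_jk (Cfsg.Agent.TitsThree.SteinRel.comap h (inj3 hij hjk hik)) (i := 0) (j := 1) (k := 2) (by decide) (by decide) (by decide) ht a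

theorem conj_ki (h : SteinRel x) {i j k : ι} (hij : i ≠ j) (hjk : j ≠ k) (hik : i ≠ k) {t : E} (ht : t ≠ 0)
    (a : E) : nn (x i j) (x j i) t * x k i a * (nn (x i j) (x j i) t)⁻¹ = x k j (-(t * a)) :=
  nn_conj_ki (Cfsg.Agent.TitsThree.SteinRel.comap h (inj3 hij hjk hik)) (i := 0) (j := 1) (k := 2) (by decide) (by decide) (by decide) ht a

theorem comm_conj {G : Type*} [Group G] (g a b : G) : g * ⁅a, b⁆ * g⁻¹ = ⁅g * a * g⁻¹, g * b * g⁻¹⁆ := by
  simp only [commutatorElement_def]; group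

theorem conj_ij (h : SteinRel x) {i j k : ι} (hij : i ≠ j) (hjk : j ≠ k) (hik : i ≠ k) {t : E} (ht : t ≠ 0)
    (a : E) : nn (x i j) (x j i) t * x i j a * (nn (x i j) (x j i) t)⁻¹ = x j i (-(t⁻¹ * t⁻¹ * a)) := by
  have e : x i j a = ⁅x i k a, x k j 1⁆ := by
    rw [h.br i k j hik hjk.symm hij, mul_one]
  rw [e, comm_conj, conj_ik h hij hjk hik ht, conj_kj h hij hjk hik ht, h.br j k i hjk hik.symm hij.symm]
  congr 1
  ring

theorem conj_ji (h : SteinRel x) {i j k : ι} (hij : i ≠ j) (hjk : j ≠ k) (hik : i ≠ k) {t : E} (ht : t ≠ 0)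
    (a : E) : nn (x i j) (x j i) t * x j i a * (nn (x i j) (x j i) t)⁻¹ = x i j (-(t * t * a)) := by
  have e : x j i a = ⁅x j k a, x k i 1⁆ := by
    rw [h.br j k i hjk hik.symm hij.symm, mul_one]
  rw [e, comm_conj, conj_jk h hij hjk hik ht, conj_ki h hij hjk hik ht, h.br i k j hik hjk.symm hij]
  congr 1
  ring

/-- `m` acts monomially on the Steinberg system `x`. -/
def Mono (x : ι → ι → E → Y) (m : Y) (π : Equiv.Perm ι) (l : ι → E) : Prop :=
  ∀ c d, c ≠ d → ∀ u, m * x c d u * m⁻¹ = x (π c) (π d) (l c * (l d)⁻¹ * u)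

theorem Mono.mul {m m' : Y} {π π' : Equiv.Perm ι} {l l' : ι → E} (h : Mono x m π l) (h' : Mono x m' π' l') :
    Mono x (m * m') (π * π') (fun c => l (π' c) * l' c) := by
  intro c d hcd u
  have e : m * m' * x c d u * (m * m')⁻¹ = m * (m' * x c d u * m'⁻¹) * m⁻¹ := by group
  rw [e, h' c d hcd u, h _ _ (fun e => hcd (π'.injective e)), Equiv.Perm.mul_apply, Equiv.Perm.mul_apply, mul_inv]
  congr 1
  ring

/-- The scalars of `n_ij(t)`. -/
def nl (i j : ι) (t : E) (c : ι) : E := if c = i then -t⁻¹ else if c = j then t else 1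

theorem mono_nn (hι : ∀ i j : ι, ∃ k, k ≠ i ∧ k ≠ j) (h : SteinRel x) {i j : ι} (hij : i ≠ j) {t : E} (ht : t ≠ 0) :
    Mono x (nn (x i j) (x j i) t) (Equiv.swap i j) (nl i j t) := by
  obtain ⟨k, hki, hkj⟩ := hι i j
  intro c d hcd u
  unfold nl
  by_cases hci : c = i
  · subst hci
    rw [Equiv.swap_apply_left, if_pos rfl]
    by_cases hdj : d = j
    · subst hdj
      rw [conj_ij h hij hkj.symm hki.symm ht, Equiv.swap_apply_right, if_neg hij.symm, if_pos rfl]
      congr 1
      ring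
    · rw [conj_ik h hij (Ne.symm hdj) hcd ht, Equiv.swap_apply_of_ne_of_ne hcd.symm hdj, if_neg hcd.symm,
        if_neg hdj]
      congr 1
      rw [inv_one]
      ring
  · by_cases hcj : c = j
    · subst hcj
      rw [Equiv.swap_apply_right, if_neg hci, if_pos rfl]
      by_cases hdi : d = i
      · subst hdi
        rw [conj_ji h hij hkj.symm hki.symm ht, Equiv.swap_apply_left, if_pos rfl]
        congr 1
        field_simp
      · rw [conj_jk h hij hcd (Ne.symm hdi) ht, Equiv.swap_apply_of_ne_of_ne hdi hcd.symm, if_neg hdi,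
          if_neg hcd.symm]
        congr 1
        rw [inv_one]
        ring
    · rw [Equiv.swap_apply_of_ne_of_ne hci hcj, if_neg hci, if_neg hcj]
      by_cases hdi : d = i
      · subst hdi
        rw [conj_ki h hij (Ne.symm hcj) (Ne.symm hci) ht, Equiv.swap_apply_left, if_pos rfl]
        congr 1
        field_simp
      · by_cases hdj : d = j
        · subst hdj
          rw [conj_kj h hij (Ne.symm hcj) (Ne.symm hci) ht, Equiv.swap_apply_right, if_neg hdi, if_pos rfl]
          congr 1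
          ring
        · rw [Equiv.swap_apply_of_ne_of_ne hdi hdj, if_neg hdi, if_neg hdj]
          have e1 : Commute (nn (x i j) (x j i) t) (x c d u) := by
            unfold nn
            have c1 : ∀ a, Commute (x i j a) (x c d u) := fun a =>
              h.comm i j c d hij hcd (Ne.symm hcj) (Ne.symm hdi) _ _
            have c2 : ∀ a, Commute (x j i a) (x c d u) := fun a =>
              h.comm j i c d hij.symm hcd (Ne.symm hci) (Ne.symm hdj) _ _
            exact ((c1 _).mul_left (c2 _)).mul_left (c1 _)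
          rw [e1.eq, mul_inv_cancel_right]
          congr 1
          rw [inv_one]
          ring

end Mono

section B2

variable {F E : Type*} [Field F] [Field E] [Algebra F E] (P : ConjPair F E) {Y : Type*} [Group Y]
  (x : Fin 4 → Fin 4 → E → Y)

/-- The root elements of the twisted group `²A₃`. -/
def maps : B2Maps P.datum Y where
  x a := x 1 2 (algebraMap F E a)
  x' a := x 2 1 (algebraMap F E a)
  y b := x 0 3 (algebraMap F E b)
  y' b := x 3 0 (-algebraMap F E b)
  z₁ p := x 0 2 (-p.w) * x 1 3 (P.conj p.w)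
  z₂ p := x 0 1 p.w * x 2 3 (P.conj p.w)
  z₁' p := x 2 0 (P.conj p.w) * x 3 1 (-p.w)
  z₂' p := x 1 0 (-P.conj p.w) * x 3 2 (-p.w)

theorem third : ∀ i j : Fin 4, ∃ k, k ≠ i ∧ k ≠ j := by decide

variable {x}

theorem conj_ne {t : E} (ht : t ≠ 0) : P.conj t ≠ 0 := fun h => ht (by rw [← P.conj_conj t, h, map_zero])

/-- The action of `n_I`. -/
theorem mono_nI (h : SteinRel x) : Mono x (maps P x).nI (Equiv.swap 1 2) (nl 1 2 1) := by
  have e : (maps P x).nI = nn (x 1 2) (x 2 1) 1 := by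
    simp [B2Maps.nI, maps, nn]
  rw [e]
  exact mono_nn third h (by decide) one_ne_zero

theorem nII_eq (h : SteinRel x) {t : E} (ht : t ≠ 0) :
    (maps P x).nII (P.τ t) = nn (x 1 0) (x 0 1) (-t⁻¹) * nn (x 3 2) (x 2 3) (-(P.conj t)⁻¹) := by
  rw [P.nII_τ _ ht]
  have c : ∀ a b c d : E, Commute (x 1 0 a) (x 3 2 c) ∧ Commute (x 1 0 a) (x 2 3 d) ∧
      Commute (x 0 1 b) (x 3 2 c) ∧ Commute (x 0 1 b) (x 2 3 d) := fun a b c d =>
    ⟨h.comm _ _ _ _ (by decide) (by decide) (by decide) (by decide) _ _,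
      h.comm _ _ _ _ (by decide) (by decide) (by decide) (by decide) _ _,
      h.comm _ _ _ _ (by decide) (by decide) (by decide) (by decide) _ _,
      h.comm _ _ _ _ (by decide) (by decide) (by decide) (by decide) _ _⟩
  simp only [maps, ConjPair.τ_w, ConjPair.τ'_w, nn, map_neg, map_inv₀, neg_neg, P.conj_conj, inv_neg, inv_inv]
  have c1 := (c (-t⁻¹) t (-(P.conj t)⁻¹) (P.conj t)).1.eq
  have c2 := (c (-t⁻¹) t (-(P.conj t)⁻¹) (P.conj t)).2.1.eq
  have c3 := (c (-t⁻¹) t (-(P.conj t)⁻¹) (P.conj t)).2.2.1.eq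
  generalize x 1 0 (-t⁻¹) = A at *
  generalize x 0 1 t = B at *
  generalize x 3 2 (-(P.conj t)⁻¹) = C at *
  generalize x 2 3 (P.conj t) = D at *
  calc A * C * (B * D) * (A * C) = A * (C * B) * (D * A) * C := by group
    _ = A * B * (C * A) * D * C := by rw [← c3, ← c2]; group
    _ = A * B * A * (C * D * C) := by rw [← c1]; group

theorem mono_nII (h : SteinRel x) {p : P.datum.T} (hp : p.c ≠ 0) :
    Mono x ((maps P x).nII p) (Equiv.swap 1 0 * Equiv.swap 3 2)
      (![-p.w⁻¹, p.w, -(P.conj p.w)⁻¹, P.conj p.w] : Fin 4 → E) := by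
  obtain ⟨t, rfl⟩ := P.τ_surj p
  have ht : t ≠ 0 := by
    rintro rfl
    apply hp
    rw [ConjPair.τ_c, P.N_zero, neg_zero]
  have hti : -t⁻¹ ≠ 0 := neg_ne_zero.2 (inv_ne_zero ht)
  have hct := conj_ne P ht
  have hcti : -(P.conj t)⁻¹ ≠ 0 := neg_ne_zero.2 (inv_ne_zero hct)
  rw [nII_eq P h ht]
  have h1 := (mono_nn third h (i := 1) (j := 0) (by decide) hti).mul (mono_nn third h (i := 3) (j := 2) (by decide) hcti)
  convert h1 using 1
  funext c
  fin_cases c <;> simp [nl, Equiv.swap_apply_def]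

theorem w_ne {p : P.datum.T} (hp : p.c ≠ 0) : p.w ≠ 0 := by
  intro h
  apply hp
  have hc : p.c = -P.N p.w := p.ok
  rw [hc, h, P.N_zero, neg_zero]

/-- The reflection is `w' ↦ -conj(w') w / conj w`. -/
theorem refl_w {p : P.datum.T} (hp : p.c ≠ 0) (q : P.datum.T) :
    (P.datum.refl p hp q).w = -(P.conj q.w * p.w * (P.conj p.w)⁻¹) := by
  have hw := w_ne P hp
  have hcw := conj_ne P hw
  have hc : p.c = -P.N p.w := p.ok
  rw [PQDatum.refl_w, P.datum_h, Algebra.smul_def, hc, map_mul, map_inv₀, map_neg, P.hN, P.hT, map_mul,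
    P.conj_conj]
  field_simp
  ring

theorem mul_conj {m a b : Y} : m * (a * b) * m⁻¹ = (m * a * m⁻¹) * (m * b * m⁻¹) := by group

theorem b2rel (h : SteinRel x) : B2Rel (maps P x) where
  x_add a b := by
    simp only [maps, map_add]; exact h.add _ _ (by decide) _ _
  x'_add a b := by
    simp only [maps, map_add]; exact h.add _ _ (by decide) _ _
  y_add a b := by
    simp only [maps, map_add]; exact h.add _ _ (by decide) _ _
  y'_add a b := by
    simp only [maps, map_add, neg_add]; exact h.add _ _ (by decide) _ _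
  z₁_mul p q := by
    have c := h.comm 1 3 0 2 (by decide) (by decide) (by decide) (by decide) (P.conj p.w) (-q.w)
    simp only [maps, PQDatum.T.mul_w, map_add, neg_add]
    rw [h.add 0 2 (by decide), h.add 1 3 (by decide), mul_assoc, mul_assoc, ← mul_assoc (x 1 3 _) (x 0 2 _), c]
    simp only [mul_assoc]
  z₂_mul p q := by
    have c := h.comm 2 3 0 1 (by decide) (by decide) (by decide) (by decide) (P.conj p.w) q.w
    simp only [maps, PQDatum.T.mul_w, map_add]
    rw [h.add 0 1 (by decide), h.add 2 3 (by decide), mul_assoc, mul_assoc, ← mul_assoc (x 2 3 _) (x 0 1 _), c]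
    simp only [mul_assoc]
  z₁'_mul p q := by
    have c := h.comm 3 1 2 0 (by decide) (by decide) (by decide) (by decide) (-p.w) (P.conj q.w)
    simp only [maps, PQDatum.T.mul_w, map_add, neg_add]
    rw [h.add 2 0 (by decide), h.add 3 1 (by decide), mul_assoc, mul_assoc, ← mul_assoc (x 3 1 _) (x 2 0 _), c]
    simp only [mul_assoc]
  z₂'_mul p q := by
    have c := h.comm 3 2 1 0 (by decide) (by decide) (by decide) (by decide) (-p.w) (-P.conj q.w)
    simp only [maps, PQDatum.T.mul_w, map_add, neg_add]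
    rw [h.add 1 0 (by decide), h.add 3 2 (by decide), mul_assoc, mul_assoc, ← mul_assoc (x 3 2 _) (x 1 0 _), c]
    simp only [mul_assoc]
  x_z₂ a p := by
    have hc : p.c = -P.N p.w := p.ok
    have e1 := h.conj_right (i := 0) (j := 1) (k := 2) (by decide) (by decide) (by decide) p.w (algebraMap F E a)
    have e2 := h.conj_left (i := 1) (j := 2) (k := 3) (by decide) (by decide) (by decide) (algebraMap F E a)
      (P.conj p.w)
    have e3 := h.conj_left (i := 0) (j := 1) (k := 3) (by decide) (by decide) (by decide) p.w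
      (algebraMap F E a * P.conj p.w)
    have c1 := h.comm 0 1 0 2 (by decide) (by decide) (by decide) (by decide) p.w (-(p.w * algebraMap F E a))
    have c2 := h.comm 0 3 1 3 (by decide) (by decide) (by decide) (by decide)
      (p.w * (algebraMap F E a * P.conj p.w)) (algebraMap F E a * P.conj p.w)
    have g1 : -(algebraMap F E a * p.w) = -(p.w * algebraMap F E a) := by ring
    have g2 : algebraMap F E (-(1 * a * p.c)) = p.w * (algebraMap F E a * P.conj p.w) := by
      rw [hc, map_neg, map_mul, map_mul, map_neg, map_one, P.hN]; ring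
    simp only [maps, PQDatum.sc_w, P.datum_σ, P.datum_ε, Algebra.smul_def, map_mul, P.conj_alg, commutatorElement_def]
    rw [g1, g2]
    calc x 1 2 (algebraMap F E a) * (x 0 1 p.w * x 2 3 (P.conj p.w)) * (x 1 2 (algebraMap F E a))⁻¹ *
          (x 0 1 p.w * x 2 3 (P.conj p.w))⁻¹
        = (x 1 2 (algebraMap F E a) * x 0 1 p.w * (x 1 2 (algebraMap F E a))⁻¹) *
          (x 1 2 (algebraMap F E a) * x 2 3 (P.conj p.w) * (x 1 2 (algebraMap F E a))⁻¹) *
          (x 2 3 (P.conj p.w))⁻¹ * (x 0 1 p.w)⁻¹ := by group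
      _ = (x 0 1 p.w * x 0 2 (-(p.w * algebraMap F E a))) *
          x 1 3 (algebraMap F E a * P.conj p.w) * (x 0 1 p.w)⁻¹ := by rw [e1, e2]; group
      _ = x 0 2 (-(p.w * algebraMap F E a)) *
          (x 0 1 p.w * x 1 3 (algebraMap F E a * P.conj p.w) * (x 0 1 p.w)⁻¹) := by rw [c1]; group
      _ = _ := by rw [e3, c2, mul_assoc]
  z₁_z₂ p q := by
    have e1 := h.conj_right (i := 0) (j := 1) (k := 3) (by decide) (by decide) (by decide) q.w (P.conj p.w)
    have e2 := h.conj_left (i := 0) (j := 2) (k := 3) (by decide) (by decide) (by decide) (-p.w) (P.conj q.w)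
    have c1 := h.comm 1 3 2 3 (by decide) (by decide) (by decide) (by decide) (P.conj p.w) (P.conj q.w)
    have c2 := h.comm 0 2 0 1 (by decide) (by decide) (by decide) (by decide) (-p.w) q.w
    have c3 := h.comm 0 2 0 3 (by decide) (by decide) (by decide) (by decide) (-p.w) (-(q.w * P.conj p.w))
    have c4 := h.comm 0 1 0 3 (by decide) (by decide) (by decide) (by decide) q.w
      (-(q.w * P.conj p.w) + -p.w * P.conj q.w)
    have g1 : algebraMap F E (-P.datum.h q.w p.w) = -(q.w * P.conj p.w) + -p.w * P.conj q.w := by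
      rw [P.datum_h, map_neg, P.hT, map_mul, P.conj_conj]; ring
    simp only [maps, commutatorElement_def]
    rw [g1]
    have a4 := h.add 0 3 (by decide) (-(q.w * P.conj p.w)) (-p.w * P.conj q.w)
    generalize x 0 3 (-(q.w * P.conj p.w) + -p.w * P.conj q.w) = Z at *
    generalize x 0 3 (-(q.w * P.conj p.w)) = Z1 at *
    generalize x 0 3 (-p.w * P.conj q.w) = Z2 at *
    generalize x 0 2 (-p.w) = A at *
    generalize x 1 3 (P.conj p.w) = B at *
    generalize x 0 1 q.w = C at *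
    generalize x 2 3 (P.conj q.w) = D at *
    calc A * B * (C * D) * (A * B)⁻¹ * (C * D)⁻¹
        = A * (B * C * B⁻¹) * (B * D) * B⁻¹ * A⁻¹ * D⁻¹ * C⁻¹ := by group
      _ = A * (C * Z1) * (D * B) * B⁻¹ * A⁻¹ * D⁻¹ * C⁻¹ := by rw [e1, c1]
      _ = (A * C) * Z1 * D * A⁻¹ * D⁻¹ * C⁻¹ := by group
      _ = C * (A * Z1) * D * A⁻¹ * D⁻¹ * C⁻¹ := by rw [c2]; group
      _ = C * Z1 * (A * D * A⁻¹) * D⁻¹ * C⁻¹ := by rw [c3]; group
      _ = C * (Z1 * Z2) * C⁻¹ := by rw [e2]; group
      _ = C * Z * C⁻¹ := by rw [a4]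
      _ = Z := by rw [c4]; group
  x_y a b := by
    have c := h.comm 1 2 0 3 (by decide) (by decide) (by decide) (by decide) (algebraMap F E a) (algebraMap F E b)
    have g : (P.datum.tr a b).w = 0 := rfl
    simp only [maps, g, map_zero, neg_zero, commutatorElement_def]
    rw [c, h.zero (by decide), h.zero (by decide)]
    group
  x_z₁ a p := by
    have c1 : Commute (x 1 2 (algebraMap F E a)) (x 0 2 (-p.w)) :=
      h.comm 1 2 0 2 (by decide) (by decide) (by decide) (by decide) _ _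
    have c2 : Commute (x 1 2 (algebraMap F E a)) (x 1 3 (P.conj p.w)) :=
      h.comm 1 2 1 3 (by decide) (by decide) (by decide) (by decide) _ _
    exact c1.mul_right c2
  y_z₁ b p := by
    have c1 : Commute (x 0 3 (algebraMap F E b)) (x 0 2 (-p.w)) :=
      h.comm 0 3 0 2 (by decide) (by decide) (by decide) (by decide) _ _
    have c2 : Commute (x 0 3 (algebraMap F E b)) (x 1 3 (P.conj p.w)) :=
      h.comm 0 3 1 3 (by decide) (by decide) (by decide) (by decide) _ _
    exact c1.mul_right c2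
  y_z₂ b p := by
    have c1 : Commute (x 0 3 (algebraMap F E b)) (x 0 1 p.w) :=
      h.comm 0 3 0 1 (by decide) (by decide) (by decide) (by decide) _ _
    have c2 : Commute (x 0 3 (algebraMap F E b)) (x 2 3 (P.conj p.w)) :=
      h.comm 0 3 2 3 (by decide) (by decide) (by decide) (by decide) _ _
    exact c1.mul_right c2
  nI_x a := by
    have I := mono_nI P h
    show (maps P x).nI * x 1 2 _ * (maps P x).nI⁻¹ = x 2 1 _
    rw [I 1 2 (by decide)]
    simp [nl, Equiv.swap_apply_def]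
  nI_x' a := by
    have I := mono_nI P h
    show (maps P x).nI * x 2 1 _ * (maps P x).nI⁻¹ = x 1 2 _
    rw [I 2 1 (by decide)]
    simp [nl, Equiv.swap_apply_def]
  nI_y b := by
    have I := mono_nI P h
    show (maps P x).nI * x 0 3 _ * (maps P x).nI⁻¹ = x 0 3 _
    rw [I 0 3 (by decide)]
    simp [nl, Equiv.swap_apply_def]
  nI_y' b := by
    have I := mono_nI P h
    show (maps P x).nI * x 3 0 _ * (maps P x).nI⁻¹ = x 3 0 _
    rw [I 3 0 (by decide)]
    simp [nl, Equiv.swap_apply_def]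
  nI_z₁ p := by
    have I := mono_nI P h
    show (maps P x).nI * (x 0 2 _ * x 1 3 _) * (maps P x).nI⁻¹ = x 0 1 _ * x 2 3 _
    rw [mul_conj, I 0 2 (by decide), I 1 3 (by decide)]
    simp [nl, Equiv.swap_apply_def]
  nI_z₂ p := by
    have I := mono_nI P h
    show (maps P x).nI * (x 0 1 _ * x 2 3 _) * (maps P x).nI⁻¹ = x 0 2 _ * x 1 3 _
    rw [mul_conj, I 0 1 (by decide), I 2 3 (by decide)]
    simp [nl, Equiv.swap_apply_def]
  nI_z₁' p := by
    have I := mono_nI P h
    show (maps P x).nI * (x 2 0 _ * x 3 1 _) * (maps P x).nI⁻¹ = x 1 0 _ * x 3 2 _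
    rw [mul_conj, I 2 0 (by decide), I 3 1 (by decide)]
    simp [nl, Equiv.swap_apply_def]
  nI_z₂' p := by
    have I := mono_nI P h
    show (maps P x).nI * (x 1 0 _ * x 3 2 _) * (maps P x).nI⁻¹ = x 2 0 _ * x 3 1 _
    rw [mul_conj, I 1 0 (by decide), I 3 2 (by decide)]
    simp [nl, Equiv.swap_apply_def]
  nII_x p hp a := by
    have I := mono_nII P h hp
    have hc : p.c = -P.N p.w := p.ok
    show (maps P x).nII p * x 1 2 _ * ((maps P x).nII p)⁻¹ = x 0 3 _
    rw [I 1 2 (by decide)]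
    have e : algebraMap F E (P.datum.ε * P.datum.σ p.c * a) = p.w * -(P.conj p.w) * algebraMap F E a := by
      rw [P.datum_ε, P.datum_σ, hc, one_mul, map_mul, map_neg, P.hN]; ring
    rw [e]
    simp [Equiv.swap_apply_def]
  nII_y p hp b := by
    have I := mono_nII P h hp
    have hc : p.c = -P.N p.w := p.ok
    show (maps P x).nII p * x 0 3 _ * ((maps P x).nII p)⁻¹ = x 1 2 _
    rw [I 0 3 (by decide)]
    have e : algebraMap F E (p.c⁻¹ * b) = -p.w⁻¹ * (P.conj p.w)⁻¹ * algebraMap F E b := by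
      rw [hc, map_mul, map_inv₀, map_neg, P.hN, inv_neg, mul_inv]; ring
    rw [e]
    simp [Equiv.swap_apply_def]
  nII_x' p hp a := by
    have I := mono_nII P h hp
    have hc : p.c = -P.N p.w := p.ok
    show (maps P x).nII p * x 2 1 _ * ((maps P x).nII p)⁻¹ = x 3 0 _
    rw [I 2 1 (by decide)]
    have e : -algebraMap F E (-(p.c⁻¹ * P.datum.σ a)) = -(P.conj p.w)⁻¹ * p.w⁻¹ * algebraMap F E a := by
      rw [P.datum_σ, hc, map_neg, neg_neg, map_mul, map_inv₀, map_neg, P.hN, inv_neg, mul_inv]; ring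
    rw [e]
    simp [Equiv.swap_apply_def]
  nII_y' p hp b := by
    have I := mono_nII P h hp
    have hc : p.c = -P.N p.w := p.ok
    show (maps P x).nII p * x 3 0 _ * ((maps P x).nII p)⁻¹ = x 2 1 _
    rw [I 3 0 (by decide)]
    have e : algebraMap F E (-(P.datum.ε⁻¹ * p.c * P.datum.σ b)) =
        P.conj p.w * (-p.w⁻¹)⁻¹ * -algebraMap F E b := by
      rw [P.datum_σ, P.datum_ε, hc, inv_one, one_mul, map_neg, map_mul, map_neg, P.hN, inv_neg, inv_inv]; ring
    rw [e]
    simp [Equiv.swap_apply_def]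
  nII_z₁ p hp q := by
    have I := mono_nII P h hp
    have hw := w_ne P hp
    have hcw := conj_ne P hw
    show (maps P x).nII p * (x 0 2 _ * x 1 3 _) * ((maps P x).nII p)⁻¹ = x 0 2 _ * x 1 3 _
    rw [mul_conj, I 0 2 (by decide), I 1 3 (by decide), refl_w]
    have e1 : P.conj (-(P.conj q.w * p.w * (P.conj p.w)⁻¹)) = -(q.w * P.conj p.w * p.w⁻¹) := by
      rw [map_neg, map_mul, map_mul, map_inv₀, P.conj_conj, P.conj_conj]
    rw [e1]
    have c := h.comm 1 3 0 2 (by decide) (by decide) (by decide) (by decide)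
      (-(q.w * P.conj p.w * p.w⁻¹)) (- -(P.conj q.w * p.w * (P.conj p.w)⁻¹))
    rw [← c]
    have e2 : -p.w⁻¹ * (-(P.conj p.w)⁻¹)⁻¹ * -q.w = -(q.w * P.conj p.w * p.w⁻¹) := by
      rw [inv_neg, inv_inv]; ring
    have e3 : p.w * (P.conj p.w)⁻¹ * P.conj q.w = - -(P.conj q.w * p.w * (P.conj p.w)⁻¹) := by ring
    rw [← e2, ← e3]
    simp [Equiv.swap_apply_def]
  nII_z₁' p hp q := by
    have I := mono_nII P h hp
    have hw := w_ne P hp
    have hcw := conj_ne P hw
    show (maps P x).nII p * (x 2 0 _ * x 3 1 _) * ((maps P x).nII p)⁻¹ = x 2 0 _ * x 3 1 _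
    rw [mul_conj, I 2 0 (by decide), I 3 1 (by decide), refl_w]
    have e1 : P.conj (-(P.conj q.w * p.w * (P.conj p.w)⁻¹)) = -(q.w * P.conj p.w * p.w⁻¹) := by
      rw [map_neg, map_mul, map_mul, map_inv₀, P.conj_conj, P.conj_conj]
    rw [e1]
    have c := h.comm 3 1 2 0 (by decide) (by decide) (by decide) (by decide)
      (- -(P.conj q.w * p.w * (P.conj p.w)⁻¹)) (-(q.w * P.conj p.w * p.w⁻¹))
    rw [← c]
    have e2 : P.conj p.w * p.w⁻¹ * -q.w = -(q.w * P.conj p.w * p.w⁻¹) := by ring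
    have e3 : -(P.conj p.w)⁻¹ * (-p.w⁻¹)⁻¹ * P.conj q.w = - -(P.conj q.w * p.w * (P.conj p.w)⁻¹) := by
      rw [inv_neg, inv_inv]; ring
    rw [← e2, ← e3]
    simp [Equiv.swap_apply_def]
  nII_z₂ p hp q := by
    have I := mono_nII P h hp
    have hw := w_ne P hp
    have hcw := conj_ne P hw
    have hc : p.c = -P.N p.w := p.ok
    show (maps P x).nII p * (x 0 1 _ * x 2 3 _) * ((maps P x).nII p)⁻¹ = x 1 0 _ * x 3 2 _
    rw [mul_conj, I 0 1 (by decide), I 2 3 (by decide), PQDatum.sc_w, refl_w]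
    have e0 : P.datum.σ (P.datum.σ p.c)⁻¹ • -(P.conj q.w * p.w * (P.conj p.w)⁻¹) =
        P.conj q.w * (P.conj p.w)⁻¹ * (P.conj p.w)⁻¹ := by
      rw [P.datum_σ, P.datum_σ, hc, Algebra.smul_def, map_inv₀, map_neg, P.hN]
      field_simp
    rw [e0]
    have e1 : -P.conj (P.conj q.w * (P.conj p.w)⁻¹ * (P.conj p.w)⁻¹) = -p.w⁻¹ * p.w⁻¹ * q.w := by
      rw [map_mul, map_mul, map_inv₀, P.conj_conj, P.conj_conj]; ring
    have e2 : -(P.conj q.w * (P.conj p.w)⁻¹ * (P.conj p.w)⁻¹) = -(P.conj p.w)⁻¹ * (P.conj p.w)⁻¹ * P.conj q.w := by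
      ring
    rw [e1, e2]
    simp [Equiv.swap_apply_def]
  nII_z₂' p hp q := by
    have I := mono_nII P h hp
    have hw := w_ne P hp
    have hcw := conj_ne P hw
    have hc : p.c = -P.N p.w := p.ok
    show (maps P x).nII p * (x 1 0 _ * x 3 2 _) * ((maps P x).nII p)⁻¹ = x 0 1 _ * x 2 3 _
    rw [mul_conj, I 1 0 (by decide), I 3 2 (by decide), PQDatum.sc_w, refl_w]
    have e0 : P.datum.σ (P.datum.ε⁻¹ * p.c) • -(P.conj q.w * p.w * (P.conj p.w)⁻¹) =
        P.conj q.w * p.w * p.w := by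
      rw [P.datum_σ, P.datum_ε, hc, inv_one, one_mul, Algebra.smul_def, map_neg, P.hN]
      field_simp
    rw [e0]
    have e1 : P.conj (P.conj q.w * p.w * p.w) = P.conj p.w * (-(P.conj p.w)⁻¹)⁻¹ * -q.w := by
      rw [map_mul, map_mul, P.conj_conj, inv_neg, inv_inv]; ring
    have e2 : P.conj q.w * p.w * p.w = p.w * (-p.w⁻¹)⁻¹ * -P.conj q.w := by
      rw [inv_neg, inv_inv]; ring
    rw [e1, e2]
    simp [Equiv.swap_apply_def]

end B2

end Cfsg.Agent.TitsThree.KExcA3
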