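import Mathlib
import Cfsg.Agent.ChevalleyStructure.Elts
import Cfsg.Agent.S1025

/-!
# Rank two relations between the simple root elements of the exceptional Chevalley groups (S1143, K side)

`comm_nil`, `comm_one`: Chevalley's commutator formula as statements on group commutators.
`A2Tab`: the finite check that the roots `i`, `j`, `k = i + j` and their negatives satisfy the standard
relations of type A₂ with the uniform signs `x 0 2 t = x_k(-t)`, `x 2 0 t = x_{-k}(-t)`.
-/

set_option autoImplicit false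

namespace Cfsg.Agent.TitsThree.KExcBase

open Cfsg.Lie Cfsg.Agent.ChevalleyStructure.Elts
open scoped commutatorElement

universe u

variable {F : Type u} [Field F] {D : ChevalleyDatum}

/-- Distinct, non-opposite roots whose sum is not a root: the root elements commute. -/
theorem comm_nil (hD : InList D) {r s : ℕ} (hr : r < D.nroots) (hs : s < D.nroots) (hrs : s ≠ r)
    (hneg : s ≠ D.neg r) (h : D.commTerms r s = []) (t u : F) :
    xG hD r t * xG hD s u = xG hD s u * xG hD r t := by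
  have h1 := Cfsg.Agent.S1025.result (F := F) D hD r s hr hs hrs hneg t u
  have h2 : D.commWord F r s t u = [] := by
    show (D.commTerms r s).map _ = []
    rw [h]; rfl
  rw [h2, wordMat_nil, mul_one] at h1
  exact Units.ext h1.symm

theorem comm_self (hD : InList D) (r : ℕ) (t u : F) :
    xG hD r t * xG hD r u = xG hD r u * xG hD r t := by
  rw [xG_add, xG_add, add_comm]

/-- Chevalley's commutator formula with one term. -/
theorem comm_one (hD : InList D) {r s k : ℕ} {N : ℤ} (hr : r < D.nroots) (hs : s < D.nroots) (hrs : s ≠ r)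
    (hneg : s ≠ D.neg r) (h : D.commTerms r s = [(k, N, 1, 1)])
    (c1 : ∀ t u : F, xG hD r t * xG hD k u = xG hD k u * xG hD r t)
    (c2 : ∀ t u : F, xG hD s t * xG hD k u = xG hD k u * xG hD s t) (t u : F) :
    ⁅xG hD r t, xG hD s u⁆ = xG hD k ((N : F) * t * u) := by
  have h1 := Cfsg.Agent.S1025.result (F := F) D hD r s hr hs hrs hneg t u
  have h2 : D.commWord F r s t u = [(k, (N : F) * (-t) ^ 1 * u ^ 1)] := by
    show (D.commTerms r s).map _ = _
    rw [h]; rfl
  rw [h2, wordMat_cons, wordMat_nil, mul_one] at h1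
  have h3 : xG hD s u * xG hD r t = xG hD r t * xG hD s u * xG hD k (-((N : F) * t * u)) := by
    apply Units.ext
    rw [Units.val_mul, Units.val_mul, Units.val_mul, coe_xG, coe_xG, coe_xG, h1]
    congr 2
    ring
  rw [commutatorElement_def]
  have h4 : xG hD r t * xG hD s u = xG hD s u * xG hD r t * xG hD k ((N : F) * t * u) := by
    rw [h3, mul_assoc, xG_add, neg_add_cancel, xG_zero, mul_one]
  calc xG hD r t * xG hD s u * (xG hD r t)⁻¹ * (xG hD s u)⁻¹
      = xG hD s u * (xG hD r t * xG hD k ((N : F) * t * u)) * (xG hD r t)⁻¹ * (xG hD s u)⁻¹ := by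
        rw [h4]; group
    _ = (xG hD s u * xG hD k ((N : F) * t * u)) * (xG hD s u)⁻¹ := by rw [c1]; group
    _ = xG hD k ((N : F) * t * u) := by rw [c2]; group

/-! ### Type A₂ -/

/-- The roots of a subsystem of type A₂: `(0,1) ↦ i`, `(1,2) ↦ j`, `(0,2) ↦ k`. -/
def rt (D : ChevalleyDatum) (i j k : ℕ) (a b : Fin 3) : ℕ :=
  (![![0, i, k], ![D.neg i, 0, j], ![D.neg k, D.neg j, 0]] : Fin 3 → Fin 3 → ℕ) a b

/-- The signs. -/
def sg (a b : Fin 3) : ℤ :=
  (![![1, 1, -1], ![1, 1, 1], ![-1, 1, 1]] : Fin 3 → Fin 3 → ℤ) a b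

/-- The table check for a subsystem of type A₂. -/
def A2Tab (D : ChevalleyDatum) (i j k : ℕ) : Prop :=
  (∀ a b : Fin 3, a ≠ b → rt D i j k a b < D.nroots) ∧
  (∀ a b c : Fin 3, a ≠ b ∧ b ≠ c ∧ a ≠ c →
    rt D i j k b c ≠ rt D i j k a b ∧ rt D i j k b c ≠ D.neg (rt D i j k a b) ∧
    D.commTerms (rt D i j k a b) (rt D i j k b c) = [(rt D i j k a c, sg a b * sg b c * sg a c, 1, 1)]) ∧
  (∀ a b c d : Fin 3, a ≠ b ∧ c ≠ d ∧ b ≠ c ∧ a ≠ d ∧ ¬ (a = c ∧ b = d) →
    rt D i j k c d ≠ rt D i j k a b ∧ rt D i j k c d ≠ D.neg (rt D i j k a b) ∧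
    D.commTerms (rt D i j k a b) (rt D i j k c d) = [])

theorem sg_mul_self : ∀ a b : Fin 3, sg a b * sg a b = 1 := by decide

/-- The root elements of a subsystem of type A₂. -/
noncomputable def x2 (hD : InList D) (i j k : ℕ) (a b : Fin 3) (t : F) : GL D.Idx F :=
  xG hD (rt D i j k a b) ((sg a b : F) * t)

variable {i j k : ℕ}

theorem x2_add (hD : InList D) (a b : Fin 3) (s t : F) :
    x2 hD i j k a b (s + t) = x2 hD i j k a b s * x2 hD i j k a b t := by
  show xG _ _ _ = xG _ _ _ * xG _ _ _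
  rw [xG_add, mul_add]

theorem x2_comm (hD : InList D) (T : A2Tab D i j k) {a b c d : Fin 3} (hab : a ≠ b) (hcd : c ≠ d)
    (hbc : b ≠ c) (had : a ≠ d) (s t : F) :
    x2 hD i j k a b s * x2 hD i j k c d t = x2 hD i j k c d t * x2 hD i j k a b s := by
  by_cases h : a = c ∧ b = d
  · obtain ⟨rfl, rfl⟩ := h
    exact comm_self hD _ _ _
  · obtain ⟨h1, h2, h3⟩ := T.2.2 a b c d ⟨hab, hcd, hbc, had, h⟩
    exact comm_nil hD (T.1 a b hab) (T.1 c d hcd) h1 h2 h3 _ _

theorem x2_commutator (hD : InList D) (T : A2Tab D i j k) {a b c : Fin 3} (hab : a ≠ b) (hbc : b ≠ c)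
    (hac : a ≠ c) (s t : F) :
    ⁅x2 hD i j k a b s, x2 hD i j k b c t⁆ = x2 hD i j k a c (s * t) := by
  obtain ⟨h1, h2, h3⟩ := T.2.1 a b c ⟨hab, hbc, hac⟩
  show ⁅xG _ _ _, xG _ _ _⁆ = xG _ _ _
  have hsq : ∀ a b : Fin 3, ((sg a b : ℤ) : F) * (sg a b : F) = 1 := by
    intro a b
    rw [← Int.cast_mul, sg_mul_self, Int.cast_one]
  have c1 : ∀ t u : F, xG hD (rt D i j k a b) t * xG hD (rt D i j k a c) u =
      xG hD (rt D i j k a c) u * xG hD (rt D i j k a b) t := by
    intro t u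
    obtain ⟨g1, g2, g3⟩ := T.2.2 a b a c ⟨hab, hac, Ne.symm hab, hac, fun h => hbc h.2⟩
    exact comm_nil hD (T.1 a b hab) (T.1 a c hac) g1 g2 g3 _ _
  have c2 : ∀ t u : F, xG hD (rt D i j k b c) t * xG hD (rt D i j k a c) u =
      xG hD (rt D i j k a c) u * xG hD (rt D i j k b c) t := by
    intro t u
    obtain ⟨g1, g2, g3⟩ := T.2.2 b c a c ⟨hbc, hac, Ne.symm hac, hbc, fun h => hab h.1.symm⟩
    exact comm_nil hD (T.1 b c hbc) (T.1 a c hac) g1 g2 g3 _ _
  rw [comm_one hD (T.1 a b hab) (T.1 b c hbc) h1 h2 h3 c1 c2]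
  congr 1
  rw [Int.cast_mul, Int.cast_mul]
  calc ((sg a b : F) * (sg b c : F) * (sg a c : F)) * ((sg a b : F) * s) * ((sg b c : F) * t)
      = ((sg a b : F) * (sg a b : F)) * ((sg b c : F) * (sg b c : F)) * ((sg a c : F) * (s * t)) := by ring
    _ = (sg a c : F) * (s * t) := by rw [hsq, hsq]; ring

end Cfsg.Agent.TitsThree.KExcBase
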