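import Cfsg.Agent.TitsThree.KExcBase
import Cfsg.Agent.ChevalleyStructure.Reach
import Cfsg.Agent.ChevalleyStructure.CardCombAll
import Cfsg.Agent.S1031
import Cfsg.Agent.S1037
import Cfsg.Agent.S1043
import Cfsg.Agent.S1054

/-!
# The exceptional Chevalley groups: generation by the simple root elements, the Borel subgroup (S1143, K side)

`X hD r t : ↥(D.group F)` is the root element `x_r(t)`, `B hD F` the Borel subgroup `UH` of `↥(D.group F)`.
-/

set_option autoImplicit false

namespace Cfsg.Agent.TitsThree.KExcBase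

open Cfsg.Lie Cfsg.Agent.ChevalleyStructure.Elts Cfsg.Agent.ChevalleyStructure
open scoped commutatorElement

universe u

variable {F : Type u} [Field F] {D : ChevalleyDatum}

/-- The root element `x_r(t)` in the group `↥(D.group F)`. -/
def X (hD : InList D) (r : ℕ) (t : F) : ↥(D.group F) := ⟨xG hD r t, xG_mem_group hD r t⟩

theorem coe_X (hD : InList D) (r : ℕ) (t : F) : ((X hD r t : ↥(D.group F)) : GL D.Idx F) = xG hD r t := rfl

theorem X_add (hD : InList D) (r : ℕ) (s t : F) : X hD r (s + t) = X hD r s * X hD r t :=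
  Subtype.ext (xG_add hD r s t).symm

theorem X_zero (hD : InList D) (r : ℕ) : X hD r (0 : F) = 1 := Subtype.ext (xG_zero hD r)

theorem X_neg (hD : InList D) (r : ℕ) (t : F) : X hD r (-t) = (X hD r t)⁻¹ :=
  Subtype.ext (xG_inv hD r t).symm

theorem X_injective (hD : InList D) {r : ℕ} (hr : r < D.nroots) : Function.Injective (X (F := F) hD r) := by
  intro s t h
  exact xG_injective hD hr (congrArg Subtype.val h)

/-- `n_i x_s(t) n_i⁻¹ = x_{w_i s}(η t)`. -/
theorem xG_reflect (hD : InList D) {i s : ℕ} (hi : i < D.rank) (hs : s < D.nroots) :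
    ∃ η : F, (η = 1 ∨ η = -1) ∧ ∀ t : F,
      nG hD (D.simple i) 1 * xG hD s t * (nG hD (D.simple i) 1)⁻¹ = xG hD (D.reflectRoot i s) (η * t) := by
  obtain ⟨η, hη, h⟩ := Cfsg.Agent.S1031.result (F := F) D hD i s hi hs
  refine ⟨(η : F), ?_, fun t => ?_⟩
  · rcases hη with rfl | rfl
    · left; simp
    · right; simp
  · rw [mul_inv_eq_iff_eq_mul]
    apply Units.ext
    rw [Units.val_mul, Units.val_mul, coe_nG, coe_xG, coe_xG]
    exact h t

/-- A subgroup of `GL` containing the root elements of the fundamental roots and their negatives contains the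
whole Chevalley group. -/
theorem group_le_of_simple (hD : InList D) (H : Subgroup (GL D.Idx F))
    (hp : ∀ i < D.rank, ∀ t : F, xG hD (D.simple i) t ∈ H)
    (hm : ∀ i < D.rank, ∀ t : F, xG hD (D.neg (D.simple i)) t ∈ H) : D.group F ≤ H := by
  rw [group_le_iff hD]
  refine Reach.reach hD (fun r => ∀ t : F, xG hD r t ∈ H) hp ?_
  intro i hi s hs h t
  obtain ⟨η, hη, h1⟩ := xG_reflect (F := F) hD hi hs
  have hn : nG hD (D.simple i) (1 : F) ∈ H := by
    rw [nG_def]
    exact H.mul_mem (hp i hi _) (H.mul_mem (hm i hi _) (hp i hi _))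
  have h2 : η * (η * t) = t := by
    rcases hη with rfl | rfl <;> ring
  rw [← h2, ← h1 (η * t)]
  exact H.mul_mem (H.mul_mem hn (h _)) (H.inv_mem hn)

theorem closure_simple (hD : InList D) (H : Subgroup ↥(D.group F))
    (hp : ∀ i < D.rank, ∀ t : F, X hD (D.simple i) t ∈ H)
    (hm : ∀ i < D.rank, ∀ t : F, X hD (D.neg (D.simple i)) t ∈ H) : H = ⊤ := by
  have h := group_le_of_simple hD (H.map (D.group F).subtype)
    (fun i hi t => ⟨_, hp i hi t, rfl⟩) (fun i hi t => ⟨_, hm i hi t, rfl⟩)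
  rw [eq_top_iff]
  intro g _
  obtain ⟨g', hg', he⟩ := h g.2
  rwa [← Subtype.ext he]

variable (F) in
/-- The Borel subgroup `UH` of the Chevalley group. -/
def B (D : ChevalleyDatum) : Subgroup ↥(D.group F) := (D.borelSubgroup F).subgroupOf (D.group F)

theorem X_simple_mem (hD : InList D) {i : ℕ} (hi : i < D.rank) (t : F) : X hD (D.simple i) t ∈ B F D := by
  rw [B, Subgroup.mem_subgroupOf]
  exact (le_sup_left : D.posUnipotent F ≤ D.borelSubgroup F)
    (xG_mem_posUnipotent hD ((CardCombAll.comb_of_mem hD).simple_pos i hi) t)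

theorem nG_inv' (hD : InList D) (r : ℕ) (t : F) : (nG hD r t)⁻¹ = nG hD r (-t) :=
  MonomialNormal.nG_inv hD r t

/-- The elements `h_i(t)` lie in the Borel subgroup. -/
theorem h_mem (hD : InList D) {i : ℕ} (hi : i < D.rank) {s t : F} (hs : s ≠ 0) (ht : t ≠ 0) :
    (X hD (D.simple i) s * X hD (D.neg (D.simple i)) (-s⁻¹) * X hD (D.simple i) s) *
      (X hD (D.simple i) t * X hD (D.neg (D.simple i)) (-t⁻¹) * X hD (D.simple i) t)⁻¹ ∈ B F D := by
  rw [B, Subgroup.mem_subgroupOf]
  have h := MonomialNormal.nG_mul_nG_inv_mem hD ((CardCombAll.comb_of_mem hD).simple_lt hi) hs ht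
  rw [nG_def, nG_def, ← mul_assoc (xG hD (D.simple i) s), ← mul_assoc (xG hD (D.simple i) t)] at h
  exact (le_sup_right : D.diagonalSubgroup F ≤ D.borelSubgroup F) h

theorem X_neg_simple_mem_iff (hD : InList D) {i : ℕ} (hi : i < D.rank) (t : F) :
    X hD (D.neg (D.simple i)) t ∈ B F D ↔ t = 0 := by
  have hc := CardCombAll.comb_of_mem hD
  constructor
  · intro h
    rw [B, Subgroup.mem_subgroupOf] at h
    have h1 : xG hD (D.neg (D.simple i)) t ∈ D.borelSubgroup F ⊓ D.negUnipotent F :=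
      ⟨h, xG_mem_negUnipotent hD (hc.neg_of_pos _ (hc.simple_lt hi) (hc.simple_pos i hi)) t⟩
    rw [(Cfsg.Agent.S1037.result D hD).1, Subgroup.mem_bot] at h1
    exact (xG_eq_one_iff hD (hc.neg_lt _ (hc.simple_lt hi)) t).1 h1
  · rintro rfl
    rw [X_zero]
    exact one_mem _

theorem B_ne_top (hD : InList D) (hr : 0 < D.rank) : B F D ≠ ⊤ := by
  intro h
  have h1 : X hD (D.neg (D.simple 0)) (1 : F) ∈ B F D := by rw [h]; exact Subgroup.mem_top _
  exact one_ne_zero ((X_neg_simple_mem_iff hD hr 1).1 h1)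

/-- The product `n_i = x_i(1) x_{-i}(-1) x_i(1)` is not in the Borel subgroup. -/
theorem n_not_mem (hD : InList D) {i : ℕ} (hi : i < D.rank) :
    X hD (D.simple i) (1 : F) * X hD (D.neg (D.simple i)) (-1) * X hD (D.simple i) 1 ∉ B F D := by
  intro h
  have h1 := X_simple_mem hD hi (1 : F)
  have h2 : X hD (D.neg (D.simple i)) (-1 : F) ∈ B F D := by
    have := (B F D).mul_mem ((B F D).mul_mem ((B F D).inv_mem h1) h) ((B F D).inv_mem h1)
    simpa [mul_assoc] using this
  exact one_ne_zero (neg_eq_zero.1 ((X_neg_simple_mem_iff hD hi _).1 h2))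

end Cfsg.Agent.TitsThree.KExcBase
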