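import Cfsg.Agent.TitsThree.KExcRT

/-!
# Tables for the twisted group `²E₆(q)` as a model of type `F₄` (S1143, K side)
-/

set_option autoImplicit false

namespace Cfsg.Agent.TitsThree.KExcTwTab

open Cfsg.Lie Cfsg.Agent.ChevalleyStructure.Elts Cfsg.Agent.AGraded Cfsg.Agent.TitsThree
open Cfsg.Agent.TitsThree.KExcBase Cfsg.Agent.TitsThree.KExcRT
open scoped commutatorElement

universe u

/-! ### Tables -/

/-- The roots of type `A₃`. -/
def r4 : Fin 4 → Fin 4 → ℕ := ![![0, 42, 43, 44], ![29, 0, 39, 40], ![28, 32, 0, 37], ![27, 31, 34, 0]]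
/-- The signs. -/
def s4 : Fin 4 → Fin 4 → ℤ := ![![1, 1, -1, 1], ![1, 1, 1, -1], ![-1, 1, 1, 1], ![1, -1, 1, 1]]

theorem r4a : RTa chevE6 r4 := by decide +kernel
theorem r4b : RTb chevE6 r4 s4 := by decide +kernel
theorem r4c : RTc chevE6 r4 := by decide +kernel
theorem s4d : RTd s4 := by decide +kernel

/-- The roots of the edge `0-1`. -/
def rA : Fin 3 → Fin 3 → ℕ := ![![0, 46, 47], ![25, 0, 39], ![24, 32, 0]]

theorem rAa : RTa chevE6 rA := by decide +kernel
theorem rAb : RTb chevE6 rA sg := by decide +kernel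
theorem rAc : RTc chevE6 rA := by decide +kernel

/-- The roots of the first half of the edge `2-3`. -/
def rB : Fin 3 → Fin 3 → ℕ := ![![0, 42, 57], ![29, 0, 56], ![14, 15, 0]]

theorem rBa : RTa chevE6 rB := by decide +kernel
theorem rBb : RTb chevE6 rB (fun _ _ => 1) := by decide +kernel
theorem rBc : RTc chevE6 rB := by decide +kernel

/-- The roots of the second half of the edge `2-3`. -/
def rC : Fin 3 → Fin 3 → ℕ := ![![0, 37, 38], ![34, 0, 36], ![33, 35, 0]]

theorem rCa : RTa chevE6 rC := by decide +kernel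
theorem rCb : RTb chevE6 rC sg := by decide +kernel
theorem rCc : RTc chevE6 rC := by decide +kernel

theorem rBC : ∀ i j k l : Fin 3, i ≠ j → k ≠ l → NilTab chevE6 (rB i j) (rC k l) := by decide +kernel

theorem nils0 : ∀ r ∈ [46, 25], ∀ s ∈ [42, 37, 29, 34, 56, 36, 15, 35], NilTab chevE6 r s := by decide +kernel
theorem nils1 : ∀ r ∈ [39, 32], ∀ s ∈ [56, 36, 15, 35], NilTab chevE6 r s := by decide +kernel
theorem nils2 : ∀ r ∈ [42, 29], ∀ s ∈ [37, 34], NilTab chevE6 r s := by decide +kernel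
theorem nils3 : ∀ r ∈ [56, 15], ∀ s ∈ [36, 35], NilTab chevE6 r s := by decide +kernel

theorem negs : chevE6.neg 46 = 25 ∧ chevE6.neg 39 = 32 ∧ chevE6.neg 56 = 15 ∧ chevE6.neg 36 = 35 ∧
    chevE6.neg 29 = 42 ∧ chevE6.neg 34 = 37 := by decide +kernel

end Cfsg.Agent.TitsThree.KExcTwTab
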