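import Cfsg.Agent.TitsThree.KExcA3
import Cfsg.Agent.TitsThree.KExcTwTab
import Cfsg.Agent.ChevalleyStructure.TwE6BN

/-!
# The twisted group `²E₆(q)` as a model of type `F₄` (S1143, K side)

`kff`: for a pair of finite fields `F ⊂ E`, `|E| = |F|²`, the group `²E₆(|F|)` in `E₆(E)` carries the package
`Pack.KFF` over the datum of the norm form of `E` over `F`.
-/

set_option autoImplicit false
set_option linter.unusedSectionVars false

namespace Cfsg.Agent.TitsThree.KExcTwE6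

open Cfsg.Lie Cfsg.Agent.ChevalleyStructure.Elts Cfsg.Agent.AGraded Cfsg.Agent.TitsThree
open Cfsg.Agent.TitsThree.KExcBase Cfsg.Agent.TitsThree.KExcRT Cfsg.Agent.TitsThree.FFData
open Cfsg.Agent.TitsThree.B2Pkg Cfsg.Agent.TitsThree.KExcTwTab
open Cfsg.Agent.ChevalleyStructure
open Cfsg.Agent.ChevalleyStructure.TwE6Basic (twisted_le_iff single_mem pair_mem)
open scoped commutatorElement

universe u

/-! ### Subgroups -/

section Sub

/-- An edge of type `A₂` inside a subgroup. -/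
theorem edge3_sub' {E Y : Type*} [Field E] [Group Y] {x : Fin 3 → Fin 3 → E → Y} (h : SteinRel x)
    {H : Subgroup Y} {xp xm yp ym : E → ↥H} (h01 : ∀ t, (xp t : Y) = x 0 1 t) (h10 : ∀ t, (xm t : Y) = x 1 0 t)
    (h12 : ∀ t, (yp t : Y) = x 1 2 t) (h21 : ∀ t, (ym t : Y) = x 2 1 t) : Pack.Edge3 xp xm yp ym := by
  have e := edge3_sub h (H := H) (fun t => h01 t ▸ (xp t).2) (fun t => h10 t ▸ (xm t).2)
    (fun t => h12 t ▸ (yp t).2) (fun t => h21 t ▸ (ym t).2)
  convert e using 1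
  · funext t; exact Subtype.ext (h01 t)
  · funext t; exact Subtype.ext (h10 t)
  · funext t; exact Subtype.ext (h12 t)
  · funext t; exact Subtype.ext (h21 t)

variable {F V Y : Type*} [Field F] [AddCommGroup V] [Module F V] [Group Y] {D : PQDatum F V}

/-- A package of type `B₂` inside a subgroup. -/
def subMaps (m : B2Maps D Y) (H : Subgroup Y) (h1 : ∀ a, m.x a ∈ H) (h2 : ∀ a, m.x' a ∈ H) (h3 : ∀ a, m.y a ∈ H)
    (h4 : ∀ a, m.y' a ∈ H) (h5 : ∀ p, m.z₁ p ∈ H) (h6 : ∀ p, m.z₂ p ∈ H) (h7 : ∀ p, m.z₁' p ∈ H)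
    (h8 : ∀ p, m.z₂' p ∈ H) : B2Maps D ↥H where
  x a := ⟨m.x a, h1 a⟩
  x' a := ⟨m.x' a, h2 a⟩
  y a := ⟨m.y a, h3 a⟩
  y' a := ⟨m.y' a, h4 a⟩
  z₁ p := ⟨m.z₁ p, h5 p⟩
  z₂ p := ⟨m.z₂ p, h6 p⟩
  z₁' p := ⟨m.z₁' p, h7 p⟩
  z₂' p := ⟨m.z₂' p, h8 p⟩

variable {m : B2Maps D Y} {H : Subgroup Y} {h1 : ∀ a, m.x a ∈ H} {h2 : ∀ a, m.x' a ∈ H} {h3 : ∀ a, m.y a ∈ H}
    {h4 : ∀ a, m.y' a ∈ H} {h5 : ∀ p, m.z₁ p ∈ H} {h6 : ∀ p, m.z₂ p ∈ H} {h7 : ∀ p, m.z₁' p ∈ H}
    {h8 : ∀ p, m.z₂' p ∈ H}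

theorem subRel (hm : B2Rel m) : B2Rel (subMaps m H h1 h2 h3 h4 h5 h6 h7 h8) :=
  B2Rel.of_map (f := H.subtype) Subtype.val_injective hm

theorem sub_nII (p : D.T) : (((subMaps m H h1 h2 h3 h4 h5 h6 h7 h8).nII p : ↥H) : Y) = m.nII p := rfl

end Sub

/-! ### Commuting products -/

section Nn

variable {Y : Type*} [Group Y]

theorem prod_split {A B C D : Y} (c1 : Commute A C) (c2 : Commute A D) (c3 : Commute B C) :
    A * C * (B * D) * (A * C) = A * B * A * (C * D * C) := by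
  calc A * C * (B * D) * (A * C) = A * (C * B) * (D * A) * C := by group
    _ = A * B * (C * A) * D * C := by rw [← c3.eq, ← c2.eq]; group
    _ = A * B * A * (C * D * C) := by rw [← c1.eq]; group

theorem quot_split {A B A' B' : Y} (c1 : Commute A' B) (c2 : Commute A' B') :
    A * B * (A' * B')⁻¹ = A * A'⁻¹ * (B * B'⁻¹) := by
  have h1 : Commute A'⁻¹ (B * B'⁻¹) := (c1.mul_right c2.inv_right).inv_left
  calc A * B * (A' * B')⁻¹ = A * (B * B'⁻¹ * A'⁻¹) := by group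
    _ = _ := by rw [← h1.eq]; group

end Nn

section E6

variable {E : Type u} [Field E]

theorem cm {r s : ℕ} (h : NilTab chevE6 r s) (t u : E) : Commute (xG E6_mem r t) (xG E6_mem s u) :=
  comm_nil E6_mem h.1 h.2.1 h.2.2.1 h.2.2.2.1 h.2.2.2.2 t u

theorem cm0 {r s : ℕ} (hr : r ∈ [46, 25]) (hs : s ∈ [42, 37, 29, 34, 56, 36, 15, 35]) (t u : E) :
    Commute (xG E6_mem r t) (xG E6_mem s u) := cm (nils0 r hr s hs) t u

theorem cm1 {r s : ℕ} (hr : r ∈ [39, 32]) (hs : s ∈ [56, 36, 15, 35]) (t u : E) :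
    Commute (xG E6_mem r t) (xG E6_mem s u) := cm (nils1 r hr s hs) t u

theorem cm2 {r s : ℕ} (hr : r ∈ [42, 29]) (hs : s ∈ [37, 34]) (t u : E) :
    Commute (xG E6_mem r t) (xG E6_mem s u) := cm (nils2 r hr s hs) t u

theorem cm3 {r s : ℕ} (hr : r ∈ [56, 15]) (hs : s ∈ [36, 35]) (t u : E) :
    Commute (xG E6_mem r t) (xG E6_mem s u) := cm (nils3 r hr s hs) t u

theorem nG_eq {r r' : ℕ} (h : chevE6.neg r = r') (t : E) :
    xG E6_mem r t * xG E6_mem r' (-t⁻¹) * xG E6_mem r t = nG E6_mem r t := by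
  rw [nG_def, h, mul_assoc]

theorem nG_commute {r r' s s' : ℕ} (hr : chevE6.neg r = r') (hs : chevE6.neg s = s') (c1 : NilTab chevE6 r s)
    (c2 : NilTab chevE6 r s') (c3 : NilTab chevE6 r' s) (c4 : NilTab chevE6 r' s') (a b : E) :
    Commute (nG E6_mem r a) (nG E6_mem s b) := by
  rw [← nG_eq hr, ← nG_eq hs]
  have d1 : ∀ u v : E, Commute (xG E6_mem r u) (xG E6_mem s v) := cm c1
  have d2 : ∀ u v : E, Commute (xG E6_mem r u) (xG E6_mem s' v) := cm c2
  have d3 : ∀ u v : E, Commute (xG E6_mem r' u) (xG E6_mem s v) := cm c3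
  have d4 : ∀ u v : E, Commute (xG E6_mem r' u) (xG E6_mem s' v) := cm c4
  have e1 : ∀ u, Commute (xG E6_mem r u) (xG E6_mem s b * xG E6_mem s' (-b⁻¹) * xG E6_mem s b) := fun u =>
    ((d1 u _).mul_right (d2 u _)).mul_right (d1 u _)
  have e2 : ∀ u, Commute (xG E6_mem r' u) (xG E6_mem s b * xG E6_mem s' (-b⁻¹) * xG E6_mem s b) := fun u =>
    ((d3 u _).mul_right (d4 u _)).mul_right (d3 u _)
  exact ((e1 _).mul_left (e2 _)).mul_left (e1 _)

theorem diag_le : chevE6.diagonalSubgroup E ≤ chevE6.borelSubgroup E := le_sup_right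

theorem nG_quot_mem {r : ℕ} (hr : r < 72) {a b : E} (ha : a ≠ 0) (hb : b ≠ 0) :
    nG E6_mem r a * (nG E6_mem r b)⁻¹ ∈ chevE6.borelSubgroup E :=
  diag_le (MonomialNormal.nG_mul_nG_inv_mem E6_mem hr ha hb)

theorem nG_pair_mem {r s : ℕ} (hr : r < 72) (hs : s < 72)
    (hc : ∀ a b : E, Commute (nG E6_mem r a) (nG E6_mem s b)) {a b a' b' : E} (ha : a ≠ 0) (hb : b ≠ 0)
    (ha' : a' ≠ 0) (hb' : b' ≠ 0) :
    nG E6_mem r a * nG E6_mem s b * (nG E6_mem r a' * nG E6_mem s b')⁻¹ ∈ chevE6.borelSubgroup E := by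
  rw [quot_split (hc _ _) (hc _ _)]
  exact Subgroup.mul_mem _ (nG_quot_mem hr ha ha') (nG_quot_mem hs hb hb')

theorem xG_mem_borel {r : ℕ} (hr : r < 72) (hp : 36 ≤ r) (t : E) : xG E6_mem r t ∈ chevE6.borelSubgroup E :=
  TwE6BN.U_le_B (TwE6BN.mem_U (r := ⟨r, hr⟩) hp t)

/-! ### The Steinberg systems -/

theorem stein4 : SteinRel (xr (F := E) E6_mem r4 s4) := stein E6_mem r4a r4b r4c s4d

theorem steinA : SteinRel (xr (F := E) E6_mem rA sg) := stein E6_mem rAa rAb rAc sg_mul_self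

theorem steinB : SteinRel (xr (F := E) E6_mem rB fun _ _ => 1) := stein E6_mem rBa rBb rBc fun _ _ => rfl

theorem steinC : SteinRel (xr (F := E) E6_mem rC sg) := stein E6_mem rCa rCb rCc sg_mul_self

theorem x4_01 (t : E) : xr E6_mem r4 s4 0 1 t = xG E6_mem 42 t := by simp [xr, r4, s4]
theorem x4_10 (t : E) : xr E6_mem r4 s4 1 0 t = xG E6_mem 29 t := by simp [xr, r4, s4]
theorem x4_12 (t : E) : xr E6_mem r4 s4 1 2 t = xG E6_mem 39 t := by simp [xr, r4, s4]
theorem x4_21 (t : E) : xr E6_mem r4 s4 2 1 t = xG E6_mem 32 t := by simp [xr, r4, s4]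
theorem x4_23 (t : E) : xr E6_mem r4 s4 2 3 t = xG E6_mem 37 t := by simp [xr, r4, s4]
theorem x4_32 (t : E) : xr E6_mem r4 s4 3 2 t = xG E6_mem 34 t := by simp [xr, r4, s4]
theorem x4_02 (t : E) : xr E6_mem r4 s4 0 2 t = xG E6_mem 43 (-t) := by simp [xr, r4, s4]
theorem x4_13 (t : E) : xr E6_mem r4 s4 1 3 t = xG E6_mem 40 (-t) := by simp [xr, r4, s4]
theorem x4_03 (t : E) : xr E6_mem r4 s4 0 3 t = xG E6_mem 44 t := by simp [xr, r4, s4]

theorem steinBC (σ : E →+* E) :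
    SteinRel fun i j t => xr (F := E) E6_mem rB (fun _ _ => 1) i j t * xr E6_mem rC sg i j (σ t) :=
  stein_mul_twist steinB steinC (fun i j k l hij hkl s t => cm (rBC i j k l hij hkl) _ _) σ

end E6

section Main

variable {F : Type*} {E : Type u} [Field F] [Field E] [Algebra F E] (P : ConjPair F E) (q : ℕ)

/-- The `B₂` package in `E₆(E)`. -/
noncomputable def m6 : B2Maps P.datum (GL chevE6.Idx E) := KExcA3.maps P (xr E6_mem r4 s4)

theorem rel6 : B2Rel (m6 P) := KExcA3.b2rel P stein4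

theorem m6_nII {t : E} (ht : t ≠ 0) :
    (m6 P).nII (P.τ t) = nG E6_mem 29 (-t⁻¹) * nG E6_mem 34 (-(P.conj t)⁻¹) := by
  rw [m6, KExcA3.nII_eq P stein4 ht]
  simp only [nn, x4_10, x4_01, x4_32, x4_23]
  rw [nG_eq negs.2.2.2.2.1, nG_eq negs.2.2.2.2.2]

variable {q} (hP : ∀ t, P.conj t = t ^ q)
include hP

theorem mem_single {r : ℕ} (hr : r ∈ [46, 25, 39, 32]) (a : F) :
    xG E6_mem r (algebraMap F E a) ∈ twistedE6 E q :=
  single_mem (by rw [← hP, P.conj_alg]) hr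

theorem mem_pair {rs : ℕ × ℕ} (hr : rs ∈ [(56, 36), (15, 35), (42, 37), (29, 34)]) (t : E) :
    xG E6_mem rs.1 t * xG E6_mem rs.2 (P.conj t) ∈ twistedE6 E q := by
  rw [hP]; exact pair_mem t hr

theorem mem_x (a : F) : (m6 P).x a ∈ twistedE6 E q := by
  have := mem_single P hP (r := 39) (by decide) a
  rw [← x4_12] at this
  exact this

theorem mem_x' (a : F) : (m6 P).x' a ∈ twistedE6 E q := by
  have := mem_single P hP (r := 32) (by decide) a
  rw [← x4_21] at this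
  exact this

theorem mem_z₂ (p : P.datum.T) : (m6 P).z₂ p ∈ twistedE6 E q := by
  have := mem_pair P hP (rs := (42, 37)) (by decide) p.w
  rw [← x4_01, ← x4_23] at this
  exact this

theorem mem_z₂' (p : P.datum.T) : (m6 P).z₂' p ∈ twistedE6 E q := by
  have := mem_pair P hP (rs := (29, 34)) (by decide) (-P.conj p.w)
  rw [map_neg, P.conj_conj, ← x4_10, ← x4_32] at this
  exact this

theorem mem_nI : (m6 P).nI ∈ twistedE6 E q :=
  Subgroup.mul_mem _ (Subgroup.mul_mem _ (mem_x P hP _) (mem_x' P hP _)) (mem_x P hP _)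

theorem mem_nII (p : P.datum.T) : (m6 P).nII p ∈ twistedE6 E q :=
  Subgroup.mul_mem _ (Subgroup.mul_mem _ (mem_z₂' P hP _) (mem_z₂ P hP _)) (mem_z₂' P hP _)

theorem mem_z₁ (p : P.datum.T) : (m6 P).z₁ p ∈ twistedE6 E q := by
  rw [← (rel6 P).nI_z₂ p]
  exact Subgroup.mul_mem _ (Subgroup.mul_mem _ (mem_nI P hP) (mem_z₂ P hP _)) (Subgroup.inv_mem _ (mem_nI P hP))

theorem mem_z₁' (p : P.datum.T) : (m6 P).z₁' p ∈ twistedE6 E q := by
  rw [← (rel6 P).nI_z₂' p]
  exact Subgroup.mul_mem _ (Subgroup.mul_mem _ (mem_nI P hP) (mem_z₂' P hP _)) (Subgroup.inv_mem _ (mem_nI P hP))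

theorem mem_y (b : F) : (m6 P).y b ∈ twistedE6 E q := by
  have h1 : (P.τ 1).c = -1 := by rw [P.τ_c, P.N_one]
  have h := (rel6 P).nII_x (P.τ 1) (by rw [h1]; exact neg_ne_zero.2 one_ne_zero) (-b)
  rw [h1, P.datum_σ, P.datum_ε, one_mul, neg_mul_neg, one_mul] at h
  rw [← h]
  exact Subgroup.mul_mem _ (Subgroup.mul_mem _ (mem_nII P hP _) (mem_x P hP _)) (Subgroup.inv_mem _ (mem_nII P hP _))

theorem mem_y' (b : F) : (m6 P).y' b ∈ twistedE6 E q := by
  have h1 : (P.τ 1).c = -1 := by rw [P.τ_c, P.N_one]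
  have h := (rel6 P).nII_x' (P.τ 1) (by rw [h1]; exact neg_ne_zero.2 one_ne_zero) b
  rw [h1, P.datum_σ, inv_neg, inv_one, neg_mul, neg_neg, one_mul] at h
  rw [← h]
  exact Subgroup.mul_mem _ (Subgroup.mul_mem _ (mem_nII P hP _) (mem_x' P hP _)) (Subgroup.inv_mem _ (mem_nII P hP _))

theorem gen_of (hfix : ∀ t : E, t ^ q = t → t ∈ Set.range (algebraMap F E)) {S : Set ↥(twistedE6 E q)}
    (h1 : ∀ r, ∀ hr : r ∈ [46, 25, 39, 32], ∀ a : F,
      (⟨xG E6_mem r (algebraMap F E a), mem_single P hP hr a⟩ : ↥(twistedE6 E q)) ∈ S)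
    (h2 : ∀ rs : ℕ × ℕ, ∀ hr : rs ∈ [(56, 36), (15, 35), (42, 37), (29, 34)], ∀ t : E,
      (⟨xG E6_mem rs.1 t * xG E6_mem rs.2 (P.conj t), mem_pair P hP hr t⟩ : ↥(twistedE6 E q)) ∈ S) :
    Subgroup.closure S = ⊤ := by
  have key : twistedE6 E q ≤ (Subgroup.closure S).map (twistedE6 E q).subtype := by
    rw [twisted_le_iff]
    constructor
    · intro t ht r hr
      obtain ⟨a, rfl⟩ := hfix t ht
      exact ⟨_, Subgroup.subset_closure (h1 r hr a), rfl⟩
    · intro t rs hr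
      rw [← hP]
      exact ⟨_, Subgroup.subset_closure (h2 rs hr t), rfl⟩
  rw [eq_top_iff]
  intro g _
  obtain ⟨g', hg', he⟩ := key g.2
  rwa [← Subtype.ext he]

omit hP in
theorem hh_single {r r' : ℕ} (hr : r < 72) (hneg : chevE6.neg r = r') {t : F} (ht : t ≠ 0) :
    xG E6_mem r (algebraMap F E t) * xG E6_mem r' (algebraMap F E (-t⁻¹)) * xG E6_mem r (algebraMap F E t) *
      (xG E6_mem r (algebraMap F E 1) * xG E6_mem r' (algebraMap F E (-1⁻¹)) *
        xG E6_mem r (algebraMap F E 1))⁻¹ ∈ chevE6.borelSubgroup E := by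
  rw [map_neg, map_inv₀, nG_eq hneg, map_neg, map_inv₀, nG_eq hneg]
  exact nG_quot_mem hr ((map_ne_zero _).2 ht) ((map_ne_zero _).2 one_ne_zero)

omit hP in
theorem nn_pair (t : E) :
    xG E6_mem 56 t * xG E6_mem 36 (P.conj t) * (xG E6_mem 15 (-t⁻¹) * xG E6_mem 35 (P.conj (-t⁻¹))) *
      (xG E6_mem 56 t * xG E6_mem 36 (P.conj t)) = nG E6_mem 56 t * nG E6_mem 36 (P.conj t) := by
  rw [prod_split (cm3 (by decide) (by decide) _ _) (cm3 (by decide) (by decide) _ _)
    (cm3 (by decide) (by decide) _ _), nG_eq negs.2.2.1, map_neg, map_inv₀, nG_eq negs.2.2.2.1]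

/-- `²E₆(q)` as a model of type `F₄`. -/
noncomputable def kffG (hfix : ∀ t : E, t ^ q = t → t ∈ Set.range (algebraMap F E)) :
    Pack.KFF ↥(twistedE6 E q) P.datum P.τ P.τ' where
  x0 a := ⟨xG E6_mem 46 (algebraMap F E a), mem_single P hP (by decide) a⟩
  y0 a := ⟨xG E6_mem 25 (algebraMap F E a), mem_single P hP (by decide) a⟩
  x1 a := ⟨xG E6_mem 39 (algebraMap F E a), mem_single P hP (by decide) a⟩
  y1 a := ⟨xG E6_mem 32 (algebraMap F E a), mem_single P hP (by decide) a⟩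
  x2 t := ⟨xG E6_mem 42 t * xG E6_mem 37 (P.conj t), mem_pair P hP (rs := (42, 37)) (by decide) t⟩
  y2 t := ⟨xG E6_mem 29 t * xG E6_mem 34 (P.conj t), mem_pair P hP (rs := (29, 34)) (by decide) t⟩
  x3 t := ⟨xG E6_mem 56 t * xG E6_mem 36 (P.conj t), mem_pair P hP (rs := (56, 36)) (by decide) t⟩
  y3 t := ⟨xG E6_mem 15 t * xG E6_mem 35 (P.conj t), mem_pair P hP (rs := (15, 35)) (by decide) t⟩
  b2 := subMaps (m6 P) (twistedE6 E q) (mem_x P hP) (mem_x' P hP) (mem_y P hP) (mem_y' P hP) (mem_z₁ P hP)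
    (mem_z₂ P hP) (mem_z₁' P hP) (mem_z₂' P hP)
  rel := subRel (rel6 P)
  e01 := edge3_sub' (stein_res (steinA (E := E)) (algebraMap F E)) (fun t => by simp [xr, rA, sg])
    (fun t => by simp [xr, rA, sg]) (fun t => by simp [xr, rA, sg]) (fun t => by simp [xr, rA, sg])
  e23 := edge3_sub' (steinBC (E := E) (P.conj : E →+* E)) (fun t => by simp [xr, rB, rC, sg])
    (fun t => by simp [xr, rB, rC, sg]) (fun t => by simp [xr, rB, rC, sg]) (fun t => by simp [xr, rB, rC, sg])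
  hx := by funext a; exact Subtype.ext (x4_12 _)
  hx' := by funext a; exact Subtype.ext (x4_21 _)
  hz t := Subtype.ext (by
    show xr E6_mem r4 s4 0 1 (P.τ t).w * xr E6_mem r4 s4 2 3 (P.conj (P.τ t).w) = _
    rw [x4_01, x4_23, P.τ_w])
  hz' t := Subtype.ext (by
    show xr E6_mem r4 s4 1 0 (-P.conj (P.τ' t).w) * xr E6_mem r4 s4 3 2 (-(P.τ' t).w) = _
    rw [x4_10, x4_32, P.τ'_w, map_neg, P.conj_conj, neg_neg, neg_neg])
  c02 s t := ⟨Subtype.ext ((cm0 (by decide) (by decide) _ _).mul_right (cm0 (by decide) (by decide) _ _)).eq,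
    Subtype.ext ((cm0 (by decide) (by decide) _ _).mul_right (cm0 (by decide) (by decide) _ _)).eq,
    Subtype.ext ((cm0 (by decide) (by decide) _ _).mul_right (cm0 (by decide) (by decide) _ _)).eq,
    Subtype.ext ((cm0 (by decide) (by decide) _ _).mul_right (cm0 (by decide) (by decide) _ _)).eq⟩
  c03 s t := ⟨Subtype.ext ((cm0 (by decide) (by decide) _ _).mul_right (cm0 (by decide) (by decide) _ _)).eq,
    Subtype.ext ((cm0 (by decide) (by decide) _ _).mul_right (cm0 (by decide) (by decide) _ _)).eq,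
    Subtype.ext ((cm0 (by decide) (by decide) _ _).mul_right (cm0 (by decide) (by decide) _ _)).eq,
    Subtype.ext ((cm0 (by decide) (by decide) _ _).mul_right (cm0 (by decide) (by decide) _ _)).eq⟩
  c13 s t := ⟨Subtype.ext ((cm1 (by decide) (by decide) _ _).mul_right (cm1 (by decide) (by decide) _ _)).eq,
    Subtype.ext ((cm1 (by decide) (by decide) _ _).mul_right (cm1 (by decide) (by decide) _ _)).eq,
    Subtype.ext ((cm1 (by decide) (by decide) _ _).mul_right (cm1 (by decide) (by decide) _ _)).eq,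
    Subtype.ext ((cm1 (by decide) (by decide) _ _).mul_right (cm1 (by decide) (by decide) _ _)).eq⟩
  gen := by
    refine gen_of P hP hfix ?_ ?_
    · intro r hr a
      have hr' := hr
      simp only [List.mem_cons, List.not_mem_nil, or_false] at hr'
      rcases hr' with rfl | rfl | rfl | rfl
      · exact .inl (.inl (.inl (.inl (.inl (.inl (.inl ⟨a, rfl⟩))))))
      · exact .inl (.inl (.inl (.inl (.inl (.inl (.inr ⟨a, rfl⟩))))))
      · exact .inl (.inl (.inl (.inl (.inl (.inr ⟨a, rfl⟩)))))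
      · exact .inl (.inl (.inl (.inl (.inr ⟨a, rfl⟩))))
    · intro rs hr t
      have hr' := hr
      simp only [List.mem_cons, List.not_mem_nil, or_false] at hr'
      rcases hr' with rfl | rfl | rfl | rfl
      · exact .inl (.inr ⟨t, rfl⟩)
      · exact .inr ⟨t, rfl⟩
      · exact .inl (.inl (.inl (.inr ⟨t, rfl⟩)))
      · exact .inl (.inl (.inr ⟨t, rfl⟩))
  Bor := (chevE6.borelSubgroup E).subgroupOf (twistedE6 E q)
  Bor_ne := by
    intro h
    have h1 : (⟨xG E6_mem 25 (algebraMap F E 1), mem_single P hP (by decide) 1⟩ : ↥(twistedE6 E q)) ∈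
        (chevE6.borelSubgroup E).subgroupOf (twistedE6 E q) := by rw [h]; exact Subgroup.mem_top _
    rw [Subgroup.mem_subgroupOf] at h1
    have h2 := TwE6BN.V_inf_B (TwE6BN.mem_V (r := ⟨25, by decide⟩) (by decide) (algebraMap F E 1)) h1
    rw [map_one] at h2
    exact one_ne_zero ((TwE6Basic.x_eq_one_iff (by decide) _).1 h2)
  x0_mem a := by
    rw [Subgroup.mem_subgroupOf]
    exact xG_mem_borel (by decide) (by decide) _
  x1_mem a := by
    rw [Subgroup.mem_subgroupOf]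
    exact xG_mem_borel (by decide) (by decide) _
  x2_mem t := by
    rw [Subgroup.mem_subgroupOf]
    exact Subgroup.mul_mem _ (xG_mem_borel (by decide) (by decide) _) (xG_mem_borel (by decide) (by decide) _)
  x3_mem t := by
    rw [Subgroup.mem_subgroupOf]
    exact Subgroup.mul_mem _ (xG_mem_borel (by decide) (by decide) _) (xG_mem_borel (by decide) (by decide) _)
  y_mem t := by
    rw [Subgroup.mem_subgroupOf]
    show xr E6_mem r4 s4 0 3 (algebraMap F E t) ∈ _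
    rw [x4_03]
    exact xG_mem_borel (by decide) (by decide) _
  z₁_mem p := by
    rw [Subgroup.mem_subgroupOf]
    show xr E6_mem r4 s4 0 2 (-p.w) * xr E6_mem r4 s4 1 3 (P.conj p.w) ∈ _
    rw [x4_02, x4_13]
    exact Subgroup.mul_mem _ (xG_mem_borel (by decide) (by decide) _) (xG_mem_borel (by decide) (by decide) _)
  hh0_mem t ht := by
    rw [Subgroup.mem_subgroupOf]
    exact hh_single (by decide) negs.1 ht
  hh1_mem t ht := by
    rw [Subgroup.mem_subgroupOf]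
    exact hh_single (by decide) negs.2.1 ht
  hh3_mem t ht := by
    rw [Subgroup.mem_subgroupOf]
    show xG E6_mem 56 t * xG E6_mem 36 (P.conj t) * (xG E6_mem 15 (-t⁻¹) * xG E6_mem 35 (P.conj (-t⁻¹))) *
      (xG E6_mem 56 t * xG E6_mem 36 (P.conj t)) * (xG E6_mem 56 1 * xG E6_mem 36 (P.conj 1) *
      (xG E6_mem 15 (-1⁻¹) * xG E6_mem 35 (P.conj (-1⁻¹))) * (xG E6_mem 56 1 * xG E6_mem 36 (P.conj 1)))⁻¹ ∈ _
    rw [nn_pair, nn_pair]
    exact nG_pair_mem (by decide) (by decide) (nG_commute negs.2.2.1 negs.2.2.2.1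
      (nils3 _ (by decide) _ (by decide)) (nils3 _ (by decide) _ (by decide)) (nils3 _ (by decide) _ (by decide))
      (nils3 _ (by decide) _ (by decide))) ht (KExcA3.conj_ne P ht) one_ne_zero (KExcA3.conj_ne P one_ne_zero)
  nII_mem p r hp hr := by
    rw [Subgroup.mem_subgroupOf]
    obtain ⟨t, rfl⟩ := P.τ_surj p
    obtain ⟨s, rfl⟩ := P.τ_surj r
    have ht : t ≠ 0 := by
      rintro rfl
      exact hp (by rw [P.τ_c, P.N_zero, neg_zero])
    have hs : s ≠ 0 := by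
      rintro rfl
      exact hr (by rw [P.τ_c, P.N_zero, neg_zero])
    show (m6 P).nII (P.τ t) * ((m6 P).nII (P.τ s))⁻¹ ∈ chevE6.borelSubgroup E
    rw [m6_nII P ht, m6_nII P hs]
    exact nG_pair_mem (by decide) (by decide) (nG_commute negs.2.2.2.2.1 negs.2.2.2.2.2
      (nils2 _ (by decide) _ (by decide)) (nils2 _ (by decide) _ (by decide)) (nils2 _ (by decide) _ (by decide))
      (nils2 _ (by decide) _ (by decide))) (neg_ne_zero.2 (inv_ne_zero ht))
      (neg_ne_zero.2 (inv_ne_zero (KExcA3.conj_ne P ht))) (neg_ne_zero.2 (inv_ne_zero hs))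
      (neg_ne_zero.2 (inv_ne_zero (KExcA3.conj_ne P hs)))

end Main

/-! ### Finite fields -/

section Finite

variable {F : Type*} {E : Type u} [Field F] [Field E] [Algebra F E]

open Polynomial in
/-- The elements `t` with `t ^ |F| = t` lie in `F`. -/
theorem mem_range_of_pow [Fintype F] {t : E} (ht : t ^ Fintype.card F = t) : t ∈ Set.range (algebraMap F E) := by
  classical
  by_contra hn
  have hq := Fintype.one_lt_card (α := F)
  have hne : (Polynomial.X ^ Fintype.card F - Polynomial.X : E[X]) ≠ 0 := FiniteField.X_pow_card_sub_X_ne_zero E hq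
  have hsub : insert t (Finset.univ.image (algebraMap F E)) ⊆ (Polynomial.X ^ Fintype.card F - Polynomial.X : E[X]).roots.toFinset := by
    intro s hs
    rw [Multiset.mem_toFinset, mem_roots hne, IsRoot.def, eval_sub, eval_pow, eval_X, sub_eq_zero]
    rcases Finset.mem_insert.1 hs with rfl | hs
    · exact ht
    · obtain ⟨a, _, rfl⟩ := Finset.mem_image.1 hs
      rw [← map_pow, FiniteField.pow_card]
  have h1 := Finset.card_le_card hsub
  rw [Finset.card_insert_of_notMem (by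
      intro h
      obtain ⟨a, _, rfl⟩ := Finset.mem_image.1 h
      exact hn ⟨a, rfl⟩),
    Finset.card_image_of_injective _ (algebraMap F E).injective, Finset.card_univ] at h1
  have h2 := (Multiset.toFinset_card_le _).trans (card_roots' (Polynomial.X ^ Fintype.card F - Polynomial.X : E[X]))
  rw [FiniteField.X_pow_card_sub_X_natDegree_eq E hq] at h2
  omega

/-- `²E₆(|F|)` as a model of type `F₄` over the pair `F ⊂ E`. -/
theorem kff [Fintype F] (P : ConjPair F E) (hP : ∀ t, P.conj t = t ^ Fintype.card F) :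
    Nonempty (Pack.KFF ↥(twistedE6 E (Fintype.card F)) P.datum P.τ P.τ') :=
  ⟨kffG P hP fun _ => mem_range_of_pow⟩

end Finite

end Cfsg.Agent.TitsThree.KExcTwE6
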