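import Cfsg.Agent.TitsThree.RankTwoRGD

/-!
# Layer 1 for `A₁ × A₁` (S1143), and rank one

`gen_comm`: for two commuting subgroups `Γ`, `Γ'` with `Γ = (Γ ⊓ T) ∪ (Γ ⊓ T) n (Γ ⊓ T)`, `n ∉ T`,
`n ∈ A ⊔ n A n⁻¹`, `A ≤ Γ ⊓ T`, and the same for `Γ'`: `(Γ ⊔ Γ') ⊓ T ≤ (Γ ⊓ T) ⊔ (Γ' ⊓ T)`.
`Side.bruhat_one`: the Bruhat decomposition in rank one.
-/

set_option autoImplicit false

namespace Cfsg.Agent.TitsThree.RankTwoComm

open Cfsg.Agent.TitsThree.RankTwoRGD

universe u

variable {Y : Type u} [Group Y]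

/-- Rank one data relative to a subgroup `T` (the stabiliser of a chamber). -/
structure RankOne (Γ T A : Subgroup Y) (n : Y) : Prop where
  A_le : A ≤ Γ ⊓ T
  mem : n ∈ Γ
  not_mem : n ∉ T
  mem_sup : n ∈ A ⊔ A.map (MulAut.conj n).toMonoidHom
  bruhat : ∀ g ∈ Γ, g ∈ T ∨ ∃ b ∈ Γ ⊓ T, ∃ b' ∈ Γ ⊓ T, g = b * n * b'

/-- **Layer 1 for `A₁ × A₁`**. -/
theorem gen_comm {Γ Γ' T A A' : Subgroup Y} {n n' : Y} (r : RankOne Γ T A n) (r' : RankOne Γ' T A' n')
    (hc : ∀ g ∈ Γ, ∀ g' ∈ Γ', g * g' = g' * g) :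
    (Γ ⊔ Γ') ⊓ T ≤ (Γ ⊓ T) ⊔ (Γ' ⊓ T) := by
  -- `n n' ∉ T`
  have key : n * n' ∉ T := by
    intro h
    apply r.not_mem
    have hA : A ≤ T := r.A_le.trans inf_le_right
    have hA' : A.map (MulAut.conj n).toMonoidHom ≤ T := by
      rintro _ ⟨a, ha, rfl⟩
      have haΓ : a ∈ Γ := (r.A_le ha).1
      have h1 : (n * n') * a * (n * n')⁻¹ ∈ T := T.mul_mem (T.mul_mem h (hA ha)) (T.inv_mem h)
      have h2 : (n * n') * a * (n * n')⁻¹ = n * a * n⁻¹ := by
        have e := hc a haΓ n' r'.mem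
        rw [mul_assoc n n' a, ← e]
        group
      rw [h2] at h1
      exact h1
    exact (sup_le hA hA') r.mem_sup
  rintro g ⟨hg, hgT⟩
  have l1 : Γ ⊓ T ≤ (Γ ⊓ T) ⊔ (Γ' ⊓ T) := le_sup_left
  have l2 : Γ' ⊓ T ≤ (Γ ⊓ T) ⊔ (Γ' ⊓ T) := le_sup_right
  -- `g = x y`
  have hxy : ∃ x ∈ Γ, ∃ y ∈ Γ', g = x * y := by
    have hn : Γ' ≤ Subgroup.normalizer (Γ : Set Y) := by
      intro y hy
      rw [Subgroup.mem_normalizer_iff]
      intro x
      constructor
      · intro hx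
        have e := hc x hx y hy
        rw [← e]
        simpa using hx
      · intro hx
        have e := hc _ hx y hy
        have e2 : y * x * y⁻¹ = x := by
          have e3 : y * (y * x * y⁻¹) = y * x := by rw [← e]; group
          exact mul_left_cancel e3
        rwa [e2] at hx
    have h2 := Subgroup.coe_mul_of_right_le_normalizer_left Γ Γ' hn
    have h3 : g ∈ (↑(Γ ⊔ Γ') : Set Y) := hg
    rw [h2, Set.mem_mul] at h3
    obtain ⟨x, hx, y, hy, e⟩ := h3
    exact ⟨x, hx, y, hy, e.symm⟩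
  obtain ⟨x, hx, y, hy, rfl⟩ := hxy
  rcases r.bruhat x hx with hxT | ⟨b, hb, b', hb', rfl⟩
  · have hyT : y ∈ T := by
      have h1 := T.mul_mem (T.inv_mem hxT) hgT
      rwa [inv_mul_cancel_left] at h1
    exact mul_mem (l1 ⟨hx, hxT⟩) (l2 ⟨hy, hyT⟩)
  · exfalso
    rcases r'.bruhat y hy with hyT | ⟨c, hc', c', hc'', rfl⟩
    · have hxT : b * n * b' ∈ T := by
        have h1 := T.mul_mem hgT (T.inv_mem hyT)
        rwa [mul_inv_cancel_right] at h1
      apply r.not_mem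
      have h2 := T.mul_mem (T.mul_mem (T.inv_mem hb.2) hxT) (T.inv_mem hb'.2)
      have e : b⁻¹ * (b * n * b') * b'⁻¹ = n := by group
      rwa [e] at h2
    · apply key
      have e1 := hc b' hb'.1 (c * n') (mul_mem hc'.1 r'.mem)
      have e2 := hc n r.mem c hc'.1
      have e3 : b * n * b' * (c * n' * c') = b * c * (n * n') * b' * c' := by
        calc b * n * b' * (c * n' * c') = b * n * (b' * (c * n')) * c' := by group
          _ = b * (n * c) * n' * b' * c' := by rw [e1]; group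
          _ = b * c * (n * n') * b' * c' := by rw [e2]; group
      rw [e3] at hgT
      have h2 := T.mul_mem (T.mul_mem (T.inv_mem (T.mul_mem hb.2 hc'.2)) hgT)
        (T.inv_mem (T.mul_mem hb'.2 hc''.2))
      have e : (b * c)⁻¹ * (b * c * (n * n') * b' * c') * (b' * c')⁻¹ = n * n' := by group
      rwa [e] at h2

/-- **Bruhat decomposition in rank one**: `⟨A, A', H⟩ = A H ∪ A H n A H`. -/
theorem bruhat_one {A A' H : Subgroup Y} {n : Y} (s : Side A H A A' ⊥ n) {y : Y}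
    (hy : y ∈ A ⊔ H ⊔ A') : y ∈ A ⊔ H ∨ ∃ b ∈ A ⊔ H, ∃ b' ∈ A ⊔ H, y = b * n * b' := by
  let c : Core 1 Y :=
    { U := A, H := H, AI := A, AI' := A', VI := ⊥, AJ := A, AJ' := A', VJ := ⊥, nI := n, nJ := n
      sI := s, sJ := s
      HU := s.HA
      posI := by
        intro k hk a ha
        obtain rfl : k = 0 := by omega
        simpa using ha
      posJ := by
        intro k hk a ha
        obtain rfl : k = 0 := by omega
        simpa using ha
      braid := ⟨1, H.one_mem, by simp⟩ }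
  have hy' : y ∈ c.G := by
    change y ∈ (A ⊔ H) ⊔ (A' ⊔ A')
    rwa [sup_idem]
  obtain ⟨b, hb, w, ⟨k, hk, h, hh, e⟩, b', hb', rfl⟩ := c.bruhat le_rfl hy'
  have hh' : h ∈ A ⊔ H := (le_sup_right : H ≤ A ⊔ H) hh
  have hk' : k = 0 ∨ k = 1 := by omega
  rcases hk' with rfl | rfl
  · left
    have e' : w = h := by rcases e with e | e <;> simpa using e
    rw [e']
    exact mul_mem (mul_mem hb hh') hb'
  · right
    have e' : w = n * h := by
      rcases e with e | e <;> simpa [alt] using e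
    refine ⟨b, hb, h * b', mul_mem hh' hb', ?_⟩
    rw [e']
    group

end Cfsg.Agent.TitsThree.RankTwoComm
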