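import Mathlib
import Cfsg.Agent.Tits.MouOut
import Cfsg.Agent.TitsThree.Top
import Cfsg.Agent.TitsThree.F4Bond

/-!
# Reversal of the diagram of type `F₄` (S1143)

`cs'` and `cs` are two Coxeter systems on the same group `W` with `cs'.simple i = cs.simple (e i)`.
`re Δ`: the building `Δ` regarded as a building of type `cs'`.
`allSolved_F`: it is enough to solve the buildings of type `F₄` with `F4Bond.Out`.
-/

set_option autoImplicit false
set_option linter.unusedSectionVars false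

namespace Cfsg.Agent.TitsThree.Reindex

open Cfsg.Agent.Tits.Core Cfsg.Agent.Tits.Core.Bldg Cfsg.Agent.Tits.MouOut
open Cfsg.Agent.Tits.MouDefs (rt Aut Chart)
open Cfsg.Agent.Tits.RGOut (RX)
open Cfsg.Agent.TitsThree.F4Bond
open Cfsg.Agent.LieRecognition.BNCox (cF)

variable {I I' W C : Type*} [Group W] {M : CoxeterMatrix I} {M' : CoxeterMatrix I'}

section cs

variable (cs : CoxeterSystem M W) (cs' : CoxeterSystem M' W) (e : I' ≃ I)
  (hs : ∀ i, cs'.simple i = cs.simple (e i))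

include hs

theorem wordProd_map (ω : List I') : cs.wordProd (ω.map e) = cs'.wordProd ω := by
  induction ω with
  | nil => simp
  | cons i ω ih => rw [List.map_cons, cs.wordProd_cons, cs'.wordProd_cons, ih, hs]

theorem length_le (w : W) : cs.length w ≤ cs'.length w := by
  obtain ⟨ω, h1, rfl⟩ := cs'.exists_isReduced w
  have h3 := cs.length_wordProd_le (ω.map e)
  rw [wordProd_map cs cs' e hs, List.length_map] at h3
  rw [h1.eq]
  exact h3

theorem length_eq (w : W) : cs'.length w = cs.length w :=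
  le_antisymm (length_le cs' cs e.symm (fun i => by rw [hs, e.apply_symm_apply]) w)
    (length_le cs cs' e hs w)

theorem WJ_univ : WJ cs' Set.univ = WJ cs Set.univ := by
  unfold WJ
  congr 1
  ext w
  constructor
  · rintro ⟨i, -, rfl⟩
    exact ⟨e i, Set.mem_univ _, (hs i).symm⟩
  · rintro ⟨i, -, rfl⟩
    exact ⟨e.symm i, Set.mem_univ _, by rw [hs, e.apply_symm_apply]⟩

theorem w0_eq : w0 cs' = w0 cs := by
  have h : IsLongest cs' Set.univ = IsLongest cs Set.univ := by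
    funext w
    unfold IsLongest
    rw [WJ_univ cs cs' e hs]
    simp only [length_eq cs cs' e hs]
  have key : ∀ p q : W → Prop, p = q →
      (open Classical in if h : ∃ w, p w then h.choose else 1) =
        (open Classical in if h : ∃ w, q w then h.choose else 1) := by
    rintro p q rfl
    rfl
  exact key _ _ h

theorem rt_eq (w : W) (i : I') : rt cs' w i = rt cs w (e i) := by
  unfold rt
  simp only [length_eq cs cs' e hs, hs]

end cs

section Bldg

variable {cs : CoxeterSystem M W} {cs' : CoxeterSystem M' W} {e : I' ≃ I}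
  (hs : ∀ i, cs'.simple i = cs.simple (e i))

/-- The building as a building of the reindexed type. -/
def re (Δ : Bldg cs C) : Bldg cs' C where
  δ := Δ.δ
  eq_one := Δ.eq_one
  symm := Δ.symm
  step x y z i h := by
    rw [hs] at h ⊢
    exact Δ.step x y z (e i) h
  step_lt x y z i h1 h2 := by
    rw [hs] at h1 h2 ⊢
    rw [length_eq cs cs' e hs, length_eq cs cs' e hs] at h2
    exact Δ.step_lt x y z (e i) h1 h2
  exists_step x y i := by
    rw [hs]
    exact Δ.exists_step x y (e i)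

variable {Δ : Bldg cs C}

theorem re_thick (h : Δ.Thick) : (re hs Δ).Thick := by
  intro x i
  obtain ⟨y, z, h1, h2, h3⟩ := h x (e i)
  exact ⟨y, z, h1, by rw [hs]; exact h2, by rw [hs]; exact h3⟩

theorem re_chart {σ : W → C} (h : Chart Δ σ) : Chart (re hs Δ) σ := h

theorem re_pan (i : I') (x : C) : (re hs Δ).Pan i x = Δ.Pan (e i) x := by
  unfold Bldg.Pan
  rw [hs]
  rfl

theorem re_opp (x y : C) : (re hs Δ).Opp x y ↔ Δ.Opp x y := by
  unfold Bldg.Opp
  rw [w0_eq cs cs' e hs]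
  rfl

/-- `Solved` does not depend on the names of the nodes. -/
theorem solved_of_re (h : Top.Solved (re hs Δ)) : Top.Solved Δ := by
  obtain ⟨p, hp, c, d, U, h1, h2, h3, h4, h5, h6, h7, h8, h9, h10⟩ := h.out
  exact ⟨p, hp, c, d, U, (re_opp hs c d).1 h1, h2, h3, h4,
    fun x hx => h5 x ((re_opp hs c x).2 hx), h6, h7, h8, h9, h10⟩

variable {σ : W → C}

theorem re_UU (R : Set W) : UU (re hs Δ) σ R = UU Δ σ R := by
  ext g
  change ((g : Equiv.Perm C) ∈ Aut Δ ∧ (∀ v ∈ R, (g : Equiv.Perm C) (σ v) = σ v) ∧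
    ∀ v i, v ∈ R → v * cs'.simple i ∈ R → ∀ y ∈ (re hs Δ).Pan i (σ v), (g : Equiv.Perm C) y = y) ↔
    ((g : Equiv.Perm C) ∈ Aut Δ ∧ (∀ v ∈ R, (g : Equiv.Perm C) (σ v) = σ v) ∧
    ∀ v i, v ∈ R → v * cs.simple i ∈ R → ∀ y ∈ Δ.Pan i (σ v), (g : Equiv.Perm C) y = y)
  refine and_congr_right fun _ => and_congr_right fun _ => ⟨fun h v i hv hvi y hy => ?_,
    fun h v i hv hvi y hy => ?_⟩
  · refine h v (e.symm i) hv ?_ y ?_
    · rw [hs, e.apply_symm_apply]
      exact hvi
    · rw [re_pan, e.apply_symm_apply]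
      exact hy
  · rw [hs] at hvi
    rw [re_pan] at hy
    exact h v (e i) hv hvi y hy

theorem re_Gg : Gg cs' (UU (re hs Δ) σ) = Gg cs (UU Δ σ) := by
  unfold Gg Lg
  have h : ∀ i, UU (re hs Δ) σ (rt cs' 1 i) ⊔ UU (re hs Δ) σ (rt cs' (cs'.simple i) i) =
      UU Δ σ (rt cs 1 (e i)) ⊔ UU Δ σ (rt cs (cs.simple (e i)) (e i)) := by
    intro i
    rw [re_UU, re_UU, rt_eq cs cs' e hs, rt_eq cs cs' e hs, hs]
    rfl
  simp only [h]
  exact e.iSup_comp (g := fun i => UU Δ σ (rt cs 1 i) ⊔ UU Δ σ (rt cs (cs.simple i) i))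

end Bldg

section F4

variable {cs cs' : CoxeterSystem cF W} {e : Fin 4 ≃ Fin 4}
  (hs : ∀ i, cs'.simple i = cs.simple (e i)) {Δ : Bldg cs C} {σ : W → C}

/-- The middle part, in the group `H`. -/
def MidIn (Δ : Bldg cs C) (σ : W → C) (H : Subgroup (Aut Δ)) (a b c d : Set W) : Prop :=
  MidStd ((UU Δ σ a).subgroupOf H : Set ↥H) ((UU Δ σ b).subgroupOf H) ((UU Δ σ c).subgroupOf H)
    ((UU Δ σ d).subgroupOf H) {g | g • σ 1 = σ 1}

theorem midIn_re (H : Subgroup (Aut Δ)) (a b c d : Set W) (h : MidIn Δ σ H a b c d) :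
    MidIn (re hs Δ) σ (H : Subgroup (Aut (re hs Δ))) a b c d := by
  unfold MidIn
  rw [re_UU, re_UU, re_UU, re_UU]
  exact h

theorem mid_re (he1 : e 1 = 2) (he2 : e 2 = 1)
    (h : MidStd (RX Δ σ (rt cs 1 2) : Set ↥(Gg cs (UU Δ σ)))
      (RX Δ σ (rt cs (cs.simple 2) 2)) (RX Δ σ (rt cs 1 1)) (RX Δ σ (rt cs (cs.simple 1) 1))
      {g | g • σ 1 = σ 1}) :
    MidStd (RX (re hs Δ) σ (rt cs' 1 1) : Set ↥(Gg cs' (UU (re hs Δ) σ)))
      (RX (re hs Δ) σ (rt cs' (cs'.simple 1) 1)) (RX (re hs Δ) σ (rt cs' 1 2))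
      (RX (re hs Δ) σ (rt cs' (cs'.simple 2) 2)) {g | g • σ 1 = σ 1} := by
  have h1 : MidIn Δ σ (Gg cs (UU Δ σ)) (rt cs 1 2) (rt cs (cs.simple 2) 2) (rt cs 1 1)
    (rt cs (cs.simple 1) 1) := h
  have h2 := midIn_re hs _ _ _ _ _ h1
  have h3 : MidIn (re hs Δ) σ (Gg cs' (UU (re hs Δ) σ)) (rt cs 1 2) (rt cs (cs.simple 2) 2)
      (rt cs 1 1) (rt cs (cs.simple 1) 1) := by
    rw [re_Gg]
    exact h2
  have e1 : rt cs 1 2 = rt cs' 1 1 := by rw [rt_eq cs cs' e hs, he1]
  have e2 : rt cs (cs.simple 2) 2 = rt cs' (cs'.simple 1) 1 := by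
    rw [rt_eq cs cs' e hs, hs, he1]
  have e3 : rt cs 1 1 = rt cs' 1 2 := by rw [rt_eq cs cs' e hs, he2]
  have e4 : rt cs (cs.simple 1) 1 = rt cs' (cs'.simple 2) 2 := by
    rw [rt_eq cs cs' e hs, hs, he2]
  rw [e1, e2, e3, e4] at h3
  exact h3

/-- The diagram `F₄` is symmetric. -/
theorem reindex_cF : cF.reindex (Fin.revPerm : Equiv.Perm (Fin 4)) = cF := by
  ext i j
  fin_cases i <;> fin_cases j <;> rfl

theorem cast_simple {N N' : CoxeterMatrix I} (h : N = N') (cs : CoxeterSystem N W) (i : I) :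
    (h ▸ cs : CoxeterSystem N' W).simple i = cs.simple i := by
  subst h
  rfl

/-- The reversed Coxeter system. -/
def revSys (cs : CoxeterSystem cF W) : CoxeterSystem cF W :=
  reindex_cF ▸ cs.reindex (Fin.revPerm : Equiv.Perm (Fin 4))

theorem revSys_simple (cs : CoxeterSystem cF W) (i : Fin 4) :
    (revSys cs).simple i = cs.simple ((Fin.revPerm : Equiv.Perm (Fin 4)) i) := by
  unfold revSys
  rw [cast_simple]
  rfl

/-- **It is enough to treat the oriented buildings.** -/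
theorem solved_F [Finite W] [Finite C] {σ : W → C}
    (h : ∀ (cs : CoxeterSystem cF W) (Δ : Bldg cs C), Δ.Thick → Chart Δ σ → Out Δ σ →
      Top.Solved Δ) {cs : CoxeterSystem cF W} {Δ : Bldg cs C} (hth : Δ.Thick) (hσ : Chart Δ σ) :
    Top.Solved Δ := by
  rcases orient hth hσ with h1 | h1
  · exact h cs Δ hth hσ (out_of_midStd hth hσ h1)
  · have hs := revSys_simple cs
    refine solved_of_re hs (h _ _ (re_thick hs hth) (re_chart hs hσ) ?_)
    exact out_of_midStd (re_thick hs hth) (re_chart hs hσ) (mid_re hs rfl rfl h1)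

end F4

end Cfsg.Agent.TitsThree.Reindex
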