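import Mathlib.Algebra.Module.Equiv.Basic
import Mathlib.Algebra.Field.Basic
import Mathlib.Algebra.Module.LinearMap.End
import Mathlib.Tactic

/-!
# Siegel (Eichler) elements for `(σ, ε)`-hermitian forms, uniformly

`V` a vector space over a field `F`, `σ` an involution of `F` (possibly `1`), `h` a form which is
linear in the first and `σ`-linear in the second variable, `h w v = ε * σ (h v w)`.
`S u w c v = v + h v u • w - (ε⁻¹ * h v w) • u + (c * h v u) • u`.

Symplectic, orthogonal (any characteristic: `c = - Q w`) and unitary groups at once.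
-/

set_option autoImplicit false

namespace Cfsg.Agent.TitsThree.Siegel

/-- A `(σ, ε)`-hermitian form. -/
structure HForm (F : Type*) [Field F] (V : Type*) [AddCommGroup V] [Module F V] where
  σ : F ≃+* F
  σσ : ∀ x, σ (σ x) = x
  ε : F
  ε_mul : ε * σ ε = 1
  h : V → V → F
  add_left : ∀ v v' w, h (v + v') w = h v w + h v' w
  smul_left : ∀ (c : F) v w, h (c • v) w = c * h v w
  swap : ∀ v w, h w v = ε * σ (h v w)

namespace HForm

variable {F : Type*} [Field F] {V : Type*} [AddCommGroup V] [Module F V] (H : HForm F V)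

theorem ε_ne : H.ε ≠ 0 := by
  intro h
  have := H.ε_mul
  rw [h, zero_mul] at this
  exact zero_ne_one this

theorem σε : H.σ H.ε = H.ε⁻¹ := by
  have := H.ε_mul
  exact (eq_inv_of_mul_eq_one_right this)

theorem σε' : H.σ H.ε⁻¹ = H.ε := by rw [map_inv₀, H.σε, inv_inv]

theorem add_right (v w w' : V) : H.h v (w + w') = H.h v w + H.h v w' := by
  rw [H.swap (w + w') v, H.add_left, map_add, mul_add, ← H.swap, ← H.swap]

theorem smul_right (c : F) (v w : V) : H.h v (c • w) = H.σ c * H.h v w := by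
  rw [H.swap (c • w) v, H.smul_left, map_mul, H.swap w v]; ring

theorem zero_left (w : V) : H.h 0 w = 0 := by
  have := H.smul_left 0 0 w
  simpa using this

theorem zero_right (v : V) : H.h v 0 = 0 := by
  have := H.smul_right 0 v 0
  simpa using this

theorem neg_left (v w : V) : H.h (-v) w = -H.h v w := by
  have := H.smul_left (-1) v w
  simpa using this

theorem neg_right (v w : V) : H.h v (-w) = -H.h v w := by
  have := H.smul_right (-1) v w
  simpa using this

theorem sub_left (v v' w : V) : H.h (v - v') w = H.h v w - H.h v' w := by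
  rw [sub_eq_add_neg, H.add_left, H.neg_left, sub_eq_add_neg]

theorem sub_right (v w w' : V) : H.h v (w - w') = H.h v w - H.h v w' := by
  rw [sub_eq_add_neg, H.add_right, H.neg_right, sub_eq_add_neg]

theorem orth_symm {v w : V} (hvw : H.h v w = 0) : H.h w v = 0 := by
  rw [H.swap, hvw, map_zero, mul_zero]

/-- The Siegel map as a linear map. -/
def S (u w : V) (c : F) : V →ₗ[F] V where
  toFun v := v + H.h v u • w - (H.ε⁻¹ * H.h v w) • u + (c * H.h v u) • u
  map_add' v v' := by
    rw [H.add_left, H.add_left]; module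
  map_smul' a v := by
    simp only [H.smul_left, RingHom.id_apply]; module

theorem S_apply (u w : V) (c : F) (v : V) :
    H.S u w c v = v + H.h v u • w - (H.ε⁻¹ * H.h v w) • u + (c * H.h v u) • u := rfl

theorem S_mul {u w w' : V} {c c' : F} (hu : H.h u u = 0) (hw : H.h u w = 0) (hw' : H.h u w' = 0)
    (v : V) : H.S u w c (H.S u w' c' v) = H.S u (w + w') (c + c' - H.ε⁻¹ * H.h w' w) v := by
  have h1 : H.h w u = 0 := H.orth_symm hw
  have h2 : H.h w' u = 0 := H.orth_symm hw'
  simp only [S_apply, H.add_left, H.sub_left, H.smul_left, H.add_right, hu, hw, h2, mul_zero,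
    add_zero, sub_zero]
  module

/-- The Siegel element as a linear automorphism. -/
def sie (u w : V) (c : F) (hu : H.h u u = 0) (hw : H.h u w = 0) : V ≃ₗ[F] V where
  toFun := H.S u w c
  map_add' := (H.S u w c).map_add
  map_smul' := (H.S u w c).map_smul
  invFun := H.S u (-w) (-c - H.ε⁻¹ * H.h w w)
  left_inv v := by
    have := H.S_mul (c := -c - H.ε⁻¹ * H.h w w) (c' := c) hu
      (by rw [H.neg_right, hw, neg_zero] : H.h u (-w) = 0) hw v
    change H.S u (-w) (-c - H.ε⁻¹ * H.h w w) (H.S u w c v) = v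
    rw [this, H.neg_right, S_apply, neg_add_cancel, H.zero_right]
    have e : -c - H.ε⁻¹ * H.h w w + c - H.ε⁻¹ * -H.h w w = 0 := by ring
    rw [e]; simp
  right_inv v := by
    have := H.S_mul (c := c) (c' := -c - H.ε⁻¹ * H.h w w) hu hw
      (by rw [H.neg_right, hw, neg_zero] : H.h u (-w) = 0) v
    change H.S u w c (H.S u (-w) (-c - H.ε⁻¹ * H.h w w) v) = v
    rw [this, H.neg_left, S_apply, add_neg_cancel, H.zero_right]
    have e : c + (-c - H.ε⁻¹ * H.h w w) - H.ε⁻¹ * -H.h w w = 0 := by ring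
    rw [e]; simp

theorem sie_apply (u w : V) (c : F) (hu : H.h u u = 0) (hw : H.h u w = 0) (v : V) :
    H.sie u w c hu hw v = v + H.h v u • w - (H.ε⁻¹ * H.h v w) • u + (c * H.h v u) • u := rfl

theorem sie_congr {u u' w w' : V} {c c' : F} (hu : H.h u u = 0) (hw : H.h u w = 0)
    (hu' : H.h u' u' = 0) (hw' : H.h u' w' = 0) (h1 : u = u') (h2 : w = w') (h3 : c = c') :
    H.sie u w c hu hw = H.sie u' w' c' hu' hw' := by
  subst h1 h2 h3; rfl

theorem sie_mul (u w w' : V) (c c' : F) (hu : H.h u u = 0) (hw : H.h u w = 0)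
    (hw' : H.h u w' = 0) :
    H.sie u w c hu hw * H.sie u w' c' hu hw' =
      H.sie u (w + w') (c + c' - H.ε⁻¹ * H.h w' w) hu (by rw [H.add_right, hw, hw', add_zero]) := by
  ext v
  exact H.S_mul hu hw hw' v

theorem sie_zero (u : V) (hu : H.h u u = 0) : H.sie u 0 0 hu (H.zero_right u) = 1 := by
  ext v
  simp [sie_apply, H.zero_right]

theorem sie_inv (u w : V) (c : F) (hu : H.h u u = 0) (hw : H.h u w = 0) :
    (H.sie u w c hu hw)⁻¹ = H.sie u (-w) (-c - H.ε⁻¹ * H.h w w) hu
      (by rw [H.neg_right, hw, neg_zero]) := by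
  rw [inv_eq_iff_mul_eq_one, H.sie_mul]
  rw [H.sie_congr _ _ hu (H.zero_right u) rfl (add_neg_cancel w) (c' := 0)
    (by rw [H.neg_left]; ring)]
  exact H.sie_zero u hu

/-- Isometry. -/
def IsIso (g : V ≃ₗ[F] V) : Prop := ∀ v w, H.h (g v) (g w) = H.h v w

theorem IsIso.mul {g g' : V ≃ₗ[F] V} (hg : H.IsIso g) (hg' : H.IsIso g') : H.IsIso (g * g') := by
  intro v w
  change H.h (g (g' v)) (g (g' w)) = _
  rw [hg, hg']

theorem IsIso.inv {g : V ≃ₗ[F] V} (hg : H.IsIso g) : H.IsIso g⁻¹ := by
  intro v w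
  have := hg (g⁻¹ v) (g⁻¹ w)
  have e : ∀ v, g (g⁻¹ v) = v := fun v => g.apply_symm_apply v
  rw [e, e] at this
  exact this.symm

theorem isIso_sie {u w : V} {c : F} (hu : H.h u u = 0) (hw : H.h u w = 0)
    (hc : H.ε * c + H.σ c = -H.h w w) : H.IsIso (H.sie u w c hu hw) := by
  intro v v'
  have h1 : H.h w u = 0 := H.orth_symm hw
  have e1 : H.h u v' = H.ε * H.σ (H.h v' u) := H.swap _ _
  have e2 : H.h w v' = H.ε * H.σ (H.h v' w) := H.swap _ _
  simp only [sie_apply, H.add_left, H.sub_left, H.smul_left, H.add_right, H.sub_right,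
    H.smul_right, hu, hw, h1, e1, e2, map_mul, H.σε', mul_zero, add_zero, sub_zero]
  have hw2 : H.h w w = -(H.ε * c + H.σ c) := by rw [hc, neg_neg]
  rw [hw2]
  have := H.ε_ne
  field_simp
  ring

theorem conj_sie {g : V ≃ₗ[F] V} (hg : H.IsIso g) (u w : V) (c : F) (hu : H.h u u = 0)
    (hw : H.h u w = 0) :
    g * H.sie u w c hu hw * g⁻¹ =
      H.sie (g u) (g w) c (by rw [hg, hu]) (by rw [hg, hw]) := by
  rw [mul_inv_eq_iff_eq_mul]
  ext v
  change g (H.sie u w c hu hw v) = H.S (g u) (g w) c (g v)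
  rw [sie_apply, S_apply, hg, hg]
  simp only [map_add, map_sub, map_smul]

theorem sie_smul (u w : V) (c a : F) (hu : H.h u u = 0) (hw : H.h u w = 0) :
    H.sie (a • u) w c (by rw [H.smul_left, H.smul_right, hu]; simp)
      (by rw [H.smul_left, hw, mul_zero]) =
      H.sie u (H.σ a • w) (a * H.σ a * c) hu (by rw [H.smul_right, hw, mul_zero]) := by
  ext v
  simp only [sie_apply, H.smul_right, H.σσ]
  module

/-- adding a multiple of `u` to `w` -/
theorem sie_add_smul (u w : V) (c a : F) (hu : H.h u u = 0) (hw : H.h u w = 0) :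
    H.sie u (w + a • u) c hu (by rw [H.add_right, H.smul_right, hw, hu]; simp) =
      H.sie u w (c + a - H.ε⁻¹ * H.σ a) hu hw := by
  ext v
  simp only [sie_apply, H.add_right, H.smul_right]
  module

/-- `S(u,w,0)` and `S(w,u,0)` for isotropic `w` -/
theorem sie_symm (u w : V) (hu : H.h u u = 0) (hw : H.h u w = 0) (hww : H.h w w = 0) :
    H.sie u w 0 hu hw = H.sie w (-(H.ε⁻¹ • u)) 0 hww
      (by rw [H.neg_right, H.smul_right, H.orth_symm hw]; simp) := by
  ext v
  simp only [sie_apply, H.neg_right, H.smul_right, H.σε', zero_mul, zero_smul, add_zero]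
  have : H.ε⁻¹ * -(H.ε * H.h v u) = -H.h v u := by
    field_simp [H.ε_ne]
  rw [this]
  module

end HForm

end Cfsg.Agent.TitsThree.Siegel
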