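import Cfsg.Agent.TitsThree.Siegel

/-!
# Commutator relations between Siegel elements
-/

set_option autoImplicit false

namespace Cfsg.Agent.TitsThree.SiegelComm

open Cfsg.Agent.TitsThree.Siegel

variable {F : Type*} [Field F] {V : Type*} [AddCommGroup V] [Module F V] (H : HForm F V)

/-- `S(u1+u2,w,c) = S(u1,w,c) T(u1, c u2) S(u2,w,c)` -/
theorem sie_add_left (u₁ u₂ w : V) (c : F) (h11 : H.h u₁ u₁ = 0) (h22 : H.h u₂ u₂ = 0)
    (h12 : H.h u₁ u₂ = 0) (h1 : H.h u₁ w = 0) (h2 : H.h u₂ w = 0)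
    (hc : H.ε * c + H.σ c = -H.h w w) :
    H.sie (u₁ + u₂) w c
        (by rw [H.add_left, H.add_right, H.add_right, h11, h22, h12, H.orth_symm h12]; simp)
        (by rw [H.add_left, h1, h2, add_zero]) =
      H.sie u₁ w c h11 h1 * H.sie u₁ (c • u₂) 0 h11 (by rw [H.smul_right, h12, mul_zero]) *
        H.sie u₂ w c h22 h2 := by
  ext v
  have e1 : H.h u₂ u₁ = 0 := H.orth_symm h12
  have e2 : H.h w u₁ = 0 := H.orth_symm h1
  have e3 : H.h w u₂ = 0 := H.orth_symm h2
  have hw : H.h w w = -(H.ε * c + H.σ c) := by rw [hc, neg_neg]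
  change _ = H.sie u₁ w c h11 h1 (H.sie u₁ (c • u₂) 0 h11 _ (H.sie u₂ w c h22 h2 v))
  simp only [HForm.sie_apply, H.add_left, H.sub_left, H.smul_left, H.add_right,
    H.smul_right, h11, h22, h1, h2, e1, e2, e3, mul_zero, add_zero, sub_zero, hw,
    zero_mul, zero_smul]
  have hε := H.ε_ne
  match_scalars <;> field_simp <;> ring

/-- commuting up to `T(u, ε⁻¹ h(w,w') u')` -/
theorem mul_sie_of_orth (u w u' w' : V) (c c' : F) (hu : H.h u u = 0) (hw : H.h u w = 0)
    (hu' : H.h u' u' = 0) (hw' : H.h u' w' = 0) (h1 : H.h u u' = 0) (h2 : H.h u w' = 0)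
    (h3 : H.h w u' = 0) :
    H.sie u w c hu hw * H.sie u' w' c' hu' hw' =
      H.sie u ((H.ε⁻¹ * H.h w w') • u') 0 hu (by rw [H.smul_right, h1, mul_zero]) *
        (H.sie u' w' c' hu' hw' * H.sie u w c hu hw) := by
  ext v
  have e1 : H.h u' u = 0 := H.orth_symm h1
  have e2 : H.h w' u = 0 := H.orth_symm h2
  have e3 : H.h u' w = 0 := H.orth_symm h3
  have e4 : H.h w u = 0 := H.orth_symm hw
  have e5 : H.h w' u' = 0 := H.orth_symm hw'
  change H.S u w c (H.S u' w' c' v) =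
    H.S u ((H.ε⁻¹ * H.h w w') • u') 0 (H.S u' w' c' (H.S u w c v))
  have hh : H.h w' w = H.ε * H.σ (H.h w w') := H.swap w w'
  simp only [HForm.S_apply, H.add_left, H.sub_left, H.smul_left,
    H.smul_right, hu, hu', h1, h2, h3, e1, e2, e3, e4, e5, hh, mul_zero, add_zero,
    sub_zero, zero_mul, zero_smul, H.σε', map_mul]
  have hε := H.ε_ne
  match_scalars <;> field_simp <;> ring

theorem commute_sie_of_orth (u w u' w' : V) (c c' : F) (hu : H.h u u = 0) (hw : H.h u w = 0)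
    (hu' : H.h u' u' = 0) (hw' : H.h u' w' = 0) (h1 : H.h u u' = 0) (h2 : H.h u w' = 0)
    (h3 : H.h w u' = 0) (h4 : H.h w w' = 0) :
    Commute (H.sie u w c hu hw) (H.sie u' w' c' hu' hw') := by
  have := mul_sie_of_orth H u w u' w' c c' hu hw hu' hw' h1 h2 h3
  rw [H.sie_congr _ _ hu (H.zero_right u) rfl (w' := 0) (by rw [h4, mul_zero, zero_smul])
    (c' := 0) rfl, H.sie_zero u hu, one_mul] at this
  exact this

/-- commutator of two Siegel elements with the same centre -/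
theorem mul_sie_same (u w w' : V) (c c' : F) (hu : H.h u u = 0) (hw : H.h u w = 0)
    (hw' : H.h u w' = 0) :
    H.sie u w c hu hw * H.sie u w' c' hu hw' =
      H.sie u 0 (H.ε⁻¹ * H.h w w' - H.ε⁻¹ * H.h w' w) hu (H.zero_right u) *
        (H.sie u w' c' hu hw' * H.sie u w c hu hw) := by
  rw [H.sie_mul, H.sie_mul, H.sie_mul]
  apply H.sie_congr
  · rfl
  · rw [zero_add, add_comm]
  · rw [H.zero_right]; ring

/-- conjugation of `S(u',w',c')` by `T(u,w)` (`w` isotropic), when only `h(w,u') ≠ 0`. -/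
theorem conj_T (u w u' w' : V) (c' : F) (hu : H.h u u = 0) (hw : H.h u w = 0) (hww : H.h w w = 0)
    (hu' : H.h u' u' = 0) (hw' : H.h u' w' = 0) (h1 : H.h u u' = 0) (h2 : H.h u w' = 0)
    (h4 : H.h w w' = 0) (hc : H.ε * c' + H.σ c' = -H.h w' w') :
    H.sie u w 0 hu hw * H.sie u' w' c' hu' hw' * (H.sie u w 0 hu hw)⁻¹ =
      H.sie u (-(H.h w u' • w')) (H.h w u' * H.σ (H.h w u') * c') hu
          (by rw [H.neg_right, H.smul_right, h2, mul_zero, neg_zero]) *
        H.sie u (-((H.h w u' * c') • u')) 0 hu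
          (by rw [H.neg_right, H.smul_right, h1, mul_zero, neg_zero]) *
        H.sie u' w' c' hu' hw' := by
  have hiso : H.IsIso (H.sie u w 0 hu hw) := H.isIso_sie hu hw (by rw [hww]; simp)
  have e1 : H.h u' u = 0 := H.orth_symm h1
  have e2 : H.h w' u = 0 := H.orth_symm h2
  have e3 : H.h w' w = 0 := H.orth_symm h4
  have hh : H.h u' w = H.ε * H.σ (H.h w u') := H.swap w u'
  have g1 : H.sie u w 0 hu hw u' = -(H.σ (H.h w u')) • u + u' := by
    rw [HForm.sie_apply, e1, hh]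
    have hε := H.ε_ne
    match_scalars <;> field_simp <;> ring
  have g2 : H.sie u w 0 hu hw w' = w' := by
    rw [HForm.sie_apply, e2, e3]; simp
  have huu : H.h (-(H.σ (H.h w u')) • u) (-(H.σ (H.h w u')) • u) = 0 := by
    rw [H.smul_left, H.smul_right, hu]; simp
  have huu' : H.h (-(H.σ (H.h w u')) • u) u' = 0 := by rw [H.smul_left, h1]; simp
  have huw' : H.h (-(H.σ (H.h w u')) • u) w' = 0 := by rw [H.smul_left, h2]; simp
  rw [H.conj_sie hiso, H.sie_congr _ _
    (by rw [H.add_left, H.add_right, H.add_right, huu, hu', huu', H.orth_symm huu']; simp)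
    (by rw [H.add_left, huw', hw', add_zero]) g1 g2 rfl,
    sie_add_left H _ u' w' c' huu hu' huu' huw' hw' hc]
  congr 2
  · rw [H.sie_smul u w' c' _ hu h2]
    apply H.sie_congr _ _ _ _ rfl
    · rw [map_neg, H.σσ, neg_smul]
    · rw [map_neg, H.σσ]; ring
  · rw [H.sie_smul u (c' • u') 0 _ hu (by rw [H.smul_right, h1, mul_zero])]
    apply H.sie_congr _ _ _ _ rfl
    · rw [map_neg, H.σσ, neg_smul, smul_smul]
    · ring

/-- `T(u, w + w') = T(u,w) T(u,w')` for totally isotropic data -/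
theorem T_add (u w w' : V) (hu : H.h u u = 0) (hw : H.h u w = 0) (hw' : H.h u w' = 0)
    (hww : H.h w' w = 0) :
    H.sie u (w + w') 0 hu (by rw [H.add_right, hw, hw', add_zero]) =
      H.sie u w 0 hu hw * H.sie u w' 0 hu hw' := by
  rw [H.sie_mul]
  apply H.sie_congr _ _ _ _ rfl rfl
  rw [hww]; ring

end Cfsg.Agent.TitsThree.SiegelComm
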