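import Mathlib
import Cfsg.Agent.TitsThree.Tree

/-!
# The trees of type `A_n`, `D_n`, `E_n`, and the path rooted at its end (S1143, tree gluing)

Also the existence of compatible parametrisations for a group with root groups of simply laced
type (`GSide.exists_data`).
-/

set_option autoImplicit false

namespace Cfsg.Agent.TitsThree.Trees

open Cfsg.Agent.AGraded Cfsg.Agent.TitsThree Cfsg.Agent.TitsThree.Hua Cfsg.Agent.TitsThree.GlueA
open Cfsg.Agent.TitsThree.Tree

/-- edges of `A_n` (definitionally `KSideInstA.adjA`) -/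
def adjA (n : ℕ) (i j : Fin n) : Prop := (i : ℕ) + 1 = j

/-- edges of `D_m` (definitionally `KSideInstD.adjD`) -/
def adjD (m : ℕ) (i j : Fin m) : Prop :=
  ((i : ℕ) + 1 = j ∧ (j : ℕ) + 1 < m) ∨ ((i : ℕ) + 3 = m ∧ (j : ℕ) + 1 = m)

/-- edges of `E_n` (definitionally `KExcTab.adjE`) -/
def adjE (n : ℕ) (i j : Fin n) : Prop :=
  ((i : ℕ), (j : ℕ)) ∈ [(0, 2), (1, 3), (2, 3), (3, 4), (4, 5), (5, 6), (6, 7)]

instance (n : ℕ) (i j : Fin n) : Decidable (adjE n i j) := by
  unfold adjE; infer_instance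

/-- the path `0, …, n-1`, root `0` -/
def rootedA (n : ℕ) (hn : 0 < n) : Rooted (adjA n) ⟨0, hn⟩ where
  par i := ⟨i - 1, by omega⟩
  rk i := i
  rk_par i hi := by
    have : (i : ℕ) ≠ 0 := fun h => hi (Fin.ext h)
    show (i : ℕ) - 1 < i
    omega
  adj_par i hi := by
    have : (i : ℕ) ≠ 0 := fun h => hi (Fin.ext h)
    left
    show (i : ℕ) - 1 + 1 = i
    omega
  edge i j hij := by
    have hij' : (i : ℕ) + 1 = j := hij
    left
    refine ⟨fun h => ?_, Fin.ext ?_⟩
    · rw [h] at hij'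
      simp at hij'
    · show (j : ℕ) - 1 = i
      omega

/-- the path `0, …, n-1`, root `n-1` -/
def rootedA' (n : ℕ) (hn : 0 < n) : Rooted (adjA n) ⟨n - 1, by omega⟩ where
  par i := if h : (i : ℕ) + 1 < n then ⟨i + 1, h⟩ else i
  rk i := n - 1 - i
  rk_par i hi := by
    have : (i : ℕ) ≠ n - 1 := fun h => hi (Fin.ext h)
    have h : (i : ℕ) + 1 < n := by omega
    rw [dif_pos h]
    show n - 1 - ((i : ℕ) + 1) < n - 1 - i
    omega
  adj_par i hi := by
    have : (i : ℕ) ≠ n - 1 := fun h => hi (Fin.ext h)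
    have h : (i : ℕ) + 1 < n := by omega
    rw [dif_pos h]
    right
    rfl
  edge i j hij := by
    have hij' : (i : ℕ) + 1 = j := hij
    right
    refine ⟨fun h => ?_, ?_⟩
    · rw [h] at hij'
      simp at hij'
      omega
    · rw [dif_pos (by omega : (i : ℕ) + 1 < n)]
      exact Fin.ext hij'

/-- type `D_m`, root `0` -/
def rootedD (m : ℕ) (hm : 3 ≤ m) : Rooted (adjD m) ⟨0, by omega⟩ where
  par i := if (i : ℕ) + 1 < m then ⟨i - 1, by omega⟩ else ⟨m - 3, by omega⟩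
  rk i := i
  rk_par i hi := by
    have : (i : ℕ) ≠ 0 := fun h => hi (Fin.ext h)
    split_ifs with h
    · show (i : ℕ) - 1 < i
      omega
    · show m - 3 < i
      omega
  adj_par i hi := by
    have : (i : ℕ) ≠ 0 := fun h => hi (Fin.ext h)
    left
    split_ifs with h
    · left
      refine ⟨?_, h⟩
      show (i : ℕ) - 1 + 1 = i
      omega
    · right
      refine ⟨?_, by omega⟩
      show m - 3 + 3 = m
      omega
  edge i j hij := by
    left
    rcases hij with ⟨h1, h2⟩ | ⟨h1, h2⟩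
    · refine ⟨fun h => ?_, ?_⟩
      · rw [h] at h1
        simp at h1
      · rw [if_pos h2]
        apply Fin.ext
        show (j : ℕ) - 1 = i
        omega
    · refine ⟨fun h => ?_, ?_⟩
      · rw [h] at h2
        simp at h2
        omega
      · rw [if_neg (by omega)]
        apply Fin.ext
        show m - 3 = i
        omega

/-- type `E_n`, `n = 6, 7, 8`, Bourbaki labelling, root `0` -/
def parE (n : ℕ) (hn : 4 ≤ n) (i : Fin n) : Fin n :=
  if (i : ℕ) = 1 then ⟨3, by omega⟩ else if (i : ℕ) = 2 then ⟨0, by omega⟩ else ⟨i - 1, by omega⟩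

def rkE (n : ℕ) (i : Fin n) : ℕ := if (i : ℕ) = 1 then 4 else i

def rootedE6 : Rooted (adjE 6) 0 where
  par := parE 6 (by norm_num)
  rk := rkE 6
  rk_par := by decide
  adj_par := by decide
  edge := by decide

def rootedE7 : Rooted (adjE 7) 0 where
  par := parE 7 (by norm_num)
  rk := rkE 7
  rk_par := by decide
  adj_par := by decide
  edge := by decide

def rootedE8 : Rooted (adjE 8) 0 where
  par := parE 8 (by norm_num)
  rk := rkE 8
  rk_par := by decide
  adj_par := by decide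
  edge := by decide

/-! ### Root groups of simply laced type in a group -/

/-- Root groups attached to the nodes of a simply laced diagram. -/
structure GSide {G : Type*} [Group G] {I : Type*} (adj : I → I → Prop) (Xp Xm : I → Set G) : Prop where
  edge : ∀ i j, adj i j → EdgeA2 (Xp i) (Xm i) (Xp j) (Xm j)
  comm : ∀ i j, i ≠ j → ¬ adj i j → ¬ adj j i → ∀ a b, (a ∈ Xp i ∨ a ∈ Xm i) → (b ∈ Xp j ∨ b ∈ Xm j) →
    Commute a b

/-- Compatible parametrisations. -/
theorem GSide.exists_data {G : Type*} [Group G] {I : Type*} {adj : I → I → Prop} {r : I}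
    (T : Rooted adj r) {Xp Xm : I → Set G} (h : GSide adj Xp Xm) {k : I} (hk : adj r k ∨ adj k r) :
    ∃ (F : Type) (_ : Field F) (_ : Finite F) (xp xm : I → F → G),
      (∀ i, SL2Par (xp i) (xm i)) ∧ (∀ i, Set.range (xp i) = Xp i) ∧
      (∀ i, Set.range (xm i) = Xm i) ∧
      (∀ i j, adj i j ∨ adj j i → ∃ x : Fin 3 → Fin 3 → F → G, SteinRel x ∧
        (∀ a b, a ≠ b → Function.Injective (x a b)) ∧
        x 0 1 = xp i ∧ x 1 0 = xm i ∧ x 1 2 = xp j ∧ x 2 1 = xm j) ∧
      ∀ i j, i ≠ j → ¬ adj i j → ¬ adj j i → ∀ s t,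
        Commute (xp i s) (xp j t) ∧ Commute (xp i s) (xm j t) ∧ Commute (xm i s) (xp j t) ∧
          Commute (xm i s) (xm j t) := by
  have hE : EdgeA2 (Xp r) (Xm r) (Xp k) (Xm k) := by
    rcases hk with hk | hk
    · exact h.edge _ _ hk
    · exact (h.edge _ _ hk).symm
  obtain ⟨F, i1, i2, ⟨p⟩⟩ := hE.exists_par
  obtain ⟨xp, xm, -, -, h3, h4, h5, h6⟩ := glueTree' T Xp Xm h.edge p.par p.rp p.rm
  refine ⟨F, i1, i2, xp, xm, h3, h4, h5, h6, ?_⟩
  intro i j hij h1 h2 s t
  have a1 : xp i s ∈ Xp i := h4 i ▸ ⟨s, rfl⟩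
  have a2 : xm i s ∈ Xm i := h5 i ▸ ⟨s, rfl⟩
  have b1 : xp j t ∈ Xp j := h4 j ▸ ⟨t, rfl⟩
  have b2 : xm j t ∈ Xm j := h5 j ▸ ⟨t, rfl⟩
  exact ⟨h.comm i j hij h1 h2 _ _ (Or.inl a1) (Or.inl b1), h.comm i j hij h1 h2 _ _ (Or.inl a1) (Or.inr b2),
    h.comm i j hij h1 h2 _ _ (Or.inr a2) (Or.inl b1), h.comm i j hij h1 h2 _ _ (Or.inr a2) (Or.inr b2)⟩

end Cfsg.Agent.TitsThree.Trees
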